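import Mathlib
import Cfsg.Prelude.Def_OddOrderLocal
import Cfsg.Agent.Helper29.BG10F
import Cfsg.Agent.S1451
import Cfsg.Agent.Helper50.CyclicSylow

set_option autoImplicit false
set_option linter.unusedSectionVars false
set_option linter.unusedVariables false
set_option linter.style.haveILetI false

/-!
# B-G §12, part A: generalities on complements `E` of `M_σ`, and Lemma 12.1 (statement S1415),
given the Uniqueness Theorem (helper68)
-/

namespace Cfsg.Agent.Helper68.BG12

open Cfsg Cfsg.Agent.Helper29.BG10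
open scoped commutatorElement

variable {G : Type*} [Group G]

/-! ### general lemmas -/

/-- the order formula for complements in the sense of `IsComplIn` -/
theorem card_mul_card_of_isComplIn {A B M : Subgroup G} (h : Cfsg.IsComplIn A B M) :
    Nat.card A * Nat.card B = Nat.card M := by
  rw [← Nat.card_prod]
  refine Nat.card_congr (Equiv.ofBijective
    (fun x : A × B => (⟨x.1 * x.2, M.mul_mem (h.1 x.1.2) (h.2.1 x.2.2)⟩ : M)) ⟨?_, ?_⟩)
  · rintro ⟨⟨a, ha⟩, ⟨b, hb⟩⟩ ⟨⟨a', ha'⟩, ⟨b', hb'⟩⟩ hab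
    have hab' : a * b = a' * b' := congrArg Subtype.val hab
    have h1 : a'⁻¹ * a = b' * b⁻¹ := by
      rw [eq_mul_inv_iff_mul_eq, mul_assoc, hab', inv_mul_cancel_left]
    have h2 : a'⁻¹ * a ∈ A ⊓ B :=
      ⟨A.mul_mem (A.inv_mem ha') ha, by rw [h1]; exact B.mul_mem hb' (B.inv_mem hb)⟩
    rw [h.2.2.1, Subgroup.mem_bot, inv_mul_eq_one] at h2
    subst h2
    have h3 : b = b' := mul_left_cancel hab'
    subst h3
    rfl
  · rintro ⟨m, hm⟩
    obtain ⟨a, ha, b, hb, rfl⟩ := h.2.2.2 m hm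
    exact ⟨(⟨a, ha⟩, ⟨b, hb⟩), rfl⟩

/-- in a finite nilpotent group a Hall subgroup is normal -/
theorem normal_of_isNilpotent_of_coprime {N : Type*} [Group N] [Finite N] [Group.IsNilpotent N]
    (H : Subgroup N) (hcop : (Nat.card H).Coprime H.index) : H.Normal := by
  rw [← Subgroup.normalizer_eq_top_iff]
  by_contra hne
  have hlt : Subgroup.normalizer (H : Set N) < ⊤ := lt_top_iff_ne_top.2 hne
  have hnc := Group.normalizerCondition_of_isNilpotent (G := N) _ hlt
  obtain ⟨g, hg, hgK⟩ := SetLike.exists_of_lt hnc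
  apply hgK
  set K := Subgroup.normalizer (H : Set N) with hK
  have hHK : H ≤ K := Subgroup.le_normalizer
  -- every element of `K` whose order divides `|H|` lies in `H`
  have hmem : ∀ x ∈ K, orderOf x ∣ Nat.card H → x ∈ H := by
    intro x hx hord
    haveI : (H.subgroupOf K).Normal := Subgroup.normal_in_normalizer
    have h1 : (⟨x, hx⟩ : K) ^ (H.subgroupOf K).index ∈ H.subgroupOf K :=
      Subgroup.pow_index_mem _ _
    have h2 : x ^ H.relIndex K ∈ H := by
      have := Subgroup.mem_subgroupOf.1 h1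
      simpa [Subgroup.relIndex] using this
    have h3 : (H.relIndex K).Coprime (orderOf x) := by
      have h4 : H.relIndex K ∣ H.index := Subgroup.relIndex_dvd_index_of_le hHK
      exact (Nat.Coprime.coprime_dvd_left hord (Nat.Coprime.coprime_dvd_right h4 hcop)).symm
    refine Cfsg.Agent.Helper50.mem_of_pow_mem_of_coprime h3 h2 ?_
    rw [pow_orderOf_eq_one]
    exact H.one_mem
  -- `g` normalizes `K`, hence maps `H` into `K`, hence into `H`
  have hsub : ∀ x ∈ H, g * x * g⁻¹ ∈ H := by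
    intro x hx
    apply hmem
    · exact (Subgroup.mem_normalizer_iff.1 hg x).1 (hHK hx)
    · rw [← MulAut.conj_apply, MulEquiv.orderOf_eq]
      have := orderOf_dvd_natCard (⟨x, hx⟩ : H)
      rwa [Subgroup.orderOf_mk] at this
  rw [hK, Subgroup.mem_normalizer_iff]
  intro x
  constructor
  · exact hsub x
  · intro hx
    -- finiteness: conjugation by `g` is an injective self-map of the finite set `H`
    have hinj : Function.Injective (fun y : H => (⟨g * y * g⁻¹, hsub y y.2⟩ : H)) := by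
      intro y z hyz
      have : g * (y : N) * g⁻¹ = g * (z : N) * g⁻¹ := congrArg Subtype.val hyz
      exact Subtype.ext (by simpa using this)
    obtain ⟨y, hy⟩ := (Finite.injective_iff_surjective.1 hinj) ⟨g * x * g⁻¹, hx⟩
    have : g * (y : N) * g⁻¹ = g * x * g⁻¹ := congrArg Subtype.val hy
    have hxy : (y : N) = x := by simpa using this
    rw [← hxy]; exact y.2

/-- normal Hall subgroups are invariant under automorphisms -/
theorem map_eq_of_normal_coprime {N : Type*} [Group N] [Finite N] (H : Subgroup N) [H.Normal]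
    (hcop : (Nat.card H).Coprime H.index) (φ : N ≃* N) {x : N} (hx : x ∈ H) : φ x ∈ H := by
  have h1 : (φ x) ^ H.index ∈ H := Subgroup.pow_index_mem H (φ x)
  refine Cfsg.Agent.Helper50.mem_of_pow_mem_of_coprime (k := H.index) (l := orderOf x) ?_ h1 ?_
  · have h3 : orderOf x ∣ Nat.card H := by
      have := orderOf_dvd_natCard (⟨x, hx⟩ : H)
      rwa [Subgroup.orderOf_mk] at this
    exact (Nat.Coprime.coprime_dvd_left h3 hcop).symm
  · rw [← map_pow, pow_orderOf_eq_one, map_one]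
    exact H.one_mem

/-- a finite group which is nilpotent and all of whose Sylow subgroups of odd-prime-rank one... :
a nilpotent group of odd order whose `p`-ranks are at most one (for the primes dividing its order)
is cyclic -/
theorem isCyclic_of_nilpotent_of_pRankLE_one {X : Type*} [Group X] [Finite X]
    [Group.IsNilpotent X] (hodd : Odd (Nat.card X))
    (hrk : ∀ p : ℕ, p.Prime → p ∣ Nat.card X → Cfsg.PRankLE p 1 X) : IsCyclic X := by
  haveI : IsZGroup X := by
    refine ⟨fun p hp P => ?_⟩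
    haveI : Fact p.Prime := ⟨hp⟩
    by_cases hpd : p ∣ Nat.card X
    · have hp2 : p ≠ 2 := by
        rintro rfl
        exact (Nat.not_even_iff_odd.2 hodd) (even_iff_two_dvd.2 hpd)
      exact Cfsg.Agent.Helper50.sylow_isCyclic_of_pRankLE_one hp2 (hrk p hp hpd) P
    · have h1 : Nat.card (P : Subgroup X) = 1 := by
        obtain ⟨k, hk⟩ := IsPGroup.iff_card.1 P.isPGroup'
        have hk0 : k = 0 := by
          by_contra hne
          apply hpd
          have h1 : p ∣ Nat.card (P : Subgroup X) := by rw [hk]; exact dvd_pow_self p hne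
          exact h1.trans (Subgroup.card_subgroup_dvd_card _)
        rw [hk, hk0, pow_zero]
      haveI : Subsingleton (P : Subgroup X) := (Nat.card_eq_one_iff_unique.1 h1).1
      exact isCyclic_of_subsingleton
  infer_instance

/-! ### the complement `E` of `M_σ` -/

section E
variable [Finite G]

theorem sigmaCore_le (M : Subgroup G) : Cfsg.sigmaCore M ≤ M := Subgroup.map_subtype_le _

/-- `M_σ` is normal in `M` -/
theorem conj_mem_sigmaCore {M : Subgroup G} {m s : G} (hm : m ∈ M) (hs : s ∈ Cfsg.sigmaCore M) :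
    m * s * m⁻¹ ∈ Cfsg.sigmaCore M := by
  obtain ⟨x, hx, rfl⟩ := hs
  refine ⟨⟨m, hm⟩ * x * ⟨m, hm⟩⁻¹, ?_, rfl⟩
  exact (Cfsg.piCore_normal (Cfsg.sigma M) ↥M).conj_mem x hx _

/-- a complement `E` of `M_σ` in `M`, bundled with the consequences of Theorem 10.2 -/
structure ECtx (M E : Subgroup G) : Prop where
  minSimple : Cfsg.IsMinSimpleOddOrder G
  coatom : IsCoatom M
  compl : Cfsg.IsComplIn E (Cfsg.sigmaCore M) M
  /-- prime divisors of `|M_σ|` lie in `σ(M)` -/
  sigma_of_dvd : ∀ p : ℕ, p.Prime → p ∣ Nat.card (Cfsg.sigmaCore M) → p ∈ Cfsg.sigma M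
  /-- prime divisors of `|E|` lie outside `σ(M)` -/
  not_sigma_of_dvd : ∀ p : ℕ, p.Prime → p ∣ Nat.card E → p ∉ Cfsg.sigma M
  /-- `α(M) ⊆ σ(M)` -/
  alpha_sub : Cfsg.alpha M ⊆ Cfsg.sigma M

theorem eCtx_of (hG : Cfsg.IsMinSimpleOddOrder G) (hU : UniquenessThm G) {M : Subgroup G}
    (hM : IsCoatom M) {E : Subgroup G} (hE : Cfsg.IsComplIn E (Cfsg.sigmaCore M) M) :
    ECtx M E := by
  obtain ⟨⟨hSM, hSpi, hSidx⟩, -, -⟩ := thm_10_2_sigma hG hU M hM
  refine ⟨hG, hM, hE, hSpi, ?_, alpha_subset_sigma hG hU hM⟩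
  intro p hp hpE hpσ
  apply hSidx p hp hpσ
  have h1 := card_mul_card_of_isComplIn hE
  have h2 : (Cfsg.sigmaCore M).relIndex M * Nat.card (Cfsg.sigmaCore M) = Nat.card M := by
    have := Subgroup.relIndex_mul_relIndex ⊥ (Cfsg.sigmaCore M) M bot_le hSM
    rw [Subgroup.relIndex_bot_left, Subgroup.relIndex_bot_left] at this
    rw [mul_comm]; exact this
  have h3 : Nat.card E = (Cfsg.sigmaCore M).relIndex M := by
    have hpos : 0 < Nat.card (Cfsg.sigmaCore M) := Nat.card_pos
    apply Nat.eq_of_mul_eq_mul_right hpos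
    rw [h1, h2]
  rwa [← h3]

namespace ECtx

variable {M E : Subgroup G} (h : ECtx M E)
include h

theorem le : E ≤ M := h.compl.1

theorem inf_eq_bot : E ⊓ Cfsg.sigmaCore M = ⊥ := h.compl.2.2.1

theorem solvable_M : Group.IsSolvable ↥M := h.minSimple.2.2.2 M h.coatom.1

theorem solvable : Group.IsSolvable ↥E := by
  haveI := h.solvable_M
  exact Group.isSolvable_of_isSolvable_injective (Subgroup.inclusion_injective h.le)

theorem odd_card : Odd (Nat.card ↥E) :=
  Odd.of_dvd_nat h.minSimple.1 (Subgroup.card_subgroup_dvd_card E)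

theorem odd_card_M : Odd (Nat.card ↥M) :=
  Odd.of_dvd_nat h.minSimple.1 (Subgroup.card_subgroup_dvd_card M)

/-- every `p`-rank of `E` is at most two -/
theorem rankLE_two : Cfsg.RankLE 2 ↥E := by
  intro p hp
  haveI : Fact p.Prime := ⟨hp⟩
  by_cases hpd : p ∣ Nat.card E
  · have h1 : p ∉ Cfsg.alpha M := fun hα => h.not_sigma_of_dvd p hp hpd (h.alpha_sub hα)
    have h2 : Cfsg.PRankLE p 2 ↥M := by
      by_contra hcon
      exact h1 ⟨hp, hcon⟩
    exact Cfsg.Agent.Helper4.pRankLE_of_le h.le h2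
  · exact card_le_of_not_dvd hpd

/-- **B-G Lemma 12.1(a)**: `E'` is nilpotent -/
theorem isNilpotent_commutator : Group.IsNilpotent ↥(commutator ↥E) := by
  haveI := h.solvable
  exact (Cfsg.Agent.S1451.result (G := ↥E) h.odd_card (Or.inl h.rankLE_two)).1

theorem isNilpotent_commutator' : Group.IsNilpotent ↥⁅E, E⁆ := by
  haveI := h.isNilpotent_commutator
  rw [← Subgroup.map_subtype_commutator]
  exact Group.nilpotent_of_mulEquiv
    ((commutator ↥E).equivMapOfInjective E.subtype E.subtype_injective)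

/-- `E` (inside `M`) is a complement of the normal subgroup `O_σ(M)` of `M` -/
theorem isComplement' :
    (E.subgroupOf M).IsComplement' (Cfsg.piCore (Cfsg.sigma M) ↥M) := by
  apply Subgroup.isComplement'_of_disjoint_and_mul_eq_univ
  · rw [disjoint_iff, eq_bot_iff]
    rintro x ⟨hx1, hx2⟩
    have h1 : (x : G) ∈ E ⊓ Cfsg.sigmaCore M := ⟨Subgroup.mem_subgroupOf.1 hx1, ⟨x, hx2, rfl⟩⟩
    rw [h.inf_eq_bot, Subgroup.mem_bot] at h1
    rw [Subgroup.mem_bot]
    exact Subtype.ext h1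
  · rw [Set.eq_univ_iff_forall]
    rintro ⟨m, hm⟩
    obtain ⟨a, ha, b, hb, rfl⟩ := h.compl.2.2.2 m hm
    obtain ⟨y, hy, rfl⟩ := hb
    refine ⟨⟨a, h.le ha⟩, Subgroup.mem_subgroupOf.2 ha, y, hy, ?_⟩
    exact Subtype.ext rfl

/-- the retraction `M → E` with kernel `O_σ(M)` -/
noncomputable def retr : ↥M →* ↥E :=
  ((Subgroup.subgroupOfEquivOfLe h.le).toMonoidHom.comp
    (h.isComplement'.QuotientMulEquiv).toMonoidHom).comp
    (QuotientGroup.mk' (Cfsg.piCore (Cfsg.sigma M) ↥M))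

theorem retr_surjective : Function.Surjective h.retr := by
  have h1 : Function.Surjective (QuotientGroup.mk' (Cfsg.piCore (Cfsg.sigma M) ↥M)) :=
    QuotientGroup.mk'_surjective _
  have h2 := (h.isComplement'.QuotientMulEquiv).surjective
  have h3 := (Subgroup.subgroupOfEquivOfLe h.le).surjective
  intro e
  obtain ⟨y, hy⟩ := h3 e
  obtain ⟨z, hz⟩ := h2 y
  obtain ⟨w, hw⟩ := h1 z
  refine ⟨w, ?_⟩
  show (Subgroup.subgroupOfEquivOfLe h.le) ((h.isComplement'.QuotientMulEquiv)
    (QuotientGroup.mk' (Cfsg.piCore (Cfsg.sigma M) ↥M) w)) = e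
  rw [hw, hz, hy]

/-- `E'` is the image of `M'`, so `|E : E'|` divides `|M : M'|` -/
theorem index_commutator_dvd : (commutator ↥E).index ∣ (commutator ↥M).index := by
  have h1 : (commutator ↥M).map h.retr = commutator ↥E := by
    rw [commutator_def, commutator_def, Subgroup.map_commutator,
      Subgroup.map_top_of_surjective _ h.retr_surjective]
  rw [← h1]
  exact Subgroup.index_map_dvd _ h.retr_surjective

/-- for a prime `p ∉ σ(M)` dividing `|M'|` with `M` of `p`-rank one, `p` does not divide `|E : E'|` -/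
theorem not_dvd_index_commutator {p : ℕ} (hp : p ∈ Cfsg.tau3 M) :
    ¬ p ∣ (commutator ↥E).index := by
  obtain ⟨hpp, hpσ, hpd, hrk⟩ := hp
  haveI : Fact p.Prime := ⟨hpp⟩
  have hp2 : p ≠ 2 := by
    rintro rfl
    have h1 : 2 ∣ Nat.card G := hpd.trans (Subgroup.card_subgroup_dvd_card _)
    exact (Nat.not_even_iff_odd.2 h.minSimple.1) (even_iff_two_dvd.2 h1)
  intro hcon
  have hcon' : p ∣ (commutator ↥M).index := hcon.trans h.index_commutator_dvd
  obtain ⟨P⟩ : Nonempty (Sylow p ↥M) := inferInstance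
  haveI : IsCyclic ↥(P : Subgroup ↥M) :=
    Cfsg.Agent.Helper50.sylow_isCyclic_of_pRankLE_one hp2 hrk P
  have hcard : Nat.card ↥(commutator ↥M) = Nat.card ↥⁅M, M⁆ := by
    rw [← Subgroup.map_subtype_commutator,
      Subgroup.card_map_of_injective M.subtype_injective]
  rcases Sylow.not_dvd_card_commutator_or_not_dvd_index_commutator P with h1 | h1
  · exact h1 (hcard ▸ hpd)
  · exact h1 hcon'

/-- **B-G Lemma 12.1(c)**: a Hall `τ₁(M)`-subgroup of `E` is cyclic -/
theorem isCyclic_tau1 {E₁ : Subgroup G} (h1 : Cfsg.IsPiHallOf (Cfsg.tau1 M) E₁ E) :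
    IsCyclic ↥E₁ := by
  obtain ⟨hE₁E, hE₁pi, -⟩ := h1
  have hbot : E₁ ⊓ ⁅E, E⁆ = ⊥ := by
    rw [← Subgroup.card_eq_one]
    by_contra hne
    obtain ⟨p, hp, hpd⟩ := Nat.exists_prime_and_dvd hne
    have h2 : p ∣ Nat.card E₁ := hpd.trans (Subgroup.card_dvd_of_le inf_le_left)
    have h3 : p ∣ Nat.card ↥⁅M, M⁆ :=
      hpd.trans (Subgroup.card_dvd_of_le (inf_le_right.trans (Subgroup.commutator_mono h.le h.le)))
    exact (hE₁pi p hp h2).2.2.2.1 h3
  have hcomm : ∀ x y : ↥E₁, x * y = y * x := by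
    intro x y
    have h2 : ⁅(x : G), (y : G)⁆ ∈ E₁ ⊓ ⁅E, E⁆ :=
      ⟨by
        rw [commutatorElement_def]
        exact E₁.mul_mem (E₁.mul_mem (E₁.mul_mem x.2 y.2) (E₁.inv_mem x.2)) (E₁.inv_mem y.2),
       Subgroup.commutator_mem_commutator (hE₁E x.2) (hE₁E y.2)⟩
    rw [hbot, Subgroup.mem_bot, commutatorElement_eq_one_iff_mul_comm] at h2
    exact Subtype.ext h2
  let _ : CommGroup ↥E₁ := { (inferInstance : Group ↥E₁) with mul_comm := hcomm }
  have hodd : Odd (Nat.card ↥E₁) :=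
    Odd.of_dvd_nat h.minSimple.1 (Subgroup.card_subgroup_dvd_card E₁)
  refine isCyclic_of_nilpotent_of_pRankLE_one hodd ?_
  intro p hp hpd
  exact Cfsg.Agent.Helper4.pRankLE_of_le (hE₁E.trans h.le) (hE₁pi p hp hpd).2.2.2.2

/-- **B-G Lemma 12.1(b,d)**: a Hall `τ₃(M)`-subgroup of `E` is cyclic, lies in `E'` and is normal
in `E` -/
theorem tau3 {E₃ : Subgroup G} (h3 : Cfsg.IsPiHallOf (Cfsg.tau3 M) E₃ E) :
    IsCyclic ↥E₃ ∧ E₃ ≤ ⁅E, E⁆ ∧ E ≤ Subgroup.normalizer (E₃ : Set G) := by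
  obtain ⟨hE₃E, hE₃pi, hE₃idx⟩ := h3
  -- `E₃ ≤ E'`
  have hle : E₃ ≤ ⁅E, E⁆ := by
    have key : E₃.subgroupOf E ≤ commutator ↥E := by
      rw [← Subgroup.relIndex_eq_one]
      by_contra hne
      obtain ⟨p, hp, hpd⟩ := Nat.exists_prime_and_dvd hne
      have h4 : p ∣ (commutator ↥E).index := hpd.trans (Subgroup.relIndex_dvd_index_of_normal _ _)
      have h5 : p ∣ Nat.card ↥(E₃.subgroupOf E) := hpd.trans (Subgroup.relIndex_dvd_card _ _)
      rw [Nat.card_congr (Subgroup.subgroupOfEquivOfLe hE₃E).toEquiv] at h5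
      exact h.not_dvd_index_commutator (hE₃pi p hp h5) h4
    intro x hx
    have h4 : (⟨x, hE₃E hx⟩ : ↥E) ∈ commutator ↥E := key (Subgroup.mem_subgroupOf.2 hx)
    rw [← Subgroup.map_subtype_commutator]
    exact ⟨⟨x, hE₃E hx⟩, h4, rfl⟩
  have hodd : Odd (Nat.card ↥E₃) :=
    Odd.of_dvd_nat h.minSimple.1 (Subgroup.card_subgroup_dvd_card E₃)
  refine ⟨?_, hle, ?_⟩
  · haveI : Group.IsNilpotent ↥E₃ := isNilpotent_of_le hle h.isNilpotent_commutator'
    refine isCyclic_of_nilpotent_of_pRankLE_one hodd ?_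
    intro p hp hpd
    exact Cfsg.Agent.Helper4.pRankLE_of_le (hE₃E.trans h.le) (hE₃pi p hp hpd).2.2.2
  · -- `E₃` is a Hall subgroup of the nilpotent group `E'`, hence characteristic in it
    haveI hnil : Group.IsNilpotent ↥⁅E, E⁆ := h.isNilpotent_commutator'
    set C : Subgroup G := ⁅E, E⁆ with hC
    set H : Subgroup ↥C := E₃.subgroupOf C with hH
    have hcardH : Nat.card ↥H = Nat.card ↥E₃ :=
      Nat.card_congr (Subgroup.subgroupOfEquivOfLe hle).toEquiv
    have hCE : C ≤ E := by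
      rw [hC, Subgroup.commutator_le]
      intro a ha b hb
      rw [commutatorElement_def]
      exact E.mul_mem (E.mul_mem (E.mul_mem ha hb) (E.inv_mem ha)) (E.inv_mem hb)
    have hcop : (Nat.card ↥H).Coprime H.index := by
      rw [hcardH]
      apply Nat.Coprime.symm
      apply Nat.coprime_of_dvd
      intro p hp hp1 hp2
      have h4 : H.index = E₃.relIndex C := rfl
      rw [h4] at hp1
      have h5 : E₃.relIndex C ∣ E₃.relIndex E :=
        Dvd.intro _ (Subgroup.relIndex_mul_relIndex E₃ C E hle hCE)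
      exact hE₃idx p hp (hE₃pi p hp hp2) (hp1.trans h5)
    haveI hHn : H.Normal := normal_of_isNilpotent_of_coprime H hcop
    have hCn : ∀ (g : G), g ∈ E → ∀ c ∈ C, g * c * g⁻¹ ∈ C := by
      intro g hg c hc
      have h4 : ⁅g, c⁆ ∈ C := Subgroup.commutator_mem_commutator hg (hCE hc)
      have h5 : g * c * g⁻¹ = ⁅g, c⁆ * c := by
        rw [commutatorElement_def]; group
      rw [h5]
      exact C.mul_mem h4 hc
    have hfwd : ∀ e ∈ E, ∀ x ∈ E₃, e * x * e⁻¹ ∈ E₃ := by
      intro e he x hx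
      let φ : ↥C ≃* ↥C :=
        { toFun := fun c => ⟨e * c * e⁻¹, hCn e he c c.2⟩
          invFun := fun c => ⟨e⁻¹ * c * e, by simpa using hCn e⁻¹ (E.inv_mem he) c c.2⟩
          left_inv := fun c => Subtype.ext (by simp [mul_assoc])
          right_inv := fun c => Subtype.ext (by simp [mul_assoc])
          map_mul' := fun a b => Subtype.ext (by simp [mul_assoc]) }
      have h4 : (⟨x, hle hx⟩ : ↥C) ∈ H := Subgroup.mem_subgroupOf.2 hx
      have h5 := map_eq_of_normal_coprime H hcop φ h4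
      exact Subgroup.mem_subgroupOf.1 h5
    intro e he
    rw [Subgroup.mem_normalizer_iff]
    intro x
    constructor
    · exact hfwd e he x
    · intro hx
      have := hfwd e⁻¹ (E.inv_mem he) _ hx
      simpa [mul_assoc] using this

end ECtx

/-- **B-G Lemma 12.1** (statement S1415), given the Uniqueness Theorem. -/
theorem lemma_12_1 (hG : Cfsg.IsMinSimpleOddOrder G) (hU : UniquenessThm G)
    (M : Subgroup G) (hM : IsCoatom M) (E : Subgroup G)
    (hE : Cfsg.IsComplIn E (Cfsg.sigmaCore M) M) :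
    Group.IsNilpotent ↥⁅E, E⁆ ∧
      (∀ E₁ : Subgroup G, Cfsg.IsPiHallOf (Cfsg.tau1 M) E₁ E → IsCyclic E₁) ∧
      ∀ E₃ : Subgroup G, Cfsg.IsPiHallOf (Cfsg.tau3 M) E₃ E →
        IsCyclic E₃ ∧ E₃ ≤ ⁅E, E⁆ ∧ E ≤ Subgroup.normalizer (E₃ : Set G) := by
  have h := eCtx_of hG hU hM hE
  exact ⟨h.isNilpotent_commutator', fun E₁ h1 => h.isCyclic_tau1 h1, fun E₃ h3 => h.tau3 h3⟩

end E

end Cfsg.Agent.Helper68.BG12
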