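import Mathlib
import Cfsg.Agent.Helper29.BG11C
import Cfsg.Agent.Helper71.ShultHall
import Cfsg.Agent.Helper75.ShultNilA
import Cfsg.Agent.Helper17.SylowKit
import Cfsg.Agent.S0685

/-!
# B-G Theorem 11.7, general lemmas (helper68)

* `card_sup_dvd` : `|S A|` divides `|S| |A|` when `A` normalizes `S`.
* `exists_omega_of_isCyclic` : the subgroup of order `r` of a nontrivial cyclic `r`-group.
* `lt_of_not_le_centralizer` : a group of prime order `p` acting nontrivially on a group of prime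
  order `r ≠ p` has `p < r`.
-/

set_option autoImplicit false
set_option linter.unusedSectionVars false
set_option linter.unusedVariables false
set_option linter.style.haveILetI false

namespace Cfsg.Agent.Helper68.BG11

open Cfsg Cfsg.Agent.Helper29.BG10
open scoped commutatorElement

variable {G : Type*} [Group G] [Finite G]

/-- `|S A|` divides `|S| |A|` when `A` normalizes `S` -/
theorem card_sup_dvd {S A : Subgroup G} (hAS : A ≤ Subgroup.normalizer (S : Set G)) :
    Nat.card ↥(S ⊔ A) ∣ Nat.card S * Nat.card A := by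
  have h1 : S.relIndex (A ⊔ S) = S.relIndex A := by
    let _i1 := Subgroup.normal_subgroupOf_of_le_normalizer hAS
    let _i2 := Subgroup.normal_subgroupOf_sup_of_le_normalizer hAS
    exact Nat.card_congr (QuotientGroup.quotientInfEquivProdNormalizerQuotient A S hAS).toEquiv.symm
  have h2 : S.relIndex (S ⊔ A) * Nat.card S = Nat.card ↥(S ⊔ A) :=
    Cfsg.Agent.Helper31.relIndex_mul_card' le_sup_left
  rw [← h2, sup_comm, h1, mul_comm]
  exact Nat.mul_dvd_mul_left _ (Subgroup.relIndex_dvd_card S A)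

/-- primes dividing `|S A|` divide `|S|` or `|A|` -/
theorem dvd_or_dvd_of_dvd_card_sup {S A : Subgroup G} (hAS : A ≤ Subgroup.normalizer (S : Set G))
    {q : ℕ} (hq : q.Prime) (hd : q ∣ Nat.card ↥(S ⊔ A)) : q ∣ Nat.card S ∨ q ∣ Nat.card A :=
  (Nat.Prime.dvd_mul hq).1 (hd.trans (card_sup_dvd hAS))

/-- the subgroup of order `r` of a nontrivial cyclic `r`-group `N`: it contains every element of
order dividing `r` of `N` and is normalized by `N_G(N)` -/
theorem exists_omega_of_isCyclic {r : ℕ} [Fact r.Prime] {N : Subgroup G} (hN : IsCyclic ↥N)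
    (hNr : IsPGroup r N) (hN1 : N ≠ ⊥) :
    ∃ Z : Subgroup G, Z ≤ N ∧ Nat.card Z = r ∧ (∀ x ∈ N, x ^ r = 1 → x ∈ Z) ∧
      Subgroup.normalizer (N : Set G) ≤ Subgroup.normalizer (Z : Set G) := by
  have hr : r.Prime := Fact.out
  obtain ⟨g, hg⟩ := hN.exists_generator
  obtain ⟨k, hk⟩ := IsPGroup.iff_card.1 hNr
  have hk0 : k ≠ 0 := by
    intro h0
    rw [h0, pow_zero] at hk
    exact hN1 (Subgroup.card_eq_one.1 hk)
  obtain ⟨k', rfl⟩ := Nat.exists_eq_succ_of_ne_zero hk0
  have hog : orderOf g = r ^ (k' + 1) := by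
    rw [← hk]
    exact orderOf_eq_card_of_forall_mem_zpowers hg
  have hog' : orderOf (g : G) = r ^ (k' + 1) := by
    rw [Subgroup.orderOf_coe]; exact hog
  set z : G := (g : G) ^ (r ^ k') with hz
  have hzN : z ∈ N := N.pow_mem g.2 _
  have hoz : orderOf z = r := by
    rw [hz, orderOf_pow' _ (pow_ne_zero _ hr.ne_zero), hog',
      Nat.gcd_eq_right (pow_dvd_pow r (Nat.le_succ k')), pow_succ,
      Nat.mul_div_cancel_left _ (pow_pos hr.pos _)]
  have hZ_le : Subgroup.zpowers z ≤ N := Subgroup.zpowers_le.2 hzN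
  have hZc : Nat.card (Subgroup.zpowers z) = r := by rw [Nat.card_zpowers, hoz]
  have hΩ : ∀ x ∈ N, x ^ r = 1 → x ∈ Subgroup.zpowers z := by
    intro x hx hxr
    obtain ⟨m, hm⟩ := Subgroup.mem_zpowers_iff.1 (hg ⟨x, hx⟩)
    have hm' : (g : G) ^ m = x := by
      have := congrArg Subtype.val hm
      simpa using this
    have h1 : (g : G) ^ (m * r) = 1 := by
      rw [zpow_mul, hm', zpow_natCast, hxr]
    have h2 : ((r ^ (k' + 1) : ℕ) : ℤ) ∣ m * r := by
      rw [← hog']; exact orderOf_dvd_iff_zpow_eq_one.2 h1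
    have h3 : ((r ^ k' : ℕ) : ℤ) ∣ m := by
      rw [pow_succ] at h2
      push_cast at h2
      have hr0 : (r : ℤ) ≠ 0 := by exact_mod_cast hr.ne_zero
      have := (mul_dvd_mul_iff_right hr0).1 h2
      exact_mod_cast this
    obtain ⟨t, ht⟩ := h3
    rw [Subgroup.mem_zpowers_iff]
    refine ⟨t, ?_⟩
    rw [← hm', ht, zpow_mul, zpow_natCast]
  refine ⟨Subgroup.zpowers z, hZ_le, hZc, hΩ, ?_⟩
  apply Cfsg.Agent.Helper71.Shult.le_normalizer_of_conj_mem
  intro n hn y hy
  apply hΩ
  · exact (Subgroup.mem_normalizer_iff.1 hn y).1 (hZ_le hy)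
  · rw [conj_pow]
    have : y ^ r = 1 := by
      have h5 : (⟨y, hy⟩ : ↥(Subgroup.zpowers z)) ^ Nat.card ↥(Subgroup.zpowers z) = 1 :=
        pow_card_eq_one'
      rw [hZc] at h5
      have := congrArg Subtype.val h5
      simpa using this
    rw [this]; group

/-- a group `A₁` of prime order `p` acting nontrivially on a group `Z` of prime order `r ≠ p`:
`p < r` -/
theorem lt_of_not_le_centralizer {p r : ℕ} [Fact p.Prime] [Fact r.Prime] {A₁ Z : Subgroup G}
    (hA₁ : Nat.card A₁ = p) (hZ : Nat.card Z = r)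
    (hAZ : A₁ ≤ Subgroup.normalizer (Z : Set G))
    (hnc : ¬ A₁ ≤ Subgroup.centralizer (Z : Set G)) (hpr : p ≠ r) : p < r := by
  have hp : p.Prime := Fact.out
  have hr : r.Prime := Fact.out
  let f : ↥A₁ →* MulAut ↥Z := (Subgroup.normalizerMonoidHom Z).comp (Subgroup.inclusion hAZ)
  haveI : Fact (Nat.card ↥A₁).Prime := ⟨by rw [hA₁]; exact hp⟩
  rcases Subgroup.eq_bot_or_eq_top_of_prime_card f.ker with hker | hker
  · have hinj : Function.Injective f := (MonoidHom.ker_eq_bot_iff f).1 hker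
    have h1 : Nat.card ↥A₁ ∣ Nat.card (MulAut ↥Z) := Subgroup.card_dvd_of_injective f hinj
    haveI : IsCyclic ↥Z := isCyclic_of_prime_card hZ
    have h2 : Nat.card (MulAut ↥Z) ≤ Nat.card ↥Z := Cfsg.Agent.S0685.card_mulAut_le
    have h3 : p ≤ Nat.card (MulAut ↥Z) := by
      rw [hA₁] at h1
      exact Nat.le_of_dvd Nat.card_pos h1
    rw [hZ] at h2
    omega
  · exfalso
    apply hnc
    intro a ha
    have h1 : (⟨a, ha⟩ : ↥A₁) ∈ f.ker := by rw [hker]; trivial
    rw [MonoidHom.mem_ker] at h1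
    rw [Subgroup.mem_centralizer_iff]
    intro y hy
    have h2 := congrArg (fun φ : MulAut ↥Z => ((φ ⟨y, hy⟩ : ↥Z) : G)) h1
    simp only [f, MonoidHom.comp_apply, MulAut.one_apply] at h2
    have h3 : a * y * a⁻¹ = y := h2
    calc y * a = (a * y * a⁻¹) * a := by rw [h3]
      _ = a * y := by group

end Cfsg.Agent.Helper68.BG11
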