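import Mathlib
import Cfsg.Agent.Helper68.BG117A
import Cfsg.Agent.Helper68.BG12A
import Cfsg.Agent.Helper71.ShultNil
import Cfsg.Agent.Helper22.BG117b
import Cfsg.Agent.Helper55.BG1211
import Cfsg.Agent.Helper64.BG126
import Cfsg.Agent.S1443

/-!
# B-G Theorem 11.7, the core (helper68)

For a `p`-exceptional maximal subgroup `M` (`Exc p M A A₀`), two distinct points `A₁`, `A₂` of `A`
acting without fixed points on `M_σ`, a prime `r ∉ σ(M)`, `r ≠ p`, and an `A`-invariant `r`-subgroup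
`S₀` of `M` (a Sylow `r`-subgroup of `M` when `r > p`): `A` centralizes `S₀`.

Hypothesis `CyclicNormal M` = "(L1c)": the normal `r`-subgroups of `M` are cyclic for `r ∉ σ(M)`.
-/

set_option autoImplicit false
set_option linter.unusedSectionVars false
set_option linter.unusedVariables false
set_option linter.style.haveILetI false

namespace Cfsg.Agent.Helper68.BG11

open Cfsg Cfsg.Agent.Helper29.BG10 Cfsg.Agent.Helper71.Shult
open scoped commutatorElement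

variable {G : Type*} [Group G] [Finite G]

/-- hypothesis (L1c): normal `r`-subgroups of `M` are cyclic for `r ∉ σ(M)` -/
def CyclicNormal (M : Subgroup G) : Prop :=
  ∀ (r : ℕ) [Fact r.Prime], r ∉ Cfsg.sigma M → ∀ N : Subgroup G, IsPGroup r N → N ≤ M →
    M ≤ Subgroup.normalizer (N : Set G) → IsCyclic ↥N

theorem eq_of_prime_dvd_card_of_isPGroup {r q : ℕ} [Fact r.Prime] {S : Subgroup G}
    (hS : IsPGroup r S) (hq : q.Prime) (hd : q ∣ Nat.card S) : q = r := by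
  obtain ⟨k, hk⟩ := IsPGroup.iff_card.1 hS
  rw [hk] at hd
  exact (Nat.prime_dvd_prime_iff_eq hq Fact.out).1 (hq.dvd_of_dvd_pow hd)

theorem commutator_le_left_of_le_normalizer {S B : Subgroup G}
    (hBS : B ≤ Subgroup.normalizer (S : Set G)) : ⁅S, B⁆ ≤ S := by
  rw [Subgroup.commutator_le]
  intro s hs b hb
  have h1 : b * s⁻¹ * b⁻¹ ∈ S := (Subgroup.mem_normalizer_iff.1 (hBS hb) s⁻¹).1 (S.inv_mem hs)
  have e : ⁅s, b⁆ = s * (b * s⁻¹ * b⁻¹) := by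
    simp only [commutatorElement_def]; group
  rw [e]
  exact S.mul_mem hs h1

theorem le_centralizer_sup {S A₁ A₂ : Subgroup G}
    (h1 : S ≤ Subgroup.centralizer (A₁ : Set G)) (h2 : S ≤ Subgroup.centralizer (A₂ : Set G)) :
    S ≤ Subgroup.centralizer ((A₁ ⊔ A₂ : Subgroup G) : Set G) :=
  le_centralizer_symm (sup_le (le_centralizer_symm h1) (le_centralizer_symm h2))

variable {p : ℕ} [Fact p.Prime] {M A A₀ : Subgroup G}

/-- Shult's theorem for a fixed-point-free point `A₁` of `A` -/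
theorem shult_step (hG : Cfsg.IsMinSimpleOddOrder G) (hU : UniquenessThm G)
    (hPL : ∀ (r : ℕ) [Fact r.Prime] (H : Subgroup G), H ≠ ⊤ → Cfsg.PLengthLE r 1 ↥H)
    (h : Cfsg.Agent.Helper29.BG11.Exc p M A A₀) {A₁ : Subgroup G} (hA₁ : A₁ ≤ A)
    (hc₁ : Nat.card A₁ = p)
    (hf₁ : Cfsg.sigmaCore M ⊓ Subgroup.centralizer (A₁ : Set G) = ⊥)
    {r : ℕ} [Fact r.Prime] (hrσ : r ∉ Cfsg.sigma M) (hrp : r ≠ p)
    {S₀ : Subgroup G} (hS₀M : S₀ ≤ M) (hS₀ : IsPGroup r S₀)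
    (hAS : A₁ ≤ Subgroup.normalizer (S₀ : Set G)) :
    ⁅S₀, A₁⁆ ≤ Subgroup.centralizer ((Cfsg.sigmaCore M : Subgroup G) : Set G) := by
  have hp : p.Prime := Fact.out
  have hr : r.Prime := Fact.out
  have hM := h.hM
  have hnil := Cfsg.Agent.Helper29.BG11.lemma_11_3 hG hU hPL h
  have hMK := Cfsg.Agent.Helper29.BG11.le_normalizer_sigmaCore M
  have hXM : S₀ ⊔ A₁ ≤ M := sup_le hS₀M (hA₁.trans h.hAM)
  haveI : Group.IsSolvable ↥M := hG.2.2.2 M hM.1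
  have hsolv : Group.IsSolvable ↥(S₀ ⊔ A₁) :=
    Group.isSolvable_of_isSolvable_injective (Subgroup.inclusion_injective hXM)
  have hodd : Odd (Nat.card ↥(S₀ ⊔ A₁)) :=
    Odd.of_dvd_nat hG.1 (Subgroup.card_subgroup_dvd_card _)
  have hcop : (Nat.card ↥(S₀ ⊔ A₁)).Coprime (Nat.card (Cfsg.sigmaCore M)) := by
    by_contra hc
    obtain ⟨q, hq, h1, h2⟩ := Nat.Prime.not_coprime_iff_dvd.1 hc
    have hqσ := Cfsg.Agent.Helper29.BG11.primes_sigmaCore M q hq h2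
    rcases dvd_or_dvd_of_dvd_card_sup hAS hq h1 with h3 | h3
    · rw [eq_of_prime_dvd_card_of_isPGroup hS₀ hq h3] at hqσ
      exact hrσ hqσ
    · rw [hc₁] at h3
      rw [(Nat.prime_dvd_prime_iff_eq hq hp).1 h3] at hqσ
      exact h.hp hqσ
  have hpR : ¬ p ∣ Nat.card S₀ := fun hd =>
    hrp (eq_of_prime_dvd_card_of_isPGroup hS₀ hp hd).symm
  exact Cfsg.Agent.Helper71.ShultNil.commutator_le_centralizer_of_fpf (Cfsg.sigmaCore M) S₀ A₁ hnil
    hp hc₁ hAS (hS₀M.trans hMK) ((hA₁.trans h.hAM).trans hMK) hsolv hodd hcop hpR hf₁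

/-- the normal `r`-subgroup of `M` containing `[S₀, A₁]` and `[S₀, A₂]` -/
theorem exists_normal_rgroup (hG : Cfsg.IsMinSimpleOddOrder G) (hU : UniquenessThm G)
    (hPL : ∀ (r : ℕ) [Fact r.Prime] (H : Subgroup G), H ≠ ⊤ → Cfsg.PLengthLE r 1 ↥H)
    (h : Cfsg.Agent.Helper29.BG11.Exc p M A A₀) {A₁ A₂ : Subgroup G} (hA₁ : A₁ ≤ A) (hA₂ : A₂ ≤ A)
    (hc₁ : Nat.card A₁ = p) (hc₂ : Nat.card A₂ = p)
    (hf₁ : Cfsg.sigmaCore M ⊓ Subgroup.centralizer (A₁ : Set G) = ⊥)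
    (hf₂ : Cfsg.sigmaCore M ⊓ Subgroup.centralizer (A₂ : Set G) = ⊥)
    {r : ℕ} [Fact r.Prime] (hrσ : r ∉ Cfsg.sigma M) (hrp : r ≠ p)
    {S₀ : Subgroup G} (hS₀M : S₀ ≤ M) (hS₀ : IsPGroup r S₀)
    (hAS : A ≤ Subgroup.normalizer (S₀ : Set G)) :
    ∃ N : Subgroup G, N ≤ M ∧ IsPGroup r N ∧ M ≤ Subgroup.normalizer (N : Set G) ∧
      ⁅S₀, A₁⁆ ≤ N ∧ ⁅S₀, A₂⁆ ≤ N := by
  have hp : p.Prime := Fact.out
  have hr : r.Prime := Fact.out
  have hM := h.hM
  have hMK := Cfsg.Agent.Helper29.BG11.le_normalizer_sigmaCore M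
  have hXM : S₀ ⊔ A ≤ M := sup_le hS₀M h.hAM
  have hXσ : ∀ q : ℕ, q.Prime → q ∣ Nat.card ↥(S₀ ⊔ A) → q ∉ Cfsg.sigma M := by
    intro q hq hd
    rcases dvd_or_dvd_of_dvd_card_sup hAS hq hd with h3 | h3
    · rw [eq_of_prime_dvd_card_of_isPGroup hS₀ hq h3]
      exact hrσ
    · rw [eq_of_prime_dvd_card_of_isPGroup h.isPGroup hq h3]
      exact h.hp
  obtain ⟨hr2, hr1⟩ := h.rank hG hU
  obtain ⟨E, A', hE, hXE, -, -, -⟩ :=
    Cfsg.Agent.Helper55.BG1211.exists_compl_of_le hG hU hM hXM hXσ h.hp hr2 hr1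
  have hEnil : Group.IsNilpotent ↥⁅E, E⁆ :=
    (Cfsg.Agent.Helper68.BG12.lemma_12_1 hG hU M hM E hE).1
  have hS₀E : S₀ ≤ E := le_sup_left.trans hXE
  have hAE : A ≤ E := le_sup_right.trans hXE
  have hLE : ⁅E, E⁆ ≤ E := by
    rw [Subgroup.commutator_le]
    intro a ha b hb
    exact E.mul_mem (E.mul_mem (E.mul_mem ha hb) (E.inv_mem ha)) (E.inv_mem hb)
  have hEL : E ≤ Subgroup.normalizer ((⁅E, E⁆ : Subgroup G) : Set G) := by
    apply le_normalizer_of_conj_mem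
    intro e he u hu
    have e1 : e * u * e⁻¹ = ⁅e, u⁆ * u := by
      simp only [commutatorElement_def]; group
    rw [e1]
    exact Subgroup.mul_mem _ (Subgroup.commutator_mem_commutator he (hLE hu)) hu
  obtain ⟨Y, -, hY⟩ := exists_isSylowIn_ge (p := r) (N := ⁅E, E⁆) (Y := ⊥) bot_le IsPGroup.of_bot
  have hEY : E ≤ Subgroup.normalizer (Y : Set G) :=
    hEL.trans (Cfsg.Agent.Helper29.BG11.IsSylowIn.normalizer_le_of_isNilpotent hY hEnil)
  have hLY : ⁅E, E⁆ ≤ Subgroup.normalizer (Y : Set G) :=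
    Cfsg.Agent.Helper29.BG11.IsSylowIn.le_normalizer_of_isNilpotent hY hEnil
  have hrY : ∀ X : Subgroup G, X ≤ ⁅E, E⁆ → IsPGroup r X → X ≤ Y := by
    intro X hXL hX
    obtain ⟨a, haL, ha⟩ :=
      Cfsg.Agent.Helper84.exists_conj_le_of_relIndex ⁅E, E⁆ Y X hY.1 hY.2.1 hY.2.2 hXL hX
    intro x hx
    have h1 := conj_inv_mem_of_le_normalizer hLY haL (ha x hx)
    have e1 : a⁻¹ * (a * x * a⁻¹) * a = x := by group
    rwa [e1] at h1
  set N : Subgroup G := Y ⊓ Subgroup.centralizer ((Cfsg.sigmaCore M : Subgroup G) : Set G) with hN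
  have hEM : E ≤ M := hE.1
  have hEN : E ≤ Subgroup.normalizer (N : Set G) :=
    inf_le_normalizer hEY (le_normalizer_centralizer (hEM.trans hMK))
  have hKN : Cfsg.sigmaCore M ≤ Subgroup.normalizer (N : Set G) :=
    le_normalizer_of_le_centralizer (le_centralizer_symm inf_le_right)
  have hcomm : ∀ B : Subgroup G, B ≤ A → Nat.card B = p →
      Cfsg.sigmaCore M ⊓ Subgroup.centralizer (B : Set G) = ⊥ → ⁅S₀, B⁆ ≤ N := by
    intro B hB hBc hBf
    have hBS : B ≤ Subgroup.normalizer (S₀ : Set G) := hB.trans hAS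
    apply le_inf
    · apply hrY
      · exact Subgroup.commutator_mono hS₀E (hB.trans hAE)
      · exact hS₀.to_le (commutator_le_left_of_le_normalizer hBS)
    · exact shult_step hG hU hPL h hB hBc hBf hrσ hrp hS₀M hS₀ hBS
  refine ⟨N, inf_le_left.trans (hY.1.trans (hLE.trans hEM)), hY.2.1.to_le inf_le_left, ?_,
    hcomm A₁ hA₁ hc₁ hf₁, hcomm A₂ hA₂ hc₂ hf₂⟩
  intro m hm
  obtain ⟨e, he, k, hk, rfl⟩ := hE.2.2.2 m hm
  exact Subgroup.mul_mem _ (hEN he) (hKN hk)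

end Cfsg.Agent.Helper68.BG11
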