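import Mathlib
import Cfsg.Agent.Helper68.BG117B
import Cfsg.Agent.Helper29.BG11D

/-!
# B-G Theorem 11.7, the core, continued (helper68)
-/

set_option autoImplicit false
set_option linter.unusedSectionVars false
set_option linter.unusedVariables false
set_option linter.style.haveILetI false

namespace Cfsg.Agent.Helper68.BG11

open Cfsg Cfsg.Agent.Helper29.BG10 Cfsg.Agent.Helper71.Shult
open scoped commutatorElement

variable {G : Type*} [Group G] [Finite G]

theorem not_pRankLE_one_of_card_sq {p : ℕ} [Fact p.Prime] {A : Subgroup G}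
    (hA : Cfsg.IsElementaryAbelian p A) (hA2 : Nat.card A = p ^ 2) : ¬ Cfsg.PRankLE p 1 ↥A := by
  have hp : p.Prime := Fact.out
  rw [Cfsg.Agent.Helper23.not_pRankLE_subgroup_iff]
  refine ⟨A, le_rfl, hA, ?_⟩
  rw [hA2, pow_one, pow_two]
  exact lt_mul_self hp.one_lt

variable {p : ℕ} [Fact p.Prime] {M A A₀ : Subgroup G}

/-- the core of B-G Theorem 11.7 -/
theorem centralizes_of_fpf (hG : Cfsg.IsMinSimpleOddOrder G) (hU : UniquenessThm G)
    (hPL : ∀ (r : ℕ) [Fact r.Prime] (H : Subgroup G), H ≠ ⊤ → Cfsg.PLengthLE r 1 ↥H)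
    (h : Cfsg.Agent.Helper29.BG11.Exc p M A A₀) (hL1c : CyclicNormal M)
    {A₁ A₂ : Subgroup G} (hA₁ : A₁ ≤ A) (hA₂ : A₂ ≤ A)
    (hc₁ : Nat.card A₁ = p) (hc₂ : Nat.card A₂ = p)
    (hf₁ : Cfsg.sigmaCore M ⊓ Subgroup.centralizer (A₁ : Set G) = ⊥)
    (hf₂ : Cfsg.sigmaCore M ⊓ Subgroup.centralizer (A₂ : Set G) = ⊥)
    (hsup : A₁ ⊔ A₂ = A)
    {r : ℕ} [Fact r.Prime] (hrσ : r ∉ Cfsg.sigma M) (hrp : r ≠ p)
    {S₀ : Subgroup G} (hS₀M : S₀ ≤ M) (hS₀ : IsPGroup r S₀)
    (hAS : A ≤ Subgroup.normalizer (S₀ : Set G)) (hSyl : p < r → IsSylowIn r S₀ M) :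
    S₀ ≤ Subgroup.centralizer (A : Set G) := by
  classical
  have hp : p.Prime := Fact.out
  have hr : r.Prime := Fact.out
  have hM := h.hM
  haveI : IsSimpleGroup G := hG.2.1
  obtain ⟨N, hNM, hNr, hMN, hX₁, hX₂⟩ :=
    exists_normal_rgroup hG hU hPL h hA₁ hA₂ hc₁ hc₂ hf₁ hf₂ hrσ hrp hS₀M hS₀ hAS
  have hNcyc : IsCyclic ↥N := hL1c r hrσ N hNr hNM hMN
  have hAN : A ≤ Subgroup.normalizer (N : Set G) := h.hAM.trans hMN
  have hfin : S₀ ≤ Subgroup.centralizer (A₁ : Set G) → S₀ ≤ Subgroup.centralizer (A₂ : Set G) →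
      S₀ ≤ Subgroup.centralizer (A : Set G) := by
    intro h1 h2
    rw [← hsup]
    exact le_centralizer_sup h1 h2
  by_cases hN1 : N = ⊥
  · apply hfin
    · rw [← Subgroup.commutator_eq_bot_iff_le_centralizer, eq_bot_iff, ← hN1]
      exact hX₁
    · rw [← Subgroup.commutator_eq_bot_iff_le_centralizer, eq_bot_iff, ← hN1]
      exact hX₂
  obtain ⟨Z, hZN, hZc, hΩ, hNZ⟩ := exists_omega_of_isCyclic hNcyc hNr hN1
  have hMZ : M ≤ Subgroup.normalizer (Z : Set G) := hMN.trans hNZ
  have hZ1 : Z ≠ ⊥ := by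
    intro hb
    rw [hb, Subgroup.card_bot] at hZc
    exact hr.one_lt.ne hZc
  have hpN : ¬ p ∣ Nat.card N := fun hd =>
    hrp (eq_of_prime_dvd_card_of_isPGroup hNr hp hd).symm
  have hr2 : r ≠ 2 := by
    intro h2
    have hodd : Odd (Nat.card ↥Z) := Odd.of_dvd_nat hG.1 (Subgroup.card_subgroup_dvd_card Z)
    rw [hZc, h2] at hodd
    exact absurd hodd (by decide)
  -- `A` centralizes `Z`
  have hAZ : A ≤ Subgroup.centralizer (Z : Set G) := by
    by_contra hcon
    -- one of the two points acts nontrivially, so `p < r`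
    have hlt : p < r := by
      by_contra hnlt
      apply hcon
      rw [← hsup]
      apply sup_le
      · by_contra h1
        exact hnlt (lt_of_not_le_centralizer hc₁ hZc ((hA₁.trans h.hAM).trans hMZ) h1 hrp.symm)
      · by_contra h1
        exact hnlt (lt_of_not_le_centralizer hc₂ hZc ((hA₂.trans h.hAM).trans hMZ) h1 hrp.symm)
    have hS := hSyl hlt
    have hNS : N ≤ S₀ := hS.normal_le hNr hMN hNM
    have hNZM : Subgroup.normalizer (Z : Set G) = M :=
      Cfsg.Agent.Helper64.BG126.normalizer_eq_of_coatom hM hZ1 (hZN.trans hNM) hMZ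
    obtain ⟨⟨hrk2, hrk1⟩, -, -⟩ := thm_10_6 hG hU M hM r hrσ Z hZc hNZM.le
    -- `[S₀, A] ≤ N`
    have hcomm : ∀ a ∈ A, ∀ x ∈ S₀, ⁅x, a⁆ ∈ N := by
      have hle : A₁ ⊔ A₂ ≤ commIn S₀ A N hAN := by
        apply sup_le
        · intro a ha
          exact ⟨hA₁ ha, fun x hx => hX₁ (Subgroup.commutator_mem_commutator hx ha)⟩
        · intro a ha
          exact ⟨hA₂ ha, fun x hx => hX₂ (Subgroup.commutator_mem_commutator hx ha)⟩
      rw [hsup] at hle
      intro a ha x hx
      exact (hle ha).2 x hx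
    -- `r` divides `|C_G(A)|`
    have hrC : r ∣ Nat.card (Subgroup.centralizer (A : Set G)) := by
      by_contra hnd
      have hS₀N : S₀ ≤ N := by
        intro x hx
        obtain ⟨y, hy1, hy2⟩ := Cfsg.Agent.Helper75.ShultNil.exists_fixed_in_coset h.isPGroup hpN
          hAN x (by
            intro a ha
            have := hcomm a ha x⁻¹ (S₀.inv_mem hx)
            rw [commutatorElement_def] at this
            simpa [mul_assoc] using this)
        have hyS : y ∈ S₀ := by
          have : y = x * (x⁻¹ * y) := by group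
          rw [this]
          exact S₀.mul_mem hx (hNS hy1)
        have hyC : y ∈ Subgroup.centralizer (A : Set G) := by
          rw [Subgroup.mem_centralizer_iff]
          intro a ha
          have := hy2 a ha
          calc a * y = (a * y * a⁻¹) * a := by group
            _ = y * a := by rw [this]
        have hy1' : y = 1 := by
          by_contra hy1'
          obtain ⟨k, hk⟩ := hS₀ ⟨y, hyS⟩
          have hk' : y ^ r ^ k = 1 := by
            have := congrArg Subtype.val hk
            simpa using this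
          have ho : orderOf y ∣ r ^ k := orderOf_dvd_of_pow_eq_one hk'
          obtain ⟨j, hj, hoj⟩ := (Nat.dvd_prime_pow hr).1 ho
          have hj0 : j ≠ 0 := by
            intro h0
            rw [h0, pow_zero] at hoj
            exact hy1' (orderOf_eq_one_iff.1 hoj)
          apply hnd
          have h1 : r ∣ orderOf y := by rw [hoj]; exact dvd_pow_self r hj0
          have h2 : orderOf (⟨y, hyC⟩ : ↥(Subgroup.centralizer (A : Set G))) = orderOf y :=
            Subgroup.orderOf_mk y hyC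
          exact h1.trans (h2 ▸ orderOf_dvd_natCard _)
        rw [hy1', mul_one] at hy1
        have := N.inv_mem hy1
        simpa using this
      -- now `S₀ = N` is cyclic, against `r`-rank two
      obtain ⟨B, hBM, hBe, hBlt⟩ := (Cfsg.Agent.Helper23.not_pRankLE_subgroup_iff r 1 M).1 hrk1
      have hBr : IsPGroup r B := Cfsg.Agent.Helper29.BG10.isPGroup_of_isElementaryAbelian hBe
      obtain ⟨m, hmM, hm⟩ :=
        Cfsg.Agent.Helper84.exists_conj_le_of_relIndex M S₀ B hS.1 hS.2.1 hS.2.2 hBM hBr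
      have hle : cj m B ≤ Z := by
        intro x hx
        rw [mem_cj] at hx
        have hx' := hm _ hx
        have e1 : m * (m⁻¹ * x * m) * m⁻¹ = x := by group
        rw [e1] at hx'
        apply hΩ x (hS₀N hx')
        have h3 := hBe.2 _ hx
        rw [← e1, conj_pow, h3]; group
      have h4 := Subgroup.card_le_of_le hle
      rw [card_cj, hZc] at h4
      rw [pow_one] at hBlt
      omega
    exact hcon (Cfsg.Agent.Helper22.BG117.centralizes_normal_prime_order hG hU
      (fun q _ H hH => hPL q H hH) A h.isPGroup h.hA.1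
      (h.mem_iff_of_mem_centralizer hG hU) (not_pRankLE_one_of_card_sq h.hA h.hA2) M hM
      h.centralizer_le hrp Z hZc hMZ hrC hrk2)
  -- `A` centralizes `N`
  have hZe : Cfsg.IsElementaryAbelian r Z := by
    refine ⟨(Cfsg.Agent.Helper23.isMulCommutative_subgroup_iff Z).2 ?_, ?_⟩
    · haveI : IsCyclic ↥Z := isCyclic_of_prime_card hZc
      intro a ha b hb
      have := (IsCyclic.isMulCommutative (α := ↥Z)).is_comm.comm (⟨a, ha⟩ : ↥Z) ⟨b, hb⟩
      exact congrArg Subtype.val this
    · intro a ha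
      have h5 : (⟨a, ha⟩ : ↥Z) ^ Nat.card ↥Z = 1 := pow_card_eq_one'
      rw [hZc] at h5
      have := congrArg Subtype.val h5
      simpa using this
  have hcopA : (Nat.card A).Coprime r := by
    rw [h.hA2]
    exact Nat.Coprime.pow_left _ ((Nat.coprime_primes hp hr).2 hrp.symm)
  have hACN : A ≤ Subgroup.centralizer (N : Set G) := by
    apply Cfsg.Agent.S1443.result r hr2 N Z A hNr hZN hZe hAN hcopA
    intro x hx hox
    have hxZ : x ∈ Z := by
      apply hΩ x hx.1
      rw [← hox]; exact pow_orderOf_eq_one x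
    exact hAZ.trans (Subgroup.centralizer_le (by simpa using hxZ))
  have hNCA : N ≤ Subgroup.centralizer (A : Set G) := le_centralizer_symm hACN
  have hkill : ∀ B : Subgroup G, B ≤ A → Nat.card B = p → ⁅S₀, B⁆ ≤ N →
      S₀ ≤ Subgroup.centralizer (B : Set G) := by
    intro B hB hBc hXB
    rw [← Subgroup.commutator_eq_bot_iff_le_centralizer]
    apply Cfsg.Agent.Helper75.ShultNil.comm_eq_bot_of_comm_comm_eq_bot hS₀ _ (hB.trans hAS)
    · rw [Subgroup.commutator_eq_bot_iff_le_centralizer]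
      exact (hXB.trans hNCA).trans (Subgroup.centralizer_le hB)
    · rw [hBc]
      exact (Nat.coprime_primes hp hr).2 hrp.symm
  exact hfin (hkill A₁ hA₁ hc₁ hX₁) (hkill A₂ hA₂ hc₂ hX₂)

end Cfsg.Agent.Helper68.BG11
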