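import Mathlib
import Cfsg.Agent.Helper68.BG117C
import Cfsg.Agent.Helper54.PLength
import Cfsg.Agent.Helper55.BG103
import Cfsg.Agent.Lib.Cores
import Cfsg.Agent.S1450

/-!
# B-G Theorem 11.7 (helper68)

For a `p`-exceptional maximal subgroup `M` (`Exc p M A A₀`), `M_σ A` is a normal subgroup of `M`.
-/

set_option autoImplicit false
set_option linter.unusedSectionVars false
set_option linter.unusedVariables false
set_option linter.style.haveILetI false

namespace Cfsg.Agent.Helper68.BG11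

open Cfsg Cfsg.Agent.Helper29.BG10 Cfsg.Agent.Helper71.Shult
open scoped commutatorElement

variable {G : Type*} [Group G] [Finite G]

/-- the image in `G` of a normal subgroup of `↥M` is normalized by `M` -/
theorem le_normalizer_map_subtype_of_normal {M : Subgroup G} (N : Subgroup ↥M) [hN : N.Normal] :
    M ≤ Subgroup.normalizer ((N.map M.subtype : Subgroup G) : Set G) := by
  apply le_normalizer_of_conj_mem
  rintro m hm _ ⟨x, hx, rfl⟩
  exact ⟨⟨m, hm⟩ * x * ⟨m, hm⟩⁻¹, hN.conj_mem x hx _, rfl⟩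

theorem coe_mem_normalizer_map_subtype {M : Subgroup G} (Q : Subgroup ↥M) {n : ↥M}
    (hn : n ∈ Subgroup.normalizer (Q : Set ↥M)) :
    (n : G) ∈ Subgroup.normalizer ((Q.map M.subtype : Subgroup G) : Set G) := by
  have h1 : Subgroup.zpowers (n : G) ≤
      Subgroup.normalizer ((Q.map M.subtype : Subgroup G) : Set G) := by
    apply le_normalizer_of_conj_mem
    rintro _ ⟨i, rfl⟩ _ ⟨x, hx, rfl⟩
    have hni : n ^ i ∈ Subgroup.normalizer (Q : Set ↥M) := Subgroup.zpow_mem _ hn i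
    refine ⟨n ^ i * x * (n ^ i)⁻¹, (Subgroup.mem_normalizer_iff.1 hni x).1 hx, ?_⟩
    simp
  exact h1 (Subgroup.mem_zpowers _)

variable {p : ℕ} [Fact p.Prime] {M A A₀ : Subgroup G}

/-- **B-G Theorem 11.7**: `M_σ A ⊴ M`, with the hypothesis (L1c) -/
theorem thm_11_7_aux (hG : Cfsg.IsMinSimpleOddOrder G) (hU : UniquenessThm G)
    (hPL : ∀ (r : ℕ) [Fact r.Prime] (H : Subgroup G), H ≠ ⊤ → Cfsg.PLengthLE r 1 ↥H)
    (h : Cfsg.Agent.Helper29.BG11.Exc p M A A₀) (hL1c : CyclicNormal M) :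
    M ≤ Subgroup.normalizer ((Cfsg.sigmaCore M ⊔ A : Subgroup G) : Set G) := by
  classical
  have hp : p.Prime := Fact.out
  have hM := h.hM
  have hMK := Cfsg.Agent.Helper29.BG11.le_normalizer_sigmaCore M
  haveI : Group.IsSolvable ↥M := hG.2.2.2 M hM.1
  have hoddM : Odd (Nat.card ↥M) := Odd.of_dvd_nat hG.1 (Subgroup.card_subgroup_dvd_card M)
  -- a Sylow `p`-subgroup of `M` containing `A`
  have hAp' : IsPGroup p (A.subgroupOf M) := h.isPGroup.comap_subtype
  obtain ⟨P', hAP'⟩ := hAp'.exists_le_sylow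
  have hP : IsSylowIn p ((P' : Subgroup ↥M).map M.subtype) M := isSylowIn_map_sylow P'
  have hAP : A ≤ (P' : Subgroup ↥M).map M.subtype := by
    intro a ha
    exact ⟨⟨a, h.hAM ha⟩, hAP' (Subgroup.mem_subgroupOf.2 ha), rfl⟩
  obtain ⟨hΩ, hNPA, hmain, hCA⟩ := Cfsg.Agent.Helper29.BG11.lemma_11_6' hG hU hPL h hP hAP
  obtain ⟨g, hgN, hgM⟩ := h.exists_normalizer_not_mem hP
  obtain ⟨hA₁, hA₂, hne, hf₁, hf₂, hsup⟩ := hmain g hgN hgM
  have hc₁ : Nat.card (cj g A₀) = p := by rw [card_cj]; exact h.hA0c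
  have hc₂ : Nat.card (cj g⁻¹ A₀) = p := by rw [card_cj]; exact h.hA0c
  -- `D = O_{p'}(M)`
  have hDM : (Cfsg.pPrimeCore p ↥M).map M.subtype ≤ M := Subgroup.map_subtype_le _
  have hMD : M ≤ Subgroup.normalizer (((Cfsg.pPrimeCore p ↥M).map M.subtype : Subgroup G) : Set G) :=
    le_normalizer_map_subtype_of_normal _
  have hcD : Nat.card ↥((Cfsg.pPrimeCore p ↥M).map M.subtype) = Nat.card ↥(Cfsg.pPrimeCore p ↥M) :=
    Subgroup.card_map_of_injective M.subtype_injective
  have hpD : (Nat.card ↥((Cfsg.pPrimeCore p ↥M).map M.subtype)).Coprime p := by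
    rw [hcD]; exact Cfsg.Agent.Lib.card_pPrimeCore_coprime p
  have hAD := h.hAM.trans hMD
  have hcopAD : (Nat.card A).Coprime (Nat.card ↥((Cfsg.pPrimeCore p ↥M).map M.subtype)) := by
    rw [h.hA2]
    exact Nat.Coprime.pow_left _ hpD.symm
  have hDK := hDM.trans hMK
  obtain ⟨hr2, hr1⟩ := h.rank hG hU
  have h1450 := (Cfsg.Agent.S1450.result (G := ↥M) hoddM p h.p_dvd_card_M hr2).1
  -- every element of `D` has its commutators with `A` in `M_σ`
  have hT : commIn A ((Cfsg.pPrimeCore p ↥M).map M.subtype) (Cfsg.sigmaCore M) hDK =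
      (Cfsg.pPrimeCore p ↥M).map M.subtype := by
    apply eq_of_contains_sylows (fun x hx => (mem_commIn.1 hx).1)
    intro r hr
    haveI : Fact r.Prime := ⟨hr⟩
    obtain ⟨S₀, -, hS₀, hAS₀⟩ := Cfsg.Agent.Helper55.BG103.exists_invariant_isSylowIn_ge (p := r) A
      ((Cfsg.pPrimeCore p ↥M).map M.subtype) hAD hcopAD
      (Or.inr (Group.isSolvable_of_isSolvable_injective (Subgroup.inclusion_injective hDM)))
      ⊥ bot_le IsPGroup.of_bot (by rw [Subgroup.normalizer_eq_top]; exact le_top)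
    obtain ⟨Q, hQ⟩ := Cfsg.Agent.Helper29.BG11.IsSylowIn.exists_sylow hS₀
    refine ⟨Q, ?_⟩
    rw [hQ]
    have hS₀M : S₀ ≤ M := hS₀.1.trans hDM
    by_cases hrσ : r ∈ Cfsg.sigma M
    · have hS₀K : S₀ ≤ Cfsg.sigmaCore M :=
        Cfsg.Agent.Helper29.BG11.le_sigmaCore_of_isPGroup hG hU hM hrσ hS₀.2.1 hS₀M
      intro s hs
      refine ⟨hS₀.1 hs, fun a ha => ?_⟩
      have h1 := conj_mem_of_le_normalizer hMK (h.hAM ha) (hS₀K hs)
      rw [commutatorElement_def]
      exact Subgroup.mul_mem _ h1 (Subgroup.inv_mem _ (hS₀K hs))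
    · by_cases hrp : r = p
      · -- a `p`-subgroup of the `p'`-group `D` is trivial
        have hbot : S₀ = ⊥ := by
          obtain ⟨k, hk⟩ := IsPGroup.iff_card.1 hS₀.2.1
          have hk0 : k = 0 := by
            by_contra hk0
            have h1 : p ∣ Nat.card S₀ := by
              rw [hk, hrp]; exact dvd_pow_self p hk0
            have h2 := h1.trans (Subgroup.card_dvd_of_le hS₀.1)
            exact (Nat.Prime.coprime_iff_not_dvd hp).1 hpD.symm h2
          rw [hk0, pow_zero] at hk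
          exact Subgroup.card_eq_one.1 hk
        rw [hbot]; exact bot_le
      · have hSyl : p < r → IsSylowIn r S₀ M := by
          intro hlt
          refine ⟨hS₀M, hS₀.2.1, ?_⟩
          rw [← Subgroup.relIndex_mul_relIndex S₀ _ M hS₀.1 hDM]
          intro hd
          rcases (Nat.Prime.dvd_mul hr).1 hd with h1 | h1
          · exact hS₀.2.2 h1
          · rw [relIndex_map_subtype] at h1
            have := h1450 r hr h1
            omega
        have hcent := centralizes_of_fpf hG hU hPL h hL1c hA₁ hA₂ hc₁ hc₂ hf₁ hf₂ hsup hrσ hrp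
          hS₀M hS₀.2.1 hAS₀ hSyl
        intro s hs
        refine ⟨hS₀.1 hs, fun a ha => ?_⟩
        have h1 := Subgroup.mem_centralizer_iff.1 (hcent hs) a ha
        rw [commutatorElement_def, h1]
        simp
  -- `D` normalizes `M_σ A`
  have hDN : (Cfsg.pPrimeCore p ↥M).map M.subtype ≤
      Subgroup.normalizer ((Cfsg.sigmaCore M ⊔ A : Subgroup G) : Set G) := by
    apply le_normalizer_of_conj_mem
    intro d hd u hu
    have hle : Cfsg.sigmaCore M ⊔ A ≤
        (Cfsg.sigmaCore M ⊔ A).comap (MulAut.conj d).toMonoidHom := by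
      apply sup_le
      · intro x hx
        rw [Subgroup.mem_comap]
        apply (le_sup_left : Cfsg.sigmaCore M ≤ Cfsg.sigmaCore M ⊔ A)
        simpa [MulAut.conj_apply] using conj_mem_of_le_normalizer hDK hd hx
      · intro a ha
        rw [Subgroup.mem_comap]
        have hd' : d ∈ commIn A ((Cfsg.pPrimeCore p ↥M).map M.subtype) (Cfsg.sigmaCore M) hDK := by
          rw [hT]; exact hd
        have h1 := hd'.2 a ha
        have e1 : d * a * d⁻¹ = ⁅a, d⁆⁻¹ * a := by
          simp only [commutatorElement_def]; group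
        show (MulAut.conj d) a ∈ _
        rw [MulAut.conj_apply, e1]
        exact Subgroup.mul_mem _ (le_sup_left (a := Cfsg.sigmaCore M) (Subgroup.inv_mem _ h1))
          (le_sup_right (b := A) ha)
    have := hle hu
    simpa [Subgroup.mem_comap, MulAut.conj_apply] using this
  -- `N_M(P)` normalizes `M_σ A`
  have hNN : Subgroup.normalizer ((((P' : Subgroup ↥M).map M.subtype : Subgroup G)) : Set G) ⊓ M ≤
      Subgroup.normalizer ((Cfsg.sigmaCore M ⊔ A : Subgroup G) : Set G) :=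
    sup_le_normalizer (inf_le_right.trans hMK) (inf_le_left.trans hNPA)
  intro m hm
  obtain ⟨k, hk, n, hn, hkn⟩ :=
    Cfsg.Agent.Helper54.exists_mul_of_pLengthLE_one (hPL p M hM.1) P' ⟨m, hm⟩
  have hm' : m = (k : G) * (n : G) := by
    have := congrArg Subtype.val hkn
    simpa using this.symm
  rw [hm']
  apply Subgroup.mul_mem
  · exact hDN ⟨k, hk, rfl⟩
  · exact hNN ⟨coe_mem_normalizer_map_subtype _ hn, n.2⟩

/-- **B-G Theorem 11.7**: for a `p`-exceptional maximal subgroup `M`, `M_σ A ⊴ M`. -/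
theorem thm_11_7 (hG : Cfsg.IsMinSimpleOddOrder G) (hU : UniquenessThm G)
    (hPL : ∀ (r : ℕ) [Fact r.Prime] (H : Subgroup G), H ≠ ⊤ → Cfsg.PLengthLE r 1 ↥H)
    (h : Cfsg.Agent.Helper29.BG11.Exc p M A A₀) :
    M ≤ Subgroup.normalizer ((Cfsg.sigmaCore M ⊔ A : Subgroup G) : Set G) :=
  thm_11_7_aux hG hU hPL h fun r _ hr N hNr hNM hMN =>
    Cfsg.Agent.Helper29.BG11.isCyclic_of_normal_pGroup hG hU hPL h.hM hr hNr hNM hMN

end Cfsg.Agent.Helper68.BG11
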