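import Mathlib
import Cfsg.Agent.Helper68.BG117

/-!
# B-G Lemma 12.3 (helper68)

`M ≠ H` maximal subgroups, `A ≤ M` elementary abelian of order `p ^ 2`, `A₀ ≤ A` of order `p` with
`N_G(A₀) ≤ H`.  Then `A` centralizes `M_α ∩ H` if `p ∉ α(M)`, and `A` centralizes `M_σ ∩ H` if
`p ∉ σ(M)` and `M_σ` is nilpotent.
-/

set_option autoImplicit false
set_option linter.unusedSectionVars false
set_option linter.unusedVariables false
set_option linter.style.haveILetI false

namespace Cfsg.Agent.Helper68.BG12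

open Cfsg Cfsg.Agent.Helper29.BG10 Cfsg.Agent.Helper71.Shult
open scoped commutatorElement

variable {G : Type*} [Group G] [Finite G]

/-- second isomorphism theorem for indices, `A` normalizing `S` -/
theorem relIndex_sup_of_le_normalizer {S A : Subgroup G}
    (hAS : A ≤ Subgroup.normalizer (S : Set G)) : S.relIndex (S ⊔ A) = S.relIndex A := by
  rw [sup_comm]
  let _i1 := Subgroup.normal_subgroupOf_of_le_normalizer hAS
  let _i2 := Subgroup.normal_subgroupOf_sup_of_le_normalizer hAS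
  exact Nat.card_congr (QuotientGroup.quotientInfEquivProdNormalizerQuotient A S hAS).toEquiv.symm

/-- a subgroup of `S A` of order coprime to `|A|` lies in `S` (`A` normalizing `S`) -/
theorem le_of_coprime_of_le_sup {S A Y : Subgroup G}
    (hAS : A ≤ Subgroup.normalizer (S : Set G)) (hY : Y ≤ S ⊔ A)
    (hcop : (Nat.card Y).Coprime (Nat.card A)) : Y ≤ S := by
  have hYS : Y ≤ Subgroup.normalizer (S : Set G) :=
    hY.trans (sup_le Subgroup.le_normalizer hAS)
  have h1 : S.relIndex (S ⊔ Y) = S.relIndex Y := relIndex_sup_of_le_normalizer hYS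
  have h2 : S.relIndex (S ⊔ Y) ∣ S.relIndex (S ⊔ A) := by
    rw [← Subgroup.relIndex_mul_relIndex S (S ⊔ Y) (S ⊔ A) le_sup_left (sup_le le_sup_left hY)]
    exact Dvd.intro _ rfl
  rw [relIndex_sup_of_le_normalizer hAS] at h2
  have h3 : S.relIndex Y ∣ Nat.card A := by
    rw [← h1]; exact h2.trans (Subgroup.relIndex_dvd_card S A)
  have h4 : S.relIndex Y ∣ Nat.card Y := Subgroup.relIndex_dvd_card S Y
  have h5 : S.relIndex Y = 1 := Nat.eq_one_of_dvd_coprimes hcop h4 h3
  exact Subgroup.relIndex_eq_one.1 h5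

variable {p : ℕ} [Fact p.Prime] {M H A A₀ : Subgroup G}

/-- the core of Lemma 12.3: commutators of `A` with `A`-invariant `p'`-subgroups of `H` lie in
`H_σ` -/
theorem lemma_12_3_core (hG : Cfsg.IsMinSimpleOddOrder G) (hU : UniquenessThm G)
    (hPL : ∀ (r : ℕ) [Fact r.Prime] (H : Subgroup G), H ≠ ⊤ → Cfsg.PLengthLE r 1 ↥H)
    (hH : IsCoatom H) (hA : Cfsg.IsElementaryAbelian p A) (hA2 : Nat.card A = p ^ 2)
    (hA0 : A₀ ≤ A) (hA0c : Nat.card A₀ = p) (hN : Subgroup.normalizer (A₀ : Set G) ≤ H)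
    {X : Subgroup G} (hXH : X ≤ H) (hAX : A ≤ Subgroup.normalizer (X : Set G))
    (hpX : ¬ p ∣ Nat.card X) :
    ⁅X, A⁆ ≤ X ⊓ Cfsg.sigmaCore H := by
  have hp : p.Prime := Fact.out
  have hAp : IsPGroup p A := Cfsg.Agent.Helper29.BG10.isPGroup_of_isElementaryAbelian hA
  have hA0p : IsPGroup p A₀ := hAp.to_le hA0
  have hA01 : A₀ ≠ ⊥ := by
    intro hb
    rw [hb, Subgroup.card_bot] at hA0c
    exact hp.one_lt.ne hA0c
  have hcomm := (Cfsg.Agent.Helper23.isMulCommutative_subgroup_iff A).1 hA.1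
  have hAH : A ≤ H := by
    intro a ha
    apply hN
    apply Subgroup.centralizer_le_normalizer
    rw [Subgroup.mem_centralizer_iff]
    intro b hb
    exact hcomm b (hA0 hb) a ha
  have hHK := Cfsg.Agent.Helper29.BG11.le_normalizer_sigmaCore H
  apply le_inf (Cfsg.Agent.Helper68.BG11.commutator_le_left_of_le_normalizer hAX)
  rcases Cfsg.Agent.Helper29.BG11.mem_sigma_or_rank_two hG hU hH A₀ hA0p hA01 hN with hσ | hrk
  · -- `p ∈ σ(H)`: `A ≤ H_σ`
    have hAK : A ≤ Cfsg.sigmaCore H :=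
      Cfsg.Agent.Helper29.BG11.le_sigmaCore_of_isPGroup hG hU hH hσ hAp hAH
    rw [Subgroup.commutator_le]
    intro x hx a ha
    have h1 := conj_mem_of_le_normalizer hHK (hXH hx) (hAK ha)
    rw [commutatorElement_def]
    exact Subgroup.mul_mem _ h1 (Subgroup.inv_mem _ (hAK ha))
  · -- `H` is exceptional
    by_cases hσ : p ∈ Cfsg.sigma H
    · have hAK : A ≤ Cfsg.sigmaCore H :=
        Cfsg.Agent.Helper29.BG11.le_sigmaCore_of_isPGroup hG hU hH hσ hAp hAH
      rw [Subgroup.commutator_le]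
      intro x hx a ha
      have h1 := conj_mem_of_le_normalizer hHK (hXH hx) (hAK ha)
      rw [commutatorElement_def]
      exact Subgroup.mul_mem _ h1 (Subgroup.inv_mem _ (hAK ha))
    have hexc : Cfsg.Agent.Helper29.BG11.Exc p H A A₀ := ⟨hH, hσ, hAH, hA, hA2, hA0, hA0c, hN⟩
    have h117 := Cfsg.Agent.Helper68.BG11.thm_11_7 hG hU hPL hexc
    have h1 : ⁅X, A⁆ ≤ Cfsg.sigmaCore H ⊔ A := by
      rw [Subgroup.commutator_le]
      intro x hx a ha
      have h2 := conj_mem_of_le_normalizer h117 (hXH hx) (le_sup_right (a := Cfsg.sigmaCore H) ha)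
      rw [commutatorElement_def]
      exact Subgroup.mul_mem _ h2 (Subgroup.inv_mem _ (le_sup_right (a := Cfsg.sigmaCore H) ha))
    apply le_of_coprime_of_le_sup (hAH.trans hHK) h1
    rw [hA2]
    apply Nat.Coprime.pow_right
    have h3 : Nat.card ↥⁅X, A⁆ ∣ Nat.card X :=
      Subgroup.card_dvd_of_le (Cfsg.Agent.Helper68.BG11.commutator_le_left_of_le_normalizer hAX)
    exact (Nat.Coprime.symm ((Nat.Prime.coprime_iff_not_dvd hp).2 fun hd => hpX (hd.trans h3)))

/-- **B-G Lemma 12.3** -/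
theorem lemma_12_3 (hG : Cfsg.IsMinSimpleOddOrder G) (hU : UniquenessThm G)
    (hPL : ∀ (r : ℕ) [Fact r.Prime] (H : Subgroup G), H ≠ ⊤ → Cfsg.PLengthLE r 1 ↥H)
    (hM : IsCoatom M) (hH : IsCoatom H) (hne : H ≠ M) (hAM : A ≤ M)
    (hA : Cfsg.IsElementaryAbelian p A) (hA2 : Nat.card A = p ^ 2)
    (hA0 : A₀ ≤ A) (hA0c : Nat.card A₀ = p) (hN : Subgroup.normalizer (A₀ : Set G) ≤ H) :
    (p ∉ Cfsg.alpha M → Cfsg.alphaCore M ⊓ H ≤ Subgroup.centralizer (A : Set G)) ∧
      (p ∉ Cfsg.sigma M → Group.IsNilpotent ↥(Cfsg.sigmaCore M) →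
        Cfsg.sigmaCore M ⊓ H ≤ Subgroup.centralizer (A : Set G)) := by
  have hp : p.Prime := Fact.out
  have hAp : IsPGroup p A := Cfsg.Agent.Helper29.BG10.isPGroup_of_isElementaryAbelian hA
  have hA0p : IsPGroup p A₀ := hAp.to_le hA0
  have hA01 : A₀ ≠ ⊥ := by
    intro hb
    rw [hb, Subgroup.card_bot] at hA0c
    exact hp.one_lt.ne hA0c
  have hcomm := (Cfsg.Agent.Helper23.isMulCommutative_subgroup_iff A).1 hA.1
  have hAH : A ≤ H := by
    intro a ha
    apply hN
    apply Subgroup.centralizer_le_normalizer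
    rw [Subgroup.mem_centralizer_iff]
    intro b hb
    exact hcomm b (hA0 hb) a ha
  have hMK := Cfsg.Agent.Helper29.BG11.le_normalizer_sigmaCore M
  have hAHn : A ≤ Subgroup.normalizer (H : Set G) := hAH.trans Subgroup.le_normalizer
  obtain ⟨⟨hαM, hαpi, hαidx⟩, -, hασ, -, -⟩ := thm_10_2_alpha hG hU M hM
  -- `M` normalizes `M_α`
  have hMα : M ≤ Subgroup.normalizer ((Cfsg.alphaCore M : Subgroup G) : Set G) :=
    Cfsg.Agent.Helper68.BG11.le_normalizer_map_subtype_of_normal _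
  -- the key: `X ∩ H_σ = 1` for `X = M_α ∩ H` resp. `M_σ ∩ H`
  have key : ∀ X : Subgroup G, X ≤ Cfsg.sigmaCore M → X ≤ H →
      A ≤ Subgroup.normalizer (X : Set G) → ¬ p ∣ Nat.card X →
      ((∀ g : G, cj g M ≠ H) → X ⊓ Cfsg.sigmaCore H = ⊥) →
      (p ∈ Cfsg.sigma M → ∀ g : G, cj g M ≠ H) →
      X ≤ Subgroup.centralizer (A : Set G) := by
    intro X hXK hXH hAX hpX hdis hconj
    rw [← Subgroup.commutator_eq_bot_iff_le_centralizer, eq_bot_iff]
    refine (lemma_12_3_core hG hU hPL hH hA hA2 hA0 hA0c hN hXH hAX hpX).trans ?_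
    by_cases hc : ∃ g : G, cj g M = H
    · obtain ⟨g, hg⟩ := hc
      have hgM : g ∉ M := by
        intro hgM
        apply hne
        rw [← hg, cj_eq_self_of_mem hgM]
      have hσ : p ∉ Cfsg.sigma M := fun hσ => hconj hσ g hg
      have hσH : p ∉ Cfsg.sigma H := by rw [← hg, Cfsg.Agent.Helper29.BG11.sigma_cj]; exact hσ
      have hexc : Cfsg.Agent.Helper29.BG11.Exc p H A A₀ := ⟨hH, hσH, hAH, hA, hA2, hA0, hA0c, hN⟩
      have hg' : g⁻¹ ∉ H := by
        intro hh
        apply hgM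
        have h1 := mem_cj.1 (hg ▸ hh : g⁻¹ ∈ cj g M)
        have e1 : g⁻¹ * g⁻¹ * g = g⁻¹ := by group
        rw [e1] at h1
        simpa using M.inv_mem h1
      have hMc : cj g⁻¹ H = M := by rw [← hg, cj_inv_cj]
      have h112 := (Cfsg.Agent.Helper29.BG11.lemma_11_2 hG hU hPL hexc hg'
        (by rw [hMc]; exact hAM)).1
      rw [hMc] at h112
      rw [← h112, inf_comm]
      exact inf_le_inf_left _ (hXK.trans (Cfsg.Agent.Helper29.BG11.sigmaCore_le M))
    · push Not at hc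
      rw [hdis hc]
  constructor
  · intro hpα
    apply key (Cfsg.alphaCore M ⊓ H) (inf_le_left.trans hασ) inf_le_right
      (inf_le_normalizer (hAM.trans hMα) hAHn)
    · intro hd
      exact hpα (hαpi p hp (hd.trans (Subgroup.card_dvd_of_le inf_le_left)))
    · intro hnc
      rw [eq_bot_iff, ← (Cfsg.Agent.Helper29.BG11.sigma_disjoint hG hU hM hH hnc).2.1]
      exact inf_le_inf_right _ inf_le_left
    · intro hσ
      exact Cfsg.Agent.Helper29.BG11.not_conj_of_normalizer_le hG hU hM hσ hA0p hA01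
        (hA0.trans hAM) hN hne
  · intro hpσ hnil
    apply key (Cfsg.sigmaCore M ⊓ H) inf_le_left inf_le_right
      (inf_le_normalizer (hAM.trans hMK) hAHn)
    · intro hd
      exact hpσ (Cfsg.Agent.Helper29.BG11.primes_sigmaCore M p hp
        (hd.trans (Subgroup.card_dvd_of_le inf_le_left)))
    · intro hnc
      rw [eq_bot_iff, ← ((Cfsg.Agent.Helper29.BG11.sigma_disjoint hG hU hM hH hnc).2.2 hnil).2]
      exact inf_le_inf_right _ inf_le_left
    · intro hσ
      exact absurd hσ hpσ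

end Cfsg.Agent.Helper68.BG12
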