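import Mathlib
import Cfsg.Agent.Helper68.BG123
import Cfsg.Agent.Helper22.BGCor107
import Cfsg.Agent.Helper31.BGSig

/-!
# B-G Theorem 12.4, auxiliary lemmas (helper68)
-/

set_option autoImplicit false
set_option linter.unusedSectionVars false
set_option linter.unusedVariables false
set_option linter.style.haveILetI false

namespace Cfsg.Agent.Helper68.BG12

open Cfsg Cfsg.Agent.Helper29.BG10 Cfsg.Agent.Helper71.Shult Cfsg.Agent.Helper68.BG11
open scoped commutatorElement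

variable {G : Type*} [Group G] [Finite G]

/-- a `p`-group normalizing a group of order `p` centralizes it -/
theorem le_centralizer_of_card_prime_of_isPGroup {p : ℕ} [Fact p.Prime] {A Z : Subgroup G}
    (hA : IsPGroup p A) (hZ : Nat.card Z = p)
    (hAZ : A ≤ Subgroup.normalizer (Z : Set G)) : A ≤ Subgroup.centralizer (Z : Set G) := by
  have hp : p.Prime := Fact.out
  let f : ↥A →* MulAut ↥Z := (Subgroup.normalizerMonoidHom Z).comp (Subgroup.inclusion hAZ)
  haveI : IsCyclic ↥Z := isCyclic_of_prime_card hZ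
  have h1 : Nat.card f.range ∣ Nat.card ↥A := Subgroup.card_range_dvd f
  have h2 : Nat.card f.range ∣ p - 1 := by
    have := Subgroup.card_subgroup_dvd_card f.range
    rwa [IsCyclic.card_mulAut, hZ, Nat.totient_prime hp] at this
  obtain ⟨k, hk⟩ := IsPGroup.iff_card.1 hA
  rw [hk] at h1
  have hcop : (p ^ k).Coprime (p - 1) := by
    apply Nat.Coprime.pow_left
    rw [Nat.Prime.coprime_iff_not_dvd hp]
    intro hd
    have := Nat.le_of_dvd (by have := hp.two_le; omega) hd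
    have := hp.two_le
    omega
  have h3 : Nat.card f.range = 1 := Nat.eq_one_of_dvd_coprimes hcop h1 h2
  have h4 : f.range = ⊥ := Subgroup.card_eq_one.1 h3
  intro a ha
  have h5 : f ⟨a, ha⟩ = 1 := by
    have : f ⟨a, ha⟩ ∈ f.range := ⟨_, rfl⟩
    rw [h4, Subgroup.mem_bot] at this
    exact this
  rw [Subgroup.mem_centralizer_iff]
  intro y hy
  have h6 := congrArg (fun φ : MulAut ↥Z => ((φ ⟨y, hy⟩ : ↥Z) : G)) h5
  simp only [f, MonoidHom.comp_apply, MulAut.one_apply] at h6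
  have h7 : a * y * a⁻¹ = y := h6
  calc y * a = (a * y * a⁻¹) * a := by rw [h7]
    _ = a * y := by group

/-- the normal Sylow `r`-subgroup of the nilpotent group `[E, E]` -/
theorem exists_normal_sylow_commutator {E : Subgroup G} (hEnil : Group.IsNilpotent ↥⁅E, E⁆)
    (r : ℕ) [Fact r.Prime] :
    ∃ Y : Subgroup G, Y ≤ ⁅E, E⁆ ∧ IsPGroup r Y ∧ E ≤ Subgroup.normalizer (Y : Set G) ∧
      ∀ X : Subgroup G, X ≤ ⁅E, E⁆ → IsPGroup r X → X ≤ Y := by
  have hLE : ⁅E, E⁆ ≤ E := by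
    rw [Subgroup.commutator_le]
    intro a ha b hb
    exact E.mul_mem (E.mul_mem (E.mul_mem ha hb) (E.inv_mem ha)) (E.inv_mem hb)
  have hEL : E ≤ Subgroup.normalizer ((⁅E, E⁆ : Subgroup G) : Set G) := by
    apply le_normalizer_of_conj_mem
    intro e he u hu
    have e1 : e * u * e⁻¹ = ⁅e, u⁆ * u := by
      simp only [commutatorElement_def]; group
    rw [e1]
    exact Subgroup.mul_mem _ (Subgroup.commutator_mem_commutator he (hLE hu)) hu
  obtain ⟨Y, -, hY⟩ := exists_isSylowIn_ge (p := r) (N := ⁅E, E⁆) (Y := ⊥) bot_le IsPGroup.of_bot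
  have hEY : E ≤ Subgroup.normalizer (Y : Set G) :=
    hEL.trans (Cfsg.Agent.Helper29.BG11.IsSylowIn.normalizer_le_of_isNilpotent hY hEnil)
  have hLY : ⁅E, E⁆ ≤ Subgroup.normalizer (Y : Set G) :=
    Cfsg.Agent.Helper29.BG11.IsSylowIn.le_normalizer_of_isNilpotent hY hEnil
  refine ⟨Y, hY.1, hY.2.1, hEY, ?_⟩
  intro X hXL hX
  obtain ⟨a, haL, ha⟩ :=
    Cfsg.Agent.Helper84.exists_conj_le_of_relIndex ⁅E, E⁆ Y X hY.1 hY.2.1 hY.2.2 hXL hX
  intro x hx
  have h1 := conj_inv_mem_of_le_normalizer hLY haL (ha x hx)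
  have e1 : a⁻¹ * (a * x * a⁻¹) * a = x := by group
  rwa [e1] at h1

/-- a subgroup of `M` lying in a unique maximal subgroup and in `N_G(A₀)` forces
`𝓜(N_G(A₀)) = {M}` -/
theorem unique_of_inUniqueMaximal [IsSimpleGroup G] {M X A₀ : Subgroup G} (hM : IsCoatom M)
    (hXM : X ≤ M) (hX : Cfsg.InUniqueMaximal X) (hXN : X ≤ Subgroup.normalizer (A₀ : Set G))
    (hA01 : A₀ ≠ ⊥) (hA0top : A₀ ≠ ⊤) :
    Subgroup.normalizer (A₀ : Set G) ≤ M ∧
      ∀ L : Subgroup G, IsCoatom L → Subgroup.normalizer (A₀ : Set G) ≤ L → L = M := by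
  obtain ⟨M', ⟨hM'c, hXM'⟩, huniq⟩ := hX
  have hMM' : M = M' := huniq M ⟨hM, hXM⟩
  have hall : ∀ L : Subgroup G, IsCoatom L → Subgroup.normalizer (A₀ : Set G) ≤ L → L = M := by
    intro L hL hNL
    rw [hMM']
    exact huniq L ⟨hL, hXN.trans hNL⟩
  refine ⟨?_, hall⟩
  have hNtop := Cfsg.Agent.Helper31.bgt_normalizer_ne_top_of_simple hA01 hA0top
  obtain ⟨L, hL, hNL⟩ := (eq_top_or_exists_le_coatom _).resolve_left hNtop
  rw [← hall L hL hNL]
  exact hNL

variable {p : ℕ} [Fact p.Prime] {M A : Subgroup G}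

/-- a normal subgroup of order `p` of `M` lies in every `E_{p^2}` of `M` when `r_p(M) ≤ 2` -/
theorem le_of_normal_card_prime (hr2 : Cfsg.PRankLE p 2 ↥M) (hAM : A ≤ M)
    (hA : Cfsg.IsElementaryAbelian p A) (hA2 : Nat.card A = p ^ 2) {Z : Subgroup G}
    (hZc : Nat.card Z = p) (hZM : Z ≤ M) (hMZ : M ≤ Subgroup.normalizer (Z : Set G)) :
    Z ≤ A := by
  have hp : p.Prime := Fact.out
  have hAp : IsPGroup p A := Cfsg.Agent.Helper29.BG10.isPGroup_of_isElementaryAbelian hA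
  have hAC := le_centralizer_of_card_prime_of_isPGroup hAp hZc (hAM.trans hMZ)
  have hZe : Cfsg.IsElementaryAbelian p Z := by
    refine ⟨(Cfsg.Agent.Helper23.isMulCommutative_subgroup_iff Z).2 ?_, ?_⟩
    · haveI : IsCyclic ↥Z := isCyclic_of_prime_card hZc
      intro a ha b hb
      have := (IsCyclic.isMulCommutative (α := ↥Z)).is_comm.comm (⟨a, ha⟩ : ↥Z) ⟨b, hb⟩
      exact congrArg Subtype.val this
    · intro a ha
      have h5 : (⟨a, ha⟩ : ↥Z) ^ Nat.card ↥Z = 1 := pow_card_eq_one'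
      rw [hZc] at h5
      have := congrArg Subtype.val h5
      simpa using this
  have hE : Cfsg.IsElementaryAbelian p (A ⊔ Z) := by
    apply Cfsg.Agent.Helper23.isElementaryAbelian_sup_of_commute hA hZe
    intro a ha z hz
    exact (Subgroup.mem_centralizer_iff.1 (hAC ha) z hz).symm
  have hle : Nat.card ↥(A ⊔ Z) ≤ p ^ 2 := by
    by_contra hc
    push Not at hc
    exact (Cfsg.Agent.Helper23.not_pRankLE_subgroup_iff p 2 M).2
      ⟨A ⊔ Z, sup_le hAM hZM, hE, hc⟩ hr2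
  have heq : A = A ⊔ Z := Subgroup.eq_of_le_of_card_ge le_sup_left (by rw [hA2]; exact hle)
  rw [heq]
  exact le_sup_right

end Cfsg.Agent.Helper68.BG12
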