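import Mathlib
import Cfsg.Agent.Helper68.BG124A

/-!
# B-G Theorem 12.4, the residual configuration via (SIG) (helper68)
-/

set_option autoImplicit false
set_option linter.unusedSectionVars false
set_option linter.unusedVariables false
set_option linter.style.haveILetI false

namespace Cfsg.Agent.Helper68.BG12

open Cfsg Cfsg.Agent.Helper29.BG10 Cfsg.Agent.Helper71.Shult Cfsg.Agent.Helper68.BG11
open scoped commutatorElement

variable {G : Type*} [Group G] [Finite G]
variable {p : ℕ} [Fact p.Prime] {M A : Subgroup G}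

/-- the residual configuration: `A` centralizes `Z = Ω₁(N)`, `N ⊴ M` a cyclic `r`-group containing
`[S₀, A]`, via (SIG) -/
theorem centralizes_omega_of_commutator_le (hG : Cfsg.IsMinSimpleOddOrder G)
    (hU : UniquenessThm G)
    (hPL : ∀ (r : ℕ) [Fact r.Prime] (H : Subgroup G), H ≠ ⊤ → Cfsg.PLengthLE r 1 ↥H)
    (hM : IsCoatom M) (hAM : A ≤ M) (hA : Cfsg.IsElementaryAbelian p A)
    (hA2 : Nat.card A = p ^ 2)
    (hAmax : ∀ B : Subgroup G, Cfsg.IsElementaryAbelian p B → A ≤ B → B = A)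
    {r : ℕ} [Fact r.Prime] (hrσ : r ∉ Cfsg.sigma M) (hrp : r ≠ p)
    {N Z : Subgroup G} (hNM : N ≤ M) (hNr : IsPGroup r N)
    (hMN : M ≤ Subgroup.normalizer (N : Set G)) (hZN : Z ≤ N) (hZc : Nat.card Z = r)
    (hΩ : ∀ x ∈ N, x ^ r = 1 → x ∈ Z) (hMZ : M ≤ Subgroup.normalizer (Z : Set G))
    {S₀ : Subgroup G} (hS₀M : S₀ ≤ M) (hS₀ : IsPGroup r S₀)
    (hAS : A ≤ Subgroup.normalizer (S₀ : Set G)) (hSyl : p < r → IsSylowIn r S₀ M)
    (hcomm : ∀ a ∈ A, ∀ x ∈ S₀, ⁅x, a⁆ ∈ N) :
    A ≤ Subgroup.centralizer (Z : Set G) := by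
  classical
  have hp : p.Prime := Fact.out
  have hr : r.Prime := Fact.out
  haveI : IsSimpleGroup G := hG.2.1
  have hAp : IsPGroup p A := Cfsg.Agent.Helper29.BG10.isPGroup_of_isElementaryAbelian hA
  have hAN : A ≤ Subgroup.normalizer (N : Set G) := hAM.trans hMN
  have hZ1 : Z ≠ ⊥ := by
    intro hb
    rw [hb, Subgroup.card_bot] at hZc
    exact hr.one_lt.ne hZc
  have hpN : ¬ p ∣ Nat.card N := fun hd =>
    hrp (eq_of_prime_dvd_card_of_isPGroup hNr hp hd).symm
  by_contra hcon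
  -- some element of `A` acts nontrivially, so `p < r`
  have hlt : p < r := by
    obtain ⟨a, ha, haZ⟩ := SetLike.not_le_iff_exists.1 hcon
    have ha1 : a ≠ 1 := by
      intro h1
      apply haZ
      rw [h1]; exact Subgroup.one_mem _
    have hoa : orderOf a = p := by
      have h1 : orderOf a ∣ p := orderOf_dvd_of_pow_eq_one (hA.2 a ha)
      rcases (Nat.dvd_prime hp).1 h1 with h2 | h2
      · exact absurd (orderOf_eq_one_iff.1 h2) ha1
      · exact h2
    have hc₁ : Nat.card (Subgroup.zpowers a) = p := by rw [Nat.card_zpowers, hoa]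
    have hle : Subgroup.zpowers a ≤ A := Subgroup.zpowers_le.2 ha
    apply lt_of_not_le_centralizer hc₁ hZc ((hle.trans hAM).trans hMZ) _ hrp.symm
    intro h1
    exact haZ (h1 (Subgroup.mem_zpowers a))
  have hS := hSyl hlt
  have hNS : N ≤ S₀ := hS.normal_le hNr hMN hNM
  have hNZM : Subgroup.normalizer (Z : Set G) = M :=
    Cfsg.Agent.Helper64.BG126.normalizer_eq_of_coatom hM hZ1 (hZN.trans hNM) hMZ
  obtain ⟨⟨hrk2, hrk1⟩, -, -⟩ := thm_10_6 hG hU M hM r hrσ Z hZc hNZM.le
  -- an elementary abelian subgroup of order `r ^ 2` of `S₀`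
  obtain ⟨B, hBM, hBe, hBlt⟩ := (Cfsg.Agent.Helper23.not_pRankLE_subgroup_iff r 1 M).1 hrk1
  have hBr : IsPGroup r B := Cfsg.Agent.Helper29.BG10.isPGroup_of_isElementaryAbelian hBe
  obtain ⟨m, hmM, hm⟩ :=
    Cfsg.Agent.Helper84.exists_conj_le_of_relIndex M S₀ B hS.1 hS.2.1 hS.2.2 hBM hBr
  have hWS : cj m B ≤ S₀ := by
    intro x hx
    rw [mem_cj] at hx
    have hx' := hm _ hx
    have e1 : m * (m⁻¹ * x * m) * m⁻¹ = x := by group
    rwa [e1] at hx'
  have hWe : Cfsg.IsElementaryAbelian r (cj m B) := by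
    refine ⟨(Cfsg.Agent.Helper23.isMulCommutative_subgroup_iff _).2 ?_, ?_⟩
    · intro a ha b hb
      have hc := (Cfsg.Agent.Helper23.isMulCommutative_subgroup_iff B).1 hBe.1 _ (mem_cj.1 ha) _
        (mem_cj.1 hb)
      calc a * b = m * ((m⁻¹ * a * m) * (m⁻¹ * b * m)) * m⁻¹ := by group
        _ = m * ((m⁻¹ * b * m) * (m⁻¹ * a * m)) * m⁻¹ := by rw [hc]
        _ = b * a := by group
    · intro a ha
      have := hBe.2 _ (mem_cj.1 ha)
      have e : a = m * (m⁻¹ * a * m) * m⁻¹ := by group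
      rw [e, conj_pow, this]; group
  have hWr : IsPGroup r (cj m B) := Cfsg.Agent.Helper29.BG10.isPGroup_of_isElementaryAbelian hWe
  have hWM : cj m B ≤ M := hWS.trans hS₀M
  rw [pow_one] at hBlt
  have hW2 : Nat.card (cj m B) = r ^ 2 := by
    apply card_eq_sq_of_lt_of_le hWr
    · rw [card_cj]; exact hBlt
    · by_contra hc
      push Not at hc
      exact (Cfsg.Agent.Helper23.not_pRankLE_subgroup_iff r 2 M).2 ⟨cj m B, hWM, hWe, hc⟩ hrk2
  have hWmax := maximal_of_rank_two hG hU hM hrk2 (cj m B) hWM hWe hW2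
  -- `r` divides `|C_G(A)|`
  have hrC : r ∣ Nat.card (Subgroup.centralizer (A : Set G)) := by
    by_contra hnd
    have hS₀N : S₀ ≤ N := by
      intro x hx
      obtain ⟨y, hy1, hy2⟩ := Cfsg.Agent.Helper75.ShultNil.exists_fixed_in_coset hAp hpN
        hAN x (by
          intro a ha
          have := hcomm a ha x⁻¹ (S₀.inv_mem hx)
          rw [commutatorElement_def] at this
          simpa [mul_assoc] using this)
      have hyS : y ∈ S₀ := by
        have : y = x * (x⁻¹ * y) := by group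
        rw [this]
        exact S₀.mul_mem hx (hNS hy1)
      have hyC : y ∈ Subgroup.centralizer (A : Set G) := by
        rw [Subgroup.mem_centralizer_iff]
        intro a ha
        have := hy2 a ha
        calc a * y = (a * y * a⁻¹) * a := by group
          _ = y * a := by rw [this]
      have hy1' : y = 1 := by
        by_contra hy1'
        obtain ⟨k, hk⟩ := hS₀ ⟨y, hyS⟩
        have hk' : y ^ r ^ k = 1 := by
          have := congrArg Subtype.val hk
          simpa using this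
        have ho : orderOf y ∣ r ^ k := orderOf_dvd_of_pow_eq_one hk'
        obtain ⟨j, hj, hoj⟩ := (Nat.dvd_prime_pow hr).1 ho
        have hj0 : j ≠ 0 := by
          intro h0
          rw [h0, pow_zero] at hoj
          exact hy1' (orderOf_eq_one_iff.1 hoj)
        apply hnd
        have h1 : r ∣ orderOf y := by rw [hoj]; exact dvd_pow_self r hj0
        have h2 : orderOf (⟨y, hyC⟩ : ↥(Subgroup.centralizer (A : Set G))) = orderOf y :=
          Subgroup.orderOf_mk y hyC
        exact h1.trans (h2 ▸ orderOf_dvd_natCard _)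
      rw [hy1', mul_one] at hy1
      have := N.inv_mem hy1
      simpa using this
    have hle : cj m B ≤ Z := by
      intro x hx
      exact hΩ x (hS₀N (hWS hx)) (hWe.2 x hx)
    have h4 := Subgroup.card_le_of_le hle
    rw [hW2, hZc] at h4
    have : r < r ^ 2 := by rw [pow_two]; exact lt_mul_self hr.one_lt
    omega
  have hsig := Cfsg.Agent.Helper31.BGSig.sig hG hPL
    (fun q _ P => Cfsg.Agent.Helper22.BGCor107.sylow_le_commutator_normalizer hG hU
      (fun q _ H hH => hPL q H hH) P)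
    A hA hA2 hAmax hr hrp hrC S₀ hS₀ hAS (cj m B) hWe hW2 hWS hWmax
  exact hcon (hsig.trans (Subgroup.centralizer_le (hZN.trans hNS)))

/-- the tail: `A` centralizes an `A`-invariant `r`-subgroup `S₀` of `M` whose commutator with `A`
lies in a cyclic normal `r`-subgroup of `M` -/
theorem centralizes_of_commutator_le_cyclic (hG : Cfsg.IsMinSimpleOddOrder G)
    (hU : UniquenessThm G)
    (hPL : ∀ (r : ℕ) [Fact r.Prime] (H : Subgroup G), H ≠ ⊤ → Cfsg.PLengthLE r 1 ↥H)
    (hM : IsCoatom M) (hAM : A ≤ M) (hA : Cfsg.IsElementaryAbelian p A)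
    (hA2 : Nat.card A = p ^ 2)
    (hAmax : ∀ B : Subgroup G, Cfsg.IsElementaryAbelian p B → A ≤ B → B = A)
    {r : ℕ} [Fact r.Prime] (hrσ : r ∉ Cfsg.sigma M) (hrp : r ≠ p)
    {N : Subgroup G} (hNM : N ≤ M) (hNr : IsPGroup r N)
    (hMN : M ≤ Subgroup.normalizer (N : Set G)) (hNcyc : IsCyclic ↥N)
    {S₀ : Subgroup G} (hS₀M : S₀ ≤ M) (hS₀ : IsPGroup r S₀)
    (hAS : A ≤ Subgroup.normalizer (S₀ : Set G)) (hSyl : p < r → IsSylowIn r S₀ M)
    (hXN : ⁅S₀, A⁆ ≤ N) :
    S₀ ≤ Subgroup.centralizer (A : Set G) := by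
  have hp : p.Prime := Fact.out
  have hr : r.Prime := Fact.out
  have hAN : A ≤ Subgroup.normalizer (N : Set G) := hAM.trans hMN
  by_cases hN1 : N = ⊥
  · rw [← Subgroup.commutator_eq_bot_iff_le_centralizer, eq_bot_iff, ← hN1]
    exact hXN
  obtain ⟨Z, hZN, hZc, hΩ, hNZ⟩ := exists_omega_of_isCyclic hNcyc hNr hN1
  have hMZ : M ≤ Subgroup.normalizer (Z : Set G) := hMN.trans hNZ
  have hr2 : r ≠ 2 := by
    intro h2
    have hodd : Odd (Nat.card ↥Z) := Odd.of_dvd_nat hG.1 (Subgroup.card_subgroup_dvd_card Z)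
    rw [hZc, h2] at hodd
    exact absurd hodd (by decide)
  have hAZ : A ≤ Subgroup.centralizer (Z : Set G) :=
    centralizes_omega_of_commutator_le hG hU hPL hM hAM hA hA2 hAmax hrσ hrp hNM hNr hMN hZN hZc
      hΩ hMZ hS₀M hS₀ hAS hSyl
      (fun a ha x hx => hXN (Subgroup.commutator_mem_commutator hx ha))
  have hZe : Cfsg.IsElementaryAbelian r Z := by
    refine ⟨(Cfsg.Agent.Helper23.isMulCommutative_subgroup_iff Z).2 ?_, ?_⟩
    · haveI : IsCyclic ↥Z := isCyclic_of_prime_card hZc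
      intro a ha b hb
      have := (IsCyclic.isMulCommutative (α := ↥Z)).is_comm.comm (⟨a, ha⟩ : ↥Z) ⟨b, hb⟩
      exact congrArg Subtype.val this
    · intro a ha
      have h5 : (⟨a, ha⟩ : ↥Z) ^ Nat.card ↥Z = 1 := pow_card_eq_one'
      rw [hZc] at h5
      have := congrArg Subtype.val h5
      simpa using this
  have hcopA : (Nat.card A).Coprime r := by
    rw [hA2]
    exact Nat.Coprime.pow_left _ ((Nat.coprime_primes hp hr).2 hrp.symm)
  have hACN : A ≤ Subgroup.centralizer (N : Set G) := by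
    apply Cfsg.Agent.S1443.result r hr2 N Z A hNr hZN hZe hAN hcopA
    intro x hx hox
    have hxZ : x ∈ Z := by
      apply hΩ x hx.1
      rw [← hox]; exact pow_orderOf_eq_one x
    exact hAZ.trans (Subgroup.centralizer_le (by simpa using hxZ))
  have hNCA : N ≤ Subgroup.centralizer (A : Set G) := le_centralizer_symm hACN
  rw [← Subgroup.commutator_eq_bot_iff_le_centralizer]
  apply Cfsg.Agent.Helper75.ShultNil.comm_eq_bot_of_comm_comm_eq_bot hS₀ hcopA hAS
  rw [Subgroup.commutator_eq_bot_iff_le_centralizer]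
  exact hXN.trans hNCA

end Cfsg.Agent.Helper68.BG12
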