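import Mathlib
import Cfsg.Agent.Helper68.BG124B
import Cfsg.Agent.Helper48.CoprimeGen

/-!
# B-G Theorem 12.4, first steps (helper68)

`Case2 p M A`: no subgroup `A₀` of order `p` of `A` has `𝓜(N_G(A₀)) = {M}`.
Under `Case2`: `p ∉ α(M)`, `M_α = 1`, `M_σ` nilpotent.
-/

set_option autoImplicit false
set_option linter.unusedSectionVars false
set_option linter.unusedVariables false
set_option linter.style.haveILetI false

namespace Cfsg.Agent.Helper68.BG12

open Cfsg Cfsg.Agent.Helper29.BG10 Cfsg.Agent.Helper71.Shult Cfsg.Agent.Helper68.BG11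
open scoped commutatorElement

variable {G : Type*} [Group G] [Finite G]
variable {p : ℕ} [Fact p.Prime] {M A : Subgroup G}

/-- no point `A₀` of `A` has `𝓜(N_G(A₀)) = {M}` -/
def Case2 (p : ℕ) (M A : Subgroup G) : Prop :=
  ∀ A₀ : Subgroup G, A₀ ≤ A → Nat.card A₀ = p →
    ¬ (Subgroup.normalizer (A₀ : Set G) ≤ M ∧
      ∀ L : Subgroup G, IsCoatom L → Subgroup.normalizer (A₀ : Set G) ≤ L → L = M)

/-- the point generated by a non-identity element of `A` -/
theorem point_of_ne_one (hA : Cfsg.IsElementaryAbelian p A) {a : G} (ha : a ∈ A) (ha1 : a ≠ 1) :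
    Subgroup.zpowers a ≤ A ∧ Nat.card (Subgroup.zpowers a) = p := by
  have hp : p.Prime := Fact.out
  refine ⟨Subgroup.zpowers_le.2 ha, ?_⟩
  rw [Nat.card_zpowers]
  have h1 : orderOf a ∣ p := orderOf_dvd_of_pow_eq_one (hA.2 a ha)
  rcases (Nat.dvd_prime hp).1 h1 with h2 | h2
  · exact absurd (orderOf_eq_one_iff.1 h2) ha1
  · exact h2

theorem ne_bot_of_card_sq (hA2 : Nat.card A = p ^ 2) : A ≠ ⊥ := by
  have hp : p.Prime := Fact.out
  intro hb
  rw [hb, Subgroup.card_bot] at hA2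
  have : 1 < p ^ 2 := Nat.one_lt_pow (by norm_num) hp.one_lt
  omega

theorem ne_bot_of_card_prime {A₀ : Subgroup G} (hA0c : Nat.card A₀ = p) : A₀ ≠ ⊥ := by
  have hp : p.Prime := Fact.out
  intro hb
  rw [hb, Subgroup.card_bot] at hA0c
  exact hp.one_lt.ne hA0c

theorem le_normalizer_of_le_of_comm (hA : Cfsg.IsElementaryAbelian p A) {A₀ : Subgroup G}
    (hA0 : A₀ ≤ A) : A ≤ Subgroup.normalizer (A₀ : Set G) := by
  have hcomm := (Cfsg.Agent.Helper23.isMulCommutative_subgroup_iff A).1 hA.1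
  intro a ha
  apply Subgroup.centralizer_le_normalizer
  rw [Subgroup.mem_centralizer_iff]
  intro b hb
  exact hcomm b (hA0 hb) a ha

/-- under `Case2`, `A` is not a uniqueness subgroup -/
theorem Case2.not_inUniqueMaximal (hG : Cfsg.IsMinSimpleOddOrder G) (hM : IsCoatom M)
    (hAM : A ≤ M) (hA : Cfsg.IsElementaryAbelian p A) (hA2 : Nat.card A = p ^ 2)
    (hall : Case2 p M A) {X A₀ : Subgroup G} (hXM : X ≤ M) (hX : Cfsg.InUniqueMaximal X)
    (hA0 : A₀ ≤ A) (hA0c : Nat.card A₀ = p) (hXN : X ≤ Subgroup.normalizer (A₀ : Set G)) :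
    False := by
  haveI : IsSimpleGroup G := hG.2.1
  have hAp : IsPGroup p A := Cfsg.Agent.Helper29.BG10.isPGroup_of_isElementaryAbelian hA
  exact hall A₀ hA0 hA0c (unique_of_inUniqueMaximal hM hXM hX hXN (ne_bot_of_card_prime hA0c)
    (isPGroup_ne_top hG (hAp.to_le hA0)))

/-- under `Case2`, `C_G(A)` has rank at most two -/
theorem Case2.false_of_centralizer_rank (hG : Cfsg.IsMinSimpleOddOrder G) (hU : UniquenessThm G)
    (hM : IsCoatom M) (hAM : A ≤ M) (hA : Cfsg.IsElementaryAbelian p A)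
    (hA2 : Nat.card A = p ^ 2) (hall : Case2 p M A) {q : ℕ} (hq : q.Prime) {B : Subgroup G}
    (hBe : Cfsg.IsElementaryAbelian q B) (hBC : B ≤ Subgroup.centralizer (A : Set G))
    (hB : q ^ 2 < Nat.card B) : False := by
  have hp : p.Prime := Fact.out
  have hAp : IsPGroup p A := Cfsg.Agent.Helper29.BG10.isPGroup_of_isElementaryAbelian hA
  have h1 : ¬ Cfsg.PRankLE q 2 ↥(Subgroup.centralizer (A : Set G)) :=
    (Cfsg.Agent.Helper23.not_pRankLE_subgroup_iff q 2 _).2 ⟨B, hBC, hBe, hB⟩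
  have hAU : Cfsg.InUniqueMaximal A :=
    hU A (isPGroup_ne_top hG hAp) (fun h => not_pRankLE_one_of_card_sq hA hA2 (h p hp))
      (Or.inr fun h => h1 (h q hq))
  obtain ⟨a, ha1⟩ := (Subgroup.ne_bot_iff_exists_ne_one).1 (ne_bot_of_card_sq hA2)
  have ha1' : (a : G) ≠ 1 := fun h => ha1 (Subtype.ext h)
  obtain ⟨hle, hc⟩ := point_of_ne_one hA a.2 ha1'
  exact hall.not_inUniqueMaximal hG hM hAM hA hA2 hAM hAU hle hc (le_normalizer_of_le_of_comm hA hle)

/-- under `Case2`, every point has a maximal subgroup `H ≠ M` over its normalizer -/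
theorem Case2.exists_coatom (hG : Cfsg.IsMinSimpleOddOrder G) (hA : Cfsg.IsElementaryAbelian p A)
    (hall : Case2 p M A) {A₀ : Subgroup G} (hA0 : A₀ ≤ A) (hA0c : Nat.card A₀ = p) :
    ∃ H : Subgroup G, IsCoatom H ∧ H ≠ M ∧ Subgroup.normalizer (A₀ : Set G) ≤ H := by
  haveI : IsSimpleGroup G := hG.2.1
  have hAp : IsPGroup p A := Cfsg.Agent.Helper29.BG10.isPGroup_of_isElementaryAbelian hA
  have hNtop := Cfsg.Agent.Helper31.bgt_normalizer_ne_top_of_simple (ne_bot_of_card_prime hA0c)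
    (isPGroup_ne_top hG (hAp.to_le hA0))
  obtain ⟨L, hL, hNL⟩ := (eq_top_or_exists_le_coatom _).resolve_left hNtop
  by_cases hLM : L = M
  · have h1 := hall A₀ hA0 hA0c
    rw [not_and] at h1
    have h2 := h1 (hLM ▸ hNL)
    push Not at h2
    obtain ⟨L', hL', hNL', hne⟩ := h2
    exact ⟨L', hL', hne, hNL'⟩
  · exact ⟨L, hL, hLM, hNL⟩

/-- under `Case2`, `p ∉ α(M)` -/
theorem Case2.not_mem_alpha (hG : Cfsg.IsMinSimpleOddOrder G) (hU : UniquenessThm G)
    (hM : IsCoatom M) (hAM : A ≤ M) (hA : Cfsg.IsElementaryAbelian p A)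
    (hA2 : Nat.card A = p ^ 2) (hall : Case2 p M A) : p ∉ Cfsg.alpha M := by
  classical
  have hp : p.Prime := Fact.out
  have hAp : IsPGroup p A := Cfsg.Agent.Helper29.BG10.isPGroup_of_isElementaryAbelian hA
  have hcomm := (Cfsg.Agent.Helper23.isMulCommutative_subgroup_iff A).1 hA.1
  intro hα
  obtain ⟨P, hAP, hP⟩ := exists_isSylowIn_ge hAM hAp
  have hrkP : ¬ Cfsg.PRankLE p 2 ↥P := fun h => hα.2 (pRankLE_of_isSylowIn hP h)
  have hPU := uniq_of_uniquenessThm hG hU P hP.2.1 hrkP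
  have hP1 : P ≠ ⊥ := fun hb => ne_bot_of_card_sq hA2 (le_bot_iff.1 (hb ▸ hAP))
  have hZ1 := Cfsg.Agent.Helper29.BG11.omegaZ_ne_bot hP.2.1 hP1
  have hZC := Cfsg.Agent.Helper29.BG11.omegaZ_le_centralizer p P
  by_cases hZA : Cfsg.Agent.Helper29.BG11.omegaZ p P ≤ A
  · obtain ⟨z, hz1⟩ := (Subgroup.ne_bot_iff_exists_ne_one).1 hZ1
    have hz1' : (z : G) ≠ 1 := fun h => hz1 (Subtype.ext h)
    obtain ⟨hle, hc⟩ := point_of_ne_one hA (hZA z.2) hz1'
    apply hall.not_inUniqueMaximal hG hM hAM hA hA2 hP.1 hPU hle hc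
    intro x hx
    apply Subgroup.centralizer_le_normalizer
    rw [Subgroup.mem_centralizer_iff]
    rintro _ ⟨i, rfl⟩
    have h1 := Subgroup.mem_centralizer_iff.1 (hZC z.2) x hx
    exact ((Commute.zpow_left (show Commute (z : G) x from h1.symm) i)).eq
  · have hBe : Cfsg.IsElementaryAbelian p (A ⊔ Cfsg.Agent.Helper29.BG11.omegaZ p P) := by
      apply Cfsg.Agent.Helper23.isElementaryAbelian_sup_of_commute hA
        (Cfsg.Agent.Helper29.BG11.isElementaryAbelian_omegaZ p P)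
      intro a ha z hz
      exact (Subgroup.mem_centralizer_iff.1 (hZC hz) a (hAP ha))
    have hBC : A ⊔ Cfsg.Agent.Helper29.BG11.omegaZ p P ≤ Subgroup.centralizer (A : Set G) := by
      apply sup_le
      · intro a ha
        rw [Subgroup.mem_centralizer_iff]
        intro b hb
        exact hcomm b hb a ha
      · exact hZC.trans (Subgroup.centralizer_le hAP)
    have hcard : p ^ 2 < Nat.card ↥(A ⊔ Cfsg.Agent.Helper29.BG11.omegaZ p P) := by
      rw [← hA2]
      rcases lt_or_eq_of_le (Subgroup.card_le_of_le (le_sup_left :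
        A ≤ A ⊔ Cfsg.Agent.Helper29.BG11.omegaZ p P)) with h | h
      · exact h
      · exfalso
        apply hZA
        have := Subgroup.eq_of_le_of_card_ge (le_sup_left :
          A ≤ A ⊔ Cfsg.Agent.Helper29.BG11.omegaZ p P) (le_of_eq h.symm)
        rw [this]
        exact le_sup_right
    exact hall.false_of_centralizer_rank hG hU hM hAM hA hA2 hp hBe hBC hcard

/-- coprime generation over the points of `A`: if for every point `A₀` of `A` and every maximal
subgroup `H ≠ M` over `N_G(A₀)` the group `A` centralizes `X ∩ H`, then `A` centralizes `X` -/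
theorem Case2.le_centralizer_of_points (hG : Cfsg.IsMinSimpleOddOrder G)
    (hA : Cfsg.IsElementaryAbelian p A) (hA2 : Nat.card A = p ^ 2) (hall : Case2 p M A)
    {X : Subgroup G} (hpX : ¬ p ∣ Nat.card X) (hAX : A ≤ Subgroup.normalizer (X : Set G))
    (hpt : ∀ A₀ : Subgroup G, A₀ ≤ A → Nat.card A₀ = p → ∀ H : Subgroup G, IsCoatom H → H ≠ M →
      Subgroup.normalizer (A₀ : Set G) ≤ H → X ⊓ H ≤ Subgroup.centralizer (A : Set G)) :
    X ≤ Subgroup.centralizer (A : Set G) := by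
  have hcomm := (Cfsg.Agent.Helper23.isMulCommutative_subgroup_iff A).1 hA.1
  refine (Cfsg.Agent.Helper48.le_cgen X A hpX hAX ⟨hcomm, hA.2, hA2⟩).trans ?_
  unfold Cfsg.Agent.Helper48.cgen
  apply iSup_le
  rintro ⟨b, hb, hb1⟩
  obtain ⟨hle, hc⟩ := point_of_ne_one hA hb hb1
  obtain ⟨H, hH, hHne, hNH⟩ := hall.exists_coatom hG hA hle hc
  refine le_trans ?_ (hpt _ hle hc H hH hHne hNH)
  apply inf_le_inf_left
  intro x hx
  apply hNH
  apply Subgroup.centralizer_le_normalizer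
  rw [Cfsg.Agent.Helper29.BG11.centralizer_zpowers]
  exact hx

/-- under `Case2`, `M_α = 1` -/
theorem Case2.alphaCore_eq_bot (hG : Cfsg.IsMinSimpleOddOrder G) (hU : UniquenessThm G)
    (hPL : ∀ (r : ℕ) [Fact r.Prime] (H : Subgroup G), H ≠ ⊤ → Cfsg.PLengthLE r 1 ↥H)
    (hM : IsCoatom M) (hAM : A ≤ M) (hA : Cfsg.IsElementaryAbelian p A)
    (hA2 : Nat.card A = p ^ 2) (hall : Case2 p M A) : Cfsg.alphaCore M = ⊥ := by
  classical
  have hp : p.Prime := Fact.out
  have hpα := hall.not_mem_alpha hG hU hM hAM hA hA2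
  obtain ⟨⟨hαM, hαpi, hαidx⟩, -, hασ, -, -⟩ := thm_10_2_alpha hG hU M hM
  by_contra hne
  have hcent : Cfsg.alphaCore M ≤ Subgroup.centralizer (A : Set G) := by
    apply hall.le_centralizer_of_points hG hA hA2
    · intro hd
      exact hpα (hαpi p hp hd)
    · exact hAM.trans (le_normalizer_map_subtype_of_normal _)
    · intro A₀ hA0 hA0c H hH hHne hNH
      exact (lemma_12_3 hG hU hPL hM hH hHne hAM hA hA2 hA0 hA0c hNH).1 hpα
  -- a subgroup of rank three of `M_α`
  have hcard : Nat.card (Cfsg.alphaCore M) ≠ 1 := fun h => hne (Subgroup.card_eq_one.1 h)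
  obtain ⟨q, hq, hqd⟩ := Nat.exists_prime_and_dvd hcard
  haveI : Fact q.Prime := ⟨hq⟩
  have hqα := hαpi q hq hqd
  obtain ⟨B, hBM, hBe, hBlt⟩ := (Cfsg.Agent.Helper23.not_pRankLE_subgroup_iff q 2 M).1 hqα.2
  have hBq : IsPGroup q B := Cfsg.Agent.Helper29.BG10.isPGroup_of_isElementaryAbelian hBe
  have hBα : B ≤ Cfsg.alphaCore M := by
    have h1 : B.subgroupOf M ≤ Cfsg.piCore (Cfsg.alpha M) ↥M := by
      apply le_of_index_coprime _ _ _ hBq.comap_subtype
      have h4 := (thm_10_2_core hG hU hM).1 q hq hqα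
      exact (Nat.Coprime.symm ((Nat.Prime.coprime_iff_not_dvd hq).2 h4))
    intro x hx
    exact ⟨⟨x, hBM hx⟩, h1 (Subgroup.mem_subgroupOf.2 hx), rfl⟩
  exact hall.false_of_centralizer_rank hG hU hM hAM hA hA2 hq hBe (hBα.trans hcent) hBlt

end Cfsg.Agent.Helper68.BG12
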