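import Mathlib
import Cfsg.Agent.Helper68.BG124C
import Cfsg.Agent.Helper50.BG134
import Cfsg.Agent.Helper4.BG36DualHH
import Cfsg.Agent.Helper1.Compl

/-!
# B-G Theorem 12.4 (helper68)
-/

set_option autoImplicit false
set_option linter.unusedSectionVars false
set_option linter.unusedVariables false
set_option linter.style.haveILetI false

namespace Cfsg.Agent.Helper68.BG12

open Cfsg Cfsg.Agent.Helper29.BG10 Cfsg.Agent.Helper71.Shult Cfsg.Agent.Helper68.BG11
open scoped commutatorElement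

variable {G : Type*} [Group G] [Finite G]

/-- `M_α = 1` forces `r(M) ≤ 2` -/
theorem rankLE_two_of_alphaCore_eq_bot (hG : Cfsg.IsMinSimpleOddOrder G) (hU : UniquenessThm G)
    {M : Subgroup G} (hM : IsCoatom M) (hα : Cfsg.alphaCore M = ⊥) : Cfsg.RankLE 2 ↥M := by
  intro q hq
  by_contra hcon
  haveI : Fact q.Prime := ⟨hq⟩
  have hqα : q ∈ Cfsg.alpha M := ⟨hq, hcon⟩
  obtain ⟨⟨hαM, hαpi, hαidx⟩, -⟩ := thm_10_2_alpha hG hU M hM
  have h1 := hαidx q hq hqα
  rw [hα, Subgroup.relIndex_bot_left] at h1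
  obtain ⟨B, hBM, hBe, hBlt⟩ := (Cfsg.Agent.Helper23.not_pRankLE_subgroup_iff q 2 M).1 hcon
  have hBq : IsPGroup q B := Cfsg.Agent.Helper29.BG10.isPGroup_of_isElementaryAbelian hBe
  apply h1
  obtain ⟨k, hk⟩ := IsPGroup.iff_card.1 hBq
  have hk0 : k ≠ 0 := by
    intro h0
    rw [hk, h0, pow_zero] at hBlt
    have := hq.one_lt
    nlinarith
  have h2 : q ∣ Nat.card B := by rw [hk]; exact dvd_pow_self q hk0
  exact h2.trans (Subgroup.card_dvd_of_le hBM)

theorem isNilpotent_commutator_of_rankLE_two (hG : Cfsg.IsMinSimpleOddOrder G)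
    {M : Subgroup G} (hM : IsCoatom M) (hrank : Cfsg.RankLE 2 ↥M) :
    Group.IsNilpotent ↥⁅M, M⁆ := by
  haveI : Group.IsSolvable ↥M := hG.2.2.2 M hM.1
  have hodd : Odd (Nat.card ↥M) := Odd.of_dvd_nat hG.1 (Subgroup.card_subgroup_dvd_card M)
  haveI h1 : Group.IsNilpotent ↥(commutator ↥M) :=
    (Cfsg.Agent.S1451.result (G := ↥M) hodd (Or.inl hrank)).1
  rw [← Subgroup.map_subtype_commutator]
  exact Group.nilpotent_of_mulEquiv
    ((commutator ↥M).equivMapOfInjective M.subtype M.subtype_injective)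

/-- `r(M) ≤ 2` forces `M_σ` nilpotent -/
theorem isNilpotent_sigmaCore_of_rankLE_two (hG : Cfsg.IsMinSimpleOddOrder G)
    (hU : UniquenessThm G) {M : Subgroup G} (hM : IsCoatom M) (hrank : Cfsg.RankLE 2 ↥M) :
    Group.IsNilpotent ↥(Cfsg.sigmaCore M) := by
  haveI : Group.IsSolvable ↥M := hG.2.2.2 M hM.1
  have hodd : Odd (Nat.card ↥M) := Odd.of_dvd_nat hG.1 (Subgroup.card_subgroup_dvd_card M)
  have h1 : Group.IsNilpotent ↥(commutator ↥M) :=
    (Cfsg.Agent.S1451.result (G := ↥M) hodd (Or.inl hrank)).1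
  have h2 := Cfsg.Agent.Helper50.BG13.piCore_sigma_le_commutator hG hU hM
  haveI h3 : Group.IsNilpotent ↥(Cfsg.piCore (Cfsg.sigma M) ↥M) := isNilpotent_of_le h2 h1
  unfold Cfsg.sigmaCore
  exact Group.nilpotent_of_mulEquiv
    ((Cfsg.piCore (Cfsg.sigma M) ↥M).equivMapOfInjective M.subtype M.subtype_injective)

variable {p : ℕ} [Fact p.Prime] {M A : Subgroup G}

theorem eq_of_coatom_le {M L : Subgroup G} (hM : IsCoatom M) (hL : IsCoatom L) (h : M ≤ L) :
    L = M := by
  by_contra hne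
  exact hL.1 (hM.2 L (lt_of_le_of_ne h (Ne.symm hne)))

/-- under `Case2`, `p ∈ σ(M)` -/
theorem Case2.mem_sigma (hG : Cfsg.IsMinSimpleOddOrder G) (hU : UniquenessThm G)
    (hPL : ∀ (r : ℕ) [Fact r.Prime] (H : Subgroup G), H ≠ ⊤ → Cfsg.PLengthLE r 1 ↥H)
    (hM : IsCoatom M) (hAM : A ≤ M) (hA : Cfsg.IsElementaryAbelian p A)
    (hA2 : Nat.card A = p ^ 2) (hall : Case2 p M A) : p ∈ Cfsg.sigma M := by
  classical
  have hp : p.Prime := Fact.out
  haveI : IsSimpleGroup G := hG.2.1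
  by_contra hpσ
  have hAp : IsPGroup p A := Cfsg.Agent.Helper29.BG10.isPGroup_of_isElementaryAbelian hA
  have hpα := hall.not_mem_alpha hG hU hM hAM hA hA2
  have hα := hall.alphaCore_eq_bot hG hU hPL hM hAM hA hA2
  have hrank := rankLE_two_of_alphaCore_eq_bot hG hU hM hα
  have hnil := isNilpotent_sigmaCore_of_rankLE_two hG hU hM hrank
  have hr2 : Cfsg.PRankLE p 2 ↥M := hrank p hp
  have hAmax := maximal_of_rank_two hG hU hM hr2 A hAM hA hA2
  haveI : Group.IsSolvable ↥M := hG.2.2.2 M hM.1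
  have hoddM : Odd (Nat.card ↥M) := Odd.of_dvd_nat hG.1 (Subgroup.card_subgroup_dvd_card M)
  have hMK := Cfsg.Agent.Helper29.BG11.le_normalizer_sigmaCore M
  have hpM : p ∣ Nat.card ↥M := by
    have h1 : p ∣ Nat.card A := by rw [hA2]; exact dvd_pow_self p (by norm_num)
    exact h1.trans (Subgroup.card_dvd_of_le hAM)
  -- `A` centralizes `M_σ`
  have hKA : Cfsg.sigmaCore M ≤ Subgroup.centralizer (A : Set G) := by
    apply hall.le_centralizer_of_points hG hA hA2
    · intro hd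
      exact hpσ (Cfsg.Agent.Helper29.BG11.primes_sigmaCore M p hp hd)
    · exact hAM.trans hMK
    · intro A₀ hA0 hA0c H hH hHne hNH
      exact (lemma_12_3 hG hU hPL hM hH hHne hAM hA hA2 hA0 hA0c hNH).2 hpσ hnil
  have hMnil := isNilpotent_commutator_of_rankLE_two hG hM hrank
  have hLM : ⁅M, M⁆ ≤ M := by
    rw [Subgroup.commutator_le]
    intro a ha b hb
    exact M.mul_mem (M.mul_mem (M.mul_mem ha hb) (M.inv_mem ha)) (M.inv_mem hb)
  -- `D = O_{p'}(M)`
  have hDM : (Cfsg.pPrimeCore p ↥M).map M.subtype ≤ M := Subgroup.map_subtype_le _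
  have hMD : M ≤ Subgroup.normalizer (((Cfsg.pPrimeCore p ↥M).map M.subtype : Subgroup G) : Set G) :=
    le_normalizer_map_subtype_of_normal _
  have hcD : Nat.card ↥((Cfsg.pPrimeCore p ↥M).map M.subtype) = Nat.card ↥(Cfsg.pPrimeCore p ↥M) :=
    Subgroup.card_map_of_injective M.subtype_injective
  have hpD : (Nat.card ↥((Cfsg.pPrimeCore p ↥M).map M.subtype)).Coprime p := by
    rw [hcD]; exact Cfsg.Agent.Lib.card_pPrimeCore_coprime p
  have hAD := hAM.trans hMD
  have hcopAD : (Nat.card A).Coprime (Nat.card ↥((Cfsg.pPrimeCore p ↥M).map M.subtype)) := by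
    rw [hA2]
    exact Nat.Coprime.pow_left _ hpD.symm
  have h1450 := (Cfsg.Agent.S1450.result (G := ↥M) hoddM p hpM hr2).1
  -- `A` centralizes `D`
  have hT : (Cfsg.pPrimeCore p ↥M).map M.subtype ⊓ Subgroup.centralizer (A : Set G) =
      (Cfsg.pPrimeCore p ↥M).map M.subtype := by
    apply eq_of_contains_sylows inf_le_left
    intro r hr
    haveI : Fact r.Prime := ⟨hr⟩
    obtain ⟨S₀, -, hS₀, hAS₀⟩ := Cfsg.Agent.Helper55.BG103.exists_invariant_isSylowIn_ge (p := r) A
      ((Cfsg.pPrimeCore p ↥M).map M.subtype) hAD hcopAD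
      (Or.inr (Group.isSolvable_of_isSolvable_injective (Subgroup.inclusion_injective hDM)))
      ⊥ bot_le IsPGroup.of_bot (by rw [Subgroup.normalizer_eq_top]; exact le_top)
    obtain ⟨Q, hQ⟩ := Cfsg.Agent.Helper29.BG11.IsSylowIn.exists_sylow hS₀
    refine ⟨Q, ?_⟩
    rw [hQ]
    have hS₀M : S₀ ≤ M := hS₀.1.trans hDM
    apply le_inf hS₀.1
    by_cases hrσ : r ∈ Cfsg.sigma M
    · exact (Cfsg.Agent.Helper29.BG11.le_sigmaCore_of_isPGroup hG hU hM hrσ hS₀.2.1 hS₀M).trans hKA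
    · by_cases hrp : r = p
      · have hbot : S₀ = ⊥ := by
          obtain ⟨k, hk⟩ := IsPGroup.iff_card.1 hS₀.2.1
          have hk0 : k = 0 := by
            by_contra hk0
            have h1 : p ∣ Nat.card S₀ := by
              rw [hk, hrp]; exact dvd_pow_self p hk0
            have h2 := h1.trans (Subgroup.card_dvd_of_le hS₀.1)
            exact (Nat.Prime.coprime_iff_not_dvd hp).1 hpD.symm h2
          rw [hk0, pow_zero] at hk
          exact Subgroup.card_eq_one.1 hk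
        rw [hbot]; exact bot_le
      · have hSyl : p < r → IsSylowIn r S₀ M := by
          intro hlt
          refine ⟨hS₀M, hS₀.2.1, ?_⟩
          rw [← Subgroup.relIndex_mul_relIndex S₀ _ M hS₀.1 hDM]
          intro hd
          rcases (Nat.Prime.dvd_mul hr).1 hd with h1 | h1
          · exact hS₀.2.2 h1
          · rw [relIndex_map_subtype] at h1
            have := h1450 r hr h1
            omega
        obtain ⟨Y, hYL, hYr, hMY, hYall⟩ := exists_normal_sylow_commutator hMnil r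
        have hYM : Y ≤ M := hYL.trans hLM
        have hYcyc := Cfsg.Agent.Helper29.BG11.isCyclic_of_normal_pGroup hG hU hPL hM hrσ hYr hYM hMY
        have hXY : ⁅S₀, A⁆ ≤ Y :=
          hYall _ (Subgroup.commutator_mono hS₀M hAM)
            (hS₀.2.1.to_le (commutator_le_left_of_le_normalizer hAS₀))
        exact centralizes_of_commutator_le_cyclic hG hU hPL hM hAM hA hA2 hAmax hrσ hrp hYM hYr
          hMY hYcyc hS₀M hS₀.2.1 hAS₀ hSyl hXY
  -- `O_p(M) = 1`
  have hcore : Cfsg.pCore p ↥M = ⊥ := by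
    by_contra hne
    have hRM : (Cfsg.pCore p ↥M).map M.subtype ≤ M := Subgroup.map_subtype_le _
    have hMR : M ≤ Subgroup.normalizer (((Cfsg.pCore p ↥M).map M.subtype : Subgroup G) : Set G) :=
      le_normalizer_map_subtype_of_normal _
    have hRp : IsPGroup p ((Cfsg.pCore p ↥M).map M.subtype) :=
      (Cfsg.Agent.Lib.isPGroup_pCore p).map _
    have hR1 : (Cfsg.pCore p ↥M).map M.subtype ≠ ⊥ := by
      intro hb
      apply hne
      exact (Subgroup.map_eq_bot_iff_of_injective _ M.subtype_injective).1 hb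
    have hRcyc := Cfsg.Agent.Helper29.BG11.isCyclic_of_normal_pGroup hG hU hPL hM hpσ hRp hRM hMR
    obtain ⟨Z, hZR, hZc, hΩ, hNZ⟩ := exists_omega_of_isCyclic hRcyc hRp hR1
    have hMZ := hMR.trans hNZ
    have hZM := hZR.trans hRM
    have hZA := le_of_normal_card_prime hr2 hAM hA hA2 hZc hZM hMZ
    have hNZM := Cfsg.Agent.Helper64.BG126.normalizer_eq_of_coatom hM
      (ne_bot_of_card_prime hZc) hZM hMZ
    refine hall Z hZA hZc ⟨hNZM.le, fun L hL hNL => ?_⟩
    rw [hNZM] at hNL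
    exact eq_of_coatom_le hM hL hNL
  -- contradiction: `A ≤ C_M(O_{p'}(M)) ≤ O_{p'}(M)`
  have h1 := Cfsg.Agent.Helper4.BG36.centralizer_pPrimeCore_le (G := ↥M) p hcore
  have h2 : A.subgroupOf M ≤ Subgroup.centralizer ((Cfsg.pPrimeCore p ↥M : Subgroup ↥M) : Set ↥M) := by
    intro a ha
    rw [Subgroup.mem_centralizer_iff]
    intro d hd
    have hdD : (d : G) ∈ (Cfsg.pPrimeCore p ↥M).map M.subtype := ⟨d, hd, rfl⟩
    rw [← hT] at hdD
    have h3 := Subgroup.mem_centralizer_iff.1 hdD.2 (a : G) (Subgroup.mem_subgroupOf.1 ha)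
    apply Subtype.ext
    simpa using h3.symm
  have h3 : A.subgroupOf M ≤ Cfsg.pPrimeCore p ↥M := h2.trans h1
  have h4 := Subgroup.card_dvd_of_le h3
  rw [Cfsg.Agent.Helper1.card_subgroupOf_of_le hAM, hA2] at h4
  have h5 : p ∣ Nat.card ↥(Cfsg.pPrimeCore p ↥M) := (dvd_pow_self p (by norm_num)).trans h4
  exact (Nat.Prime.coprime_iff_not_dvd hp).1 (Cfsg.Agent.Lib.card_pPrimeCore_coprime p).symm h5

end Cfsg.Agent.Helper68.BG12
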