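import Mathlib
import Cfsg.Agent.Helper68.BG124D

/-!
# B-G Theorem 12.4 (helper68): statement S1416 given the Uniqueness Theorem and `p`-length one
-/

set_option autoImplicit false
set_option linter.unusedSectionVars false
set_option linter.unusedVariables false
set_option linter.style.haveILetI false

namespace Cfsg.Agent.Helper68.BG12

open Cfsg Cfsg.Agent.Helper29.BG10 Cfsg.Agent.Helper71.Shult Cfsg.Agent.Helper68.BG11
open scoped commutatorElement

variable {G : Type*} [Group G] [Finite G]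
variable {p : ℕ} [Fact p.Prime] {M A : Subgroup G}

/-- under `Case2`, `C_G(A) ≤ M` -/
theorem Case2.centralizer_le (hG : Cfsg.IsMinSimpleOddOrder G) (hU : UniquenessThm G)
    (hPL : ∀ (r : ℕ) [Fact r.Prime] (H : Subgroup G), H ≠ ⊤ → Cfsg.PLengthLE r 1 ↥H)
    (hM : IsCoatom M) (hAM : A ≤ M) (hA : Cfsg.IsElementaryAbelian p A)
    (hA2 : Nat.card A = p ^ 2) (hall : Case2 p M A) :
    Subgroup.centralizer (A : Set G) ≤ M := by
  classical
  have hp : p.Prime := Fact.out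
  haveI : IsSimpleGroup G := hG.2.1
  have hAp : IsPGroup p A := Cfsg.Agent.Helper29.BG10.isPGroup_of_isElementaryAbelian hA
  have hpσ := hall.mem_sigma hG hU hPL hM hAM hA hA2
  have hα := hall.alphaCore_eq_bot hG hU hPL hM hAM hA hA2
  have hrank := rankLE_two_of_alphaCore_eq_bot hG hU hM hα
  have hnil := isNilpotent_sigmaCore_of_rankLE_two hG hU hM hrank
  have hr2 : Cfsg.PRankLE p 2 ↥M := hrank p hp
  have hMK := Cfsg.Agent.Helper29.BG11.le_normalizer_sigmaCore M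
  obtain ⟨P, -, hPK⟩ := exists_isSylowIn_ge (p := p) (N := Cfsg.sigmaCore M) (Y := ⊥) bot_le
    IsPGroup.of_bot
  have hPM : IsSylowIn p P M :=
    (Cfsg.Agent.Helper29.BG11.isSylowIn_sigmaCore_iff hG hU hM hpσ).1 hPK
  have hMP : M ≤ Subgroup.normalizer (P : Set G) :=
    hMK.trans (Cfsg.Agent.Helper29.BG11.IsSylowIn.normalizer_le_of_isNilpotent hPK hnil)
  have hAP : A ≤ P := by
    obtain ⟨m, hmM, hm⟩ :=
      Cfsg.Agent.Helper84.exists_conj_le_of_relIndex M P A hPM.1 hPM.2.1 hPM.2.2 hAM hAp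
    intro a ha
    have h1 := conj_inv_mem_of_le_normalizer hMP hmM (hm a ha)
    have e1 : m⁻¹ * (m * a * m⁻¹) * m = a := by group
    rwa [e1] at h1
  have hP1 : P ≠ ⊥ := fun hb => ne_bot_of_card_sq hA2 (le_bot_iff.1 (hb ▸ hAP))
  have hZ1 := Cfsg.Agent.Helper29.BG11.omegaZ_ne_bot hPM.2.1 hP1
  have hZe := Cfsg.Agent.Helper29.BG11.isElementaryAbelian_omegaZ p P
  have hZC := Cfsg.Agent.Helper29.BG11.omegaZ_le_centralizer p P
  have hMZ : M ≤ Subgroup.normalizer ((Cfsg.Agent.Helper29.BG11.omegaZ p P : Subgroup G) : Set G) :=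
    hMP.trans (Cfsg.Agent.Helper29.BG11.normalizer_le_normalizer_omegaZ p P)
  have hZM : Cfsg.Agent.Helper29.BG11.omegaZ p P ≤ M :=
    (Cfsg.Agent.Helper29.BG11.omegaZ_le p P).trans hPM.1
  have hE : Cfsg.IsElementaryAbelian p (A ⊔ Cfsg.Agent.Helper29.BG11.omegaZ p P) := by
    apply Cfsg.Agent.Helper23.isElementaryAbelian_sup_of_commute hA hZe
    intro a ha z hz
    exact (Subgroup.mem_centralizer_iff.1 (hZC hz) a (hAP ha))
  have hle : Nat.card ↥(A ⊔ Cfsg.Agent.Helper29.BG11.omegaZ p P) ≤ p ^ 2 := by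
    by_contra hc
    push Not at hc
    exact (Cfsg.Agent.Helper23.not_pRankLE_subgroup_iff p 2 M).2
      ⟨_, sup_le hAM hZM, hE, hc⟩ hr2
  have heq : A = A ⊔ Cfsg.Agent.Helper29.BG11.omegaZ p P :=
    Subgroup.eq_of_le_of_card_ge le_sup_left (by rw [hA2]; exact hle)
  have hZA : Cfsg.Agent.Helper29.BG11.omegaZ p P ≤ A := by
    rw [heq]; exact le_sup_right
  have hZd : Nat.card ↥(Cfsg.Agent.Helper29.BG11.omegaZ p P) ∣ p ^ 2 := by
    rw [← hA2]; exact Subgroup.card_dvd_of_le hZA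
  obtain ⟨k, hk2, hk⟩ := (Nat.dvd_prime_pow hp).1 hZd
  have hNZM := Cfsg.Agent.Helper64.BG126.normalizer_eq_of_coatom hM hZ1 hZM hMZ
  interval_cases k
  · exfalso
    rw [pow_zero] at hk
    exact hZ1 (Subgroup.card_eq_one.1 hk)
  · exfalso
    rw [pow_one] at hk
    refine hall _ hZA hk ⟨hNZM.le, fun L hL hNL => ?_⟩
    rw [hNZM] at hNL
    exact eq_of_coatom_le hM hL hNL
  · have hZeqA : Cfsg.Agent.Helper29.BG11.omegaZ p P = A :=
      Subgroup.eq_of_le_of_card_ge hZA (by rw [hk, hA2])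
    rw [hZeqA] at hNZM
    exact (Subgroup.centralizer_le_normalizer _).trans hNZM.le

/-- **B-G Theorem 12.4** (statement S1416), given the Uniqueness Theorem and `p`-length one. -/
theorem thm_12_4 (hG : Cfsg.IsMinSimpleOddOrder G) (hU : UniquenessThm G)
    (hPL : ∀ (r : ℕ) [Fact r.Prime] (H : Subgroup G), H ≠ ⊤ → Cfsg.PLengthLE r 1 ↥H)
    (hM : IsCoatom M) (hAM : A ≤ M) (hA : Cfsg.IsElementaryAbelian p A)
    (hA2 : Nat.card A = p ^ 2) :
    Subgroup.centralizer (A : Set G) ≤ M ∧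
      (Case2 p M A →
        p ∈ Cfsg.sigma M ∧ Cfsg.alphaCore M = ⊥ ∧ Group.IsNilpotent (Cfsg.sigmaCore M)) := by
  by_cases hall : Case2 p M A
  · have hα := hall.alphaCore_eq_bot hG hU hPL hM hAM hA hA2
    exact ⟨hall.centralizer_le hG hU hPL hM hAM hA hA2, fun _ =>
      ⟨hall.mem_sigma hG hU hPL hM hAM hA hA2, hα,
        isNilpotent_sigmaCore_of_rankLE_two hG hU hM (rankLE_two_of_alphaCore_eq_bot hG hU hM hα)⟩⟩
  · refine ⟨?_, fun h => absurd h hall⟩
    unfold Case2 at hall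
    push Not at hall
    obtain ⟨A₀, hA0, hA0c, hN, -⟩ := hall
    exact ((Subgroup.centralizer_le hA0).trans (Subgroup.centralizer_le_normalizer _)).trans hN

end Cfsg.Agent.Helper68.BG12
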