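import Mathlib
import Cfsg.Agent.Helper68.BG124
import Cfsg.Agent.Helper22.BGCor107b
import Cfsg.Agent.Helper57.BG1010

/-!
# B-G Theorem 12.5 (helper68): statement S1417 given the Uniqueness Theorem and `p`-length one
-/

set_option autoImplicit false
set_option linter.unusedSectionVars false
set_option linter.unusedVariables false
set_option linter.style.haveILetI false

namespace Cfsg.Agent.Helper68.BG12

open Cfsg Cfsg.Agent.Helper29.BG10 Cfsg.Agent.Helper71.Shult Cfsg.Agent.Helper68.BG11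
open scoped commutatorElement

variable {G : Type*} [Group G] [Finite G]
variable {p : ℕ} [Fact p.Prime] {M A : Subgroup G}

/-- for `p ∈ τ₂(M)`, `M` is `p`-exceptional for every `E_{p^2}` subgroup `A` of `M` -/
theorem exists_exc_of_mem_tau2 (hG : Cfsg.IsMinSimpleOddOrder G) (hU : UniquenessThm G)
    (hPL : ∀ (r : ℕ) [Fact r.Prime] (H : Subgroup G), H ≠ ⊤ → Cfsg.PLengthLE r 1 ↥H)
    (hM : IsCoatom M) (hp : p ∈ Cfsg.tau2 M) (hAM : A ≤ M) (hA : Cfsg.IsElementaryAbelian p A)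
    (hA2 : Nat.card A = p ^ 2) :
    ∃ A₀ : Subgroup G, Cfsg.Agent.Helper29.BG11.Exc p M A A₀ := by
  by_cases hall : Case2 p M A
  · exact absurd (hall.mem_sigma hG hU hPL hM hAM hA hA2) hp.2.1
  · unfold Case2 at hall
    push Not at hall
    obtain ⟨A₀, hA0, hA0c, hN, -⟩ := hall
    exact ⟨A₀, hM, hp.2.1, hAM, hA, hA2, hA0, hA0c, hN⟩

/-- a Sylow `r`-subgroup of `M` contains an `E_{r^2}` when `r_r(M) = 2` -/
theorem exists_ea2_le_of_isSylowIn {r : ℕ} [Fact r.Prime] {S₀ : Subgroup G}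
    (hrk2 : Cfsg.PRankLE r 2 ↥M) (hrk1 : ¬ Cfsg.PRankLE r 1 ↥M) (hS : IsSylowIn r S₀ M) :
    ∃ W : Subgroup G, W ≤ S₀ ∧ Cfsg.IsElementaryAbelian r W ∧ Nat.card W = r ^ 2 := by
  obtain ⟨B, hBM, hBe, hBlt⟩ := (Cfsg.Agent.Helper23.not_pRankLE_subgroup_iff r 1 M).1 hrk1
  have hBr : IsPGroup r B := Cfsg.Agent.Helper29.BG10.isPGroup_of_isElementaryAbelian hBe
  obtain ⟨m, hmM, hm⟩ :=
    Cfsg.Agent.Helper84.exists_conj_le_of_relIndex M S₀ B hS.1 hS.2.1 hS.2.2 hBM hBr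
  have hWS : cj m B ≤ S₀ := by
    intro x hx
    rw [mem_cj] at hx
    have hx' := hm _ hx
    have e1 : m * (m⁻¹ * x * m) * m⁻¹ = x := by group
    rwa [e1] at hx'
  have hWe : Cfsg.IsElementaryAbelian r (cj m B) := by
    refine ⟨(Cfsg.Agent.Helper23.isMulCommutative_subgroup_iff _).2 ?_, ?_⟩
    · intro a ha b hb
      have hc := (Cfsg.Agent.Helper23.isMulCommutative_subgroup_iff B).1 hBe.1 _ (mem_cj.1 ha) _
        (mem_cj.1 hb)
      calc a * b = m * ((m⁻¹ * a * m) * (m⁻¹ * b * m)) * m⁻¹ := by group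
        _ = m * ((m⁻¹ * b * m) * (m⁻¹ * a * m)) * m⁻¹ := by rw [hc]
        _ = b * a := by group
    · intro a ha
      have := hBe.2 _ (mem_cj.1 ha)
      have e : a = m * (m⁻¹ * a * m) * m⁻¹ := by group
      rw [e, conj_pow, this]; group
  have hWr : IsPGroup r (cj m B) := Cfsg.Agent.Helper29.BG10.isPGroup_of_isElementaryAbelian hWe
  rw [pow_one] at hBlt
  refine ⟨cj m B, hWS, hWe, ?_⟩
  apply card_eq_sq_of_lt_of_le hWr
  · rw [card_cj]; exact hBlt
  · by_contra hc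
    push Not at hc
    exact (Cfsg.Agent.Helper23.not_pRankLE_subgroup_iff r 2 M).2
      ⟨cj m B, hWS.trans hS.1, hWe, hc⟩ hrk2

/-- **B-G Theorem 12.5** (statement S1417), given the Uniqueness Theorem and `p`-length one. -/
theorem thm_12_5 (hG : Cfsg.IsMinSimpleOddOrder G) (hU : UniquenessThm G)
    (hPL : ∀ (r : ℕ) [Fact r.Prime] (H : Subgroup G), H ≠ ⊤ → Cfsg.PLengthLE r 1 ↥H)
    (hM : IsCoatom M) (hp : p ∈ Cfsg.tau2 M) (hAM : A ≤ M) (hA : Cfsg.IsElementaryAbelian p A)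
    (hA2 : Nat.card A = p ^ 2) :
    Group.IsNilpotent (Cfsg.sigmaCore M) ∧
      (∀ P : Sylow p M, IsMulCommutative (P : Subgroup M) ∧
        (A ≤ (P : Subgroup M).map M.subtype →
          (∀ x ∈ (P : Subgroup M).map M.subtype, x ^ p = 1 ↔ x ∈ A) ∧
          ¬ Subgroup.normalizer ((((P : Subgroup M).map M.subtype : Subgroup G)) : Set G) ≤ M)) ∧
      M ≤ Subgroup.normalizer ((Cfsg.sigmaCore M ⊔ A : Subgroup G) : Set G) ∧
      Cfsg.sigmaCore M ⊓ Subgroup.centralizer (A : Set G) = ⊥ ∧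
      (∀ Mstar : Subgroup G, IsCoatom Mstar → Mstar ≠ M → A ≤ Mstar →
        Cfsg.sigmaCore M ⊓ Mstar = ⊥) ∧
      ∃ A₁ : Subgroup G, A₁ ≤ A ∧ Nat.card A₁ = p ∧
        Cfsg.sigmaCore M ⊓ Subgroup.centralizer (A₁ : Set G) = ⊥ := by
  classical
  have hpp : p.Prime := Fact.out
  haveI : IsSimpleGroup G := hG.2.1
  have hAp : IsPGroup p A := Cfsg.Agent.Helper29.BG10.isPGroup_of_isElementaryAbelian hA
  obtain ⟨A₀, h⟩ := exists_exc_of_mem_tau2 hG hU hPL hM hp hAM hA hA2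
  have hnil := Cfsg.Agent.Helper29.BG11.lemma_11_3 hG hU hPL h
  have hMK := Cfsg.Agent.Helper29.BG11.le_normalizer_sigmaCore M
  have hp2 : p ≠ 2 := by
    intro h2
    have h1 : p ∣ Nat.card G := h.p_dvd_card
    rw [h2] at h1
    exact (Nat.not_even_iff_odd.2 hG.1) (even_iff_two_dvd.2 h1)
  -- a Sylow subgroup containing `A`
  obtain ⟨P₁, hAP₁, hP₁⟩ := exists_isSylowIn_ge hAM hAp
  obtain ⟨hΩ₁, hNPA₁, hmain₁, hCA⟩ := Cfsg.Agent.Helper29.BG11.lemma_11_6' hG hU hPL h hP₁ hAP₁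
  obtain ⟨g, hgN, hgM⟩ := h.exists_normalizer_not_mem hP₁
  obtain ⟨hA₁, -, -, hf₁, -, -⟩ := hmain₁ g hgN hgM
  refine ⟨hnil, ?_, Cfsg.Agent.Helper68.BG11.thm_11_7 hG hU hPL h, hCA, ?_,
    ⟨cj g A₀, hA₁, by rw [card_cj]; exact h.hA0c, hf₁⟩⟩
  · -- (b)
    intro P
    have hP : IsSylowIn p ((P : Subgroup ↥M).map M.subtype) M := isSylowIn_map_sylow P
    constructor
    · obtain ⟨W, hWP, hWe, hW2⟩ := exists_ea2_le_of_isSylowIn hp.2.2.1 hp.2.2.2 hP
      obtain ⟨W₀, hW⟩ := exists_exc_of_mem_tau2 hG hU hPL hM hp (hWP.trans hP.1) hWe hW2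
      have hE1 : ∀ Ps : Sylow p G, W ≤ (Ps : Subgroup G) →
          IsMulCommutative ↥((Ps : Subgroup G) ⊓ Subgroup.centralizer (W : Set G)) := by
        intro Ps hWPs
        exact (Cfsg.Agent.Helper57.BG1010.centralizer_sylow p hp2 Ps
          (fun hr => Cfsg.Agent.Helper22.BGCor107.sylow_structure hG hU
            (fun q _ H hH => hPL q H hH) p Ps hr)
          W hWPs hW.hA hW.hA2 (fun B hB hWB => hW.maximal hG hU B hB hWB)).1
      have hab := Cfsg.Agent.Helper29.BG11.lemma_11_5 hG hU hPL hE1 hW hP hWP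
      rw [Cfsg.Agent.Helper23.isMulCommutative_subgroup_iff]
      intro x hx y hy
      apply Subtype.ext
      have := hab (x : G) ⟨x, hx, rfl⟩ (y : G) ⟨y, hy, rfl⟩
      simpa using this
    · intro hAP
      obtain ⟨hΩ, -, -, -⟩ := Cfsg.Agent.Helper29.BG11.lemma_11_6' hG hU hPL h hP hAP
      refine ⟨fun x hx => ⟨hΩ x hx, fun hxA => hA.2 x hxA⟩, ?_⟩
      exact Cfsg.Agent.Helper29.BG11.not_normalizer_le_of_not_mem_sigma h.hp h.p_dvd_card_M hP
  · -- (e)
    intro Ms hMs hne hAMs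
    by_cases hc : ∃ g : G, cj g M = Ms
    · obtain ⟨g', hg'⟩ := hc
      have hgM' : g' ∉ M := fun hh => hne (by rw [← hg', cj_eq_self_of_mem hh])
      rw [← hg']
      exact (Cfsg.Agent.Helper29.BG11.lemma_11_2 hG hU hPL h hgM' (hg' ▸ hAMs)).1
    · push Not at hc
      have hdis := ((Cfsg.Agent.Helper29.BG11.sigma_disjoint hG hU hM hMs hc).2.2 hnil).2
      have hAX : A ≤ Subgroup.normalizer ((Cfsg.sigmaCore M ⊓ Ms : Subgroup G) : Set G) :=
        inf_le_normalizer (hAM.trans hMK) (hAMs.trans Subgroup.le_normalizer)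
      have hpX : ¬ p ∣ Nat.card ↥(Cfsg.sigmaCore M ⊓ Ms) := by
        intro hd
        exact h.hp (Cfsg.Agent.Helper29.BG11.primes_sigmaCore M p hpp
          (hd.trans (Subgroup.card_dvd_of_le inf_le_left)))
      have hMsK := Cfsg.Agent.Helper29.BG11.le_normalizer_sigmaCore Ms
      have hcomm : ⁅Cfsg.sigmaCore M ⊓ Ms, A⁆ ≤ (Cfsg.sigmaCore M ⊓ Ms) ⊓ Cfsg.sigmaCore Ms := by
        by_cases hc2 : Case2 p Ms A
        · have hσ := hc2.mem_sigma hG hU hPL hMs hAMs hA hA2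
          have hAK : A ≤ Cfsg.sigmaCore Ms :=
            Cfsg.Agent.Helper29.BG11.le_sigmaCore_of_isPGroup hG hU hMs hσ hAp hAMs
          apply le_inf (commutator_le_left_of_le_normalizer hAX)
          rw [Subgroup.commutator_le]
          intro x hx a ha
          have h1 := conj_mem_of_le_normalizer hMsK (hx.2 : x ∈ Ms) (hAK ha)
          rw [commutatorElement_def]
          exact Subgroup.mul_mem _ h1 (Subgroup.inv_mem _ (hAK ha))
        · unfold Case2 at hc2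
          push Not at hc2
          obtain ⟨A₀', hA0', hA0c', hN', -⟩ := hc2
          exact lemma_12_3_core hG hU hPL hMs hA hA2 hA0' hA0c' hN' inf_le_right hAX hpX
      have hXA : Cfsg.sigmaCore M ⊓ Ms ≤ Subgroup.centralizer (A : Set G) := by
        rw [← Subgroup.commutator_eq_bot_iff_le_centralizer, eq_bot_iff]
        refine hcomm.trans ?_
        rw [← hdis]
        exact inf_le_inf_right _ inf_le_left
      rw [eq_bot_iff, ← hCA]
      exact le_inf inf_le_left hXA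

end Cfsg.Agent.Helper68.BG12
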