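import Mathlib
import Cfsg.Agent.Helper96.StC.Generic
import Cfsg.Agent.Helper96.StC.Roots

/-!
# Piece (N2) of S2092, primed on (N1): an element of `N` with upper triangular image lies in `H`

Type `C` analogue of `Cfsg.Agent.Helper31.StNN.mem_Hsub_of_upper`.  The statement of piece (N1)
(`hyper_injective`) is taken as a hypothesis `HyperInj`.
-/

set_option autoImplicit false

namespace Cfsg.Agent.Helper68.StCN2a

open Matrix Cfsg.Agent.Helper96.StN Cfsg.Agent.Helper96.StC

universe u v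

/-- the statement of piece (N1) `hyper_injective`, for groups in universe `v` -/
def HyperInj : Prop :=
  ∀ {m : ℕ} {Q : Type v} [Group Q] (s : Fin m ⊕ Fin m → Fin m ⊕ Fin m → Q)
    (ρ : Q →* Equiv.Perm (Fin m ⊕ Fin m)),
    (∀ p q, p ≠ q → ρ (s p q) = reflPerm p q) →
    (∀ p q, p ≠ q → s q p = s p q) →
    (∀ p q, p ≠ q → s (bar q) (bar p) = s p q) →
    (∀ p q, p ≠ q → s p q * s p q = 1) →
    (∀ p q k l, p ≠ q → k ≠ l →
      s p q * s k l * (s p q)⁻¹ = s (reflPerm p q k) (reflPerm p q l)) →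
    Subgroup.closure {g | ∃ p q, p ≠ q ∧ g = s p q} = ⊤ →
    Function.Injective ρ

section perm

variable {ι : Type*} [DecidableEq ι]

theorem swap_swap_comm {p q : ι ⊕ ι} (h : q ≠ bar p) (k : ι ⊕ ι) :
    Equiv.swap (bar p) (bar q) (Equiv.swap p q k) =
      Equiv.swap p q (Equiv.swap (bar p) (bar q) k) := by
  have h1 : p ≠ bar p := (bar_ne p).symm
  have h2 : q ≠ bar q := (bar_ne q).symm
  have h3 : p ≠ bar q := fun e => h (by rw [e, bar_bar])
  by_cases hkp : k = p
  · subst hkp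
    rw [Equiv.swap_apply_left, Equiv.swap_apply_of_ne_of_ne h h2,
      Equiv.swap_apply_of_ne_of_ne h1 h3, Equiv.swap_apply_left]
  by_cases hkq : k = q
  · subst hkq
    rw [Equiv.swap_apply_right, Equiv.swap_apply_of_ne_of_ne h1 h3,
      Equiv.swap_apply_of_ne_of_ne h h2, Equiv.swap_apply_right]
  rw [Equiv.swap_apply_of_ne_of_ne hkp hkq]
  by_cases hkp' : k = bar p
  · subst hkp'
    rw [Equiv.swap_apply_left, Equiv.swap_apply_of_ne_of_ne h3.symm h2.symm]
  by_cases hkq' : k = bar q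
  · subst hkq'
    rw [Equiv.swap_apply_right, Equiv.swap_apply_of_ne_of_ne h1.symm h.symm]
  rw [Equiv.swap_apply_of_ne_of_ne hkp' hkq', Equiv.swap_apply_of_ne_of_ne hkp hkq]

/-- the reflection permutations commute with `bar` -/
theorem reflPerm_bar (p q k : ι ⊕ ι) : reflPerm p q (bar k) = bar (reflPerm p q k) := by
  unfold reflPerm
  split_ifs with h
  · subst h
    have h1 := bar_injective.swap_apply (bar p) p k
    rw [bar_bar] at h1
    rw [h1, Equiv.swap_comm]
  · rw [Equiv.Perm.mul_apply, Equiv.Perm.mul_apply, bar_injective.swap_apply p q k]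
    have h1 := bar_injective.swap_apply (bar p) (bar q) (Equiv.swap p q k)
    rw [bar_bar, bar_bar] at h1
    rw [h1, swap_swap_comm h]

end perm

section rank

variable {m : ℕ}

/-- a permutation which does not increase the rank is trivial -/
theorem perm_eq_one_of_rk_le (π : Equiv.Perm (Fin m ⊕ Fin m)) (h : ∀ k, rk (π k) ≤ rk k) :
    π = 1 := by
  have key : ∀ N, ∀ k, rk k = N → π k = k := by
    intro N
    induction N using Nat.strong_induction_on with
    | _ N ih =>
      intro k hk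
      by_contra hne
      have hlt : rk (π k) < rk k := lt_of_le_of_ne (h k) (fun e => hne (rk_injective e))
      have h2 := ih (rk (π k)) (hk ▸ hlt) (π k) rfl
      exact hne (π.injective h2)
  apply Equiv.ext
  intro k
  exact key _ k rfl

end rank

section matrix

variable {K : Type u} [Field K] {ι : Type*} [DecidableEq ι] [Fintype ι]

theorem col_support {g : Matrix (ι ⊕ ι) (ι ⊕ ι) K} {k a : ι ⊕ ι} {t : K}
    (h : g * spM k (bar k) 1 = spM a (bar a) t * g) (r : ι ⊕ ι) (hr : r ≠ a) : g r k = 0 := by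
  unfold spM at h
  rw [if_pos rfl, if_pos rfl, mul_add, add_mul, mul_one, one_mul, add_right_inj] at h
  have h2 : (g * single k (bar k) (1 : K)) r (bar k) = (single a (bar a) t * g) r (bar k) := by
    rw [h]
  have h3 : (g * single k (bar k) (1 : K)) r (bar k) = g r k * 1 :=
    mul_single_apply_same _ _ _ _ _
  have h4 : (single a (bar a) t * g) r (bar k) = 0 := single_mul_apply_of_ne _ _ _ _ _ hr _
  rw [← mul_one (g r k), ← h3, h2, h4]

theorem exists_ne_zero (g : symplecticGroup ι K) (k : ι ⊕ ι) : ∃ r, g.1 r k ≠ 0 := by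
  by_contra hcon
  push Not at hcon
  have h0 := Matrix.det_eq_zero_of_column_eq_zero k hcon
  have hu := SymplecticGroup.symplectic_det g.2
  rw [h0] at hu
  exact not_isUnit_zero hu

end matrix

section main

variable {K : Type u} [Field K] {D : Type v} [Group D] {m : ℕ}
  {X : Fin m ⊕ Fin m → Fin m ⊕ Fin m → K → D}

/-- every element of `N` is monomial with a permutation commuting with `bar` -/
theorem exists_isMono_bar (hM : MonoData X reflPerm cw) {a : D} (ha : a ∈ Nsub X) :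
    ∃ π pp, IsMono X a π pp ∧ ∀ k, π (bar k) = bar (π k) := by
  induction ha using Subgroup.closure_induction with
  | mem g hg =>
    obtain ⟨i, j, hij, t, ht, rfl⟩ := hg
    exact ⟨_, _, hM.mono i j hij t ht, fun k => reflPerm_bar i j k⟩
  | one => exact ⟨_, _, IsMono.one X, fun k => rfl⟩
  | mul a b _ _ ha hb =>
    obtain ⟨πa, pa, hpa, hba⟩ := ha
    obtain ⟨πb, pb, hpb, hbb⟩ := hb
    refine ⟨_, _, hpa.mul hpb, fun k => ?_⟩
    rw [Equiv.Perm.mul_apply, Equiv.Perm.mul_apply, hbb, hba]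
  | inv a _ ha =>
    obtain ⟨πa, pa, hpa, hba⟩ := ha
    refine ⟨_, _, hpa.inv, fun k => ?_⟩
    rw [Equiv.Perm.inv_eq_iff_eq, hba]
    simp

/-- the column `k` of the image of a monomial element is supported on the row `π k` -/
theorem col_zero (φ : D →* Matrix.symplecticGroup (Fin m) K)
    (hφ : ∀ p q, p ≠ q → ∀ t, (φ (X p q t)).1 = spM p q t) {n : D}
    {π : Equiv.Perm (Fin m ⊕ Fin m)} {c : Fin m ⊕ Fin m → K} (hm : IsMono X n π c)
    (hb : ∀ k, π (bar k) = bar (π k)) (k r : Fin m ⊕ Fin m) (hr : r ≠ π k) :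
    (φ n).1 r k = 0 := by
  have h1 := hm.2 k (bar k) (bar_ne k).symm 1
  rw [hb] at h1
  have h2 : n * X k (bar k) 1 = X (π k) (bar (π k)) (c k * (c (bar k))⁻¹ * 1) * n := by
    rw [← h1]; group
  have h3 : (φ (n * X k (bar k) 1)).1 =
      (φ (X (π k) (bar (π k)) (c k * (c (bar k))⁻¹ * 1) * n)).1 := by rw [h2]
  rw [map_mul, map_mul, Submonoid.coe_mul, Submonoid.coe_mul, hφ _ _ (bar_ne k).symm,
    hφ _ _ (bar_ne (π k)).symm] at h3
  exact col_support h3 r hr

theorem perm_unique (φ : D →* Matrix.symplecticGroup (Fin m) K)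
    (hφ : ∀ p q, p ≠ q → ∀ t, (φ (X p q t)).1 = spM p q t) {n : D}
    {π π' : Equiv.Perm (Fin m ⊕ Fin m)} {c c' : Fin m ⊕ Fin m → K} (hm : IsMono X n π c)
    (hb : ∀ k, π (bar k) = bar (π k)) (hm' : IsMono X n π' c')
    (hb' : ∀ k, π' (bar k) = bar (π' k)) : π = π' := by
  apply Equiv.ext
  intro k
  obtain ⟨r, hr⟩ := exists_ne_zero (φ n) k
  have e1 : r = π k := by
    by_contra hne
    exact hr (col_zero φ hφ hm hb k r hne)
  have e2 : r = π' k := by
    by_contra hne
    exact hr (col_zero φ hφ hm' hb' k r hne)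
  rw [← e1, ← e2]

/-- the homomorphism `N → Perm (Fin m ⊕ Fin m)` -/
noncomputable def rho (hM : MonoData X reflPerm cw) (φ : D →* Matrix.symplecticGroup (Fin m) K)
    (hφ : ∀ p q, p ≠ q → ∀ t, (φ (X p q t)).1 = spM p q t) :
    ↥(Nsub X) →* Equiv.Perm (Fin m ⊕ Fin m) where
  toFun a := Classical.choose (exists_isMono_bar hM a.2)
  map_one' := by
    obtain ⟨p, hp, hb⟩ := Classical.choose_spec (exists_isMono_bar hM (1 : ↥(Nsub X)).2)
    exact perm_unique φ hφ hp hb (IsMono.one X) (fun k => rfl)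
  map_mul' a b := by
    obtain ⟨p, hp, hb⟩ := Classical.choose_spec (exists_isMono_bar hM (a * b).2)
    obtain ⟨pa, hpa, hba⟩ := Classical.choose_spec (exists_isMono_bar hM a.2)
    obtain ⟨pb, hpb, hbb⟩ := Classical.choose_spec (exists_isMono_bar hM b.2)
    refine perm_unique φ hφ hp hb (hpa.mul hpb) (fun k => ?_)
    rw [Equiv.Perm.mul_apply, Equiv.Perm.mul_apply, hbb, hba]

theorem rho_spec (hM : MonoData X reflPerm cw) (φ : D →* Matrix.symplecticGroup (Fin m) K)
    (hφ : ∀ p q, p ≠ q → ∀ t, (φ (X p q t)).1 = spM p q t) (a : ↥(Nsub X)) :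
    ∃ pp, IsMono X (a : D) (rho hM φ hφ a) pp ∧
      ∀ k, rho hM φ hφ a (bar k) = bar (rho hM φ hφ a k) :=
  Classical.choose_spec (exists_isMono_bar hM a.2)

theorem rho_eq_of_isMono (hM : MonoData X reflPerm cw)
    (φ : D →* Matrix.symplecticGroup (Fin m) K)
    (hφ : ∀ p q, p ≠ q → ∀ t, (φ (X p q t)).1 = spM p q t) (a : ↥(Nsub X))
    {π : Equiv.Perm (Fin m ⊕ Fin m)} {pp : Fin m ⊕ Fin m → K} (h : IsMono X (a : D) π pp)
    (hb : ∀ k, π (bar k) = bar (π k)) : rho hM φ hφ a = π := by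
  obtain ⟨p', hp', hb'⟩ := rho_spec hM φ hφ a
  exact perm_unique φ hφ hp' hb' h hb

theorem hsub_normal [Fintype K] (hM : MonoData X reflPerm cw) :
    ((Hsub X).subgroupOf (Nsub X)).Normal := by
  refine ⟨fun h hh g => ?_⟩
  rw [Subgroup.mem_subgroupOf] at hh ⊢
  exact hM.conj_mem_Hsub g.2 hh

theorem mk_eq_of_eq_mul {T : Subgroup ↥(Nsub X)} [T.Normal]
    (hT : T = (Hsub X).subgroupOf (Nsub X)) {a b : ↥(Nsub X)} {h : D}
    (hh : h ∈ Hsub X) (e : (a : D) = h * (b : D)) :
    (QuotientGroup.mk a : ↥(Nsub X) ⧸ T) = QuotientGroup.mk b := by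
  have h1 : a * b⁻¹ ∈ T := by
    rw [hT, Subgroup.mem_subgroupOf]
    have : ((a * b⁻¹ : ↥(Nsub X)) : D) = h := by
      rw [Subgroup.coe_mul, Subgroup.coe_inv, e]; group
    rw [this]; exact hh
  have h2 : (QuotientGroup.mk (a * b⁻¹) : ↥(Nsub X) ⧸ T) = 1 :=
    (QuotientGroup.eq_one_iff _).mpr h1
  rw [QuotientGroup.mk_mul, QuotientGroup.mk_inv, mul_inv_eq_one] at h2
  exact h2

theorem mem_Hsub_of_upper_of [Fintype K] (hN1 : HyperInj.{v}) (hX : SpRel X)
    (hM : MonoData X reflPerm cw)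
    (φ : D →* Matrix.symplecticGroup (Fin m) K)
    (hφ : ∀ p q, p ≠ q → ∀ t, (φ (X p q t)).1 = spM p q t)
    (n : D) (hn : n ∈ Nsub X) (hup : ∀ r k, rk k < rk r → (φ n).1 r k = 0) : n ∈ Hsub X := by
  classical
  have hnormal : ((Hsub X).subgroupOf (Nsub X)).Normal := hsub_normal hM
  have hWmem : ∀ p q : Fin m ⊕ Fin m, p ≠ q → W X p q (1 : K) ∈ Nsub X := fun p q h =>
    Subgroup.subset_closure ⟨p, q, h, 1, one_ne_zero, rfl⟩
  have hHdmem : ∀ p q : Fin m ⊕ Fin m, p ≠ q → ∀ t : K, t ≠ 0 → Hd X p q t ∈ Hsub X :=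
    fun p q h t ht => Subgroup.subset_closure ⟨p, q, h, t, ht, rfl⟩
  -- the representatives of the reflections in `N`
  let w : Fin m ⊕ Fin m → Fin m ⊕ Fin m → ↥(Nsub X) := fun p q =>
    if h : p ≠ q then ⟨W X p q 1, hWmem p q h⟩ else 1
  have hw : ∀ p q (h : p ≠ q), ((w p q : ↥(Nsub X)) : D) = W X p q 1 := by
    intro p q h
    simp only [w, dif_pos h]
  let s : Fin m ⊕ Fin m → Fin m ⊕ Fin m → ↥(Nsub X) ⧸ (Hsub X).subgroupOf (Nsub X) :=
    fun p q => QuotientGroup.mk (w p q)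
  -- the homomorphism induced on the quotient
  have hT : (Hsub X).subgroupOf (Nsub X) ≤ (rho hM φ hφ).ker := by
    intro h hh
    rw [MonoidHom.mem_ker]
    obtain ⟨pp, hpp⟩ := hM.Hsub_isMono (Subgroup.mem_subgroupOf.mp hh)
    exact rho_eq_of_isMono hM φ hφ h hpp (fun k => rfl)
  let ρ' : ↥(Nsub X) ⧸ (Hsub X).subgroupOf (Nsub X) →* Equiv.Perm (Fin m ⊕ Fin m) :=
    QuotientGroup.lift _ (rho hM φ hφ) hT
  have hinj : Function.Injective ρ' := by
    refine hN1 s ρ' ?_ ?_ ?_ ?_ ?_ ?_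
    · -- `ρ (s p q) = reflPerm p q`
      intro p q hpq
      change rho hM φ hφ (w p q) = reflPerm p q
      apply rho_eq_of_isMono hM φ hφ (w p q) (pp := cw p q 1)
      · rw [hw p q hpq]
        exact hM.mono p q hpq 1 one_ne_zero
      · exact fun k => reflPerm_bar p q k
    · -- symmetry
      intro p q hpq
      refine (mk_eq_of_eq_mul rfl (hHdmem q p hpq.symm (-1) (neg_ne_zero.mpr one_ne_zero))
        ?_).symm
      rw [hw p q hpq, hw q p hpq.symm, ← W_eq_Hd_mul', hM.W_swap hpq one_ne_zero, inv_one]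
    · -- bar
      intro p q hpq
      by_cases hq : q = bar p
      · subst hq
        rw [bar_bar]
      · have hne : bar q ≠ bar p := fun e => hpq (bar_injective e).symm
        have hc : -(eps K p q * 1) ≠ 0 :=
          neg_ne_zero.mpr (mul_ne_zero (eps_ne_zero p q) one_ne_zero)
        refine mk_eq_of_eq_mul rfl (hHdmem p q hpq _ hc) ?_
        rw [hw p q hpq, hw _ _ hne, ← W_eq_Hd_mul', W_bar hX hpq hq one_ne_zero]
    · -- squares
      intro p q hpq
      change (QuotientGroup.mk (w p q) : ↥(Nsub X) ⧸ (Hsub X).subgroupOf (Nsub X)) *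
        QuotientGroup.mk (w p q) = 1
      rw [← QuotientGroup.mk_mul, QuotientGroup.eq_one_iff, Subgroup.mem_subgroupOf,
        Subgroup.coe_mul, hw p q hpq]
      have e : W X p q (1 : K) * W X p q 1 = Hd X p q (1 * (-1)⁻¹) := by
        rw [← hM.W_mul_W_inv hpq one_ne_zero (neg_ne_zero.mpr one_ne_zero), hM.W_inv hpq,
          neg_neg]
      rw [e]
      exact hHdmem p q hpq _ (mul_ne_zero one_ne_zero (inv_ne_zero (neg_ne_zero.mpr one_ne_zero)))
    · -- conjugation
      intro p q k l hpq hkl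
      have hmono := hM.mono p q hpq (1 : K) one_ne_zero
      have hkl' : reflPerm p q k ≠ reflPerm p q l :=
        fun e => hkl ((reflPerm p q).injective e)
      have hc : cw p q (1 : K) k * (cw p q (1 : K) l)⁻¹ * 1 ≠ 0 :=
        mul_ne_zero (mul_ne_zero (hmono.1 k) (inv_ne_zero (hmono.1 l))) one_ne_zero
      change (QuotientGroup.mk (w p q) : ↥(Nsub X) ⧸ (Hsub X).subgroupOf (Nsub X)) *
        QuotientGroup.mk (w k l) * (QuotientGroup.mk (w p q))⁻¹ =
        QuotientGroup.mk (w (reflPerm p q k) (reflPerm p q l))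
      rw [← QuotientGroup.mk_inv, ← QuotientGroup.mk_mul, ← QuotientGroup.mk_mul]
      refine mk_eq_of_eq_mul rfl (hHdmem _ _ hkl' _ hc) ?_
      rw [Subgroup.coe_mul, Subgroup.coe_mul, Subgroup.coe_inv, hw p q hpq, hw k l hkl,
        hw _ _ hkl', ← W_eq_Hd_mul', isMono_conj_W hmono hkl]
    · -- generation
      rw [eq_top_iff]
      intro x hx
      clear hx
      obtain ⟨a, rfl⟩ := QuotientGroup.mk_surjective x
      obtain ⟨a, ha⟩ := a
      induction ha using Subgroup.closure_induction with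
      | mem g hg =>
        obtain ⟨p, q, hpq, t, ht, rfl⟩ := hg
        have e : (QuotientGroup.mk ⟨W X p q t, Subgroup.subset_closure ⟨p, q, hpq, t, ht, rfl⟩⟩ :
            ↥(Nsub X) ⧸ (Hsub X).subgroupOf (Nsub X)) = s p q := by
          refine mk_eq_of_eq_mul rfl (hHdmem p q hpq t ht) ?_
          rw [hw p q hpq, ← W_eq_Hd_mul']
        rw [e]
        exact Subgroup.subset_closure ⟨p, q, hpq, rfl⟩
      | one => exact Subgroup.one_mem _
      | mul a b ha hb iha ihb =>
        have e : (QuotientGroup.mk ⟨a * b, Subgroup.mul_mem _ ha hb⟩ :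
            ↥(Nsub X) ⧸ (Hsub X).subgroupOf (Nsub X)) =
            QuotientGroup.mk ⟨a, ha⟩ * QuotientGroup.mk ⟨b, hb⟩ := rfl
        rw [e]
        exact Subgroup.mul_mem _ iha ihb
      | inv a ha iha =>
        have e : (QuotientGroup.mk ⟨a⁻¹, Subgroup.inv_mem _ ha⟩ :
            ↥(Nsub X) ⧸ (Hsub X).subgroupOf (Nsub X)) =
            (QuotientGroup.mk ⟨a, ha⟩)⁻¹ := rfl
        rw [e]
        exact Subgroup.inv_mem _ iha
  -- the permutation of `n` is trivial
  obtain ⟨pp, hpp, hb⟩ := rho_spec hM φ hφ ⟨n, hn⟩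
  have hπle : ∀ k, rk (rho hM φ hφ ⟨n, hn⟩ k) ≤ rk k := by
    intro k
    obtain ⟨r, hr⟩ := exists_ne_zero (φ n) k
    have e1 : r = rho hM φ hφ ⟨n, hn⟩ k := by
      by_contra hne
      exact hr (col_zero φ hφ hpp hb k r hne)
    by_contra hlt
    push Not at hlt
    rw [← e1] at hlt
    exact hr (hup r k hlt)
  have hπ1 : rho hM φ hφ ⟨n, hn⟩ = 1 := perm_eq_one_of_rk_le _ hπle
  have h1 : ρ' (QuotientGroup.mk ⟨n, hn⟩) = ρ' 1 := by
    rw [map_one]
    exact hπ1
  have h2 := hinj h1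
  rw [QuotientGroup.eq_one_iff, Subgroup.mem_subgroupOf] at h2
  exact h2

end main

end Cfsg.Agent.Helper68.StCN2a
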