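import Mathlib
import Cfsg.Agent.Helper96.StC.Generic
import Cfsg.Agent.Helper68.StCN2a
import Cfsg.Agent.Helper67.HyperN1

/-!
# Piece (N2) of S2092: an element of `N` whose image is upper triangular lies in `H`
-/

set_option autoImplicit false

namespace Cfsg.Agent.Helper68.StCN2

open Cfsg.Agent.Helper96.StN Cfsg.Agent.Helper96.StC

universe u v

variable {K : Type u} [Field K] {D : Type v} [Group D] {m : ℕ}
  {X : Fin m ⊕ Fin m → Fin m ⊕ Fin m → K → D}

theorem mem_Hsub_of_upper [Fintype K] (hX : SpRel X) (hM : MonoData X reflPerm cw)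
    (φ : D →* Matrix.symplecticGroup (Fin m) K)
    (hφ : ∀ p q, p ≠ q → ∀ t, (φ (X p q t)).1 = spM p q t)
    (n : D) (hn : n ∈ Nsub X) (hup : ∀ r k, rk k < rk r → (φ n).1 r k = 0) : n ∈ Hsub X :=
  Cfsg.Agent.Helper68.StCN2a.mem_Hsub_of_upper_of
    (fun s ρ h1 h2 h3 h4 h5 h6 =>
      Cfsg.Agent.Helper67.HyperN1.hyper_injective s ρ h1 h2 h3 h4 h5 h6)
    hX hM φ hφ n hn hup

end Cfsg.Agent.Helper68.StCN2
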