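import Mathlib
import Cfsg.Agent.Helper99.QSpDefs
import Cfsg.Agent.Helper99.QSpArithDefs

/-! (QF2) of helper99's S5974 engine: pure arithmetic, `Crit` at the maximal number of blocks
gives the right hand side (`Star`, `EvenRHS` from `Helper99.QSpArithDefs`). -/

set_option autoImplicit false

namespace Cfsg.Agent.Helper68.QSp

open Cfsg.Agent.Helper99.QSp

theorem divmod_unique' {a b q r : ℕ} (hb : 0 < b) (h : a = q * b + r) (hr : r < b) :
    a / b = q ∧ a % b = r := by
  rw [Nat.div_mod_unique hb]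
  exact ⟨by rw [h]; ring, hr⟩

theorem mod_star1 {i d k : ℕ} (hi0 : 0 < i) (hkd : k < d) (h : i ∣ d - k) (hk : 2 * k < i) :
    (2 * d) % i = 2 * k := by
  obtain ⟨t, ht⟩ := h
  have h2 : 2 * d = (2 * t) * i + 2 * k := by
    have h3 : (2 * t) * i = 2 * (i * t) := by ring
    rw [h3]; omega
  exact (divmod_unique' hi0 h2 hk).2

theorem mod_star2 {i d k : ℕ} (hi0 : 0 < i) (hkd : k + 1 < d) (h : i ∣ 2 * (d - k - 1))
    (hk : 2 * k + 2 < i) : (2 * d) % i = 2 * k + 2 := by
  obtain ⟨t, ht⟩ := h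
  have h2 : 2 * d = t * i + (2 * k + 2) := by
    have h3 : t * i = i * t := by ring
    rw [h3]; omega
  exact (divmod_unique' hi0 h2 hk).2

theorem mod_star_odd {i d k : ℕ} (hi0 : 0 < i) (hkd : k < d) (h : i ∣ d - k)
    (hk : 2 * k < 2 * i) : (2 * d) % (2 * i) = 2 * k := by
  obtain ⟨t, ht⟩ := h
  have h2 : 2 * d = t * (2 * i) + 2 * k := by
    have h3 : t * (2 * i) = 2 * (i * t) := by ring
    rw [h3]; omega
  exact (divmod_unique' (by omega) h2 hk).2

/-- (QF2), odd `i`. -/
theorem rhs_of_crit_odd {i c d e : ℕ} (hi : Odd i) (hc : c = 2 * i) (he : 1 ≤ e) (hed : e < d)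
    (hstar : Cfsg.Agent.Helper99.QSp.Star i d e) (hcrit : Crit i c d e ((2 * d) / c) 1 1) :
    c ≤ 2 * e ∧ (2 * e) % c ≤ (2 * d) % c := by
  unfold Cfsg.Agent.Helper99.QSp.Star at hstar
  subst hc
  have hi0 : 0 < i := hi.pos
  have hc0 : 0 < 2 * i := by omega
  obtain ⟨k, hke, hk⟩ := hstar
  have hdvd : i ∣ d - k := by
    rcases hk with h | ⟨h1, h2⟩
    · exact h
    · exfalso
      apply h2
      have hcop : Nat.Coprime i 2 := Nat.coprime_two_right.2 hi
      exact hcop.dvd_of_dvd_mul_left h1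
  obtain ⟨B, hBdef⟩ : ∃ B, (2 * d) / (2 * i) = B := ⟨_, rfl⟩
  obtain ⟨k0, hk0def⟩ : ∃ k0, (2 * d) % (2 * i) = k0 := ⟨_, rfl⟩
  have hn : B * (2 * i) + k0 = 2 * d := by
    rw [← hBdef, ← hk0def]; exact Nat.div_add_mod' (2 * d) (2 * i)
  have hk0 : k0 < 2 * i := by rw [← hk0def]; exact Nat.mod_lt _ hc0
  rw [hBdef] at hcrit
  obtain ⟨b', hb'B, hb'm, hcase⟩ := hcrit
  have key : (2 * e) % (2 * i) ≤ k0 := by
    rcases hcase with ⟨h1, _⟩ | ⟨h1, h2⟩ | ⟨h1, h2, _⟩
    · have := divmod_unique' hc0 (show 2 * e = b' * (2 * i) + 0 by omega) hc0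
      omega
    · have := divmod_unique' hc0
        (show 2 * e = b' * (2 * i) + (2 * e - b' * (2 * i)) by omega) (by omega)
      omega
    · have := divmod_unique' hc0
        (show 2 * e = b' * (2 * i) + (2 * e - b' * (2 * i)) by omega) (by omega)
      omega
  refine ⟨?_, by rw [hk0def]; exact key⟩
  by_contra hlt
  push_neg at hlt
  have h2k : (2 * d) % (2 * i) = 2 * k := mod_star_odd hi0 (by omega) hdvd (by omega)
  have hl : (2 * e) % (2 * i) = 2 * e := Nat.mod_eq_of_lt hlt
  omega

/-- (QF2), even `i`. -/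
theorem rhs_of_crit_even {i c d e : ℕ} (hi : Even i) (hi0 : 0 < i) (hc : c = i) (he : 1 ≤ e)
    (hed : e < d) (hstar : Cfsg.Agent.Helper99.QSp.Star i d e)
    (hcrit : ((2 * d) / c * c = 2 * d → bsign i ((2 * d) / c) = 1) →
      Crit i c d e ((2 * d) / c) 1 1) :
    EvenRHS i c d (2 * e) := by
  unfold Cfsg.Agent.Helper99.QSp.Star at hstar
  unfold EvenRHS
  subst hc
  have hbs : ∀ j, bsign c j = (-1) ^ j := fun j => by unfold bsign; rw [if_pos hi]
  obtain ⟨B, hBdef⟩ : ∃ B, (2 * d) / c = B := ⟨_, rfl⟩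
  obtain ⟨k0, hk0def⟩ : ∃ k0, (2 * d) % c = k0 := ⟨_, rfl⟩
  have hn : B * c + k0 = 2 * d := by
    rw [← hBdef, ← hk0def]; exact Nat.div_add_mod' (2 * d) c
  have hk0 : k0 < c := by rw [← hk0def]; exact Nat.mod_lt _ hi0
  obtain ⟨M, hMdef⟩ : ∃ M, (2 * e) / c = M := ⟨_, rfl⟩
  obtain ⟨l0, hl0def⟩ : ∃ l0, (2 * e) % c = l0 := ⟨_, rfl⟩
  have hm : M * c + l0 = 2 * e := by
    rw [← hMdef, ← hl0def]; exact Nat.div_add_mod' (2 * e) c
  have hl0 : l0 < c := by rw [← hl0def]; exact Nat.mod_lt _ hi0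
  rw [hBdef] at hcrit
  rw [hBdef, hk0def, hMdef, hl0def]
  by_cases hA : l0 = 0 ∧ Even M
  · obtain ⟨hl, hM⟩ := hA
    by_cases hk : k0 = 0
    · left; exact ⟨hk, Or.inr ⟨hl, hM⟩⟩
    · right
      refine ⟨?_, Or.inr (Or.inr ⟨by omega, hl, hM⟩)⟩
      have h1M : 1 ≤ M := by
        rcases Nat.eq_zero_or_pos M with h | h
        · subst h; omega
        · exact h
      nlinarith
  · by_cases hadm : B * c = 2 * d → bsign c B = 1
    · obtain ⟨b', hb'B, hb'm, hcase⟩ := hcrit hadm
      -- the common consequences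
      have hcommon : M = b' ∧ 0 < l0 ∧ l0 ≤ k0 ∧ (l0 = k0 → Even (M + B)) := by
        rcases hcase with ⟨h1, h2⟩ | ⟨h1, h2⟩ | ⟨h1, h2, h3⟩
        · exfalso
          have := divmod_unique' hi0 (show 2 * e = b' * c + 0 by omega) hi0
          rw [hMdef, hl0def] at this
          apply hA
          refine ⟨this.2, ?_⟩
          rw [this.1]
          rw [hbs] at h2
          exact (neg_one_pow_eq_one_iff_even (by norm_num)).1 h2
        · have := divmod_unique' hi0
            (show 2 * e = b' * c + (2 * e - b' * c) by omega) (by omega)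
          rw [hMdef, hl0def] at this
          refine ⟨this.1, by omega, by omega, fun h => by omega⟩
        · have := divmod_unique' hi0
            (show 2 * e = b' * c + (2 * e - b' * c) by omega) (by omega)
          rw [hMdef, hl0def] at this
          refine ⟨this.1, by omega, by omega, fun _ => ?_⟩
          rw [hbs, hbs, one_mul, ← pow_add] at h3
          rw [this.1]
          exact (neg_one_pow_eq_one_iff_even (by norm_num)).1 h3
      obtain ⟨hMb, hlpos, hlk, hpar⟩ := hcommon
      -- `c ≤ 2 e`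
      have hcm : c ≤ 2 * e := by
        by_contra hlt
        push_neg at hlt
        have hM0 : M = 0 := by
          rcases Nat.eq_zero_or_pos M with h | h
          · exact h
          · exfalso; nlinarith
        have hl2e : l0 = 2 * e := by rw [hM0] at hm; omega
        obtain ⟨k, hke, hk⟩ := hstar
        rcases hk with h | ⟨h1, h2⟩
        · have := mod_star1 hi0 (by omega) h (by omega)
          omega
        · have h3 := mod_star2 hi0 (by omega) h1 (by omega)
          have hke' : k + 1 = e := by omega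
          have hBe : Even B := by
            have := hpar (by omega)
            rw [hM0, zero_add] at this
            exact this
          obtain ⟨B', hB'⟩ := hBe
          apply h2
          refine ⟨B', ?_⟩
          have h4 : B * c = 2 * (c * B') := by rw [hB']; ring
          omega
      right
      refine ⟨hcm, ?_⟩
      rcases lt_or_eq_of_le hlk with h | h
      · exact Or.inl ⟨h, hlpos⟩
      · refine Or.inr (Or.inl ⟨h.symm, hlpos, ?_⟩)
        have h5 : 2 * d + 2 * e - 2 * k0 = (B + M) * c := by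
          rw [add_mul]; omega
        rw [h5, Nat.mul_div_cancel _ hi0, add_comm]
        exact hpar h
    · push_neg at hadm
      obtain ⟨h1, h2⟩ := hadm
      left
      refine ⟨by omega, Or.inl ?_⟩
      rw [hbs] at h2
      by_contra hodd
      rw [Nat.not_odd_iff_even] at hodd
      exact h2 hodd.neg_one_pow

end Cfsg.Agent.Helper68.QSp
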