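import Cfsg.Agent.Helper61.HallDefs
import Cfsg.Agent.S0708

/-!
# M. Hall's theorem (S4221), piece T1 (helper68 for helper61): involutions

`exists_conj`, `not_fix4`, `exists_config`, `cenConst_exists`, with the signatures of
helper61's skeleton.
-/

set_option autoImplicit false

namespace Cfsg.Agent.Helper68.HallT

open MulAction Cfsg.Agent.Helper61.Hall

variable {G : Type*} [Group G] {Ω : Type*} [MulAction G Ω]

/-- the order of an element of a 4-point stabilizer is odd -/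
theorem odd_orderOf_of_mem_stab4 (hodd : OddStab4 G Ω) {a b c d : Ω}
    (hab : a ≠ b) (hac : a ≠ c) (had : a ≠ d) (hbc : b ≠ c) (hbd : b ≠ d) (hcd : c ≠ d)
    {r : G} (hr : r ∈ stab4 G a b c d) : Odd (orderOf r) := by
  have h1 : Odd (Nat.card (stab4 G a b c d)) := hodd a b c d hab hac had hbc hbd hcd
  have h2 : orderOf r ∣ Nat.card (stab4 G a b c d) := Subgroup.orderOf_dvd_natCard _ hr
  exact Odd.of_dvd_nat h1 h2

/-- an odd power of `g` acts like `g` on a point of a 2-cycle or a fixed point of `g` -/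
theorem pow_odd_smul {g : G} {x : Ω} (h : g • g • x = x) {o : ℕ} (ho : Odd o) :
    g ^ o • x = g • x := by
  obtain ⟨m, rfl⟩ := ho
  induction m with
  | zero => simp
  | succ m ih =>
    have : g ^ (2 * (m + 1) + 1) = g ^ (2 * m + 1) * g * g := by
      rw [show 2 * (m + 1) + 1 = (2 * m + 1) + 1 + 1 by ring, pow_succ, pow_succ]
    rw [this, mul_smul, mul_smul, h, ih]

/-- an odd power (by the order of the square) of `g` is an involution -/
theorem pow_orderOf_sq_mul_self (g : G) :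
    g ^ orderOf (g * g) * g ^ orderOf (g * g) = 1 := by
  rw [← pow_add, ← two_mul, pow_mul, pow_two, pow_orderOf_eq_one]

theorem exists_conj (h4 : IsMultiplyPretransitive G Ω 4) (hodd : OddStab4 G Ω)
    {u u' : G} (hu : u * u = 1) (hu' : u' * u' = 1) {a c a' c' : Ω}
    (ha : u • a ≠ a) (hc : u • c ≠ c) (hca : c ≠ a) (hcua : c ≠ u • a)
    (ha' : u' • a' ≠ a') (hc' : u' • c' ≠ c') (hca' : c' ≠ a') (hcua' : c' ≠ u' • a') :
    ∃ g : G, g * u * g⁻¹ = u' ∧ g • a = a' ∧ g • c = c' := by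
  have huu : ∀ x : Ω, u • u • x = x := fun x => by rw [← mul_smul, hu, one_smul]
  have huu' : ∀ x : Ω, u' • u' • x = x := fun x => by rw [← mul_smul, hu', one_smul]
  -- distinctness of the four points
  have d14 : a ≠ u • c := fun h => hcua (by rw [h, huu])
  have d24 : u • a ≠ u • c := fun h => hca ((MulAction.injective u h).symm)
  have d14' : a' ≠ u' • c' := fun h => hcua' (by rw [h, huu'])
  have d24' : u' • a' ≠ u' • c' := fun h => hca' ((MulAction.injective u' h).symm)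
  obtain ⟨g0, g1, g2, g3, g4⟩ := Cfsg.Agent.S0708.exists_map4 h4 ha.symm hca.symm d14
    hcua.symm d24 hc.symm ha'.symm hca'.symm d14' hcua'.symm d24' hc'.symm
  have i1 : g0⁻¹ • a' = a := by rw [inv_smul_eq_iff, g1]
  have i2 : g0⁻¹ • u' • a' = u • a := by rw [inv_smul_eq_iff, g2]
  have i3 : g0⁻¹ • c' = c := by rw [inv_smul_eq_iff, g3]
  have i4 : g0⁻¹ • u' • c' = u • c := by rw [inv_smul_eq_iff, g4]
  set v : G := g0 * u * g0⁻¹ with hv
  have hvv : v * v = 1 := by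
    rw [hv]
    calc g0 * u * g0⁻¹ * (g0 * u * g0⁻¹) = g0 * (u * u) * g0⁻¹ := by group
      _ = 1 := by rw [hu]; group
  have v1 : v • a' = u' • a' := by rw [hv, mul_smul, mul_smul, i1, g2]
  have v2 : v • u' • a' = a' := by rw [hv, mul_smul, mul_smul, i2, huu, g1]
  have v3 : v • c' = u' • c' := by rw [hv, mul_smul, mul_smul, i3, g4]
  have v4 : v • u' • c' = c' := by rw [hv, mul_smul, mul_smul, i4, huu, g3]
  set r : G := v * u' with hr
  have r1 : r • a' = a' := by rw [hr, mul_smul, v2]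
  have r2 : r • u' • a' = u' • a' := by rw [hr, mul_smul, huu', v1]
  have r3 : r • c' = c' := by rw [hr, mul_smul, v4]
  have r4 : r • u' • c' = u' • c' := by rw [hr, mul_smul, huu', v3]
  have hrmem : r ∈ stab4 G a' (u' • a') c' (u' • c') := mem_stab4.mpr ⟨r1, r2, r3, r4⟩
  have hro : Odd (orderOf r) :=
    odd_orderOf_of_mem_stab4 hodd ha'.symm hca'.symm d14' hcua'.symm d24' hc'.symm hrmem
  obtain ⟨m, hm⟩ := hro
  -- inverses
  have hvinv : v⁻¹ = v := inv_eq_of_mul_eq_one_left hvv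
  have hu'inv : u'⁻¹ = u' := inv_eq_of_mul_eq_one_left hu'
  have hrinv : r⁻¹ = u' * v := by rw [hr, mul_inv_rev, hvinv, hu'inv]
  -- `v * r⁻¹ = r * v`
  have hsc : SemiconjBy v r⁻¹ r := by
    show v * r⁻¹ = r * v
    rw [hrinv, hr]
    exact (mul_assoc _ _ _).symm
  have hsc' : v * (r⁻¹) ^ m = r ^ m * v := hsc.pow_right m
  -- `u' = r⁻¹ * v`
  have hu'eq : u' = r⁻¹ * v := by
    rw [hrinv, mul_assoc, hvv, mul_one]
  have hr2m : r ^ (2 * m) = r⁻¹ := by
    have : r ^ (2 * m) * r = 1 := by rw [← pow_succ, ← hm, pow_orderOf_eq_one]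
    exact eq_inv_of_mul_eq_one_left this
  have hwv : r ^ m * v * (r ^ m)⁻¹ = u' := by
    rw [← inv_pow, mul_assoc, hsc', ← mul_assoc, ← pow_add, ← two_mul, hr2m, ← hu'eq]
  have hwa : r ^ m • a' = a' := by
    have : r ^ m ∈ stabilizer G a' := Subgroup.pow_mem _ (mem_stabilizer_iff.mpr r1) m
    exact mem_stabilizer_iff.mp this
  have hwc : r ^ m • c' = c' := by
    have : r ^ m ∈ stabilizer G c' := Subgroup.pow_mem _ (mem_stabilizer_iff.mpr r3) m
    exact mem_stabilizer_iff.mp this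
  refine ⟨r ^ m * g0, ?_, ?_, ?_⟩
  · rw [← hwv, hv]
    group
  · rw [mul_smul, g1, hwa]
  · rw [mul_smul, g3, hwc]

theorem not_fix4 (hodd : OddStab4 G Ω) {u : G} (hu : u * u = 1) (hu1 : u ≠ 1) {a b c d : Ω}
    (hab : a ≠ b) (hac : a ≠ c) (had : a ≠ d) (hbc : b ≠ c) (hbd : b ≠ d) (hcd : c ≠ d)
    (fa : u • a = a) (fb : u • b = b) (fc : u • c = c) (fd : u • d = d) : False := by
  have hmem : u ∈ stab4 G a b c d := mem_stab4.mpr ⟨fa, fb, fc, fd⟩
  have ho : Odd (orderOf u) := odd_orderOf_of_mem_stab4 hodd hab hac had hbc hbd hcd hmem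
  have h2 : orderOf u = 2 := by
    haveI : Fact (Nat.Prime 2) := ⟨Nat.prime_two⟩
    exact orderOf_eq_prime (by rw [pow_two, hu]) hu1
  rw [h2] at ho
  exact absurd ho (by decide)

theorem exists_config (h4 : IsMultiplyPretransitive G Ω 4) (hodd : OddStab4 G Ω)
    {p1 p2 p3 p4 : Ω} (h12 : p1 ≠ p2) (h13 : p1 ≠ p3) (h14 : p1 ≠ p4) (h23 : p2 ≠ p3)
    (h24 : p2 ≠ p4) (h34 : p3 ≠ p4) :
    ∃ s t : G, Config s t p1 p2 p3 p4 := by
  obtain ⟨g, g1, g2, g3, g4⟩ := Cfsg.Agent.S0708.exists_map4 h4 h12 h13 h14 h23 h24 h34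
    h12.symm h24 h23 h14 h13 h34.symm
  have hgg : g * g ∈ stab4 G p1 p2 p3 p4 := by
    refine mem_stab4.mpr ⟨?_, ?_, ?_, ?_⟩ <;> rw [mul_smul]
    · rw [g1, g2]
    · rw [g2, g1]
    · rw [g3, g4]
    · rw [g4, g3]
  have ho : Odd (orderOf (g * g)) :=
    odd_orderOf_of_mem_stab4 hodd h12 h13 h14 h23 h24 h34 hgg
  set t : G := g ^ orderOf (g * g) with ht
  have htt : t * t = 1 := pow_orderOf_sq_mul_self g
  have t1 : t • p1 = p2 := by rw [ht, pow_odd_smul (by rw [g1, g2]) ho, g1]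
  have t2 : t • p2 = p1 := by rw [ht, pow_odd_smul (by rw [g2, g1]) ho, g2]
  have t3 : t • p3 = p4 := by rw [ht, pow_odd_smul (by rw [g3, g4]) ho, g3]
  have t4 : t • p4 = p3 := by rw [ht, pow_odd_smul (by rw [g4, g3]) ho, g4]
  obtain ⟨g', hg't, g'1, g'3⟩ := exists_conj h4 hodd htt htt (a := p1) (c := p3) (a' := p2)
    (c' := p3) (by rw [t1]; exact h12.symm) (by rw [t3]; exact h34.symm) h13.symm
    (by rw [t1]; exact h23.symm) (by rw [t2]; exact h12) (by rw [t3]; exact h34.symm)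
    h23.symm (by rw [t2]; exact h13.symm)
  have hcomm : g' * t = t * g' := by
    calc g' * t = g' * t * g'⁻¹ * g' := by group
      _ = t * g' := by rw [hg't]
  have g'2 : g' • p2 = p1 := by
    rw [← t1, ← mul_smul, hcomm, mul_smul, g'1, t2]
  have g'4 : g' • p4 = p4 := by
    rw [← t3, ← mul_smul, hcomm, mul_smul, g'3]
  have hgg' : g' * g' ∈ stab4 G p1 p2 p3 p4 := by
    refine mem_stab4.mpr ⟨?_, ?_, ?_, ?_⟩ <;> rw [mul_smul]
    · rw [g'1, g'2]
    · rw [g'2, g'1]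
    · rw [g'3, g'3]
    · rw [g'4, g'4]
  have ho' : Odd (orderOf (g' * g')) :=
    odd_orderOf_of_mem_stab4 hodd h12 h13 h14 h23 h24 h34 hgg'
  set s : G := g' ^ orderOf (g' * g') with hs
  have hss : s * s = 1 := pow_orderOf_sq_mul_self g'
  have s1 : s • p1 = p2 := by rw [hs, pow_odd_smul (by rw [g'1, g'2]) ho', g'1]
  have s2 : s • p2 = p1 := by rw [hs, pow_odd_smul (by rw [g'2, g'1]) ho', g'2]
  have s3 : s • p3 = p3 := by rw [hs, pow_odd_smul (by rw [g'3, g'3]) ho', g'3]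
  have s4 : s • p4 = p4 := by rw [hs, pow_odd_smul (by rw [g'4, g'4]) ho', g'4]
  have hst : s * t = t * s := by
    have hc : Commute g' t := hcomm
    exact (hc.pow_left _)
  exact ⟨s, t, ⟨h12, h13, h14, h23, h24, h34, hss, htt, hst, t1, t2, t3, t4, s1, s2, s3, s4⟩⟩

/-- conjugation maps `C(u) ∩ G_{a,ua,c,uc}` into the corresponding group of the conjugate data -/
theorem conj_mem_cen_stab4 {g u u' : G} {a c a' c' : Ω} (hg : g * u * g⁻¹ = u')
    (ga : g • a = a') (gc : g • c = c') {x : G}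
    (hx : x ∈ (Subgroup.centralizer {u} ⊓ stab4 G a (u • a) c (u • c) : Subgroup G)) :
    g * x * g⁻¹ ∈ (Subgroup.centralizer {u'} ⊓ stab4 G a' (u' • a') c' (u' • c') : Subgroup G) := by
  subst hg ga gc
  rw [Subgroup.mem_inf, mem_cen, mem_stab4] at hx ⊢
  obtain ⟨hxu, x1, x2, x3, x4⟩ := hx
  refine ⟨?_, ?_, ?_, ?_, ?_⟩
  · calc g * x * g⁻¹ * (g * u * g⁻¹) = g * (x * u) * g⁻¹ := by group
      _ = g * (u * x) * g⁻¹ := by rw [hxu]
      _ = g * u * g⁻¹ * (g * x * g⁻¹) := by group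
  · simp only [mul_smul, inv_smul_smul, x1]
  · simp only [mul_smul, inv_smul_smul, x2]
  · simp only [mul_smul, inv_smul_smul, x3]
  · simp only [mul_smul, inv_smul_smul, x4]

/-- conjugate data give groups `C(u) ∩ G_{a,ua,c,uc}` of the same order -/
theorem card_cen_stab4_conj {g u u' : G} {a c a' c' : Ω} (hg : g * u * g⁻¹ = u')
    (ga : g • a = a') (gc : g • c = c') :
    Nat.card (Subgroup.centralizer {u'} ⊓ stab4 G a' (u' • a') c' (u' • c') : Subgroup G) =
      Nat.card (Subgroup.centralizer {u} ⊓ stab4 G a (u • a) c (u • c) : Subgroup G) := by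
  have hg' : g⁻¹ * u' * g⁻¹⁻¹ = u := by
    rw [← hg]; group
  have ga' : g⁻¹ • a' = a := by rw [inv_smul_eq_iff, ga]
  have gc' : g⁻¹ • c' = c := by rw [inv_smul_eq_iff, gc]
  refine Nat.card_congr
    { toFun := fun x => ⟨g⁻¹ * x.1 * g⁻¹⁻¹, conj_mem_cen_stab4 hg' ga' gc' x.2⟩
      invFun := fun x => ⟨g * x.1 * g⁻¹, conj_mem_cen_stab4 hg ga gc x.2⟩
      left_inv := fun x => by
        apply Subtype.ext
        show g * (g⁻¹ * x.1 * g⁻¹⁻¹) * g⁻¹ = x.1
        group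
      right_inv := fun x => by
        apply Subtype.ext
        show g⁻¹ * (g * x.1 * g⁻¹) * g⁻¹⁻¹ = x.1
        group }

theorem cenConst_exists (h4 : IsMultiplyPretransitive G Ω 4) (hodd : OddStab4 G Ω) :
    ∃ k : ℕ, CenConst G Ω k := by
  by_cases h : ∃ (u : G) (a c : Ω), u * u = 1 ∧ u • a ≠ a ∧ u • c ≠ c ∧ c ≠ a ∧ c ≠ u • a
  · obtain ⟨u, a, c, hu, ha, hc, hca, hcua⟩ := h
    refine ⟨Nat.card (Subgroup.centralizer {u} ⊓ stab4 G a (u • a) c (u • c) : Subgroup G), ?_⟩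
    intro u' a' c' hu' ha' hc' hca' hcua'
    obtain ⟨g, hg, ga, gc⟩ := exists_conj h4 hodd hu hu' ha hc hca hcua ha' hc' hca' hcua'
    exact card_cen_stab4_conj hg ga gc
  · refine ⟨0, ?_⟩
    intro u a c hu ha hc hca hcua
    exact absurd ⟨u, a, c, hu, ha, hc, hca, hcua⟩ h

end Cfsg.Agent.Helper68.HallT
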