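-- helper68: (N1) for helper99's S2676: even atoms of a skew nilpotent endomorphism.
import Mathlib
import Cfsg.Agent.Helper99.USpA

set_option autoImplicit false

namespace Cfsg.Agent.Helper68.USpN

open Module Cfsg.Agent.Helper99.SpStruct Cfsg.Agent.Helper99.USp

universe u v

variable {F : Type u} [Field F] {V : Type v} [AddCommGroup V] [Module F V]

theorem pow_mem_of_inv {Y : Module.End F V} {M : Submodule F V} (hinv : ∀ x ∈ M, Y x ∈ M)
    (k : ℕ) {x : V} (hx : x ∈ M) : (Y ^ k) x ∈ M := by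
  induction k with
  | zero => simpa using hx
  | succ k ih =>
    rw [pow_succ', Module.End.mul_apply]
    exact hinv _ ih

theorem pow_apply_eq_zero {Y : Module.End F V} {M : Submodule F V} {j : ℕ}
    (htop : ∀ x ∈ M, (Y ^ j) x = 0) {k : ℕ} (hk : j ≤ k) {x : V} (hx : x ∈ M) :
    (Y ^ k) x = 0 := by
  obtain ⟨d, rfl⟩ := Nat.exists_eq_add_of_le hk
  rw [add_comm, ← pow_apply_pow, htop x hx, map_zero]

theorem alt_swap {B : LinearMap.BilinForm F V} (hB : B.IsAlt) (x y : V) : B x y = - B y x := by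
  have := LinearMap.BilinForm.IsAlt.neg_eq hB y x
  rw [← this]

/-- `B v (Y^k v) = 0` for even `k` -/
theorem gamma_even (h2 : (2 : F) ≠ 0) {B : LinearMap.BilinForm F V} (hB : B.IsAlt)
    {Y : Module.End F V} (hY : Skew B Y) {k : ℕ} (hk : Even k) (v : V) :
    B v ((Y ^ k) v) = 0 := by
  have h1 : B v ((Y ^ k) v) = B ((Y ^ k) v) v := by
    rw [hY.pow_right k, hk.neg_one_pow, one_mul]
  have h3 : B v ((Y ^ k) v) = - B v ((Y ^ k) v) := by
    nth_rewrite 1 [h1]
    exact alt_swap hB _ _
  have h4 : (2 : F) * B v ((Y ^ k) v) = 0 := by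
    rw [two_mul]
    nth_rewrite 1 [h3]
    exact neg_add_cancel _
  rcases mul_eq_zero.1 h4 with h | h
  · exact absurd h h2
  · exact h

/-- expansion of `B (v + a • y) (Y^i (v + a • y))` -/
theorem expand (B : LinearMap.BilinForm F V) (Y : Module.End F V) (v y : V) (a : F) (i : ℕ) :
    B (v + a • y) ((Y ^ i) (v + a • y)) =
      B v ((Y ^ i) v) + a * B v ((Y ^ i) y) + a * B y ((Y ^ i) v) + a * a * B y ((Y ^ i) y) := by
  simp only [map_add, map_smul, LinearMap.add_apply, LinearMap.smul_apply, smul_eq_mul]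
  ring

theorem exists_even_atom [FiniteDimensional F V] (h2 : (2 : F) ≠ 0) (B : LinearMap.BilinForm F V) (hB : B.IsAlt)
    (Y : Module.End F V) (hY : Skew B Y) (M : Submodule F V) (hM : Nd B M)
    (hinv : ∀ x ∈ M, Y x ∈ M) (j : ℕ) (hj : Even j) (htop : ∀ x ∈ M, (Y ^ j) x = 0)
    (hne : ∃ x ∈ M, (Y ^ (j - 1)) x ≠ 0) :
    ∃ v ∈ M, ∃ α : F, α ≠ 0 ∧ B v ((Y ^ (j - 1)) v) = α ∧
      ∀ i, i + 1 ≠ j → B v ((Y ^ i) v) = 0 := by
  obtain ⟨x0, hx0M, hx0⟩ := hne
  have hj0 : j ≠ 0 := by
    rintro rfl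
    apply hx0
    have := htop x0 hx0M
    simpa using this
  have hjodd : Odd (j - 1) := by
    obtain ⟨m, hm⟩ := hj
    exact ⟨m - 1, by omega⟩
  -- the symmetric form
  have hsymm : ∀ x y, B x ((Y ^ (j - 1)) y) = B y ((Y ^ (j - 1)) x) := by
    intro x y
    rw [hY.pow_right (j - 1), hjodd.neg_one_pow, alt_swap hB y]
    ring
  -- a vector with `h(v,v) ≠ 0`
  obtain ⟨v0, hv0M, hv0⟩ : ∃ v ∈ M, B v ((Y ^ (j - 1)) v) ≠ 0 := by
    have huM : (Y ^ (j - 1)) x0 ∈ M := pow_mem_of_inv hinv _ hx0M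
    obtain ⟨w, hwM, hw⟩ : ∃ w ∈ M, B w ((Y ^ (j - 1)) x0) ≠ 0 := by
      by_contra hcon
      push_neg at hcon
      exact hx0 ((nd_iff.1 hM) _ huM hcon)
    by_contra hcon
    push_neg at hcon
    have h1 := hcon w hwM
    have h3 := hcon x0 hx0M
    have h4 := hcon (w + x0) (M.add_mem hwM hx0M)
    simp only [map_add, LinearMap.add_apply] at h4
    rw [h1, h3, hsymm x0 w] at h4
    have : (2 : F) * B w ((Y ^ (j - 1)) x0) = 0 := by
      rw [two_mul]; simpa using h4
    rcases mul_eq_zero.1 this with h | h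
    · exact h2 h
    · exact hw h
  -- downward induction
  have key : ∀ k, ∃ v ∈ M, B v ((Y ^ (j - 1)) v) ≠ 0 ∧
      ∀ i, j - 1 - k ≤ i → i + 1 < j → B v ((Y ^ i) v) = 0 := by
    intro k
    induction k with
    | zero =>
      exact ⟨v0, hv0M, hv0, fun i h1 h2 => by omega⟩
    | succ k ih =>
      obtain ⟨v, hvM, hv, hvan⟩ := ih
      by_cases hk : j - 1 - k = 0
      · refine ⟨v, hvM, hv, fun i _ hi => hvan i (by omega) hi⟩
      set n := j - 1 - (k + 1) with hn
      have hn1 : j - 1 - k = n + 1 := by omega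
      rcases Nat.even_or_odd n with hne | hno
      · refine ⟨v, hvM, hv, fun i h1 hi => ?_⟩
        rcases Nat.eq_or_lt_of_le h1 with h | h
        · rw [← h]; exact gamma_even h2 hB hY hne v
        · exact hvan i (by omega) hi
      · -- odd `n`: modify `v`
        set e := j - 1 - n with he
        have hepos : 1 ≤ e := by omega
        have heven : Even e := by
          obtain ⟨a, ha⟩ := hno
          obtain ⟨b, hb⟩ := hjodd
          exact ⟨b - a, by omega⟩
        set α := B v ((Y ^ (j - 1)) v) with hα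
        set γ := B v ((Y ^ n) v) with hγ
        set a : F := -γ / (2 * α) with ha
        have hyM : (Y ^ e) v ∈ M := pow_mem_of_inv hinv _ hvM
        have t1 : ∀ i, B v ((Y ^ i) ((Y ^ e) v)) = B v ((Y ^ (i + e)) v) := fun i => by
          rw [pow_apply_pow]
        have t2 : ∀ i, B ((Y ^ e) v) ((Y ^ i) v) = B v ((Y ^ (i + e)) v) := fun i => by
          rw [hY.pow_left e, heven.neg_one_pow, one_mul, pow_apply_pow, add_comm]
        have t3 : ∀ i, B ((Y ^ e) v) ((Y ^ i) ((Y ^ e) v)) = B v ((Y ^ (i + e + e)) v) := fun i => by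
          rw [hY.pow_left e, heven.neg_one_pow, one_mul, pow_apply_pow, pow_apply_pow]
          congr 3
          omega
        have z : ∀ k, j ≤ k → B v ((Y ^ k) v) = 0 := fun k hk => by
          rw [pow_apply_eq_zero htop hk hvM, map_zero]
        refine ⟨v + a • (Y ^ e) v, M.add_mem hvM (M.smul_mem _ hyM), ?_, ?_⟩
        · rw [expand, t1, t2, t3, z (j - 1 + e) (by omega), z (j - 1 + e + e) (by omega)]
          simpa using hv
        · intro i h1 hi
          rw [expand, t1, t2, t3]
          rcases Nat.eq_or_lt_of_le h1 with h | h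
          · -- `i = n`
            have hi' : i = n := by omega
            subst hi'
            have e1 : n + e = j - 1 := by omega
            rw [z (n + e + e) (by omega), e1, ← hα, ← hγ, ha]
            have h2α : (2 : F) * α ≠ 0 := mul_ne_zero h2 hv
            simp only [mul_zero, add_zero]
            field_simp
            ring
          · rw [hvan i (by omega) hi, z (i + e) (by omega), z (i + e + e) (by omega)]
            simp
  obtain ⟨v, hvM, hv, hvan⟩ := key (j - 1)
  refine ⟨v, hvM, B v ((Y ^ (j - 1)) v), hv, rfl, fun i hi => ?_⟩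
  rcases Nat.lt_or_ge (i + 1) j with h | h
  · exact hvan i (by omega) h
  · rw [pow_apply_eq_zero htop (by omega) hvM, map_zero]

end Cfsg.Agent.Helper68.USpN
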