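-- helper68: (N2) for helper99's S2676: odd atoms (hyperbolic pairs of strings) of a skew
-- nilpotent endomorphism.
import Mathlib
import Cfsg.Agent.Helper99.USpA
import Cfsg.Agent.Helper68.USpN1

set_option autoImplicit false

namespace Cfsg.Agent.Helper68.USpN

open Module Cfsg.Agent.Helper99.SpStruct Cfsg.Agent.Helper99.USp

universe u v

variable {F : Type u} [Field F] {V : Type v} [AddCommGroup V] [Module F V]

theorem neg_one_pow_mul_self (e : ℕ) : ((-1 : F)) ^ e * (-1) ^ e = 1 := by
  rw [← mul_pow]; simp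

/-- the dual vector of a string of length `j` -/
theorem exists_dual (B : LinearMap.BilinForm F V) (hB : B.IsAlt) (Y : Module.End F V)
    (hY : Skew B Y) (M : Submodule F V) (hM : Nd B M) (hinv : ∀ x ∈ M, Y x ∈ M) (j : ℕ)
    (htop : ∀ x ∈ M, (Y ^ j) x = 0) {v : V} (hvM : v ∈ M) (hv : (Y ^ (j - 1)) v ≠ 0) :
    ∃ w ∈ M, ∀ a, B ((Y ^ a) v) w = if a = j - 1 then 1 else 0 := by
  have hj0 : j ≠ 0 := by
    rintro rfl
    apply hv
    have := htop v hvM
    simpa using this
  have z : ∀ k, j ≤ k → (Y ^ k) v = 0 := fun k hk => pow_apply_eq_zero htop hk hvM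
  -- a first approximation
  obtain ⟨w0, hw0M, hw0⟩ : ∃ w ∈ M, B ((Y ^ (j - 1)) v) w = 1 := by
    have huM : (Y ^ (j - 1)) v ∈ M := pow_mem_of_inv hinv _ hvM
    obtain ⟨w, hwM, hw⟩ : ∃ w ∈ M, B w ((Y ^ (j - 1)) v) ≠ 0 := by
      by_contra hcon
      push_neg at hcon
      exact hv ((nd_iff.1 hM) _ huM hcon)
    have h : B ((Y ^ (j - 1)) v) w ≠ 0 := by
      rw [alt_swap hB]
      exact neg_ne_zero.2 hw
    refine ⟨(B ((Y ^ (j - 1)) v) w)⁻¹ • w, M.smul_mem _ hwM, ?_⟩
    rw [map_smul, smul_eq_mul, inv_mul_cancel₀ h]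
  have key : ∀ k, ∃ w ∈ M, B ((Y ^ (j - 1)) v) w = 1 ∧
      ∀ a, j - 1 - k ≤ a → a < j - 1 → B ((Y ^ a) v) w = 0 := by
    intro k
    induction k with
    | zero => exact ⟨w0, hw0M, hw0, fun a h1 h2 => by omega⟩
    | succ k ih =>
      obtain ⟨w, hwM, hw1, hw⟩ := ih
      by_cases hk : j - 1 - k = 0
      · exact ⟨w, hwM, hw1, fun a _ ha => hw a (by omega) ha⟩
      set n := j - 1 - (k + 1) with hn
      have hn1 : j - 1 - k = n + 1 := by omega
      set e := j - 1 - n with he
      have hepos : 1 ≤ e := by omega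
      set c := B ((Y ^ n) v) w with hc
      have t : ∀ a, B ((Y ^ a) v) ((Y ^ e) w) = (-1) ^ e * B ((Y ^ (e + a)) v) w := fun a => by
        rw [hY.pow_right e, pow_apply_pow]
      have hyM : (Y ^ e) w ∈ M := pow_mem_of_inv hinv _ hwM
      refine ⟨w - ((-1) ^ e * c) • (Y ^ e) w, M.sub_mem hwM (M.smul_mem _ hyM), ?_, ?_⟩
      · rw [map_sub, map_smul, t, z (e + (j - 1)) (by omega), hw1]
        simp
      · intro a h1 ha
        rw [map_sub, map_smul, t]
        rcases Nat.eq_or_lt_of_le h1 with h | h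
        · have ha' : a = n := by omega
          subst ha'
          have e1 : e + n = j - 1 := by omega
          rw [e1, hw1, ← hc, smul_eq_mul, mul_one]
          have := neg_one_pow_mul_self (F := F) e
          calc c - (-1) ^ e * c * (-1) ^ e = c - c * ((-1) ^ e * (-1) ^ e) := by ring
            _ = 0 := by rw [this]; ring
        · rw [hw a (by omega) ha, z (e + a) (by omega)]
          simp
  obtain ⟨w, hwM, hw1, hw⟩ := key (j - 1)
  refine ⟨w, hwM, fun a => ?_⟩
  split_ifs with h
  · rw [h]; exact hw1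
  · rcases Nat.lt_or_ge a (j - 1) with h' | h'
    · exact hw a (by omega) h'
    · rw [z a (by omega)]; simp

/-- the pairing of `v` with the string of its dual vector -/
theorem dual_right (B : LinearMap.BilinForm F V) (Y : Module.End F V) (hY : Skew B Y) (j : ℕ)
    (hjm : Even (j - 1)) {v w : V}
    (hw : ∀ a, B ((Y ^ a) v) w = if a = j - 1 then 1 else 0) (i : ℕ) :
    B v ((Y ^ i) w) = if i = j - 1 then 1 else 0 := by
  rw [hY.pow_right i, hw i]
  split_ifs with h
  · rw [h, hjm.neg_one_pow, one_mul]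
  · simp

theorem dual_left (B : LinearMap.BilinForm F V) (Y : Module.End F V) (hY : Skew B Y) (j : ℕ)
    (hjm : Even (j - 1)) {v w : V}
    (hw : ∀ i, B v ((Y ^ i) w) = if i = j - 1 then 1 else 0) (a : ℕ) :
    B ((Y ^ a) v) w = if a = j - 1 then 1 else 0 := by
  rw [hY.pow_left a, hw a]
  split_ifs with h
  · rw [h, hjm.neg_one_pow, one_mul]
  · simp

theorem exists_odd_atom [FiniteDimensional F V] (h2 : (2 : F) ≠ 0) (B : LinearMap.BilinForm F V) (hB : B.IsAlt)
    (Y : Module.End F V) (hY : Skew B Y) (M : Submodule F V) (hM : Nd B M)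
    (hinv : ∀ x ∈ M, Y x ∈ M) (j : ℕ) (hj : Odd j) (htop : ∀ x ∈ M, (Y ^ j) x = 0)
    (hne : ∃ x ∈ M, (Y ^ (j - 1)) x ≠ 0) :
    ∃ v ∈ M, ∃ w ∈ M, (∀ i, B v ((Y ^ i) v) = 0) ∧ (∀ i, B w ((Y ^ i) w) = 0) ∧
      B v ((Y ^ (j - 1)) w) = 1 ∧ ∀ i, i + 1 ≠ j → B v ((Y ^ i) w) = 0 := by
  obtain ⟨x0, hx0M, hx0⟩ := hne
  have hjm : Even (j - 1) := by
    obtain ⟨m, hm⟩ := hj
    exact ⟨m, by omega⟩
  have hj1 : 1 ≤ j := by
    obtain ⟨m, hm⟩ := hj
    omega
  -- `γ_i = 0` for `i ≥ j - 1`
  have top0 : ∀ x ∈ M, ∀ i, j - 1 ≤ i → B x ((Y ^ i) x) = 0 := by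
    intro x hx i hi
    rcases Nat.eq_or_lt_of_le hi with h | h
    · rw [← h]; exact gamma_even h2 hB hY hjm x
    · rw [pow_apply_eq_zero htop (by omega) hx, map_zero]
  -- Step 1: an isotropic string
  have step1 : ∀ k, ∃ v ∈ M, (Y ^ (j - 1)) v ≠ 0 ∧ ∀ i, j - 1 - k ≤ i → B v ((Y ^ i) v) = 0 := by
    intro k
    induction k with
    | zero => exact ⟨x0, hx0M, hx0, fun i hi => top0 x0 hx0M i (by omega)⟩
    | succ k ih =>
      obtain ⟨v, hvM, hv, hvan⟩ := ih
      by_cases hk : j - 1 - k = 0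
      · exact ⟨v, hvM, hv, fun i _ => hvan i (by omega)⟩
      set n := j - 1 - (k + 1) with hn
      have hn1 : j - 1 - k = n + 1 := by omega
      rcases Nat.even_or_odd n with hne | hno
      · refine ⟨v, hvM, hv, fun i h1 => ?_⟩
        rcases Nat.eq_or_lt_of_le h1 with h | h
        · rw [← h]; exact gamma_even h2 hB hY hne v
        · exact hvan i (by omega)
      · set e := j - 1 - n with he
        have hepos : 1 ≤ e := by omega
        have heodd : Odd e := by
          obtain ⟨a, ha⟩ := hno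
          obtain ⟨b, hb⟩ := hjm
          exact ⟨b - a - 1, by omega⟩
        obtain ⟨w, hwM, hD1⟩ := exists_dual B hB Y hY M hM hinv j htop hvM hv
        have hD2 := dual_right B Y hY j hjm hD1
        set γ := B v ((Y ^ n) v) with hγ
        set b : F := -γ / 2 with hb
        have huM : (Y ^ e) w ∈ M := pow_mem_of_inv hinv _ hwM
        have zw : ∀ k, j ≤ k → (Y ^ k) w = 0 := fun k hk => pow_apply_eq_zero htop hk hwM
        have t1 : ∀ i, B v ((Y ^ i) ((Y ^ e) w)) = if i + e = j - 1 then 1 else 0 := fun i => by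
          rw [pow_apply_pow, hD2]
        have t2 : ∀ i, B ((Y ^ e) w) ((Y ^ i) v) = if i + e = j - 1 then 1 else 0 := fun i => by
          rw [hY.pow_left e, heodd.neg_one_pow, pow_apply_pow, alt_swap hB, hD1, add_comm]
          split_ifs <;> simp
        have t3 : ∀ i, n ≤ i → B ((Y ^ e) w) ((Y ^ i) ((Y ^ e) w)) = 0 := fun i hi => by
          rw [hY.pow_left e, pow_apply_pow, pow_apply_pow, zw (e + i + e) (by omega), map_zero,
            mul_zero]
        refine ⟨v + b • (Y ^ e) w, M.add_mem hvM (M.smul_mem _ huM), ?_, ?_⟩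
        · rw [map_add, map_smul, pow_apply_pow, zw (j - 1 + e) (by omega), smul_zero, add_zero]
          exact hv
        · intro i h1
          rw [expand, t1, t2, t3 i h1]
          rcases Nat.eq_or_lt_of_le h1 with h | h
          · have hi' : i = n := by omega
            subst hi'
            have e1 : n + e = j - 1 := by omega
            rw [if_pos e1, ← hγ, hb]
            field_simp
            ring
          · rw [hvan i (by omega), if_neg (by omega)]
            simp
  obtain ⟨v, hvM, hv, hviso⟩ := step1 (j - 1)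
  have hviso' : ∀ i, B v ((Y ^ i) v) = 0 := fun i => hviso i (by omega)
  obtain ⟨w0, hw0M, hD1⟩ := exists_dual B hB Y hY M hM hinv j htop hvM hv
  have hD2 := dual_right B Y hY j hjm hD1
  -- Step 2: make the dual string isotropic
  have step2 : ∀ k, ∃ w ∈ M, (∀ i, B v ((Y ^ i) w) = if i = j - 1 then 1 else 0) ∧
      ∀ i, j - 1 - k ≤ i → B w ((Y ^ i) w) = 0 := by
    intro k
    induction k with
    | zero => exact ⟨w0, hw0M, hD2, fun i hi => top0 w0 hw0M i (by omega)⟩
    | succ k ih =>
      obtain ⟨w, hwM, hwD2, hvan⟩ := ih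
      by_cases hk : j - 1 - k = 0
      · exact ⟨w, hwM, hwD2, fun i _ => hvan i (by omega)⟩
      set n := j - 1 - (k + 1) with hn
      have hn1 : j - 1 - k = n + 1 := by omega
      rcases Nat.even_or_odd n with hne | hno
      · refine ⟨w, hwM, hwD2, fun i h1 => ?_⟩
        rcases Nat.eq_or_lt_of_le h1 with h | h
        · rw [← h]; exact gamma_even h2 hB hY hne w
        · exact hvan i (by omega)
      · set e := j - 1 - n with he
        have hepos : 1 ≤ e := by omega
        have heodd : Odd e := by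
          obtain ⟨a, ha⟩ := hno
          obtain ⟨b, hb⟩ := hjm
          exact ⟨b - a - 1, by omega⟩
        have hwD1 := dual_left B Y hY j hjm hwD2
        set δ := B w ((Y ^ n) w) with hδ
        set c : F := δ / 2 with hc
        have huM : (Y ^ e) v ∈ M := pow_mem_of_inv hinv _ hvM
        have t1 : ∀ i, B w ((Y ^ i) ((Y ^ e) v)) = - (if i + e = j - 1 then 1 else 0) := fun i => by
          rw [pow_apply_pow, alt_swap hB, hwD1]
        have t2 : ∀ i, B ((Y ^ e) v) ((Y ^ i) w) = - (if i + e = j - 1 then 1 else 0) := fun i => by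
          rw [hY.pow_left e, heodd.neg_one_pow, pow_apply_pow, hwD2, add_comm]
          split_ifs <;> simp
        have t3 : ∀ i, B ((Y ^ e) v) ((Y ^ i) ((Y ^ e) v)) = 0 := fun i => by
          rw [hY.pow_left e, pow_apply_pow, pow_apply_pow, hviso', mul_zero]
        refine ⟨w + c • (Y ^ e) v, M.add_mem hwM (M.smul_mem _ huM), ?_, ?_⟩
        · intro i
          rw [map_add, map_smul, map_add, map_smul, pow_apply_pow, hviso', hwD2]
          simp
        · intro i h1
          rw [expand, t1, t2, t3]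
          rcases Nat.eq_or_lt_of_le h1 with h | h
          · have hi' : i = n := by omega
            subst hi'
            have e1 : n + e = j - 1 := by omega
            rw [if_pos e1, ← hδ, hc]
            field_simp
            ring
          · rw [hvan i (by omega), if_neg (by omega)]
            simp
  obtain ⟨w, hwM, hwD2, hwiso⟩ := step2 (j - 1)
  refine ⟨v, hvM, w, hwM, hviso', fun i => hwiso i (by omega), ?_, ?_⟩
  · rw [hwD2, if_pos rfl]
  · intro i hi
    rw [hwD2, if_neg (by omega)]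

end Cfsg.Agent.Helper68.USpN
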