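import Mathlib
import Cfsg.Agent.Helper13.QFEDefs

/-! (M4) of helper13's S5977/S5978 skeleton (#8823): an isometry commuting with `θ` comes from an
`L`-isometry of the model. -/

set_option autoImplicit false

namespace Cfsg.Agent.Helper68.QFEM4

open Matrix Cfsg QuadraticMap
open Cfsg.Agent.Helper13.QFE

universe u

variable {F : Type u} [Field F] {ι : Type} [Fintype ι] [DecidableEq ι]

/-- `1, s` span `L` over `F`. -/
theorem span_one_s {δ : F} (hδ : ¬ IsSquare δ) {L : Type*} [Field L] [Algebra F L] {s : L}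
    (hL : QExt F L δ s) (a : L) : ∃ x y : F, a = algebraMap F L x + y • s := by
  have hfr := hL.fr
  have hfin : Module.Finite F L := Module.finite_of_finrank_pos (by rw [hfr]; norm_num)
  have hinj : Function.Injective (algebraMap F L) := (algebraMap F L).injective
  have hli : LinearIndependent F ![(1 : L), s] := by
    rw [LinearIndependent.pair_iff]
    intro p q hpq
    rw [Algebra.smul_def, Algebra.smul_def, mul_one] at hpq
    have hq : q = 0 := by
      by_contra hq
      apply hδ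
      have hq' : algebraMap F L q ≠ 0 := fun h => hq (hinj (by rw [h, map_zero]))
      have hs : s = algebraMap F L (-(p / q)) := by
        rw [map_neg, map_div₀]
        field_simp
        linear_combination hpq
      refine ⟨-(p / q), hinj ?_⟩
      rw [← hL.sq, map_mul, ← hs]
    subst hq
    rw [map_zero, zero_mul, add_zero] at hpq
    exact ⟨hinj (by rw [hpq, map_zero]), rfl⟩
  have hsp := hli.span_eq_top_of_card_eq_finrank' (by simp [hfr])
  have ha : a ∈ Submodule.span F (Set.range ![(1 : L), s]) := by rw [hsp]; trivial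
  have hr : Set.range ![(1 : L), s] = {1, s} := by
    simp [Matrix.range_cons, Set.pair_comm]
  rw [hr, Submodule.mem_span_pair] at ha
  obtain ⟨x, y, hxy⟩ := ha
  exact ⟨x, y, by rw [← hxy, Algebra.smul_def, mul_one]⟩

/-- membership in the frozen isometry group, unfolded -/
theorem mem_iso_iff {K : Type*} [Field K] {κ : Type} [Fintype κ] [DecidableEq κ]
    (Q : (κ → K) → K) (g : GL κ K) :
    g ∈ Cfsg.isometryGroup K Q ↔ ∀ v, Q ((g : Matrix κ κ K) *ᵥ v) = Q v := by
  constructor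
  · intro h v
    exact h v v
  · intro h u v
    exact h u

/-- an `F`-matrix commuting with `θ` induces an `L`-linear map on the model -/
theorem exists_lin_of_commute {Q : QuadraticForm F (ι → F)}
    {θ : Matrix ι ι F} {δ : F} (hδ : ¬ IsSquare δ) {L : Type*} [Field L] [Algebra F L] {s : L}
    (hL : QExt F L δ s) {φ : L →ₗ[F] F} {n : ℕ} (M : LModel Q θ L s φ n)
    (A : Matrix ι ι F) (hA : A * θ = θ * A) :
    ∃ f : (Fin n → L) →ₗ[L] (Fin n → L), ∀ c, M.Ψ (f c) = A *ᵥ M.Ψ c := by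
  set g : (Fin n → L) →ₗ[F] (Fin n → L) := (M.Ψ.symm : (ι → F) →ₗ[F] (Fin n → L)) ∘ₗ
    A.mulVecLin ∘ₗ (M.Ψ : (Fin n → L) →ₗ[F] (ι → F)) with hg
  have hgΨ : ∀ c, M.Ψ (g c) = A *ᵥ M.Ψ c := by
    intro c
    simp [hg]
  have hgs : ∀ c, g (s • c) = s • g c := by
    intro c
    apply M.Ψ.injective
    rw [hgΨ, M.hs, M.hs, hgΨ, Matrix.mulVec_mulVec, Matrix.mulVec_mulVec, hA]
  refine ⟨{ toFun := g, map_add' := g.map_add, map_smul' := ?_ }, hgΨ⟩
  intro a c
  obtain ⟨x, y, rfl⟩ := span_one_s hδ hL a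
  simp only [RingHom.id_apply]
  rw [add_smul, add_smul, map_add, algebraMap_smul, algebraMap_smul, map_smul, smul_assoc,
    map_smul, hgs, smul_assoc]

/-- (M4) an isometry commuting with `θ` comes from an `L`-isometry of the model -/
theorem exists_lift_of_commute (h2 : (2 : F) ≠ 0) {Q : QuadraticForm F (ι → F)}
    {θ : Matrix ι ι F} {δ : F} (hθ : TData Q θ δ) {L : Type*} [Field L] [Algebra F L] {s : L}
    (hL : QExt F L δ s) {φ : L →ₗ[F] F} (hφ : φ ≠ 0) {n : ℕ} (M : LModel Q θ L s φ n)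
    (y : GL ι F) (hy : y ∈ Cfsg.isometryGroup F ⇑Q)
    (hc : (y : Matrix ι ι F) * θ = θ * (y : Matrix ι ι F)) :
    ∃ Y : GL (Fin n) L, Y ∈ Cfsg.isometryGroup L ⇑M.QL ∧
      tr M.Ψ (Y : Matrix (Fin n) (Fin n) L) = (y : Matrix ι ι F) := by
  have hδ := hθ.nsq
  have hinj : Function.Injective (algebraMap F L) := (algebraMap F L).injective
  have h1 : ((y⁻¹ : GL ι F) : Matrix ι ι F) * (y : Matrix ι ι F) = 1 := by
    rw [← Units.val_mul, inv_mul_cancel, Units.val_one]
  have h1' : (y : Matrix ι ι F) * ((y⁻¹ : GL ι F) : Matrix ι ι F) = 1 := by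
    rw [← Units.val_mul, mul_inv_cancel, Units.val_one]
  have hyinv : ((y⁻¹ : GL ι F) : Matrix ι ι F) * θ = θ * ((y⁻¹ : GL ι F) : Matrix ι ι F) := by
    calc ((y⁻¹ : GL ι F) : Matrix ι ι F) * θ
        = ((y⁻¹ : GL ι F) : Matrix ι ι F) * θ *
          ((y : Matrix ι ι F) * ((y⁻¹ : GL ι F) : Matrix ι ι F)) := by rw [h1', mul_one]
      _ = ((y⁻¹ : GL ι F) : Matrix ι ι F) * (θ * (y : Matrix ι ι F)) *
          ((y⁻¹ : GL ι F) : Matrix ι ι F) := by simp only [mul_assoc]
      _ = ((y⁻¹ : GL ι F) : Matrix ι ι F) * ((y : Matrix ι ι F) * θ) *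
          ((y⁻¹ : GL ι F) : Matrix ι ι F) := by rw [hc]
      _ = (((y⁻¹ : GL ι F) : Matrix ι ι F) * (y : Matrix ι ι F)) * θ *
          ((y⁻¹ : GL ι F) : Matrix ι ι F) := by simp only [mul_assoc]
      _ = θ * ((y⁻¹ : GL ι F) : Matrix ι ι F) := by rw [h1, one_mul]
  obtain ⟨f, hf⟩ := exists_lin_of_commute hδ hL M (y : Matrix ι ι F) hc
  obtain ⟨f', hf'⟩ := exists_lin_of_commute hδ hL M ((y⁻¹ : GL ι F) : Matrix ι ι F) hyinv
  have hff' : f ∘ₗ f' = LinearMap.id :=
    LinearMap.ext fun c => M.Ψ.injective (by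
      rw [LinearMap.comp_apply, hf, hf', Matrix.mulVec_mulVec, h1', Matrix.one_mulVec,
        LinearMap.id_apply])
  have hf'f : f' ∘ₗ f = LinearMap.id :=
    LinearMap.ext fun c => M.Ψ.injective (by
      rw [LinearMap.comp_apply, hf', hf, Matrix.mulVec_mulVec, h1, Matrix.one_mulVec,
        LinearMap.id_apply])
  have h2L : (2 : L) ≠ 0 := by
    intro h
    apply h2
    apply hinj
    rw [map_ofNat, h, map_zero]
  have hiso : ∀ c, M.QL (f c) = M.QL c := by
    intro c
    by_contra hne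
    set d := M.QL (f c) - M.QL c with hd
    have hd0 : d ≠ 0 := sub_ne_zero.2 hne
    have hφa : ∀ a : L, φ (a * a * d) = 0 := by
      intro a
      have e1 : M.QL (f (a • c)) = a * a * M.QL (f c) := by
        rw [map_smul, QuadraticMap.map_smul, smul_eq_mul]
      have e2 : M.QL (a • c) = a * a * M.QL c := by rw [QuadraticMap.map_smul, smul_eq_mul]
      have e3 : φ (M.QL (f (a • c))) = φ (M.QL (a • c)) := by
        rw [← M.hQ, ← M.hQ, hf]
        exact (mem_iso_iff _ _).1 hy _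
      rw [hd, mul_sub, map_sub, ← e1, ← e2, e3, sub_self]
    apply hφ
    refine LinearMap.ext fun b => ?_
    have hb : b = ((b / d + 1) / 2) * ((b / d + 1) / 2) * d -
        ((b / d - 1) / 2) * ((b / d - 1) / 2) * d := by
      field_simp
      ring
    rw [hb, map_sub, hφa, hφa, sub_zero]
    rfl
  refine ⟨⟨LinearMap.toMatrix' f, LinearMap.toMatrix' f', ?_, ?_⟩, ?_, ?_⟩
  · rw [← LinearMap.toMatrix'_comp, hff', LinearMap.toMatrix'_id]
  · rw [← LinearMap.toMatrix'_comp, hf'f, LinearMap.toMatrix'_id]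
  · rw [mem_iso_iff]
    intro c
    show M.QL (LinearMap.toMatrix' f *ᵥ c) = M.QL c
    rw [LinearMap.toMatrix'_mulVec]
    exact hiso c
  · show tr M.Ψ (LinearMap.toMatrix' f) = (y : Matrix ι ι F)
    have hlin : (M.Ψ : (Fin n → L) →ₗ[F] (ι → F)) ∘ₗ
        ((LinearMap.toMatrix' f).mulVecLin.restrictScalars F) ∘ₗ
        (M.Ψ.symm : (ι → F) →ₗ[F] (Fin n → L)) = Matrix.toLin' (y : Matrix ι ι F) := by
      refine LinearMap.ext fun v => ?_
      simp only [LinearMap.comp_apply, LinearEquiv.coe_coe, LinearMap.restrictScalars_apply,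
        Matrix.mulVecLin_apply, LinearMap.toMatrix'_mulVec, Matrix.toLin'_apply]
      rw [hf, LinearEquiv.apply_symm_apply]
    unfold tr
    rw [hlin, LinearMap.toMatrix'_toLin']

end Cfsg.Agent.Helper68.QFEM4
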