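import Mathlib
import Cfsg.Agent.Helper13.QFEDefs

/-! (M5) of helper13's S5977/S5978 skeleton (#8823): rank under restriction of scalars. -/

set_option autoImplicit false

namespace Cfsg.Agent.Helper68.QFEM5

open Matrix Cfsg QuadraticMap
open Cfsg.Agent.Helper13.QFE

universe u

variable {F : Type u} [Field F] {ι : Type} [Fintype ι] [DecidableEq ι]

/-- (M5) rank under restriction of scalars -/
theorem rank_tr {Q : QuadraticForm F (ι → F)} {θ : Matrix ι ι F} {δ : F} (hδ : ¬ IsSquare δ)
    {L : Type*} [Field L] [Algebra F L] {s : L} (hL : QExt F L δ s) {φ : L →ₗ[F] F} {n : ℕ}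
    (M : LModel Q θ L s φ n) (N : Matrix (Fin n) (Fin n) L) :
    (tr M.Ψ N).rank = 2 * N.rank := by
  classical
  have hfr := hL.fr
  have hfin : Module.Finite F L := Module.finite_of_finrank_pos (by rw [hfr]; norm_num)
  set g : (Fin n → L) →ₗ[F] (Fin n → L) := N.mulVecLin.restrictScalars F with hg
  set f : (ι → F) →ₗ[F] (ι → F) := (M.Ψ : (Fin n → L) →ₗ[F] (ι → F)) ∘ₗ g ∘ₗ
    (M.Ψ.symm : (ι → F) →ₗ[F] (Fin n → L)) with hf
  have h1 : (tr M.Ψ N).rank = Module.finrank F (LinearMap.range f) := by
    unfold Matrix.rank tr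
    rw [← Matrix.toLin'_apply', Matrix.toLin'_toMatrix']
  have h2 : LinearMap.range f = (LinearMap.range g).map (M.Ψ : (Fin n → L) →ₗ[F] (ι → F)) := by
    rw [hf, LinearMap.range_comp, LinearMap.range_comp_of_range_eq_top]
    exact LinearMap.range_eq_top.2 M.Ψ.symm.surjective
  have h3 : Module.finrank F (LinearMap.range f) = Module.finrank F (LinearMap.range g) := by
    rw [h2]
    exact LinearEquiv.finrank_map_eq M.Ψ (LinearMap.range g)
  have h4 : Module.finrank F (LinearMap.range g) =
      Module.finrank F (LinearMap.range N.mulVecLin) := by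
    refine LinearEquiv.finrank_eq ?_
    exact
      { toFun := fun x => ⟨x.1, by obtain ⟨c, hc⟩ := x.2; exact ⟨c, hc⟩⟩
        invFun := fun x => ⟨x.1, by obtain ⟨c, hc⟩ := x.2; exact ⟨c, hc⟩⟩
        map_add' := fun _ _ => rfl
        map_smul' := fun _ _ => rfl
        left_inv := fun _ => rfl
        right_inv := fun _ => rfl }
  have h5 : Module.finrank F (LinearMap.range N.mulVecLin) =
      2 * Module.finrank L (LinearMap.range N.mulVecLin) := by
    rw [← Module.finrank_mul_finrank F L (LinearMap.range N.mulVecLin), hfr]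
  rw [h1, h3, h4, h5]
  rfl

end Cfsg.Agent.Helper68.QFEM5
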