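import Mathlib
import Cfsg.Agent.Helper13.Sp4O.Defs

/-!
# (CEN) for helper13's S2281 (n = 2, q odd) farm (#10428).
-/

set_option autoImplicit false

namespace Cfsg.Agent.Helper68.Sp4O

open Matrix Cfsg.Agent.Helper13.Sp4O

variable {F : Type*} [Field F]

/-- (CEN) -/
theorem all_mem_of_exists {G : Type*} [Group G] (H : Subgroup G) (M : F → F → F → G)
    (hmul : ∀ a b z a' b' z', M a b z * M a' b' z' = M (a + a') (b + b') (z + z' + (a' * b - b' * a)))
    (h2 : (2 : F) ≠ 0) (hex : ∀ a b, ∃ z, M a b z ∈ H) : ∀ a b z, M a b z ∈ H := by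
  have h000 : M 0 0 0 = 1 := by
    have h := hmul 0 0 0 0 0 0
    have e : M (0 + 0) (0 + 0) (0 + 0 + (0 * 0 - 0 * 0)) = M 0 0 0 := by
      congr 1 <;> ring
    rw [e] at h
    exact mul_left_cancel (a := M 0 0 0) (by rw [h, mul_one])
  have hinv : ∀ a b z, (M a b z)⁻¹ = M (-a) (-b) (-z) := by
    intro a b z
    apply inv_eq_of_mul_eq_one_right
    rw [hmul]
    have e : M (a + -a) (b + -b) (z + -z + (-a * b - -b * a)) = M 0 0 0 := by
      congr 1 <;> ring
    rw [e, h000]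
  have hcen : ∀ s, M 0 0 s ∈ H := by
    intro s
    obtain ⟨z1, hz1⟩ := hex 0 (s / 2)
    obtain ⟨z2, hz2⟩ := hex 1 0
    have h1 := H.mul_mem hz2 hz1
    have h2' := H.mul_mem hz1 hz2
    have h3 := H.mul_mem (H.inv_mem h1) h2'
    rw [hmul, hmul, hinv, hmul] at h3
    have e : M (-(1 + 0) + (0 + 1)) (-(0 + s / 2) + (s / 2 + 0))
        (-(z2 + z1 + (0 * 0 - s / 2 * 1)) + (z1 + z2 + (1 * (s / 2) - 0 * 0)) +
          ((0 + 1) * -(0 + s / 2) - (s / 2 + 0) * -(1 + 0))) = M 0 0 s := by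
      congr 1
      · ring
      · ring
      · field_simp
        ring
    rw [e] at h3
    exact h3
  intro a b z
  obtain ⟨z0, hz0⟩ := hex a b
  have h := H.mul_mem hz0 (hcen (z - z0))
  rw [hmul] at h
  have e : M (a + 0) (b + 0) (z0 + (z - z0) + (0 * b - 0 * a)) = M a b z := by
    congr 1 <;> ring
  rw [e] at h
  exact h

end Cfsg.Agent.Helper68.Sp4O
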