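import Mathlib

/-!
Piece (SABS) of helper14's plan for S3439 (board #8158): the abstract spectrum lemma for a
2-Frobenius-type group `G = A ⟨h⟩ ⟨c⟩`.
-/

set_option autoImplicit false

namespace Cfsg.Agent.Helper68.Spec4

theorem mem_of_dvd_twelve {n : ℕ} (h : n ∣ 12) : n ∈ ({1, 2, 3, 4, 5, 6, 9, 12} : Set ℕ) := by
  have hle : n ≤ 12 := Nat.le_of_dvd (by norm_num) h
  have key : ∀ n ≤ 12, n ∣ 12 →
      (n = 1 ∨ n = 2 ∨ n = 3 ∨ n = 4 ∨ n = 5 ∨ n = 6 ∨ n = 9 ∨ n = 12) := by decide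
  exact key n hle h

theorem mem_of_dvd_nine {n : ℕ} (h : n ∣ 9) : n ∈ ({1, 2, 3, 4, 5, 6, 9, 12} : Set ℕ) := by
  have hle : n ≤ 9 := Nat.le_of_dvd (by norm_num) h
  have key : ∀ n ≤ 9, n ∣ 9 →
      (n = 1 ∨ n = 2 ∨ n = 3 ∨ n = 4 ∨ n = 5 ∨ n = 6 ∨ n = 9 ∨ n = 12) := by decide
  exact key n hle h

/-- conjugation by `c ^ k` raises `h` to the power `3 ^ k` -/
theorem conj_pow_c {G : Type*} [Group G] (h c : G) (hch : c * h * c⁻¹ = h ^ 3) (k : ℕ) :
    c ^ k * h * (c ^ k)⁻¹ = h ^ (3 ^ k) := by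
  induction k with
  | zero => simp
  | succ k ih =>
    calc c ^ (k + 1) * h * (c ^ (k + 1))⁻¹ = c * (c ^ k * h * (c ^ k)⁻¹) * c⁻¹ := by
          rw [pow_succ']; group
      _ = c * h ^ (3 ^ k) * c⁻¹ := by rw [ih]
      _ = (c * h * c⁻¹) ^ (3 ^ k) := (conj_pow).symm
      _ = h ^ (3 ^ (k + 1)) := by rw [hch, ← pow_mul, ← pow_succ']

/-- moving `h ^ i` across `d` by a conjugation with a power of `h` -/
theorem pow_mul_eq_conj {G : Type*} [Group G] (h d : G) (hh : h ^ 5 = 1) (e m i : ℕ)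
    (hd : d * h * d⁻¹ = h ^ e) (hm : (m + e * (4 * m)) % 5 = i % 5) :
    h ^ i * d = h ^ m * d * (h ^ m)⁻¹ := by
  have hinv : (h ^ m)⁻¹ = h ^ (4 * m) := by
    rw [inv_eq_iff_mul_eq_one, ← pow_add]
    have : m + 4 * m = 5 * m := by ring
    rw [this, pow_mul, hh, one_pow]
  have h1 : d * h ^ (4 * m) * d⁻¹ = h ^ (e * (4 * m)) := by
    rw [← conj_pow, hd, ← pow_mul]
  calc h ^ i * d = h ^ (m + e * (4 * m)) * d := by
        rw [pow_eq_pow_mod i hh, pow_eq_pow_mod (m + e * (4 * m)) hh, hm]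
    _ = h ^ m * (d * h ^ (4 * m) * d⁻¹) * d := by rw [h1, pow_add, mul_assoc (h ^ m)]
    _ = h ^ m * d * h ^ (4 * m) := by group
    _ = h ^ m * d * (h ^ m)⁻¹ := by rw [hinv]

theorem orderOf_mem_of_twoFrobenius {G : Type*} [Group G] (A : Subgroup G) [A.Normal] [Finite A]
    (h c : G)
    (hgen : ∀ g : G, ∃ a ∈ A, ∃ i j : ℕ, g = a * h ^ i * c ^ j)
    (hh : h ^ 5 = 1) (hh1 : h ≠ 1) (hc : c ^ 4 = 1) (hch : c * h * c⁻¹ = h ^ 3)
    (hA9 : ∀ a ∈ A, a ^ 9 = 1)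
    (hfix : ∀ a ∈ A, h * a * h⁻¹ = a → a = 1)
    (hc2 : ∀ a ∈ A, (a * c ^ 2) ^ 6 = 1)
    (hc1 : ∀ a ∈ A, (a * c) ^ 12 = 1)
    (g : G) : orderOf g ∈ ({1, 2, 3, 4, 5, 6, 9, 12} : Set ℕ) := by
  have hAn : A.Normal := inferInstance
  obtain ⟨a, ha, i, j, rfl⟩ := hgen g
  have hj4 : j % 4 < 4 := Nat.mod_lt _ (by norm_num)
  have hcj : c ^ j = c ^ (j % 4) := pow_eq_pow_mod j hc
  -- the case `4 ∤ j`: the order divides 12
  have main : ∀ (k e m : ℕ), c ^ j = c ^ k → 3 ^ k = e → (m + e * (4 * m)) % 5 = i % 5 →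
      (∀ a' ∈ A, (a' * c ^ k) ^ 12 = 1) →
      orderOf (a * h ^ i * c ^ j) ∈ ({1, 2, 3, 4, 5, 6, 9, 12} : Set ℕ) := by
    intro k e m hjk hek hm h12
    apply mem_of_dvd_twelve
    apply orderOf_dvd_of_pow_eq_one
    have hd : c ^ k * h * (c ^ k)⁻¹ = h ^ e := by rw [← hek]; exact conj_pow_c h c hch k
    have h1 := pow_mul_eq_conj h (c ^ k) hh e m i hd hm
    set t := h ^ m with ht
    have ha' : t⁻¹ * a * t ∈ A := by
      have := hAn.conj_mem a ha t⁻¹
      rwa [inv_inv] at this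
    have hg : a * h ^ i * c ^ j = t * ((t⁻¹ * a * t) * c ^ k) * t⁻¹ := by
      rw [hjk, mul_assoc a, h1]; group
    rw [hg, conj_pow, h12 _ ha', mul_one, mul_inv_cancel]
  rcases (by omega : j % 4 = 0 ∨ j % 4 = 1 ∨ j % 4 = 2 ∨ j % 4 = 3) with hj | hj | hj | hj
  · -- `c ^ j = 1`
    have hcj1 : c ^ j = 1 := by rw [hcj, hj, pow_zero]
    rw [hcj1, mul_one]
    by_cases hi : i % 5 = 0
    · have hhi : h ^ i = 1 := by rw [pow_eq_pow_mod i hh, hi, pow_zero]
      rw [hhi, mul_one]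
      exact mem_of_dvd_nine (orderOf_dvd_of_pow_eq_one (hA9 a ha))
    · -- `s = h ^ i` acts fixed-point-freely
      set s := h ^ i with hs
      have hs5 : s ^ 5 = 1 := by rw [hs, ← pow_mul, mul_comm, pow_mul, hh, one_pow]
      obtain ⟨k, hk⟩ : ∃ k : ℕ, (i * k) % 5 = 1 := by
        have hi5 : i % 5 < 5 := Nat.mod_lt _ (by norm_num)
        rcases (by omega : i % 5 = 1 ∨ i % 5 = 2 ∨ i % 5 = 3 ∨ i % 5 = 4) with h1 | h1 | h1 | h1
        · exact ⟨1, by omega⟩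
        · exact ⟨3, by omega⟩
        · exact ⟨2, by omega⟩
        · exact ⟨4, by omega⟩
      have hsk : s ^ k = h := by
        rw [hs, ← pow_mul, pow_eq_pow_mod (i * k) hh, hk, pow_one]
      have hs1 : s ≠ 1 := by
        intro h1
        apply hh1
        rw [← hsk, h1, one_pow]
      have hfix' : ∀ b ∈ A, s * b = b * s → b = 1 := by
        intro b hb hsb
        apply hfix b hb
        have hcomm : Commute (s ^ k) b := Commute.pow_left hsb k
        rw [hsk] at hcomm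
        rw [hcomm.eq, mul_inv_cancel_right]
      -- the Lang map
      let φ : A → A := fun b => ⟨(b : G) * (s * (b : G)⁻¹ * s⁻¹),
        A.mul_mem b.2 (hAn.conj_mem _ (A.inv_mem b.2) s)⟩
      have hφinj : Function.Injective φ := by
        intro b b' hbb'
        have h1 : (b : G) * (s * (b : G)⁻¹ * s⁻¹) = (b' : G) * (s * (b' : G)⁻¹ * s⁻¹) :=
          congrArg Subtype.val hbb'
        have h2 : s * ((b' : G)⁻¹ * b) = ((b' : G)⁻¹ * b) * s := by
          have h3 : (b : G) * s * (b : G)⁻¹ = (b' : G) * s * (b' : G)⁻¹ := by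
            have this : (b : G) * (s * (b : G)⁻¹ * s⁻¹) * s =
                (b' : G) * (s * (b' : G)⁻¹ * s⁻¹) * s := by rw [h1]
            calc (b : G) * s * (b : G)⁻¹ = (b : G) * (s * (b : G)⁻¹ * s⁻¹) * s := by group
              _ = (b' : G) * (s * (b' : G)⁻¹ * s⁻¹) * s := this
              _ = (b' : G) * s * (b' : G)⁻¹ := by group
          calc s * ((b' : G)⁻¹ * b) = (b' : G)⁻¹ * ((b' : G) * s * (b' : G)⁻¹) * b := by group
            _ = (b' : G)⁻¹ * ((b : G) * s * (b : G)⁻¹) * b := by rw [h3]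
            _ = ((b' : G)⁻¹ * b) * s := by group
        have h4 := hfix' _ (A.mul_mem (A.inv_mem b'.2) b.2) h2
        apply Subtype.ext
        exact (inv_mul_eq_one.mp h4).symm
      obtain ⟨b, hb⟩ := (Finite.injective_iff_surjective.mp hφinj) ⟨a, ha⟩
      have hab : a = (b : G) * (s * (b : G)⁻¹ * s⁻¹) := (congrArg Subtype.val hb).symm
      have hg : a * s = (b : G) * s * (b : G)⁻¹ := by rw [hab]; group
      rw [hg]
      have : Fact (Nat.Prime 5) := ⟨by norm_num⟩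
      have h5 : orderOf ((b : G) * s * (b : G)⁻¹) = 5 := by
        apply orderOf_eq_prime
        · rw [conj_pow, hs5, mul_one, mul_inv_cancel]
        · intro h1
          apply hs1
          calc s = (b : G)⁻¹ * ((b : G) * s * (b : G)⁻¹) * b := by group
            _ = 1 := by rw [h1]; group
      rw [h5]
      simp
  · -- `c ^ j = c`
    refine main 1 3 (2 * i) (by rw [hcj, hj]) (by norm_num) (by omega) ?_
    intro a' ha'
    rw [pow_one]
    exact hc1 a' ha'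
  · -- `c ^ j = c ^ 2`
    refine main 2 9 (3 * i) (by rw [hcj, hj]) (by norm_num) (by omega) ?_
    intro a' ha'
    have : (a' * c ^ 2) ^ 12 = ((a' * c ^ 2) ^ 6) ^ 2 := by rw [← pow_mul]
    rw [this, hc2 a' ha', one_pow]
  · -- `c ^ j = c ^ 3 = c⁻¹`
    refine main 3 27 (4 * i) (by rw [hcj, hj]) (by norm_num) (by omega) ?_
    intro a' ha'
    have hc3 : c ^ 3 = c⁻¹ := by
      rw [eq_inv_iff_mul_eq_one, ← pow_succ]
      exact hc
    have h1 : a' * c ^ 3 = (c * (a'⁻¹ * c) * c⁻¹)⁻¹ := by rw [hc3]; group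
    rw [h1, inv_pow, conj_pow, hc1 _ (A.inv_mem ha'), mul_one, mul_inv_cancel, inv_one]

end Cfsg.Agent.Helper68.Spec4
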