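import Mathlib

/-!
Piece (A6) of helper16's plan for S0997 (board #8201): a sum of even integers that is `2 (mod 4)`
has a term `2 (mod 4)`; and the arithmetic of the case `δ = -1`, `4 ∣ e`.
-/

set_option autoImplicit false

namespace Cfsg.Agent.Helper68.BT97

/-- (A6a) a sum of even integers that is `2 (mod 4)` has a term that is `2 (mod 4)` -/
theorem exists_two_mod_four {ι : Type*} (S : Finset ι) (sd : ι → ℤ)
    (hev : ∀ i ∈ S, (2 : ℤ) ∣ sd i) (hsum : ∑ i ∈ S, sd i ≡ 2 [ZMOD 4]) :
    ∃ i ∈ S, sd i ≡ 2 [ZMOD 4] := by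
  by_contra hno
  push Not at hno
  have h0 : ∀ i ∈ S, (4 : ℤ) ∣ sd i := by
    intro i hi
    have h1 := hev i hi
    have h2 := hno i hi
    unfold Int.ModEq at h2
    omega
  have h4 : (4 : ℤ) ∣ ∑ i ∈ S, sd i := Finset.dvd_sum h0
  unfold Int.ModEq at hsum
  omega

/-- (A6b) case `δ = -1`, `4 ∣ e`: a degree `2 (mod 4)` forces `t = 2` -/
theorem arith_minus_t2 (p e f b d : ℕ) (hp : p.Prime) (hef : e + f = p) (hed : e ∣ p - 1)
    (he4 : 4 ∣ e) (hd : d ∣ f * 2 ^ b) (hd2 : d % 4 = 2)
    (hmod : (d : ℤ) ≡ 1 [ZMOD p] ∨ (d : ℤ) ≡ -1 [ZMOD p]) : p = 2 * e + 1 := by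
  have hp2 := hp.two_le
  -- `e ≥ 4` (as `e ∣ p - 1 ≠ 0`)
  have he0 : e ≠ 0 := by
    rintro rfl
    rw [zero_dvd_iff] at hed
    omega
  have he4' : 4 ≤ e := Nat.le_of_dvd (Nat.pos_of_ne_zero he0) he4
  have hep : e ≤ p - 1 := Nat.le_of_dvd (by omega) hed
  have hf0 : 0 < f := by omega
  -- `d = 2 d'`, `d'` odd, `d' ∣ f`
  obtain ⟨d', hd'⟩ : ∃ d', d = 2 * d' := ⟨d / 2, by omega⟩
  have hd'odd : d' % 2 = 1 := by omega
  have hd'f : d' ∣ f := by
    have h1 : d' ∣ f * 2 ^ b := (Dvd.intro_left 2 hd'.symm).trans hd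
    have hcop : Nat.Coprime d' (2 ^ b) := by
      apply Nat.Coprime.pow_right
      rw [Nat.coprime_two_right]
      exact Nat.odd_iff.mpr hd'odd
    exact hcop.dvd_of_dvd_mul_right h1
  obtain ⟨k, hk⟩ := hd'f
  have hk0 : k ≠ 0 := by
    rintro rfl
    omega
  -- `e ∣ p - 1`
  obtain ⟨l, hl⟩ := hed
  rcases hmod with h1 | h1
  · -- `d = p + 1`
    have h2 : (p : ℤ) ∣ (d : ℤ) - 1 := (Int.modEq_iff_dvd.mp h1.symm)
    obtain ⟨t, ht⟩ := h2
    have hdlt : d < 2 * p := by
      have : d' ≤ f := by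
        rw [hk]
        exact Nat.le_mul_of_pos_right _ (Nat.pos_of_ne_zero hk0)
      omega
    have ht01 : t = 0 ∨ t = 1 := by
      have hpz : (0 : ℤ) < p := by exact_mod_cast hp.pos
      have h3 : (p : ℤ) * t < p * 2 := by
        have : (d : ℤ) < 2 * p := by exact_mod_cast hdlt
        linarith
      have h4 : t < 2 := lt_of_mul_lt_mul_left h3 hpz.le
      have h5 : (p : ℤ) * (-1) < p * t := by
        have : (0 : ℤ) ≤ d := by positivity
        have h6 : (1 : ℤ) < p := by exact_mod_cast hp.one_lt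
        linarith
      have h7 : -1 < t := lt_of_mul_lt_mul_left h5 hpz.le
      omega
    rcases ht01 with rfl | rfl
    · -- `d = 1`, but `d` is even
      have : (d : ℤ) = 1 := by linarith
      have : d = 1 := by exact_mod_cast this
      omega
    · have hdp : (d : ℤ) = p + 1 := by linarith
      have hdp' : d = p + 1 := by exact_mod_cast hdp
      -- `k = 1`
      rcases Nat.lt_or_ge k 2 with hk2 | hk2
      · have hk1 : k = 1 := by omega
        rw [hk1, mul_one] at hk
        omega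
      · have : d' * 2 ≤ d' * k := Nat.mul_le_mul_left _ hk2
        omega
  · -- `d = p - 1`: impossible
    exfalso
    have h2 : (p : ℤ) ∣ (d : ℤ) + 1 := by
      have := Int.modEq_iff_dvd.mp h1.symm
      simpa using this
    obtain ⟨t, ht⟩ := h2
    have hdlt : d < 2 * p := by
      have : d' ≤ f := by
        rw [hk]
        exact Nat.le_mul_of_pos_right _ (Nat.pos_of_ne_zero hk0)
      omega
    have ht1 : t = 1 ∨ t = 2 := by
      have hpz : (0 : ℤ) < p := by exact_mod_cast hp.pos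
      have h3 : (p : ℤ) * t < p * 3 := by
        have : (d : ℤ) < 2 * p := by exact_mod_cast hdlt
        have h6 : (1 : ℤ) < p := by exact_mod_cast hp.one_lt
        linarith
      have h4 : t < 3 := lt_of_mul_lt_mul_left h3 hpz.le
      have h5 : (p : ℤ) * 0 < p * t := by
        have : (0 : ℤ) ≤ d := by positivity
        linarith
      have h7 : 0 < t := lt_of_mul_lt_mul_left h5 hpz.le
      omega
    rcases ht1 with rfl | rfl
    · have hdp : (d : ℤ) + 1 = p := by linarith
      have hdp' : d + 1 = p := by exact_mod_cast hdp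
      -- `2 d' = p - 1`, `f = d' k`
      rcases (by omega : k = 1 ∨ k = 2 ∨ 3 ≤ k) with hk1 | hk2 | hk3
      · rw [hk1, mul_one] at hk
        -- `2 f = p - 1`, `2 e = p + 1`, `e ∣ p - 1 = 2 e - 2`
        have h2e : p - 1 = 2 * e - 2 := by omega
        rw [h2e] at hl
        rcases (by omega : l = 0 ∨ l = 1 ∨ 2 ≤ l) with hl0 | hl1 | hl2
        · rw [hl0, mul_zero] at hl
          omega
        · rw [hl1, mul_one] at hl
          omega
        · have : e * 2 ≤ e * l := Nat.mul_le_mul_left _ hl2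
          omega
      · rw [hk2] at hk
        omega
      · have : d' * 3 ≤ d' * k := Nat.mul_le_mul_left _ hk3
        omega
    · -- `d = 2 p - 1` is odd
      have hdp : (d : ℤ) + 1 = 2 * p := by linarith
      have hdp' : d + 1 = 2 * p := by exact_mod_cast hdp
      omega

end Cfsg.Agent.Helper68.BT97
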