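import Mathlib

/-!
Piece (A8) of helper16's plan for S0997 (board #8201): the order of `2` modulo `2^c - 1` and
modulo `2^m + 1`, and `2^m + 1 ∣ 2^b + 1` with `b ≤ 2m` forces `b = m`.
-/

set_option autoImplicit false

namespace Cfsg.Agent.Helper68.BT97

/-- if `x ^ n ≡ 1` then `x ^ b ≡ x ^ (b % n)` -/
theorem pow_modEq_pow_mod {N x n : ℕ} (h : x ^ n ≡ 1 [MOD N]) (b : ℕ) :
    x ^ b ≡ x ^ (b % n) [MOD N] := by
  conv_lhs => rw [← Nat.div_add_mod b n, pow_add, pow_mul]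
  have h1 : (x ^ n) ^ (b / n) ≡ 1 ^ (b / n) [MOD N] := h.pow _
  rw [one_pow] at h1
  have h2 := h1.mul_right (x ^ (b % n))
  rwa [one_mul] at h2

/-- (A8-I) the order of `2` modulo `2^c - 1` -/
theorem dvd_of_two_pow_modEq_I (c b : ℕ) (hc : 2 ≤ c) (h : 2 ^ b ≡ 1 [MOD 2 ^ c - 1]) :
    c ∣ b := by
  have hpos : 1 ≤ 2 ^ c := Nat.one_le_two_pow
  have hN : 2 ^ c ≡ 1 [MOD 2 ^ c - 1] :=
    ((Nat.modEq_iff_dvd' hpos).mpr (dvd_refl _)).symm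
  have h1 : 2 ^ (b % c) ≡ 1 [MOD 2 ^ c - 1] := (pow_modEq_pow_mod hN b).symm.trans h
  have hr : b % c < c := Nat.mod_lt _ (by omega)
  have hc1 : 2 ^ c = 2 * 2 ^ (c - 1) := by
    rw [← pow_succ']
    congr 1
    omega
  have h2 : 2 ≤ 2 ^ (c - 1) := by
    calc 2 = 2 ^ 1 := by norm_num
      _ ≤ 2 ^ (c - 1) := Nat.pow_le_pow_right (by norm_num) (by omega)
  have h3 : 2 ^ (b % c) ≤ 2 ^ (c - 1) := Nat.pow_le_pow_right (by norm_num) (by omega)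
  have hlt : 2 ^ (b % c) < 2 ^ c - 1 := by omega
  have hlt1 : 1 < 2 ^ c - 1 := by omega
  unfold Nat.ModEq at h1
  rw [Nat.mod_eq_of_lt hlt, Nat.mod_eq_of_lt hlt1] at h1
  have h4 : b % c = 0 := by
    by_contra hne
    have : 2 ^ 1 ≤ 2 ^ (b % c) := Nat.pow_le_pow_right (by norm_num) (by omega)
    omega
  exact Nat.dvd_of_mod_eq_zero h4

/-- (A8-III) the order of `2` modulo `2^m + 1` -/
theorem dvd_of_two_pow_modEq_III (m x : ℕ) (hm : 1 ≤ m) (h : 2 ^ x ≡ 1 [MOD 2 ^ m + 1]) :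
    2 * m ∣ x := by
  have hpos : 1 ≤ 2 ^ m := Nat.one_le_two_pow
  have h2m : 2 ≤ 2 ^ m := by
    calc 2 = 2 ^ 1 := by norm_num
      _ ≤ 2 ^ m := Nat.pow_le_pow_right (by norm_num) hm
  -- `2 ^ (2 m) ≡ 1`
  have hN : 2 ^ (2 * m) ≡ 1 [MOD 2 ^ m + 1] := by
    have h1 : 1 ≤ 2 ^ (2 * m) := Nat.one_le_two_pow
    refine ((Nat.modEq_iff_dvd' h1).mpr ?_).symm
    refine ⟨2 ^ m - 1, ?_⟩
    have : 2 ^ (2 * m) = 2 ^ m * 2 ^ m := by rw [two_mul, pow_add]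
    rw [this]
    zify [hpos, Nat.one_le_iff_ne_zero.mpr (Nat.mul_ne_zero (by omega : 2 ^ m ≠ 0) (by omega : 2 ^ m ≠ 0))]
    ring
  have h1 : 2 ^ (x % (2 * m)) ≡ 1 [MOD 2 ^ m + 1] := (pow_modEq_pow_mod hN x).symm.trans h
  have hr : x % (2 * m) < 2 * m := Nat.mod_lt _ (by omega)
  set r := x % (2 * m) with hrdef
  have hr0 : r = 0 := by
    by_contra hne
    have hr1 : 2 ≤ 2 ^ r := by
      calc 2 = 2 ^ 1 := by norm_num
        _ ≤ 2 ^ r := Nat.pow_le_pow_right (by norm_num) (by omega)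
    by_cases hrm : r ≤ m
    · -- `2 ^ r < N`, so `2 ^ r = 1`
      have h3 : 2 ^ r ≤ 2 ^ m := Nat.pow_le_pow_right (by norm_num) hrm
      unfold Nat.ModEq at h1
      rw [Nat.mod_eq_of_lt (by omega : 2 ^ r < 2 ^ m + 1),
        Nat.mod_eq_of_lt (by omega : 1 < 2 ^ m + 1)] at h1
      omega
    · push Not at hrm
      -- `2 ^ r + 2 ^ (r - m) = 2 ^ (r - m) * N`
      have h3 : 2 ^ r = 2 ^ (r - m) * 2 ^ m := by
        rw [← pow_add]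
        congr 1
        omega
      have h4 : 2 ^ r + 2 ^ (r - m) ≡ 0 [MOD 2 ^ m + 1] := by
        rw [Nat.modEq_zero_iff_dvd]
        exact ⟨2 ^ (r - m), by rw [h3]; ring⟩
      have h5 : 1 + 2 ^ (r - m) ≡ 0 [MOD 2 ^ m + 1] := (h1.symm.add_right _).trans h4
      rw [Nat.modEq_zero_iff_dvd] at h5
      have h6 : 2 ^ m + 1 ≤ 1 + 2 ^ (r - m) := Nat.le_of_dvd (by positivity) h5
      have h7 : 2 ^ (r - m) < 2 ^ m := Nat.pow_lt_pow_right (by norm_num) (by omega)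
      omega
  exact Nat.dvd_of_mod_eq_zero hr0

/-- (A8-II) -/
theorem eq_of_dvd_two_pow_add_one (m b : ℕ) (hm : 1 ≤ m) (hb : b ≤ 2 * m)
    (h : 2 ^ m + 1 ∣ 2 ^ b + 1) : b = m := by
  rcases lt_trichotomy b m with hlt | heq | hgt
  · exfalso
    have h1 : 2 ^ b < 2 ^ m := Nat.pow_lt_pow_right (by norm_num) hlt
    have h2 : 2 ^ m + 1 ≤ 2 ^ b + 1 := Nat.le_of_dvd (by positivity) h
    omega
  · exact heq
  · exfalso
    have h3 : 2 ^ b = 2 ^ (b - m) * 2 ^ m := by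
      rw [← pow_add]
      congr 1
      omega
    have h4 : 2 ≤ 2 ^ (b - m) := by
      calc 2 = 2 ^ 1 := by norm_num
        _ ≤ 2 ^ (b - m) := Nat.pow_le_pow_right (by norm_num) (by omega)
    have h5 : 2 ^ (b - m) ≤ 2 ^ m := Nat.pow_le_pow_right (by norm_num) (by omega)
    -- `N ∣ 2 ^ (b - m) * N - (2 ^ b + 1) = 2 ^ (b - m) - 1`
    have h6 : 2 ^ m + 1 ∣ 2 ^ (b - m) * (2 ^ m + 1) := Dvd.intro_left _ rfl
    have h7 : 2 ^ (b - m) * (2 ^ m + 1) - (2 ^ b + 1) = 2 ^ (b - m) - 1 := by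
      rw [h3]
      have : 2 ^ (b - m) * (2 ^ m + 1) = 2 ^ (b - m) * 2 ^ m + 1 + (2 ^ (b - m) - 1) := by
        rw [mul_add, mul_one]
        omega
      rw [this]
      omega
    have h8 : 2 ^ m + 1 ∣ 2 ^ (b - m) - 1 := by
      rw [← h7]
      exact Nat.dvd_sub h6 h
    have h9 : 2 ^ m + 1 ≤ 2 ^ (b - m) - 1 := Nat.le_of_dvd (by omega) h8
    omega

end Cfsg.Agent.Helper68.BT97
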