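import Cfsg.Agent.Helper16.PC.Defs

/-!
# (Id1) for helper16's S4427 farm (#12085): the idempotent polynomial (with an inline copy of (Ic)).
-/

set_option autoImplicit false
set_option linter.unusedSectionVars false
set_option linter.unusedVariables false

namespace Cfsg.Agent.Helper68.PC

open Cfsg Cfsg.Agent.Helper16 Cfsg.Agent.Helper16.PC Polynomial
open scoped ComplexConjugate

universe u

variable {M : Ideal AlgInt}

/-- two linear factors, one root in the local ideal and one outside, are coprime over the local ring -/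
theorem id1_lin [M.IsPrime] (a b : localSubring M) (ha : MemLocalIdeal M (a : ℂ))
    (hb : ¬ MemLocalIdeal M (b : ℂ)) :
    IsCoprime ((X : (localSubring M)[X]) - C a) (X - C b) := by
  have h1 : ¬ MemLocalIdeal M ((b : ℂ) - a) := not_memLocalIdeal_sub hb ha
  have h2 : MemLocalRing M ((b : ℂ) - a) := memLocalRing_sub b.2 a.2
  have h3 : MemLocalRing M ((b : ℂ) - a)⁻¹ := memLocalRing_inv h2 h1
  have h0 : (b : ℂ) - a ≠ 0 := by
    intro h
    rw [h] at h1
    exact h1 memLocalIdeal_zero
  let u : localSubring M := ⟨((b : ℂ) - a)⁻¹, h3⟩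
  have hu : u * (b - a) = 1 := by
    apply Subtype.ext
    show ((b : ℂ) - a)⁻¹ * ((b : ℂ) - a) = 1
    exact inv_mul_cancel₀ h0
  refine ⟨C u, -C u, ?_⟩
  have : C u * (X - C a) + -C u * (X - C b) = C (u * (b - a)) := by
    rw [C_mul, C_sub]
    ring
  rw [this, hu, C_1]

/-- (Ic), inline copy -/
theorem id1_Ic [M.IsPrime] (A B : Multiset (localSubring M))
    (hA : ∀ a ∈ A, MemLocalIdeal M (a : ℂ)) (hB : ∀ b ∈ B, ¬ MemLocalIdeal M (b : ℂ)) :
    IsCoprime ((A.map (fun a => (X : (localSubring M)[X]) - C a)).prod)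
      ((B.map (fun b => (X : (localSubring M)[X]) - C b)).prod) := by
  induction A using Multiset.induction_on with
  | empty =>
    rw [Multiset.map_zero, Multiset.prod_zero]
    exact isCoprime_one_left
  | cons a A ih =>
    rw [Multiset.map_cons, Multiset.prod_cons]
    refine IsCoprime.mul_left ?_ (ih (fun x hx => hA x (Multiset.mem_cons_of_mem hx)))
    have ha := hA a (Multiset.mem_cons_self a A)
    clear ih hA
    induction B using Multiset.induction_on with
    | empty =>
      rw [Multiset.map_zero, Multiset.prod_zero]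
      exact isCoprime_one_right
    | cons b B ihB =>
      rw [Multiset.map_cons, Multiset.prod_cons]
      exact IsCoprime.mul_right (id1_lin a b ha (hB b (Multiset.mem_cons_self b B)))
        (ihB (fun x hx => hB x (Multiset.mem_cons_of_mem hx)))

/-- (Id1) the idempotent polynomial. -/
theorem PC_Id1 [M.IsPrime] (Λ : Multiset ℂ) (hΛ : ∀ l ∈ Λ, MemLocalRing M l) (h1 : (1 : ℂ) ∈ Λ) :
    ∃ V : (localSubring M)[X],
      ((Λ.map (fun l => (X : ℂ[X]) - C l)).prod) ∣
        (X * V.map (localSubring M).subtype) * (1 - X * V.map (localSubring M).subtype) ∧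
      (V.map (localSubring M).subtype).eval 1 = 1 := by
  classical
  -- lift `Λ` to the subring
  obtain ⟨Λ', hΛ'⟩ : ∃ Λ' : Multiset (localSubring M),
      Multiset.map (fun x : localSubring M => (x : ℂ)) Λ' = Λ := by
    refine ⟨Multiset.pmap (fun (l : ℂ) (hl : MemLocalRing M l) => (⟨l, hl⟩ : localSubring M)) Λ hΛ, ?_⟩
    rw [Multiset.map_pmap]
    exact (Multiset.pmap_eq_map _ (fun a : ℂ => a) Λ hΛ).trans (Multiset.map_id' Λ)
  obtain ⟨A', hA'⟩ : ∃ A' : Multiset (localSubring M),
      A' = Multiset.filter (fun x : localSubring M => MemLocalIdeal M (x : ℂ)) Λ' := ⟨_, rfl⟩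
  obtain ⟨B', hB'⟩ : ∃ B' : Multiset (localSubring M),
      B' = Multiset.filter (fun x : localSubring M => ¬ MemLocalIdeal M (x : ℂ)) Λ' := ⟨_, rfl⟩
  have hAB : A' + B' = Λ' := by
    rw [hA', hB']
    exact Multiset.filter_add_not _ _
  have h1B : (1 : localSubring M) ∈ B' := by
    rw [hB', Multiset.mem_filter]
    refine ⟨?_, ?_⟩
    · rw [← hΛ', Multiset.mem_map] at h1
      obtain ⟨x, hx, hx1⟩ := h1
      have : x = 1 := Subtype.ext hx1
      rw [← this]
      exact hx
    · exact not_memLocalIdeal_one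
  have hcop := id1_Ic (M := M) (0 ::ₘ A') B'
    (by
      intro a ha
      rw [Multiset.mem_cons] at ha
      rcases ha with rfl | ha
      · exact memLocalIdeal_zero
      · rw [hA', Multiset.mem_filter] at ha
        exact ha.2)
    (by
      intro b hb
      rw [hB', Multiset.mem_filter] at hb
      exact hb.2)
  rw [Multiset.map_cons, Multiset.prod_cons, C_0, sub_zero] at hcop
  obtain ⟨Z', hZ'⟩ : ∃ Z' : (localSubring M)[X],
      Z' = (A'.map (fun a => (X : (localSubring M)[X]) - C a)).prod := ⟨_, rfl⟩
  obtain ⟨PB, hPB⟩ : ∃ PB : (localSubring M)[X],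
      PB = (B'.map (fun b => (X : (localSubring M)[X]) - C b)).prod := ⟨_, rfl⟩
  rw [← hZ', ← hPB] at hcop
  obtain ⟨S, T, hST⟩ := hcop
  -- `S * (X * Z') + T * PB = 1`
  have hPB1 : PB.eval 1 = 0 := by
    rw [hPB, Polynomial.eval_multiset_prod]
    apply Multiset.prod_eq_zero
    rw [Multiset.mem_map]
    refine ⟨X - C 1, Multiset.mem_map.2 ⟨1, h1B, rfl⟩, ?_⟩
    simp
  have hprod : Z' * PB = (Λ'.map (fun a => (X : (localSubring M)[X]) - C a)).prod := by
    rw [hZ', hPB, ← Multiset.prod_add, ← Multiset.map_add, hAB]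
  refine ⟨S * Z', ?_, ?_⟩
  · -- divisibility, first over the local ring
    have hdvd : (Λ'.map (fun a => (X : (localSubring M)[X]) - C a)).prod ∣
        (X * (S * Z')) * (1 - X * (S * Z')) := by
      have e1 : 1 - X * (S * Z') = T * PB := by
        rw [← hST]
        ring
      rw [e1, ← hprod]
      exact ⟨X * S * T, by ring⟩
    have hmap := Polynomial.map_dvd (localSubring M).subtype hdvd
    have e2 : ((Λ'.map (fun a => (X : (localSubring M)[X]) - C a)).prod).map
        (localSubring M).subtype = (Λ.map (fun l => (X : ℂ[X]) - C l)).prod := by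
      rw [Polynomial.map_multiset_prod, Multiset.map_map, ← hΛ', Multiset.map_map]
      congr 1
      apply Multiset.map_congr rfl
      intro x _
      simp
    rw [e2] at hmap
    simpa using hmap
  · rw [Polynomial.eval_one_map]
    have h2 := congrArg (Polynomial.eval 1) hST
    simp only [Polynomial.eval_add, Polynomial.eval_mul, Polynomial.eval_X, Polynomial.eval_one,
      hPB1, mul_zero, add_zero, one_mul] at h2
    rw [Polynomial.eval_mul, h2]
    rfl

end Cfsg.Agent.Helper68.PC
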