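import Cfsg.Agent.Helper16.PC.Defs

/-!
# (Id2) for helper16's S4427 farm (#12085): evaluation of a polynomial over the local ring at an element
of the group algebra with local values.
-/

set_option autoImplicit false
set_option linter.unusedSectionVars false
set_option linter.unusedVariables false

namespace Cfsg.Agent.Helper68.PC

open Cfsg Cfsg.Agent.Helper16 Cfsg.Agent.Helper16.PC Polynomial
open scoped ComplexConjugate

universe u

variable {G : Type u} [Group G] [Fintype G] {M : Ideal AlgInt} {p : ℕ}

/-- (Id2) evaluation of a polynomial over the local ring at an element with local values. -/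
theorem PC_Id2 [M.IsPrime] (τ : CAlg G) (hτR : RValued M (CAlg.fn τ)) (V : (localSubring M)[X]) :
    RValued M (CAlg.fn (Polynomial.aeval τ (V.map (localSubring M).subtype))) := by
  rw [← CAlg.mem_rSub, Polynomial.aeval_eq_sum_range]
  refine Subring.sum_mem _ (fun i _ => ?_)
  rw [Polynomial.coeff_map, CAlg.mem_rSub]
  intro g
  rw [fn_smul]
  exact memLocalRing_mul (V.coeff i).2 (CAlg.rValued_pow hτR i g)

end Cfsg.Agent.Helper68.PC
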