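import Mathlib
import Cfsg.Agent.Helper17.J2Defs

/-!
# S3313 (helper17), piece (P1b) by helper68: `5 ∣ |T|`, `T` the noncentral involutions of `Q`
-/

set_option autoImplicit false

open Cfsg.Agent.Helper17.J2

namespace Cfsg.Agent.Helper68.J2P

section conj

variable {G : Type*} [Group G]

/-- conjugation by `g` as a permutation of the subtype of a conjugation-invariant predicate -/
def conjPerm (g : G) (P : G → Prop) (h1 : ∀ u, P u → P (g * u * g⁻¹))
    (h2 : ∀ u, P u → P (g⁻¹ * u * g)) : Equiv.Perm {u : G // P u} where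
  toFun u := ⟨g * u.1 * g⁻¹, h1 _ u.2⟩
  invFun u := ⟨g⁻¹ * u.1 * g, h2 _ u.2⟩
  left_inv u := Subtype.ext (by simp [mul_assoc])
  right_inv u := Subtype.ext (by simp [mul_assoc])

theorem conjPerm_apply_val (g : G) (P : G → Prop) (h1 : ∀ u, P u → P (g * u * g⁻¹))
    (h2 : ∀ u, P u → P (g⁻¹ * u * g)) (u : {u : G // P u}) :
    (conjPerm g P h1 h2 u).1 = g * u.1 * g⁻¹ := rfl

theorem conjPerm_pow_val (g : G) (P : G → Prop) (h1 : ∀ u, P u → P (g * u * g⁻¹))
    (h2 : ∀ u, P u → P (g⁻¹ * u * g)) (n : ℕ) (u : {u : G // P u}) :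
    ((conjPerm g P h1 h2 ^ n) u).1 = g ^ n * u.1 * (g ^ n)⁻¹ := by
  induction n generalizing u with
  | zero => simp
  | succ n ih =>
    rw [pow_succ, Equiv.Perm.mul_apply, ih, conjPerm_apply_val, pow_succ]
    group

/-- fixed-point congruence for conjugation by an element of prime order -/
theorem card_fixed_modEq [Finite G] {g : G} {p : ℕ} [Fact p.Prime] (hg : g ^ p = 1)
    (P : G → Prop) (h1 : ∀ u, P u → P (g * u * g⁻¹)) (h2 : ∀ u, P u → P (g⁻¹ * u * g)) :
    Nat.card {u : G // P u ∧ g * u * g⁻¹ = u} ≡ Nat.card {u : G // P u} [MOD p] := by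
  classical
  haveI : Fintype {u : G // P u} := Fintype.ofFinite _
  have hσ : conjPerm g P h1 h2 ^ p ^ 1 = 1 := by
    rw [pow_one]
    apply Equiv.ext
    intro u
    apply Subtype.ext
    rw [conjPerm_pow_val, hg]
    simp
  have h := Equiv.Perm.card_compl_support_modEq hσ
  rw [← Nat.card_eq_fintype_card] at h
  have hc : (conjPerm g P h1 h2).supportᶜ.card =
      Nat.card {u : G // P u ∧ g * u * g⁻¹ = u} := by
    rw [← Nat.card_eq_finsetCard]
    apply Nat.card_congr
    exact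
      { toFun := fun a => ⟨a.1.1, a.1.2, by
          have h3 := a.2
          rw [Finset.mem_compl, Equiv.Perm.mem_support, not_not] at h3
          exact congrArg Subtype.val h3⟩
        invFun := fun u => ⟨⟨u.1, u.2.1⟩, by
          rw [Finset.mem_compl, Equiv.Perm.mem_support, not_not]
          exact Subtype.ext u.2.2⟩
        left_inv := fun a => rfl
        right_inv := fun u => rfl }
  rw [hc] at h
  exact h

end conj

variable {G : Type*} [Group G] [Finite G] {z : G} {Q K : Subgroup G}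

theorem dvd_32_modEq {n : ℕ} (h1 : n ∣ 32) (h2 : n ≡ 32 [MOD 5]) : n = 2 ∨ n = 32 := by
  have hle : n ≤ 32 := Nat.le_of_dvd (by norm_num) h1
  unfold Nat.ModEq at h2
  interval_cases n <;> omega

theorem five_dvd_T (c : Ctx z Q K) :
    5 ∣ Nat.card {u : G // u ∈ Q ∧ orderOf u = 2 ∧ u ≠ z} := by
  haveI : Fact (Nat.Prime 5) := ⟨by norm_num⟩
  -- an element of order 5 in `K`
  have hK5 : 5 ∣ Nat.card K := by
    obtain ⟨e⟩ := c.hK
    rw [Nat.card_congr e.toEquiv, nat_card_alternatingGroup, Nat.card_eq_fintype_card,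
      Fintype.card_fin]
    decide
  obtain ⟨g', hg'⟩ := exists_prime_orderOf_dvd_card' 5 hK5
  set g : G := (g' : G) with hgdef
  have hgK : g ∈ K := g'.2
  have hg5 : orderOf g = 5 := by rw [hgdef, Subgroup.orderOf_coe, hg']
  have hgpow : g ^ 5 = 1 := by rw [← hg5, pow_orderOf_eq_one]
  have hg1 : g ≠ 1 := by
    intro h
    rw [h, orderOf_one] at hg5
    omega
  have hgX : g ∈ K ⊔ Q := Subgroup.mem_sup_left hgK
  have hgz : g * z = z * g := c.hzc g hgX
  have hz1 : z ≠ 1 := by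
    intro h
    have := c.hz
    rw [h, orderOf_one] at this
    omega
  -- invariance of `Q` and `T`
  have hQ1 : ∀ u, u ∈ Q → g * u * g⁻¹ ∈ Q := fun u hu => c.hQn g hgK u hu
  have hQ2 : ∀ u, u ∈ Q → g⁻¹ * u * g ∈ Q := fun u hu => by
    have := c.hQn g⁻¹ (K.inv_mem hgK) u hu
    rwa [inv_inv] at this
  have hT1 : ∀ u, (u ∈ Q ∧ orderOf u = 2 ∧ u ≠ z) → (g * u * g⁻¹ ∈ Q ∧
      orderOf (g * u * g⁻¹) = 2 ∧ g * u * g⁻¹ ≠ z) := by
    rintro u ⟨hu, hu2, huz⟩
    refine ⟨hQ1 u hu, ?_, ?_⟩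
    · rw [← hu2]; exact (MulAut.conj g).orderOf_eq u
    · intro h
      apply huz
      calc u = g⁻¹ * (g * u * g⁻¹) * g := by group
        _ = g⁻¹ * (z * g) := by rw [h, mul_assoc]
        _ = z := by rw [← hgz]; group
  have hT2 : ∀ u, (u ∈ Q ∧ orderOf u = 2 ∧ u ≠ z) → (g⁻¹ * u * g ∈ Q ∧
      orderOf (g⁻¹ * u * g) = 2 ∧ g⁻¹ * u * g ≠ z) := by
    rintro u ⟨hu, hu2, huz⟩
    refine ⟨hQ2 u hu, ?_, ?_⟩
    · rw [← hu2]
      have := (MulAut.conj g⁻¹).orderOf_eq u
      rwa [MulAut.conj_apply, inv_inv] at this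
    · intro h
      apply huz
      calc u = g * (g⁻¹ * u * g) * g⁻¹ := by group
        _ = g * z * g⁻¹ := by rw [h]
        _ = z := by rw [hgz]; group
  -- the fixed points on `Q` form the subgroup `F`
  set F : Subgroup G := Q ⊓ Subgroup.centralizer {g} with hF
  have hFmem : ∀ u, u ∈ F ↔ (u ∈ Q ∧ g * u * g⁻¹ = u) := by
    intro u
    rw [hF, Subgroup.mem_inf, Subgroup.mem_centralizer_singleton_iff]
    constructor
    · rintro ⟨h1, h2⟩
      refine ⟨h1, ?_⟩
      rw [← h2]; group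
    · rintro ⟨h1, h2⟩
      refine ⟨h1, ?_⟩
      calc u * g = g * u * g⁻¹ * g := by rw [h2]
        _ = g * u := by group
  have hFcard : Nat.card F = Nat.card {u : G // u ∈ Q ∧ g * u * g⁻¹ = u} :=
    Nat.card_congr (Equiv.subtypeEquivRight hFmem)
  have hFmod : Nat.card F ≡ 32 [MOD 5] := by
    rw [hFcard, ← c.hQcard]
    exact card_fixed_modEq hgpow (fun u => u ∈ Q) hQ1 hQ2
  have hFdvd : Nat.card F ∣ 32 := by
    rw [← c.hQcard]
    exact Subgroup.card_dvd_of_le inf_le_left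
  -- no fixed point on `T`
  have hno : ∀ u : G, (u ∈ Q ∧ orderOf u = 2 ∧ u ≠ z) → g * u * g⁻¹ = u → False := by
    rintro u ⟨hu, hu2, huz⟩ hfix
    have hu1 : u ≠ 1 := by
      intro h
      rw [h, orderOf_one] at hu2
      omega
    have huF : u ∈ F := (hFmem u).mpr ⟨hu, hfix⟩
    have hzF : z ∈ F := (hFmem z).mpr ⟨c.hzQ, by rw [hgz]; group⟩
    have h3 : 3 ≤ Nat.card F := by
      have hsub : ({1, z, u} : Set G) ⊆ (F : Set G) := by
        intro x hx
        rcases hx with rfl | rfl | rfl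
        · exact F.one_mem
        · exact hzF
        · exact huF
      have hn3 : ({1, z, u} : Set G).ncard = 3 := by
        rw [Set.ncard_insert_of_notMem, Set.ncard_pair (Ne.symm huz)]
        simp only [Set.mem_insert_iff, Set.mem_singleton_iff, not_or]
        exact ⟨Ne.symm hz1, Ne.symm hu1⟩
      have hle := Set.ncard_le_ncard hsub (Set.toFinite _)
      rw [hn3] at hle
      rw [← Nat.card_coe_set_eq] at hle
      exact hle
    rcases dvd_32_modEq hFdvd hFmod with h | h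
    · omega
    · have hFQ : F = Q := by
        apply Subgroup.eq_of_le_of_card_ge inf_le_left
        rw [h, c.hQcard]
      have hgQ : g ∈ Q := by
        apply c.hCQ g hgX
        intro q hq
        have hqF : q ∈ F := by rw [hFQ]; exact hq
        have := ((hFmem q).mp hqF).2
        calc g * q = g * q * g⁻¹ * g := by group
          _ = q * g := by rw [this]
      have : g ∈ K ⊓ Q := Subgroup.mem_inf.mpr ⟨hgK, hgQ⟩
      rw [c.hKQ', Subgroup.mem_bot] at this
      exact hg1 this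
  have hmod := card_fixed_modEq hgpow (fun u => u ∈ Q ∧ orderOf u = 2 ∧ u ≠ z) hT1 hT2
  haveI : IsEmpty {u : G // (u ∈ Q ∧ orderOf u = 2 ∧ u ≠ z) ∧ g * u * g⁻¹ = u} :=
    ⟨fun u => hno u.1 u.2.1 u.2.2⟩
  rw [Nat.card_of_isEmpty] at hmod
  exact (Nat.modEq_zero_iff_dvd).mp hmod.symm

end Cfsg.Agent.Helper68.J2P
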