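import Mathlib

/-!
# S3313 (helper17), piece (Z0) by helper68: reduction of the count `n_z` to the centralizer of `z`
-/

set_option autoImplicit false

namespace Cfsg.Agent.Helper68.J2P

theorem orderOf_of_isConj {G : Type*} [Group G] {a b : G} (h : IsConj a b) :
    orderOf b = orderOf a := by
  obtain ⟨c, hc⟩ := isConj_iff.mp h
  rw [← hc]
  exact (MulAut.conj c).orderOf_eq a

theorem mul_self_of_orderOf_two {G : Type*} [Group G] {a : G} (h : orderOf a = 2) : a * a = 1 := by
  rw [← pow_two, ← h, pow_orderOf_eq_one]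

/-- an involution `u` inverts every power of `u * v` when `v` is an involution too -/
theorem conj_eq_inv_of_mem_zpowers_left {G : Type*} [Group G] {u v w : G} (hu : u * u = 1)
    (hv : v * v = 1) (hw : w ∈ Subgroup.zpowers (u * v)) : u * w * u⁻¹ = w⁻¹ := by
  obtain ⟨k, rfl⟩ := Subgroup.mem_zpowers_iff.mp hw
  have huinv : u⁻¹ = u := inv_eq_of_mul_eq_one_left hu
  have h1 : u * (u * v) * u⁻¹ = (u * v)⁻¹ := by
    rw [huinv]
    apply eq_inv_of_mul_eq_one_left
    calc u * (u * v) * u * (u * v) = (u * u) * v * (u * u) * v := by group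
      _ = 1 := by rw [hu, one_mul, mul_one, hv]
  rw [← conj_zpow, h1, inv_zpow]

theorem conj_eq_inv_of_mem_zpowers_right {G : Type*} [Group G] {u v w : G} (hu : u * u = 1)
    (hv : v * v = 1) (hw : w ∈ Subgroup.zpowers (u * v)) : v * w * v⁻¹ = w⁻¹ := by
  obtain ⟨k, rfl⟩ := Subgroup.mem_zpowers_iff.mp hw
  have hvinv : v⁻¹ = v := inv_eq_of_mul_eq_one_left hv
  have h1 : v * (u * v) * v⁻¹ = (u * v)⁻¹ := by
    rw [hvinv]
    apply eq_inv_of_mul_eq_one_left
    calc v * (u * v) * v * (u * v) = v * u * (v * v) * u * v := by group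
      _ = 1 := by rw [hv, mul_one, mul_assoc v u u, hu, mul_one, hv]
  rw [← conj_zpow, h1, inv_zpow]

theorem card_nz_reduce {G : Type*} [Group G] [Finite G] (z t : G) (hz : orderOf z = 2)
    (ht : orderOf t = 2) (hzt : ¬ IsConj z t) (Q : Subgroup G)
    (hQX : Q ≤ Subgroup.centralizer ({z} : Set G))
    (hQz : ∀ x ∈ Q, orderOf x = 2 → IsConj x z)
    (hCz : ∀ x ∈ Subgroup.centralizer ({z} : Set G), orderOf x = 2 → x ∉ Q → IsConj x t) :
    Nat.card {p : G × G // IsConj z p.1 ∧ IsConj t p.2 ∧ z ∈ Subgroup.zpowers (p.1 * p.2)} =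
      Nat.card {p : G × G // p.1 ∈ Q ∧ orderOf p.1 = 2 ∧
        p.2 ∈ Subgroup.centralizer ({z} : Set G) ∧ p.2 ∉ Q ∧ orderOf p.2 = 2 ∧
        z ∈ Subgroup.zpowers (p.1 * p.2)} := by
  apply Nat.card_congr
  apply Equiv.subtypeEquivRight
  rintro ⟨u, v⟩
  have hzz : z * z = 1 := mul_self_of_orderOf_two hz
  have hzinv : z⁻¹ = z := inv_eq_of_mul_eq_one_left hzz
  constructor
  · rintro ⟨hu, hv, hmem⟩
    have hu2 : orderOf u = 2 := by rw [orderOf_of_isConj hu, hz]
    have hv2 : orderOf v = 2 := by rw [orderOf_of_isConj hv, ht]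
    have huu := mul_self_of_orderOf_two hu2
    have hvv := mul_self_of_orderOf_two hv2
    have hucen : u ∈ Subgroup.centralizer ({z} : Set G) := by
      rw [Subgroup.mem_centralizer_singleton_iff]
      have h := conj_eq_inv_of_mem_zpowers_left huu hvv hmem
      rw [hzinv] at h
      calc u * z = u * z * u⁻¹ * u := by group
        _ = z * u := by rw [h]
    have hvcen : v ∈ Subgroup.centralizer ({z} : Set G) := by
      rw [Subgroup.mem_centralizer_singleton_iff]
      have h := conj_eq_inv_of_mem_zpowers_right huu hvv hmem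
      rw [hzinv] at h
      calc v * z = v * z * v⁻¹ * v := by group
        _ = z * v := by rw [h]
    have huQ : u ∈ Q := by
      by_contra hnot
      exact hzt (hu.trans (hCz u hucen hu2 hnot))
    have hvQ : v ∉ Q := by
      intro hin
      exact hzt ((hv.trans (hQz v hin hv2)).symm)
    exact ⟨huQ, hu2, hvcen, hvQ, hv2, hmem⟩
  · rintro ⟨huQ, hu2, hvcen, hvQ, hv2, hmem⟩
    exact ⟨(hQz u huQ hu2).symm, (hCz v hvcen hv2 hvQ).symm, hmem⟩

end Cfsg.Agent.Helper68.J2P
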