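import Cfsg.Agent.Helper8.Sims3Defs

/-!
helper68 for helper8 (S3385 + S3685, board #12989): leaf (P2) `exists_lam` of
`tools/helper8_sims3/Skel.lean.txt`.
-/

set_option autoImplicit false

namespace Cfsg.Agent.Helper68.Sims3

open Cfsg.Agent.Helper8.Sims3 Pointwise

variable {G : Type*} [Group G]

/-- the shift by `i` is conjugation by `g ^ i` -/
theorem P2_shift_pow {y : ℤ → G} {g : G} (hg : ∀ i : ℤ, y (i + 1) = g * y i * g⁻¹) (i j : ℤ) :
    y (j + i) = g ^ i * y j * (g ^ i)⁻¹ := by
  induction i using Int.induction_on with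
  | zero => simp
  | succ k ih =>
    rw [← add_assoc, hg, ih, zpow_add_one]
    group
  | pred k ih =>
    have h1 := hg (j + (-(k : ℤ) - 1))
    have h2 : j + (-(k : ℤ) - 1) + 1 = j + -(k : ℤ) := by ring
    rw [h2, ih] at h1
    have h3 : y (j + (-(k : ℤ) - 1)) = g⁻¹ * (g ^ (-(k : ℤ)) * y j * (g ^ (-(k : ℤ)))⁻¹) * g := by
      rw [h1]
      group
    rw [h3, zpow_sub_one]
    group

/-- commutation only depends on the distance -/
theorem P2_comm_iff {y : ℤ → G} {g : G} (hg : ∀ i : ℤ, y (i + 1) = g * y i * g⁻¹) (i d : ℤ) :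
    Commute (y i) (y (i + d)) ↔ Commute (y 0) (y d) := by
  have h1 : y i = g ^ i * y 0 * (g ^ i)⁻¹ := by
    have h := P2_shift_pow hg i 0
    rwa [zero_add] at h
  have h2 : y (i + d) = g ^ i * y d * (g ^ i)⁻¹ := by
    have h := P2_shift_pow hg i d
    rwa [add_comm] at h
  rw [h2, h1]
  exact Commute.conj_iff (g ^ i)

/-- (P2) -/
theorem exists_lam {s : ℕ} {y : ℤ → G} (h : Tower s y) (hs : 2 ≤ s) :
    ∃ l : ℕ, 1 ≤ l ∧ l < s ∧ IsLam y l := by
  classical
  obtain ⟨g, hg⟩ := h.shift
  have hex : ∃ d : ℕ, d < s ∧ ¬ Commute (y 0) (y (d : ℤ)) := by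
    by_contra hcon
    push Not at hcon
    -- the generators commute pairwise
    have hT : ∀ a ∈ y '' Set.Ico (0 : ℤ) (0 + (s : ℤ)), ∀ b ∈ y '' Set.Ico (0 : ℤ) (0 + (s : ℤ)),
        Commute a b := by
      rintro _ ⟨i, hi, rfl⟩ _ ⟨j, hj, rfl⟩
      rw [Set.mem_Ico] at hi hj
      rcases le_total i j with hij | hij
      · obtain ⟨d, hd⟩ := Int.eq_ofNat_of_zero_le (sub_nonneg.mpr hij)
        have hj' : j = i + (d : ℤ) := by omega
        rw [hj', P2_comm_iff hg]
        exact hcon d (by omega)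
      · obtain ⟨d, hd⟩ := Int.eq_ofNat_of_zero_le (sub_nonneg.mpr hij)
        have hi' : i = j + (d : ℤ) := by omega
        rw [hi']
        apply Commute.symm
        rw [P2_comm_iff hg]
        exact hcon d (by omega)
    have hcomm : ∀ x ∈ U y 0 s, ∀ z ∈ U y 0 s, Commute x z := by
      intro x hx z hz
      unfold U at hx hz
      exact Subgroup.closure_induction₂ (p := fun x z _ _ => Commute x z)
        (fun a b ha hb => hT a ha b hb)
        (fun a _ => Commute.one_left a) (fun a _ => Commute.one_right a)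
        (fun _ _ _ _ _ _ h1 h2 => h1.mul_left h2) (fun _ _ _ _ _ _ h1 h2 => h1.mul_right h2)
        (fun _ _ _ _ h1 => h1.inv_left) (fun _ _ _ _ h1 => h1.inv_right) hx hz
    have hsq : ∀ x ∈ U y 0 s, x * x = 1 := by
      intro x hx
      unfold U at hx
      induction hx using Subgroup.closure_induction with
      | mem a ha =>
        obtain ⟨i, _, rfl⟩ := ha
        exact h.sq i
      | one => exact one_mul 1
      | mul a b ha hb iha ihb =>
        have hc : Commute a b := hcomm a ha b hb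
        rw [hc.symm.mul_mul_mul_comm a b, iha, ihb, one_mul]
      | inv a ha iha =>
        rw [← mul_inv_rev, iha, inv_one]
    have hp : IsPGroup 2 ↥(U y 0 s) := by
      intro x
      refine ⟨1, ?_⟩
      apply Subtype.ext
      rw [pow_one, pow_two]
      exact hsq x.1 x.2
    have hcard := h.card_top 0
    have hfin : Finite ↥(U y 0 s) := Nat.finite_of_card_ne_zero (by rw [hcard]; positivity)
    have : Fact (Nat.Prime 2) := ⟨Nat.prime_two⟩
    obtain ⟨n, hn⟩ := hp.exists_card_eq
    rw [hcard] at hn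
    have h3 : 3 ∣ 2 ^ n := ⟨2 ^ (s - 1), hn.symm⟩
    have h4 := Nat.Prime.dvd_of_dvd_pow Nat.prime_three h3
    omega
  have hex' : ∃ d : ℕ, ¬ Commute (y 0) (y (d : ℤ)) := by
    obtain ⟨d, _, hd⟩ := hex
    exact ⟨d, hd⟩
  refine ⟨Nat.find hex', ?_, ?_, ?_, ?_⟩
  · by_contra h0
    have h1 : Nat.find hex' = 0 := by omega
    have h2 := Nat.find_spec hex'
    rw [h1] at h2
    exact h2 (by rw [Nat.cast_zero])
  · obtain ⟨d, hds, hd⟩ := hex
    exact lt_of_le_of_lt (Nat.find_min' hex' hd) hds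
  · intro i d hd
    rw [P2_comm_iff hg]
    exact not_not.mp (Nat.find_min hex' hd)
  · intro i hc
    rw [P2_comm_iff hg] at hc
    exact Nat.find_spec hex' hc

end Cfsg.Agent.Helper68.Sims3
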