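import Mathlib
import Cfsg.Agent.Helper99.O9.Defs
import Cfsg.Agent.Helper44.StdNondeg
import Cfsg.Agent.Helper44.QTypeAniso
import Cfsg.Agent.Helper44.OrthRealizeC

/-!
helper68 for helper99 (S2517 O9 farm, board #13715): piece (NEG8M) `not_negOm_minus8` of
`tools/helper99_s2517/Skel.lean.txt`: `-1 ∉ Ω` for a non-degenerate form of dimension 8 and minus type.
-/

set_option autoImplicit false
set_option linter.unusedSectionVars false
set_option linter.unusedVariables false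

namespace Cfsg.Agent.Helper68.O9

open Matrix QuadraticMap Cfsg.Agent.Helper44 Cfsg.Agent.Helper44.QType Cfsg.Agent.Helper99.O9

universe u

variable {F : Type u} [Field F] [Fintype F]

/-- an anisotropic binary form over a finite field of odd order -/
theorem NEG8M_exists_aniso (hF : Odd (Fintype.card F)) :
    ∃ a b : F, ∀ z₁ z₂ : F, z₁ ^ 2 + a * z₁ * z₂ + b * z₂ ^ 2 = 0 → z₁ = 0 ∧ z₂ = 0 := by
  have hch : ringChar F ≠ 2 := by
    intro h
    rw [FiniteField.even_card_iff_char_two] at h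
    obtain ⟨k, hk⟩ := hF
    omega
  obtain ⟨ν, hν⟩ := FiniteField.exists_nonsquare hch
  refine ⟨0, -ν, fun z₁ z₂ h => ?_⟩
  have hz2 : z₂ = 0 := by
    by_contra hne
    apply hν
    refine ⟨z₁ / z₂, ?_⟩
    field_simp
    linear_combination (-1 : F) * h
  rw [hz2] at h
  refine ⟨?_, hz2⟩
  have h' : z₁ ^ 2 = 0 := by
    rw [← h]
    ring
  exact pow_eq_zero_iff (two_ne_zero) |>.mp h'

/-- transport of `-1 ∈ Ω` along a linear isometry -/
theorem NEG8M_transport {ι₁ ι₂ : Type} [Fintype ι₁] [DecidableEq ι₁] [Fintype ι₂] [DecidableEq ι₂]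
    (Q₁ : QuadraticForm F (ι₁ → F)) (Q₂ : QuadraticForm F (ι₂ → F))
    (C : (ι₁ → F) ≃ₗ[F] (ι₂ → F)) (hC : ∀ w, Q₂ (C w) = Q₁ w)
    (h : ∃ z : ↥(Cfsg.isometryGroup F ⇑Q₁), z ∈ Cfsg.Omega F ⇑Q₁ ∧
      ((z : GL ι₁ F) : Matrix ι₁ ι₁ F) = -1) :
    ∃ z : ↥(Cfsg.isometryGroup F ⇑Q₂), z ∈ Cfsg.Omega F ⇑Q₂ ∧
      ((z : GL ι₂ F) : Matrix ι₂ ι₂ F) = -1 := by
  obtain ⟨z, hz, hz1⟩ := h
  refine ⟨isoTransport ⇑Q₁ ⇑Q₂ C hC z, ?_, ?_⟩
  · have h1 : (commutator ↥(Cfsg.isometryGroup F ⇑Q₁)).map (isoTransport ⇑Q₁ ⇑Q₂ C hC) ≤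
        commutator ↥(Cfsg.isometryGroup F ⇑Q₂) := by
      rw [commutator_def, Subgroup.map_commutator, commutator_def]
      exact Subgroup.commutator_mono le_top le_top
    exact h1 (Subgroup.mem_map_of_mem _ hz)
  · apply Matrix.mulVec_injective
    funext v
    rw [isoTransport_mulVec, hz1, Matrix.neg_mulVec, Matrix.one_mulVec, map_neg,
      LinearEquiv.apply_symm_apply, Matrix.neg_mulVec, Matrix.one_mulVec]

/-- (NEG8M) -/
theorem not_negOm_minus8 (hF : Odd (Fintype.card F)) {P : OPair F} (hP : P.ND) (ht : P.Typ 4 (-1)) :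
    ¬ P.NegOm := by
  intro hneg
  rw [OPair.negOm_def] at hneg
  rw [OPair.typ_def] at ht
  obtain ⟨hdim, htyp⟩ := ht
  rw [OPair.nd_def] at hP
  obtain ⟨a, b, hab⟩ := NEG8M_exists_aniso hF
  have h2 : (2 : F) ≠ 0 := two_ne_zero_of_odd_card rfl hF
  have hD : ¬ IsSquare (a ^ 2 - 4 * b) := not_isSquare_disc_of_anisotropic h2 a b hab
  have hD0 : a ^ 2 - 4 * b ≠ 0 := by
    intro h0
    exact hD ⟨0, by rw [h0, mul_zero]⟩
  -- the isometry with the standard form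
  have hV : Module.finrank F (P.ι → F) = 2 * 4 := by
    rw [Module.finrank_pi, ← OPair.dim_def, hdim]
  have hV' : Module.finrank F ((Fin 3 ⊕ Fin 3) ⊕ Fin 2 → F) = 2 * 4 := by
    rw [Module.finrank_pi]
    rfl
  obtain ⟨C, hC⟩ := exists_isometry_of_hasType P.Q (minusForm 3 F a b) hV hV' hP
    ((nondeg_iff _).mp (nondegenerate_minusForm 3 a b hD0)) htyp (hasType_minus 3 a b hab)
  have h3 := NEG8M_transport P.Q (minusForm 3 F a b) C hC hneg
  have h4 := (exists_neg_one_mem_Omega_minus_iff (F := F) rfl hF 4 (by norm_num) a b hab).mp h3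
  -- `q ^ 4 % 4 = 1` for odd `q`
  obtain ⟨k, hk⟩ := hF
  have h5 : Fintype.card F ^ 4 % 4 = 1 := by
    rw [hk]
    have : (2 * k + 1) ^ 4 = 4 * (4 * k ^ 4 + 8 * k ^ 3 + 6 * k ^ 2 + 2 * k) + 1 := by ring
    rw [this]
    omega
  omega

end Cfsg.Agent.Helper68.O9
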