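import Cfsg.Agent.Helper2.SC3R.Basic

/-!
# S3331 BLOCK R (helper2 farm #15653), leaf (MINN), generic part (BURN, CHAR as hypotheses)
-/

set_option autoImplicit false

namespace Cfsg.Agent.Helper68.SC3R

open Cfsg.Agent.Helper62.SC3 Cfsg.Agent.Helper2.SC3R

universe u v

variable {G : Type u} [Group G]

/-- `SC` passes to a subgroup containing `x`. -/
theorem SC_subgroup {x : G} (hx : SC G x) (M : Subgroup G) (hxM : x ∈ M) :
    SC M (⟨x, hxM⟩ : M) := by
  refine ⟨?_, ?_⟩
  · rw [← Subgroup.orderOf_coe]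
    exact hx.1
  · ext m
    rw [Subgroup.mem_centralizer_iff, Subgroup.mem_zpowers_iff]
    constructor
    · intro h
      have hc : m.1 * x = x * m.1 := by
        have := h ⟨x, hxM⟩ (Set.mem_singleton _)
        exact (congrArg Subtype.val this).symm
      obtain ⟨k, hk⟩ := Subgroup.mem_zpowers_iff.1 (hx.mem_zpowers_of_commute hc)
      exact ⟨k, Subtype.ext (by simpa using hk)⟩
    · rintro ⟨k, rfl⟩ y hy
      rw [Set.mem_singleton_iff] at hy
      subst hy
      exact (Commute.zpow_right (Commute.refl _) k).eq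

/-- own copy of (CHAR): a normal Hall subgroup of a normal subgroup is normal -/
theorem MINN_map_normal_of_coprime [Finite G] (M : Subgroup G) [hMn : M.Normal] (L : Subgroup M)
    [hLn : L.Normal] (hco : (Nat.card L).Coprime L.index) : (L.map M.subtype).Normal := by
  have key : ∀ m : M, m ^ Nat.card L = 1 → m ∈ L := by
    intro m hm
    rw [← QuotientGroup.eq_one_iff (N := L)]
    have h1 : (QuotientGroup.mk m : M ⧸ L) ^ Nat.card L = 1 := by
      rw [← QuotientGroup.mk_pow, hm]; rfl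
    have h2 : (QuotientGroup.mk m : M ⧸ L) ^ L.index = 1 := by
      rw [Subgroup.index_eq_card]; exact pow_card_eq_one'
    have hd := Nat.dvd_gcd (orderOf_dvd_of_pow_eq_one h1) (orderOf_dvd_of_pow_eq_one h2)
    rw [Nat.Coprime.gcd_eq_one hco] at hd
    exact orderOf_eq_one_iff.1 (Nat.dvd_one.1 hd)
  constructor
  intro n hn g
  obtain ⟨l, hl, rfl⟩ := Subgroup.mem_map.1 hn
  have hgM : g * (l : G) * g⁻¹ ∈ M := hMn.conj_mem _ l.2 g
  refine Subgroup.mem_map.2 ⟨⟨g * l * g⁻¹, hgM⟩, key _ ?_, rfl⟩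
  have hl1 : (l : M) ^ Nat.card L = 1 := by
    have := pow_card_eq_one' (G := L) (x := ⟨l, hl⟩)
    exact congrArg Subtype.val this
  have hl2 : (l : G) ^ Nat.card L = 1 := by
    have := congrArg Subtype.val hl1
    simpa using this
  apply Subtype.ext
  rw [Subgroup.coe_pow]
  show (g * (l : G) * g⁻¹) ^ Nat.card L = 1
  rw [conj_pow, hl2, mul_one, mul_inv_cancel]

theorem top_or_normal_aux [Finite G] {x : G} (hx : SC G x)
    (hBURN : ∀ {H : Type u} [Group H] [Finite H] {y : H}, SC H y → (∀ g : H, g * y * g⁻¹ ≠ y⁻¹) →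
      ∃ L : Subgroup H, L.Normal ∧ (Nat.card L).Coprime 3 ∧ Nat.card H = 3 * Nat.card L)
    (hCHAR : ∀ (M : Subgroup G) [M.Normal] (L : Subgroup M) [L.Normal],
      (Nat.card L).Coprime L.index → (L.map M.subtype).Normal)
    (htriv : ∀ K : Subgroup G, K.Normal → (Nat.card K).Coprime 3 → K = ⊥)
    (M : Subgroup G) [hMn : M.Normal] (hM : M ≠ ⊥) :
    M = ⊤ ∨ ∀ g : G, g * x * g⁻¹ ∈ Subgroup.zpowers x := by
  have hx3 := hx.1
  have h3M : 3 ∣ Nat.card M := by
    by_contra h
    apply hM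
    apply htriv M hMn
    exact ((Nat.Prime.coprime_iff_not_dvd Nat.prime_three).2 h).symm
  have : Fact (Nat.Prime 3) := ⟨Nat.prime_three⟩
  obtain ⟨z, hz⟩ := exists_prime_orderOf_dvd_card' 3 h3M
  have hz' : orderOf (z : G) = 3 := by rw [Subgroup.orderOf_coe]; exact hz
  obtain ⟨g, hg⟩ := conj_of_order_three hx hz'
  have hxM : x ∈ M := by
    have hzM : g * x * g⁻¹ ∈ M := by
      rcases hg with h | h
      · rw [h]; exact z.2
      · rw [h]; exact M.inv_mem z.2
    have := hMn.conj_mem _ hzM g⁻¹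
    simpa [mul_assoc] using this
  have hSCM := SC_subgroup hx M hxM
  by_cases hinv : ∃ t : M, t * (⟨x, hxM⟩ : M) * t⁻¹ = (⟨x, hxM⟩ : M)⁻¹
  · left
    obtain ⟨t, ht⟩ := hinv
    have ht' : t.1 * x * t.1⁻¹ = x⁻¹ := congrArg Subtype.val ht
    rw [eq_top_iff]
    intro g _
    have hgM : g * x * g⁻¹ ∈ M := hMn.conj_mem _ hxM g
    have hord : orderOf (⟨g * x * g⁻¹, hgM⟩ : M) = 3 := by
      rw [← Subgroup.orderOf_coe]
      show orderOf (g * x * g⁻¹) = 3
      have := (MulAut.conj g).orderOf_eq x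
      rw [MulAut.conj_apply] at this
      rw [this]
      exact hx3
    obtain ⟨m, hm⟩ := conj_of_order_three hSCM hord
    rcases hm with hm | hm
    · have hm' : m.1 * x * m.1⁻¹ = g * x * g⁻¹ := congrArg Subtype.val hm
      have hc : (m.1⁻¹ * g) * x = x * (m.1⁻¹ * g) := by
        have e : x = m.1⁻¹ * (g * x * g⁻¹) * m.1 := by rw [← hm']; group
        calc (m.1⁻¹ * g) * x = m.1⁻¹ * (g * x * g⁻¹) * m.1 * (m.1⁻¹ * g) := by group
          _ = x * (m.1⁻¹ * g) := by rw [← e]
      have hmem := hx.mem_zpowers_of_commute hc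
      have hmemM : m.1⁻¹ * g ∈ M := (Subgroup.zpowers_le.2 hxM) hmem
      have e : g = m.1 * (m.1⁻¹ * g) := by group
      rw [e]
      exact M.mul_mem m.2 hmemM
    · have hm' : m.1 * x * m.1⁻¹ = (g * x * g⁻¹)⁻¹ := congrArg Subtype.val hm
      have hc : (m.1⁻¹ * g * t.1) * x = x * (m.1⁻¹ * g * t.1) := by
        have e1 : (g * x * g⁻¹)⁻¹ = (g * t.1) * x * (g * t.1)⁻¹ := by
          calc (g * x * g⁻¹)⁻¹ = g * x⁻¹ * g⁻¹ := by group
            _ = g * (t.1 * x * t.1⁻¹) * g⁻¹ := by rw [ht']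
            _ = (g * t.1) * x * (g * t.1)⁻¹ := by group
        have e : x = m.1⁻¹ * ((g * t.1) * x * (g * t.1)⁻¹) * m.1 := by rw [← e1, ← hm']; group
        calc (m.1⁻¹ * g * t.1) * x
            = m.1⁻¹ * ((g * t.1) * x * (g * t.1)⁻¹) * m.1 * (m.1⁻¹ * g * t.1) := by group
          _ = x * (m.1⁻¹ * g * t.1) := by rw [← e]
      have hmem := hx.mem_zpowers_of_commute hc
      have hmemM : m.1⁻¹ * g * t.1 ∈ M := (Subgroup.zpowers_le.2 hxM) hmem
      have e : g = m.1 * (m.1⁻¹ * g * t.1) * t.1⁻¹ := by group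
      rw [e]
      exact M.mul_mem (M.mul_mem m.2 hmemM) (M.inv_mem t.2)
  · right
    push Not at hinv
    obtain ⟨L, hLn, hL3, hLcard⟩ := hBURN hSCM hinv
    have hidx : L.index = 3 := by
      have h1 := L.card_mul_index
      rw [hLcard] at h1
      have hpos : 0 < Nat.card L := Nat.card_pos
      have h2 : Nat.card L * L.index = Nat.card L * 3 := by rw [h1, mul_comm]
      exact Nat.eq_of_mul_eq_mul_left hpos h2
    have hnorm := hCHAR M L (by rw [hidx]; exact hL3)
    have hcardmap : Nat.card (L.map M.subtype) = Nat.card L :=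
      Subgroup.card_map_of_injective M.subtype_injective
    have hbot := htriv (L.map M.subtype) hnorm (by rw [hcardmap]; exact hL3)
    have hL1 : Nat.card L = 1 := by
      rw [← hcardmap, hbot]
      simp
    have hM3 : Nat.card M = 3 := by rw [hLcard, hL1]
    have hMeq : Subgroup.zpowers x = M := by
      apply Subgroup.eq_of_le_of_card_ge (Subgroup.zpowers_le.2 hxM)
      rw [hM3, Nat.card_zpowers, hx3]
    intro g
    rw [hMeq]
    exact hMn.conj_mem _ hxM g

end Cfsg.Agent.Helper68.SC3R
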