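import Cfsg.Agent.Helper2.SC3R.Basic
import Cfsg.Agent.Helper80.SC3R_BURN
import Cfsg.Agent.Helper68.SC3R_MINNaux

/-!
# S3331 BLOCK R (helper2 farm #15653), leaf (MINN): a nontrivial normal subgroup is `⊤`, or `⟨x⟩ ⊴ G`

Uses (BURN) by helper80 and an own copy of (CHAR) (`MINN_map_normal_of_coprime`).
-/

set_option autoImplicit false

namespace Cfsg.Agent.Helper68.SC3R

open Cfsg.Agent.Helper62.SC3 Cfsg.Agent.Helper2.SC3R

universe u v

variable {G : Type u} [Group G]

/-- (MINN) if `O_{3'}(G) = 1` then a nontrivial normal subgroup is `⊤`, or `⟨x⟩` is normal. -/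
theorem top_or_normal [Finite G] {x : G} (hx : SC G x)
    (htriv : ∀ K : Subgroup G, K.Normal → (Nat.card K).Coprime 3 → K = ⊥)
    (M : Subgroup G) [M.Normal] (hM : M ≠ ⊥) :
    M = ⊤ ∨ ∀ g : G, g * x * g⁻¹ ∈ Subgroup.zpowers x :=
  top_or_normal_aux hx
    (fun hy hno => Cfsg.Agent.Helper80.SC3R.normal_complement_of_no_inverter hy hno)
    (fun M _ L _ hco => MINN_map_normal_of_coprime M L hco) htriv M hM

end Cfsg.Agent.Helper68.SC3R
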