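import Cfsg.Agent.Helper2.SC3R.Defs
import Cfsg.Agent.S0033

/-!
# S3331 BLOCK R (helper2 farm #15653), leaf (NIL): `x`-invariant `3'`-subgroups are nilpotent
-/

set_option autoImplicit false

namespace Cfsg.Agent.Helper68.SC3R

open Cfsg.Agent.Helper62.SC3 Cfsg.Agent.Helper2.SC3R

universe u v

variable {G : Type u} [Group G]

/-- (NIL) every `x`-invariant `3'`-subgroup is nilpotent (Thompson, S0033). -/
theorem nilpotent_of_invariant [Finite G] {x : G} (hx : SC G x) (P : Subgroup G)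
    (hP3 : (Nat.card P).Coprime 3) (hPx : ∀ p ∈ P, x * p * x⁻¹ ∈ P) : Group.IsNilpotent P := by
  obtain ⟨hx3, hxC⟩ := hx
  have hx3' : x ^ 3 = 1 := by rw [← hx3]; exact pow_orderOf_eq_one x
  let f : P →* P :=
    { toFun := fun p => ⟨x * p.1 * x⁻¹, hPx p.1 p.2⟩
      map_one' := by ext; simp
      map_mul' := by intro a b; ext; simp [mul_assoc] }
  have hf : ∀ p : P, ((f p : P) : G) = x * p.1 * x⁻¹ := fun p => rfl
  have hfinj : Function.Injective f := by
    intro a b hab
    have h1 := congrArg Subtype.val hab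
    rw [hf, hf] at h1
    ext
    exact mul_left_cancel (mul_right_cancel h1)
  have hfbij : Function.Bijective f := Finite.injective_iff_bijective.1 hfinj
  let φ : P ≃* P := MulEquiv.ofBijective f hfbij
  have hφ : ∀ p : P, ((φ p : P) : G) = x * p.1 * x⁻¹ := fun p => rfl
  apply Cfsg.Agent.Helper1.fpf_prime_nilpotent Nat.prime_three φ
  · intro p hp
    have h1 : x * p.1 * x⁻¹ = p.1 := congrArg Subtype.val hp
    have hmem : p.1 ∈ Subgroup.centralizer ({x} : Set G) := by
      rw [Subgroup.mem_centralizer_iff]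
      intro y hy
      rw [Set.mem_singleton_iff] at hy
      subst hy
      calc y * p.1 = (y * p.1 * y⁻¹) * y := by group
        _ = p.1 * y := by rw [h1]
    rw [hxC] at hmem
    obtain ⟨k, hk⟩ := Subgroup.mem_zpowers_iff.1 hmem
    have hp3 : p.1 ^ 3 = 1 := by
      rw [← hk, ← zpow_natCast, ← zpow_mul, mul_comm, zpow_mul, zpow_natCast, hx3', one_zpow]
    have hp3' : p ^ 3 = 1 := Subtype.ext (by simpa using hp3)
    have hpc : p ^ Nat.card P = 1 := pow_card_eq_one'
    have hd1 : orderOf p ∣ 3 := orderOf_dvd_of_pow_eq_one hp3'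
    have hd2 : orderOf p ∣ Nat.card P := orderOf_dvd_of_pow_eq_one hpc
    have hd : orderOf p ∣ 1 := by
      have := Nat.dvd_gcd hd2 hd1
      rwa [Nat.Coprime.gcd_eq_one hP3] at this
    exact orderOf_eq_one_iff.1 (Nat.dvd_one.1 hd)
  · ext p
    have h3 : (φ ^ 3) p = φ (φ (φ p)) := by
      simp [pow_succ, MulAut.mul_apply]
    rw [h3, MulAut.one_apply, hφ, hφ, hφ]
    have hxxx : x * x * x = 1 := by
      rw [← hx3', pow_succ, pow_succ, pow_one]
    have hx3'' : x⁻¹ * x⁻¹ * x⁻¹ = 1 := by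
      have : (x * x * x)⁻¹ = x⁻¹ * x⁻¹ * x⁻¹ := by simp only [mul_inv_rev, mul_assoc]
      rw [← this, hxxx, inv_one]
    calc x * (x * (x * p.1 * x⁻¹) * x⁻¹) * x⁻¹
        = (x * x * x) * p.1 * (x⁻¹ * x⁻¹ * x⁻¹) := by simp only [mul_assoc]
      _ = p.1 := by rw [hxxx, hx3'', one_mul, mul_one]

end Cfsg.Agent.Helper68.SC3R
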