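import Mathlib

set_option autoImplicit false

namespace Cfsg.Agent.Helper68.S3S3

universe u

variable {G : Type u} [Group G]

/-- (G1a) coset representatives of the Klein four quotient. -/
theorem exists_klein_reps [Finite G] (T : Subgroup G)
    [hn : (T.subgroupOf (Subgroup.normalizer (T : Set G))).Normal]
    (hK : IsKleinFour (↥(Subgroup.normalizer (T : Set G)) ⧸
      T.subgroupOf (Subgroup.normalizer (T : Set G)))) :
    ∃ a b : G, a ∈ Subgroup.normalizer (T : Set G) ∧ b ∈ Subgroup.normalizer (T : Set G) ∧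
      a ∉ T ∧ b ∉ T ∧ a * b ∉ T ∧ a * a ∈ T ∧ b * b ∈ T ∧ a * b * a⁻¹ * b⁻¹ ∈ T ∧
      (∀ n ∈ Subgroup.normalizer (T : Set G),
        ∃ t ∈ T, n = t ∨ n = t * a ∨ n = t * b ∨ n = t * (a * b)) ∧
      Nat.card (Subgroup.normalizer (T : Set G)) = 4 * Nat.card T := by
  classical
  set N := Subgroup.normalizer (T : Set G) with hNdef
  set K := T.subgroupOf N with hKdef
  -- membership in `T` via the quotient
  have hmk : ∀ n : N, (QuotientGroup.mk n : N ⧸ K) = 1 ↔ (n : G) ∈ T := by
    intro n
    rw [QuotientGroup.eq_one_iff, hKdef, Subgroup.mem_subgroupOf]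
  have hsq : ∀ q : N ⧸ K, q * q = 1 := fun q => IsKleinFour.mul_self q
  have hcomm : ∀ p q : N ⧸ K, p * q = q * p := by
    intro p q
    exact mul_comm_of_exponent_two hK.exponent_two p q
  have hcard : Nat.card (N ⧸ K) = 4 := hK.card_four
  haveI : Finite (N ⧸ K) := Nat.finite_of_card_ne_zero (by rw [hcard]; norm_num)
  haveI : Fintype (N ⧸ K) := Fintype.ofFinite _
  -- pick x ≠ 1
  have h1 : ∃ x : N ⧸ K, x ≠ 1 := by
    by_contra hcon
    push_neg at hcon
    have : Subsingleton (N ⧸ K) := ⟨fun p q => by rw [hcon p, hcon q]⟩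
    have := Nat.card_of_subsingleton (1 : N ⧸ K)
    omega
  obtain ⟨x, hx1⟩ := h1
  have h2 : ∃ y : N ⧸ K, y ≠ 1 ∧ y ≠ x := by
    by_contra hcon
    push_neg at hcon
    have hsub : (Finset.univ : Finset (N ⧸ K)) ⊆ {1, x} := by
      intro y _
      by_cases hy : y = 1
      · simp [hy]
      · simp [hcon y hy]
    have := Finset.card_le_card hsub
    rw [Finset.card_univ, ← Nat.card_eq_fintype_card, hcard] at this
    have h3 : ({1, x} : Finset (N ⧸ K)).card ≤ 2 := Finset.card_le_two
    omega
  obtain ⟨y, hy1, hyx⟩ := h2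
  have hxy1 : x * y ≠ 1 := by
    intro h
    apply hyx
    have : x * y = x * x := by rw [h, hsq x]
    exact (mul_left_cancel this)
  have hall : ∀ q : N ⧸ K, q = 1 ∨ q = x ∨ q = y ∨ q = x * y := by
    intro q
    by_contra hcon
    push_neg at hcon
    obtain ⟨hq1, hqx, hqy, hqxy⟩ := hcon
    have hsub : ({1, x, y, x * y, q} : Finset (N ⧸ K)) ⊆ Finset.univ := Finset.subset_univ _
    have hc5 : ({1, x, y, x * y, q} : Finset (N ⧸ K)).card = 5 := by
      have hxxy : x ≠ x * y := by
        intro h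
        apply hy1
        have : x * 1 = x * y := by rw [mul_one]; exact h
        exact (mul_left_cancel this).symm
      have hyxy : y ≠ x * y := by
        intro h
        apply hx1
        have : 1 * y = x * y := by rw [one_mul]; exact h
        exact (mul_right_cancel this).symm
      rw [Finset.card_insert_of_notMem, Finset.card_insert_of_notMem,
        Finset.card_insert_of_notMem, Finset.card_insert_of_notMem, Finset.card_singleton]
      · simp only [Finset.mem_singleton]; exact fun h => hqxy h.symm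
      · simp only [Finset.mem_insert, Finset.mem_singleton, not_or]
        exact ⟨hyxy, fun h => hqy h.symm⟩
      · simp only [Finset.mem_insert, Finset.mem_singleton, not_or]
        exact ⟨fun h => hyx h.symm, hxxy, fun h => hqx h.symm⟩
      · simp only [Finset.mem_insert, Finset.mem_singleton, not_or]
        exact ⟨fun h => hx1 h.symm, fun h => hy1 h.symm, fun h => hxy1 h.symm,
          fun h => hq1 h.symm⟩
    have := Finset.card_le_card hsub
    rw [hc5, Finset.card_univ, ← Nat.card_eq_fintype_card, hcard] at this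
    omega
  obtain ⟨a', rfl⟩ := QuotientGroup.mk_surjective x
  obtain ⟨b', rfl⟩ := QuotientGroup.mk_surjective y
  refine ⟨(a' : G), (b' : G), a'.2, b'.2, ?_, ?_, ?_, ?_, ?_, ?_, ?_, ?_⟩
  · rw [← hmk]; exact hx1
  · rw [← hmk]; exact hy1
  · have := (hmk (a' * b'))
    rw [QuotientGroup.mk_mul] at this
    intro h
    exact hxy1 (this.2 h)
  · have := (hmk (a' * a'))
    rw [QuotientGroup.mk_mul] at this
    exact this.1 (hsq _)
  · have := (hmk (b' * b'))
    rw [QuotientGroup.mk_mul] at this
    exact this.1 (hsq _)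
  · have := (hmk (a' * b' * a'⁻¹ * b'⁻¹))
    apply this.1
    rw [QuotientGroup.mk_mul, QuotientGroup.mk_mul, QuotientGroup.mk_mul,
      hcomm (QuotientGroup.mk a') (QuotientGroup.mk b'), QuotientGroup.mk_inv, QuotientGroup.mk_inv]
    group
  · intro n hnN
    have key : ∀ c : N, (QuotientGroup.mk (⟨n, hnN⟩ : N) : N ⧸ K) = QuotientGroup.mk c →
        n * (c : G)⁻¹ ∈ T := by
      intro c hc
      have := (hmk (⟨n, hnN⟩ * c⁻¹))
      have h2 : (QuotientGroup.mk ((⟨n, hnN⟩ : N) * c⁻¹) : N ⧸ K) = 1 := by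
        rw [QuotientGroup.mk_mul, hc, QuotientGroup.mk_inv, mul_inv_cancel]
      exact this.1 h2
    rcases hall (QuotientGroup.mk (⟨n, hnN⟩ : N)) with h | h | h | h
    · exact ⟨n, (hmk ⟨n, hnN⟩).1 h, Or.inl rfl⟩
    · exact ⟨n * (a' : G)⁻¹, key a' h, Or.inr (Or.inl (by group))⟩
    · exact ⟨n * (b' : G)⁻¹, key b' h, Or.inr (Or.inr (Or.inl (by group)))⟩
    · refine ⟨n * ((a' : G) * (b' : G))⁻¹, ?_, Or.inr (Or.inr (Or.inr (by group)))⟩
      have := key (a' * b') (by rw [h, QuotientGroup.mk_mul])
      simpa using this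
  · have h1 := Subgroup.card_eq_card_quotient_mul_card_subgroup K
    rw [hcard] at h1
    rw [h1]
    congr 1
    have hle : T ≤ N := Subgroup.le_normalizer
    exact Nat.card_congr (Subgroup.subgroupOfEquivOfLe hle).toEquiv

end Cfsg.Agent.Helper68.S3S3
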