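-- helper68: piece (N1) of helper21's WANTED #5542 for S3797 (Thompson): from the endgame configuration `ECfg` to the
-- minimal configuration `ZCfg`.
import Mathlib
import Cfsg.Agent.Helper21.THDefs2
import Cfsg.Agent.Helper21.THMin
import Cfsg.Agent.Helper50.THW4
import Cfsg.Agent.Helper71.ShultBasic

set_option autoImplicit false

namespace Cfsg.Agent.Helper68.TH

open Subgroup Cfsg Cfsg.Agent.Helper21.TH
open scoped commutatorElement

universe u

variable {G : Type u} [Group G] [Finite G]

/-- the index of a proper subgroup of a `2`-group `X`, normalized by an odd order group `R` acting on `X` without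
nontrivial fixed points, is at least `4` -/
theorem four_le_relIndex {X D R : Subgroup G} (hX2 : IsPGroup 2 X) (hRodd : Odd (Nat.card R))
    (hRX : R ≤ normalizer (X : Set G)) (hRD : R ≤ normalizer (D : Set G)) (hDX : D ≤ X) (hne : D ≠ X)
    (hfix : ∀ x ∈ X, (∀ r ∈ R, r * x * r⁻¹ = x) → x = 1) : 4 ≤ D.relIndex X := by
  haveI : Fact (Nat.Prime 2) := ⟨Nat.prime_two⟩
  -- the index is a power of `2`
  obtain ⟨k, hk⟩ := hX2.exists_card_eq
  have hdvd : D.relIndex X ∣ 2 ^ k := by
    rw [← hk]
    exact Subgroup.relIndex_dvd_card D X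
  obtain ⟨j, -, hj⟩ := (Nat.dvd_prime_pow Nat.prime_two).1 hdvd
  have hj0 : j ≠ 0 := by
    intro h0
    rw [h0, pow_zero, Subgroup.relIndex_eq_one] at hj
    exact hne (le_antisymm hDX hj)
  by_cases hj1 : j = 1
  · exfalso
    rw [hj1, pow_one] at hj
    -- an element outside `D`
    obtain ⟨x, hxX, hxD⟩ : ∃ x ∈ X, x ∉ D := by
      by_contra hcon
      apply hne
      refine le_antisymm hDX ?_
      intro y hy
      by_contra hyD
      exact hcon ⟨y, hy, hyD⟩
    have hD2 : IsPGroup 2 D := hX2.to_le hDX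
    obtain ⟨n, hn⟩ := hD2.exists_card_eq
    have hcop : (Nat.card R).Coprime (Nat.card D) := by
      rw [hn]
      exact Nat.Coprime.pow_right n (Nat.coprime_two_right.2 hRodd)
    have hsol : Group.IsSolvable D ∨ Group.IsSolvable R := by
      left
      have hnil := hD2.isNilpotent
      infer_instance
    have hcos : ∀ r ∈ R, x⁻¹ * (r * x * r⁻¹) ∈ D := by
      intro r hr
      have h1 : r * x * r⁻¹ ∈ X := Cfsg.Agent.Helper71.Shult.conj_mem_of_le_normalizer hRX hr hxX
      have h2 : r * x * r⁻¹ ∉ D := by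
        intro hmem
        apply hxD
        have := Cfsg.Agent.Helper71.Shult.conj_inv_mem_of_le_normalizer hRD hr hmem
        have e : r⁻¹ * (r * x * r⁻¹) * r = x := by group
        rwa [e] at this
      have hidx : (D.subgroupOf X).index = 2 := hj
      have h3 := Subgroup.mul_mem_iff_of_index_two hidx (a := (⟨x⁻¹, X.inv_mem hxX⟩ : ↥X))
        (b := (⟨r * x * r⁻¹, h1⟩ : ↥X))
      rw [Subgroup.mem_subgroupOf, Subgroup.mem_subgroupOf, Subgroup.mem_subgroupOf] at h3
      apply h3.2
      constructor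
      · intro h4
        exact absurd ((D.inv_mem_iff).1 h4) hxD
      · intro h4
        exact absurd h4 h2
    obtain ⟨d, hd, hfixed⟩ := Cfsg.Agent.Helper50.TH.exists_fixed_in_coset_coprime D R hRD hcop hsol x hcos
    have h1 : x * d = 1 := hfix (x * d) (X.mul_mem hxX (hDX hd)) hfixed
    apply hxD
    have : x = d⁻¹ := eq_inv_of_mul_eq_one_left h1
    rw [this]
    exact D.inv_mem hd
  · have hj2 : 2 ≤ j := by omega
    rw [hj]
    calc 4 = 2 ^ 2 := by norm_num
      _ ≤ 2 ^ j := Nat.pow_le_pow_right (by norm_num) hj2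

/-- (N1) -/
theorem exists_zcfg {P V T X₁ R : Subgroup G} (h : ECfg P V T X₁ R) :
    ∃ X D U : Subgroup G, X ≤ X₁ ∧ U ≤ T ∧ ZCfg P V X D U R := by
  -- `X` minimal `R`-invariant in `X₁` not centralizing `T`
  obtain ⟨X, hXX₁, hRX, hXT, hXmin⟩ :=
    Cfsg.Agent.Helper71.Shult.exists_min_action R X₁ (fun X => ¬ X ≤ centralizer (T : Set G)) h.hnc h.hRX
  -- `U` minimal `(X, R)`-invariant in `T` not centralized by `X`
  have hXnT : X ≤ normalizer (T : Set G) := hXX₁.trans h.hXT
  obtain ⟨U, hUT, hXRU, hXU, hUmin⟩ :=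
    Cfsg.Agent.Helper71.Shult.exists_min_action (X ⊔ R) T (fun U => ¬ X ≤ centralizer (U : Set G)) hXT
      (sup_le hXnT h.hRT)
  have hXnU : X ≤ normalizer (U : Set G) := le_sup_left.trans hXRU
  have hRnU : R ≤ normalizer (U : Set G) := le_sup_right.trans hXRU
  have hX2 : IsPGroup 2 X := h.hX2.to_le hXX₁
  have hfix : ∀ x ∈ X, (∀ r ∈ R, r * x * r⁻¹ = x) → x = 1 := fun x hx => h.hfix x (hXX₁ hx)
  have hRD : R ≤ normalizer ((X ⊓ centralizer (U : Set G) : Subgroup G) : Set G) :=
    Cfsg.Agent.Helper71.Shult.inf_le_normalizer hRX (Cfsg.Agent.Helper71.Shult.le_normalizer_centralizer hRnU)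
  have hDne : X ⊓ centralizer (U : Set G) ≠ X := by
    intro he
    apply hXU
    rw [← he]
    exact inf_le_right
  have hm : MCfg X (X ⊓ centralizer (U : Set G)) U R :=
    { hX2 := hX2
      hRodd := h.hRodd
      hUodd := Odd.of_dvd_nat h.hTodd (Subgroup.card_dvd_of_le hUT)
      hUsol := by
        have hTs := h.hTsol
        exact Group.isSolvable_of_isSolvable_injective (Subgroup.inclusion_injective hUT)
      hXU := hXnU
      hRU := hRnU
      hRX := hRX
      hD := rfl
      hXmin := by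
        intro X₀ hX₀ hRX₀
        refine le_inf hX₀.le ?_
        have h1 : X₀ ≤ centralizer (T : Set G) := not_not.1 (hXmin X₀ hX₀ hRX₀)
        exact h1.trans (Subgroup.centralizer_le hUT)
      hUmin := by
        intro U₀ hU₀ hXU₀ hRU₀
        exact not_not.1 (hUmin U₀ hU₀ (sup_le hXU₀ hRU₀))
      hidx := four_le_relIndex hX2 h.hRodd hRX hRD inf_le_left hDne hfix }
  refine ⟨X, X ⊓ centralizer (U : Set G), U, hXX₁, hUT, ?_⟩
  exact
    { m := hm
      hP := h.hP
      hV := h.hV
      hVZ := h.hVZ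
      hV4 := h.hV4
      hXP := hXX₁.trans h.hXP
      hUP := hUT.trans h.hTP
      hRP := h.hRP
      hUV := hUT.trans h.hTV
      hXV := hXX₁.trans h.hXV
      htrans := h.htrans
      hfaith := by
        rw [eq_bot_iff, ← h.hfaith]
        exact inf_le_inf_right _ hUT }

end Cfsg.Agent.Helper68.TH
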