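import Mathlib
import Cfsg.Agent.Helper63.BG13F
import Cfsg.Agent.Helper1.CoprimeSylow
import Cfsg.Agent.Helper21.Fitting
import Cfsg.Agent.Helper68.BG124A
import Cfsg.Agent.Helper68.BG117B

set_option autoImplicit false

/-!
# A Frobenius group `Y P` acting coprimely with `C_S(P) = 1` has `Y` acting trivially

Piece [P5] of helper70's Theorem N3 (board #3585), STEP 2: let `Y`, `P` be subgroups of prime
orders `s`, `p` of a finite group of odd order, `P` normalizing but not centralizing `Y`, both
normalizing a subgroup `S` of order prime to `s p`.  If `C_S(P) = 1` then `Y` centralizes `S`.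
(Apply Shult's Lemma F(a) to a `Y P`-invariant Sylow `t`-subgroup of `S` for every prime `t`.)
-/

namespace Cfsg.Agent.Helper68.BG14P5

open Subgroup
open scoped commutatorElement

variable {X : Type*} [Group X] [Finite X]

/-- a subgroup of prime order is solvable -/
theorem isSolvable_of_card_prime {Y : Subgroup X} {s : ℕ} (hs : s.Prime) (hY : Nat.card Y = s) :
    Group.IsSolvable ↥Y := by
  haveI : Fact s.Prime := ⟨hs⟩
  haveI : IsCyclic ↥Y := isCyclic_of_prime_card hY
  letI := IsCyclic.commGroup (α := ↥Y)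
  infer_instance

/-- `[Y, P] = Y` if `P` normalizes but does not centralize the subgroup `Y` of prime order -/
theorem commutator_eq_of_not_le_centralizer {Y P : Subgroup X} {s : ℕ} (hs : s.Prime)
    (hY : Nat.card Y = s) (hPY : P ≤ normalizer (Y : Set X))
    (hnc : ¬ P ≤ centralizer (Y : Set X)) : ⁅Y, P⁆ = Y := by
  have hle : ⁅Y, P⁆ ≤ Y := Cfsg.Agent.Helper68.BG11.commutator_le_left_of_le_normalizer hPY
  have hdvd : Nat.card ↥⁅Y, P⁆ ∣ s := by
    rw [← hY]; exact Subgroup.card_dvd_of_le hle
  rcases (Nat.dvd_prime hs).mp hdvd with h | h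
  · exfalso
    apply hnc
    rw [Subgroup.card_eq_one] at h
    rw [Subgroup.le_centralizer_iff]
    exact Subgroup.commutator_eq_bot_iff_le_centralizer.mp h
  · exact Subgroup.eq_of_le_of_card_ge hle (by rw [h, hY])

/-- **[P5]** -/
theorem centralizes_of_frobenius_fpf (S Y P : Subgroup X) {s p : ℕ} (hs : s.Prime) (hp : p.Prime)
    (hY : Nat.card Y = s) (hP : Nat.card P = p) (hPY : P ≤ normalizer (Y : Set X))
    (hnc : ¬ P ≤ centralizer (Y : Set X)) (hYS : Y ≤ normalizer (S : Set X))
    (hPS : P ≤ normalizer (S : Set X)) (hodd : Odd (Nat.card X))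
    (hcop : (Nat.card S).Coprime (s * p)) (hfpf : S ⊓ centralizer (P : Set X) = ⊥) :
    Y ≤ centralizer (S : Set X) := by
  haveI : Fact s.Prime := ⟨hs⟩
  haveI : Fact p.Prime := ⟨hp⟩
  have hsp : s ≠ p := by
    rintro rfl
    apply hnc
    exact Cfsg.Agent.Helper68.BG12.le_centralizer_of_card_prime_of_isPGroup
      (IsPGroup.of_card (n := 1) (by rw [hP, pow_one])) hY hPY
  have hpY : ¬ p ∣ Nat.card Y := by
    rw [hY]
    intro h
    exact hsp ((Nat.prime_dvd_prime_iff_eq hp hs).mp h).symm
  have hYP : ⁅Y, P⁆ = Y := commutator_eq_of_not_le_centralizer hs hY hPY hnc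
  have hsolv : Group.IsSolvable ↥(Y ⊔ P) := by
    rw [sup_comm]
    exact Cfsg.Agent.Helper21.isSolvable_sup (isSolvable_of_card_prime hp hP)
      (isSolvable_of_card_prime hs hY) hPY
  have hoddA : Odd (Nat.card ↥(Y ⊔ P)) :=
    Odd.of_dvd_nat hodd (Subgroup.card_subgroup_dvd_card _)
  have hAdvd : Nat.card ↥(Y ⊔ P) ∣ s * p := by
    have := Cfsg.Agent.Helper68.BG11.card_sup_dvd (S := Y) (A := P) hPY
    rwa [hY, hP] at this
  have hAS : Y ⊔ P ≤ normalizer (S : Set X) := sup_le hYS hPS
  have hcopA : (Nat.card ↥(Y ⊔ P)).Coprime (Nat.card S) :=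
    Nat.Coprime.coprime_dvd_left hAdvd hcop.symm
  have key : ∀ t : ℕ, t.Prime → ¬ t ∣ (S ⊓ centralizer (Y : Set X)).relIndex S := by
    intro t ht
    by_cases htS : t ∣ Nat.card S
    · haveI : Fact t.Prime := ⟨ht⟩
      obtain ⟨T, hT⟩ := Cfsg.Agent.Helper1.exists_invariant_sylow (Y ⊔ P) S hAS hcopA
        (Or.inl hsolv) t
      set T' : Subgroup X := (T : Subgroup S).map S.subtype with hT'
      have hT'S : T' ≤ S := Subgroup.map_subtype_le _
      have hT'p : IsPGroup t T' := T.isPGroup'.map _
      have hcopt : (Nat.card ↥(Y ⊔ P)).Coprime t := Nat.Coprime.coprime_dvd_right htS hcopA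
      have hfpfT : T' ⊓ centralizer (P : Set X) = ⊥ := by
        rw [eq_bot_iff, ← hfpf]
        exact inf_le_inf hT'S le_rfl
      have hYT : Y ≤ centralizer (T' : Set X) :=
        Cfsg.Agent.Helper63.BG13F.lemmaF_a ht hp T' Y P hT'p hP (le_sup_right.trans hT)
          (le_sup_left.trans hT) hPY hYP hsolv hoddA hcopt hpY hfpfT
      have hT'le : T' ≤ S ⊓ centralizer (Y : Set X) :=
        le_inf hT'S (Subgroup.le_centralizer_iff.mp hYT)
      have hidx : T'.relIndex S = (T : Subgroup S).index := by
        unfold Subgroup.relIndex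
        congr 1
        exact Subgroup.comap_map_eq_self_of_injective S.subtype_injective _
      intro hdvd
      have h1 := hdvd.trans (Subgroup.relIndex_dvd_of_le_left S hT'le)
      rw [hidx] at h1
      exact T.not_dvd_index h1
    · intro hdvd
      apply htS
      have h1 : (S ⊓ centralizer (Y : Set X)).relIndex S ∣ Nat.card S := by
        unfold Subgroup.relIndex
        exact Subgroup.index_dvd_card _
      exact hdvd.trans h1
  have hEq : S ⊓ centralizer (Y : Set X) = S := by
    apply le_antisymm inf_le_left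
    rw [← Subgroup.relIndex_eq_one]
    by_contra hne
    obtain ⟨t, ht, hd⟩ := Nat.exists_prime_and_dvd hne
    exact key t ht hd
  rw [Subgroup.le_centralizer_iff]
  rw [← hEq]
  exact inf_le_right

end Cfsg.Agent.Helper68.BG14P5
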