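import Mathlib
import Cfsg.Agent.S4488
import Cfsg.Agent.Helper80.Pullback
import Cfsg.Agent.Helper80.CharLevel
import Cfsg.Agent.Helper25.PSolvLin.Defs

/-!
helper68 for helper25 (S4472, board #13417): piece (SK) `schur_bound_ker` of
`tools/helper25_s4472/Skel.lean.txt`: Schur's bound S4488 for a character with kernel.
-/

set_option autoImplicit false

namespace Cfsg.Agent.Helper68.PSolvLin

open Cfsg Cfsg.Agent.Helper25.PSolvLin

universe u

/-- **(SK)** Schur's bound modulo the kernel. -/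
theorem schur_bound_ker {X : Type u} [Group X] [Finite X] (p : ℕ) (hp : p.Prime) (ψ : X → ℂ)
    (hψ : IsCharacter X ψ) (r : ℕ) (hr : 0 < r) (hpr : ¬ p ∣ r) (hrat : ∀ x : X, ψ x ∈ cycField r)
    (n : ℕ) (hn : charDegree ψ = n) (N : Subgroup X) (hN : ∀ x : X, x ∈ N ↔ ψ x = ψ 1) :
    (Nat.card X).factorization p ≤
      (Nat.card N).factorization p + ∑ i ∈ Finset.range (n + 1), n / ((p - 1) * p ^ i) := by
  -- `N` is the kernel of `ψ`
  have hNK : N = Cfsg.Agent.Helper80.kerChar ψ hψ := by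
    ext x
    rw [hN, Cfsg.Agent.Helper80.mem_kerChar]
  subst hNK
  set K := Cfsg.Agent.Helper80.kerChar ψ hψ with hK
  -- descend to the quotient
  obtain ⟨ψ', hψ', hψψ'⟩ := Cfsg.Agent.Helper80.IsCharacter.exists_descend hψ (QuotientGroup.mk' K)
    (QuotientGroup.mk'_surjective K) (fun g hg => by
      rw [← Cfsg.Agent.Helper80.mem_kerChar hψ]
      exact (QuotientGroup.eq_one_iff g).mp hg)
  have h1 : ψ' 1 = ψ 1 := by
    have h := hψψ' 1
    rw [map_one] at h
    exact h.symm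
  have hfaith : ∀ q : X ⧸ K, ψ' q = ψ' 1 → q = 1 := by
    intro q hq
    obtain ⟨g, rfl⟩ := QuotientGroup.mk'_surjective K q
    rw [← hψψ' g, h1] at hq
    exact (QuotientGroup.eq_one_iff g).mpr ((Cfsg.Agent.Helper80.mem_kerChar hψ g).mpr hq)
  have hrat' : ∃ r : ℕ, 0 < r ∧ ¬ p ∣ r ∧ ∀ q : X ⧸ K, ψ' q ∈
      IntermediateField.adjoin ℚ ({Complex.exp (2 * Real.pi * Complex.I / r)} : Set ℂ) := by
    refine ⟨r, hr, hpr, fun q => ?_⟩
    obtain ⟨g, rfl⟩ := QuotientGroup.mk'_surjective K q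
    rw [← hψψ' g]
    exact hrat g
  have hdeg : charDegree ψ' = n := by
    rw [← hn, charDegree, charDegree, h1]
  have hS := Cfsg.Agent.S4488.result p hp ψ' hψ' hfaith hrat' n hdeg
  have hcard : Nat.card X = Nat.card (X ⧸ K) * Nat.card K :=
    Subgroup.card_eq_card_quotient_mul_card_subgroup K
  rw [hcard, Nat.factorization_mul Nat.card_pos.ne' Nat.card_pos.ne', Finsupp.add_apply, add_comm]
  exact Nat.add_le_add_left hS _

end Cfsg.Agent.Helper68.PSolvLin
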