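import Mathlib
import Cfsg.Agent.Helper5.UnitaryCenter
import Cfsg.Agent.Helper13.UGen1

/-!
helper68 for helper3 (S2500 part 5, board #12490): piece (5G1) `unip_of_eigen` of
`tools/helper3_cov2p4/Skel5.lean.txt`: an element of `SU_3(q)`, `q = 3^a`, with an eigenvector but without
nonisotropic eigenvectors is unipotent.
-/

set_option autoImplicit false

namespace Cfsg.Agent.Helper68.Cov2P5

open Polynomial Module Matrix

variable {F : Type*} [Field F] [Fintype F] {q : ℕ}

local notation "⟪" x ", " y "⟫" => Cfsg.hermForm 3 F q x y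

/-- the characteristic is three -/
theorem g1_charP3 (hF : Fintype.card F = q ^ 2) (a : ℕ) (hq : q = 3 ^ a) : CharP F 3 := by
  obtain ⟨p, hp⟩ := CharP.exists F
  obtain ⟨n, hpp, hn⟩ := FiniteField.card F p
  have h1 : p ∣ 3 ^ (a * 2) := by
    have h : p ∣ Fintype.card F := by
      rw [hn]
      exact dvd_pow_self p n.ne_zero
    rw [hF, hq, ← pow_mul] at h
    exact h
  have h2 : p = 3 := (Nat.prime_dvd_prime_iff_eq hpp Nat.prime_three).mp (hpp.dvd_of_dvd_pow h1)
  rw [← h2]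
  exact hp

/-- (5G1) -/
theorem unip_of_eigen (hF : Fintype.card F = q ^ 2) (a : ℕ) (ha : 1 ≤ a) (hq : q = 3 ^ a)
    (A : Cfsg.SU 3 F q)
    (hno : ∀ v : Fin 3 → F, Cfsg.hermForm 3 F q v v ≠ 0 →
      ∀ c : F, (A.1.1 : Matrix (Fin 3) (Fin 3) F) *ᵥ v ≠ c • v)
    (u : Fin 3 → F) (hu : u ≠ 0) (c : F)
    (hAu : (A.1.1 : Matrix (Fin 3) (Fin 3) F) *ᵥ u = c • u) :
    ((A.1.1 : Matrix (Fin 3) (Fin 3) F) - 1) ^ 3 = 0 := by
  classical
  have hch : CharP F 3 := g1_charP3 hF a hq
  have hq0 : q ≠ 0 := by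
    rw [hq]
    exact pow_ne_zero _ (by norm_num)
  set M : Matrix (Fin 3) (Fin 3) F := (A.1.1 : Matrix (Fin 3) (Fin 3) F) with hM
  have pres : ∀ x y, ⟪M *ᵥ x, M *ᵥ y⟫ = ⟪x, y⟫ := fun x y => Cfsg.Agent.Helper5.su_preserves A x y
  have hdet : M.det = 1 := A.1.2
  have addL : ∀ x x' y : Fin 3 → F, ⟪x + x', y⟫ = ⟪x, y⟫ + ⟪x', y⟫ :=
    fun x x' y => Cfsg.Agent.Helper13.hermForm_add_left x x' y
  have smulL : ∀ (r : F) (x y : Fin 3 → F), ⟪r • x, y⟫ = r * ⟪x, y⟫ :=
    fun r x y => Cfsg.Agent.Helper13.hermForm_smul_left r x y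
  have addR : ∀ x y y' : Fin 3 → F, ⟪x, y + y'⟫ = ⟪x, y⟫ + ⟪x, y'⟫ :=
    fun x y y' => Cfsg.Agent.Helper13.hermForm_add_right hF x y y'
  have smulR : ∀ (r : F) (x y : Fin 3 → F), ⟪x, r • y⟫ = r ^ q * ⟪x, y⟫ :=
    fun r x y => Cfsg.Agent.Helper13.hermForm_smul_right r x y
  have conj : ∀ x y : Fin 3 → F, ⟪x, y⟫ ^ q = ⟪y, x⟫ :=
    fun x y => Cfsg.Agent.Helper13.hermForm_conj hF x y
  have zeroL : ∀ y : Fin 3 → F, ⟪(0 : Fin 3 → F), y⟫ = 0 :=
    fun y => Cfsg.Agent.Helper13.hermForm_zero_left y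
  -- nondegeneracy
  have nondeg : ∀ x : Fin 3 → F, (∀ y, ⟪x, y⟫ = 0) → x = 0 := by
    intro x hx
    funext i
    rw [← Cfsg.Agent.Helper13.hermForm_single_right hF i x, hx]
    rfl
  -- `c ≠ 0`
  have hc0 : c ≠ 0 := by
    rintro rfl
    apply hu
    funext i
    rw [← Cfsg.Agent.Helper13.hermForm_single_right hF i u, ← pres, hAu, zero_smul, zeroL]
    rfl
  have hcq0 : c ^ q ≠ 0 := pow_ne_zero _ hc0
  -- `u` is isotropic
  have huu : ⟪u, u⟫ = 0 := by
    by_contra h
    exact hno u h c hAu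
  -- the functional `⟪·, u⟫` is an eigenvector of the transpose
  have hφ : ∀ y, c ^ q * ⟪M *ᵥ y, u⟫ = ⟪y, u⟫ := by
    intro y
    rw [← pres y u, hAu, smulR]
  -- `z` with `⟪z, u⟫ = 1`
  obtain ⟨i, hi⟩ : ∃ i, u i ≠ 0 := by
    by_contra h
    push Not at h
    exact hu (funext h)
  set z : Fin 3 → F := ((u i) ^ q)⁻¹ • Pi.single i 1 with hz
  have hzu : ⟪z, u⟫ = 1 := by
    rw [hz, smulL, Cfsg.Agent.Helper13.hermForm_single_left]
    exact inv_mul_cancel₀ (pow_ne_zero _ hi)
  -- `w` orthogonal to `u`, not a multiple of `u`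
  let φ : (Fin 3 → F) →ₗ[F] F :=
    { toFun := fun y => ⟪y, u⟫
      map_add' := fun x y => addL x y u
      map_smul' := fun r x => smulL r x u }
  obtain ⟨w, hwu, hwn⟩ : ∃ w : Fin 3 → F, ⟪w, u⟫ = 0 ∧ w ∉ Submodule.span F {u} := by
    by_contra hcon
    push Not at hcon
    have hle : LinearMap.ker φ ≤ Submodule.span F {u} := fun y hy => hcon y (LinearMap.mem_ker.mp hy)
    have h1 := Submodule.finrank_mono hle
    have h2 : Module.finrank F (Submodule.span F {u}) = 1 := finrank_span_singleton hu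
    have h3 := LinearMap.finrank_range_add_finrank_ker φ
    have h4 : Module.finrank F (LinearMap.range φ) ≤ 1 := by
      have := Submodule.finrank_le (LinearMap.range φ)
      rwa [Module.finrank_self] at this
    have h5 : Module.finrank F (Fin 3 → F) = 3 := by simp
    omega
  have huw : ⟪u, w⟫ = 0 := by
    rw [← conj w u, hwu, zero_pow hq0]
  have huz : ⟪u, z⟫ = 1 := by
    rw [← conj z u, hzu, one_pow]
  -- expansions
  have expL : ∀ (α β γ : F) (y : Fin 3 → F),
      ⟪α • u + β • w + γ • z, y⟫ = α * ⟪u, y⟫ + β * ⟪w, y⟫ + γ * ⟪z, y⟫ := by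
    intro α β γ y
    rw [addL, addL, smulL, smulL, smulL]
  have expR : ∀ (α β γ : F) (x : Fin 3 → F),
      ⟪x, α • u + β • w + γ • z⟫ = α ^ q * ⟪x, u⟫ + β ^ q * ⟪x, w⟫ + γ ^ q * ⟪x, z⟫ := by
    intro α β γ x
    rw [addR, addR, smulR, smulR, smulR]
  -- `u, w, z` span
  have hspan : ∀ y : Fin 3 → F, ∃ α β γ : F, y = α • u + β • w + γ • z := by
    have hli : LinearIndependent F ![u, w, z] := by
      rw [Fintype.linearIndependent_iff]
      intro g hg
      rw [Fin.sum_univ_three] at hg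
      simp only [Matrix.cons_val_zero, Matrix.cons_val_one, Matrix.cons_val_two, Matrix.head_cons,
        Matrix.tail_cons] at hg
      have hg2 : g 2 = 0 := by
        have h := congrArg (fun y => ⟪y, u⟫) hg
        simp only [expL, huu, hwu, hzu, zeroL] at h
        simpa using h
      rw [hg2, zero_smul, add_zero] at hg
      have hg1 : g 1 = 0 := by
        by_contra h1
        apply hwn
        rw [Submodule.mem_span_singleton]
        refine ⟨-(g 1)⁻¹ * g 0, ?_⟩
        have h2 : g 1 • w = -(g 0 • u) := eq_neg_of_add_eq_zero_right hg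
        calc (-(g 1)⁻¹ * g 0) • u = (g 1)⁻¹ • (-(g 0 • u)) := by
              rw [mul_smul, neg_smul, smul_neg]
          _ = (g 1)⁻¹ • (g 1 • w) := by rw [h2]
          _ = w := inv_smul_smul₀ h1 w
      rw [hg1, zero_smul, add_zero] at hg
      have hg0 : g 0 = 0 := by
        rcases smul_eq_zero.mp hg with h | h
        · exact h
        · exact absurd h hu
      intro j
      fin_cases j
      · exact hg0
      · exact hg1
      · exact hg2
    have htop := hli.span_eq_top_of_card_eq_finrank' (by simp)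
    intro y
    have hy : y ∈ Submodule.span F (Set.range ![u, w, z]) := by
      rw [htop]
      trivial
    rw [Submodule.mem_span_range_iff_exists_fun] at hy
    obtain ⟨g, hg⟩ := hy
    refine ⟨g 0, g 1, g 2, ?_⟩
    rw [← hg, Fin.sum_univ_three]
    rfl
  -- `w` is nonisotropic
  have hww : ⟪w, w⟫ ≠ 0 := by
    intro hww0
    apply hwn
    have hx : w - ⟪w, z⟫ • u = 0 := by
      apply nondeg
      intro y
      obtain ⟨α, β, γ, rfl⟩ := hspan y
      rw [Cfsg.Agent.Helper13.hermForm_sub_left, smulL, expR, expR, huu, hwu, hww0, huw, huz]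
      ring
    rw [Submodule.mem_span_singleton]
    exact ⟨⟪w, z⟫, (sub_eq_zero.mp hx).symm⟩
  -- the action on `w`
  obtain ⟨α, μ, γ, hMw⟩ := hspan (M *ᵥ w)
  have hγ : γ = 0 := by
    have h1 := hφ w
    rw [hwu, hMw, expL, huu, hwu, hzu] at h1
    have h2 : c ^ q * γ = 0 := by linear_combination h1
    rcases mul_eq_zero.mp h2 with h | h
    · exact absurd h hcq0
    · exact h
  rw [hγ, zero_smul, add_zero] at hMw
  have hμ : μ = c := by
    by_contra hne
    have hne' : μ - c ≠ 0 := sub_ne_zero.mpr hne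
    have hv : ⟪w + (α / (μ - c)) • u, w + (α / (μ - c)) • u⟫ ≠ 0 := by
      simp only [addL, addR, smulL, smulR, huu, hwu, huw]
      simpa using hww
    apply hno (w + (α / (μ - c)) • u) hv μ
    rw [Matrix.mulVec_add, Matrix.mulVec_smul, hMw, hAu, smul_add, smul_smul, smul_smul]
    have h1 : α + α / (μ - c) * c = μ * (α / (μ - c)) := by
      field_simp
      ring
    rw [← h1, add_smul]
    abel
  rw [hμ] at hMw
  have hcc : c * c ^ q = 1 := by
    have h1 := pres w w
    rw [hMw] at h1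
    simp only [addL, addR, smulL, smulR, huu, hwu, huw] at h1
    have h2 : (c * c ^ q - 1) * ⟪w, w⟫ = 0 := by linear_combination h1
    rcases mul_eq_zero.mp h2 with h | h
    · exact sub_eq_zero.mp h
    · exact absurd h hww
  -- the action on `z`
  obtain ⟨α', β', ν, hMz⟩ := hspan (M *ᵥ z)
  have hν : ν = c := by
    have h1 := hφ z
    rw [hzu, hMz, expL, huu, hwu, hzu] at h1
    have h2 : c ^ q * (ν - c) = 0 := by linear_combination h1 - hcc
    rcases mul_eq_zero.mp h2 with h | h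
    · exact absurd h hcq0
    · exact sub_eq_zero.mp h
  rw [hν] at hMz
  -- `N = M - c` is nilpotent
  set N : Matrix (Fin 3) (Fin 3) F := M - c • (1 : Matrix (Fin 3) (Fin 3) F) with hN
  have hNv : ∀ y, N *ᵥ y = M *ᵥ y - c • y := by
    intro y
    rw [hN, Matrix.sub_mulVec, Matrix.smul_mulVec, Matrix.one_mulVec]
  have hNu : N *ᵥ u = 0 := by rw [hNv, hAu, sub_self]
  have hNw : N *ᵥ w = α • u := by
    rw [hNv, hMw]
    abel
  have hNz : N *ᵥ z = α' • u + β' • w := by
    rw [hNv, hMz]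
    abel
  have hN3 : N ^ 3 = 0 := by
    have h : ∀ y, (N ^ 3) *ᵥ y = 0 := by
      intro y
      obtain ⟨a1, a2, a3, rfl⟩ := hspan y
      rw [pow_succ, pow_two, ← Matrix.mulVec_mulVec, ← Matrix.mulVec_mulVec]
      simp only [Matrix.mulVec_add, Matrix.mulVec_smul, hNu, hNw, hNz, smul_zero, zero_add, smul_add]
    ext i j
    have h1 := congrFun (h (Pi.single j 1)) i
    simpa using h1
  -- `M ^ 3 = c ^ 3`, so `c ^ 9 = 1` and `c = 1`
  have : Fact (Nat.Prime 3) := ⟨Nat.prime_three⟩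
  have hcomm : Commute M (c • (1 : Matrix (Fin 3) (Fin 3) F)) :=
    Commute.smul_right (Commute.one_right M) c
  have hM3 : M ^ 3 = (c • (1 : Matrix (Fin 3) (Fin 3) F)) ^ 3 := by
    have h := sub_pow_char_of_commute (p := 3) hcomm
    rw [← hN, hN3] at h
    exact (sub_eq_zero.mp h.symm)
  have hc9 : c ^ 9 = 1 := by
    have h := congrArg Matrix.det hM3
    rw [Matrix.det_pow, hdet, one_pow, _root_.smul_pow, one_pow, Matrix.det_smul, Matrix.det_one, Fintype.card_fin,
      mul_one, ← pow_mul] at h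
    exact h.symm
  have hc1 : c = 1 := by
    have h : (c - 1) ^ 9 = 0 := by
      have h9 : (9 : ℕ) = 3 ^ 2 := by norm_num
      rw [h9, sub_pow_char_pow, one_pow, ← h9, hc9, sub_self]
    exact sub_eq_zero.mp (pow_eq_zero_iff (by norm_num) |>.mp h)
  rw [hc1, one_smul] at hN
  rw [← hN]
  exact hN3

end Cfsg.Agent.Helper68.Cov2P5
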