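import Mathlib
import Cfsg.Agent.Helper71.SolvMax

/-! (BSTR) of helper3's S4467 (Dixon) skeleton (#9711): a class-two normal subgroup above the
centre. -/

set_option autoImplicit false

namespace Cfsg.Agent.Helper68.Dixon

open Cfsg
open scoped commutatorElement

universe u

/-- (BSTR) a finite solvable non-abelian group all of whose abelian normal subgroups are
central has a normal subgroup `E > Z(G)` with `E / Z(G)` an abelian `r`-group and
`Z(E) = Z(G)`. -/
theorem exists_class_two {G : Type u} [Group G] [Finite G] (hsolv : Group.IsSolvable G)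
    (hnc : Subgroup.center G ≠ ⊤)
    (hab : ∀ A : Subgroup G, A.Normal → (∀ x ∈ A, ∀ y ∈ A, x * y = y * x) →
      A ≤ Subgroup.center G) :
    ∃ (E : Subgroup G) (r k : ℕ), r.Prime ∧ E.Normal ∧ Subgroup.center G ≤ E ∧
      ¬ E ≤ Subgroup.center G ∧
      (∀ x ∈ E, ∀ y ∈ E, ⁅x, y⁆ ∈ Subgroup.center G) ∧
      (∀ x ∈ E, x ^ (r ^ k) ∈ Subgroup.center G) ∧
      (∀ x ∈ E, (∀ y ∈ E, x * y = y * x) → x ∈ Subgroup.center G) := by
  classical
  set Z := Subgroup.center G with hZ
  have hQnt : Nontrivial (G ⧸ Z) := by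
    rw [← not_subsingleton_iff_nontrivial]
    intro hsub
    exact hnc (QuotientGroup.subgroup_eq_top_of_subsingleton Z hsub)
  have hQs : Group.IsSolvable (G ⧸ Z) := inferInstance
  obtain ⟨r, hr, B, hBn, hBne, hBc, hBp⟩ :=
    Cfsg.Agent.Helper71.exists_normal_abelian_pGroup_ne_bot (Q := G ⧸ Z)
  have : Fact r.Prime := ⟨hr⟩
  obtain ⟨k, hk⟩ := (IsPGroup.iff_card).1 hBp
  set E : Subgroup G := B.comap (QuotientGroup.mk' Z) with hE
  have hmemE : ∀ x : G, x ∈ E ↔ (QuotientGroup.mk' Z x) ∈ B := fun x => Iff.rfl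
  have hmkZ : ∀ x : G, (QuotientGroup.mk' Z x) = 1 ↔ x ∈ Z := fun x => by
    rw [QuotientGroup.mk'_apply, QuotientGroup.eq_one_iff]
  refine ⟨E, r, k, hr, inferInstance, ?_, ?_, ?_, ?_, ?_⟩
  · intro z hz
    rw [hmemE, (hmkZ z).2 hz]
    exact one_mem B
  · intro hle
    apply hBne
    rw [eq_bot_iff]
    intro b hb
    obtain ⟨x, rfl⟩ := QuotientGroup.mk'_surjective Z b
    have hx : x ∈ E := hb
    rw [Subgroup.mem_bot]
    exact (hmkZ x).2 (hle hx)
  · intro x hx y hy
    rw [← hmkZ, map_commutatorElement, commutatorElement_eq_one_iff_mul_comm]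
    have h1 : (⟨_, hx⟩ : B) * ⟨_, hy⟩ = ⟨_, hy⟩ * ⟨_, hx⟩ := by
      exact hBc.is_comm.comm _ _
    exact congrArg Subtype.val h1
  · intro x hx
    rw [← hmkZ, map_pow]
    have h1 : (⟨_, hx⟩ : B) ^ (r ^ k) = 1 := by
      rw [← hk]
      exact pow_card_eq_one'
    exact congrArg Subtype.val h1
  · intro x hx hxc
    let A : Subgroup G := E ⊓ Subgroup.centralizer (E : Set G)
    have hAn : A.Normal := by
      refine ⟨fun a ha g => ?_⟩
      obtain ⟨haE, haC⟩ := Subgroup.mem_inf.1 ha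
      have hEn : E.Normal := inferInstance
      refine Subgroup.mem_inf.2 ⟨hEn.conj_mem a haE g, ?_⟩
      rw [Subgroup.mem_centralizer_iff] at haC ⊢
      intro y hy
      have hy' : g⁻¹ * y * g ∈ E := by
        have := hEn.conj_mem y hy g⁻¹
        rwa [inv_inv] at this
      have h1 := haC _ hy'
      calc y * (g * a * g⁻¹) = g * ((g⁻¹ * y * g) * a) * g⁻¹ := by group
        _ = g * (a * (g⁻¹ * y * g)) * g⁻¹ := by rw [h1]
        _ = g * a * g⁻¹ * y := by group
    have hAab : ∀ a ∈ A, ∀ b ∈ A, a * b = b * a := by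
      intro a ha b hb
      have haC := (Subgroup.mem_inf.1 ha).2
      rw [Subgroup.mem_centralizer_iff] at haC
      exact (haC b (Subgroup.mem_inf.1 hb).1).symm
    have hxA : x ∈ A := by
      refine Subgroup.mem_inf.2 ⟨hx, ?_⟩
      rw [Subgroup.mem_centralizer_iff]
      intro y hy
      exact (hxc y hy).symm
    exact hab A hAn hAab hxA

end Cfsg.Agent.Helper68.Dixon
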