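import Mathlib
import Cfsg.Agent.Helper44.CliffDefs

/-!
# (C8a), (C8b) for helper44's S3084 farm (#9890): nondegeneracy of `bil` on `U0 n`.
-/

set_option autoImplicit false
open scoped MatrixGroups

namespace Cfsg.Agent.Helper68.Cliff

open Matrix Cfsg.Agent.Helper44.Cliff

variable {n : ℕ}

theorem dot_single_right (a : X n) (i : Fin n) : a ⬝ᵥ (Pi.single i (1 : ZMod 2)) = a i := by
  rw [dotProduct_single, mul_one]

theorem single_dot_left (a : X n) (i : Fin n) : (Pi.single i (1 : ZMod 2) : X n) ⬝ᵥ a = a i := by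
  rw [single_dotProduct, one_mul]

/-- (C8a) nondegeneracy of `bil` -/
theorem bil_nondeg (u : U0 n) (hu : u ≠ 0) : ∃ v : U0 n, bil u v = 1 := by
  by_cases h1 : u.1 = 0
  · have h2 : u.2 ≠ 0 := by
      intro h2; apply hu; exact Prod.ext h1 h2
    obtain ⟨i, hi⟩ : ∃ i, u.2 i ≠ 0 := by
      by_contra hcon
      push Not at hcon
      exact h2 (funext hcon)
    have hi1 : u.2 i = 1 := by
      rcases zmod2_cases (u.2 i) with h | h
      · exact absurd h hi
      · exact h
    refine ⟨(Pi.single i 1, 0), ?_⟩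
    unfold bil
    simp only [dotProduct_zero, zero_add]
    rw [single_dot_left, hi1]
  · obtain ⟨i, hi⟩ : ∃ i, u.1 i ≠ 0 := by
      by_contra hcon
      push Not at hcon
      exact h1 (funext hcon)
    have hi1 : u.1 i = 1 := by
      rcases zmod2_cases (u.1 i) with h | h
      · exact absurd h hi
      · exact h
    refine ⟨(0, Pi.single i 1), ?_⟩
    unfold bil
    simp only [zero_dotProduct, add_zero]
    rw [dot_single_right, hi1]

/-- (C8b) every additive functional is `bil w` -/
theorem exists_bil (ℓ : U0 n → ZMod 2) (hadd : ∀ u v, ℓ (u + v) = ℓ u + ℓ v) :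
    ∃ w : U0 n, ∀ u, ℓ u = bil w u := by
  have h0 : ℓ 0 = 0 := by
    have h := hadd 0 0
    rw [add_zero] at h
    have : ℓ 0 + ℓ 0 = ℓ 0 + 0 := by rw [add_zero]; exact h.symm
    exact add_left_cancel this
  let L : U0 n →+ ZMod 2 := { toFun := ℓ, map_zero' := h0, map_add' := hadd }
  have hL : ∀ u, L u = ℓ u := fun _ => rfl
  -- scalar compatibility on basis vectors
  have hs1 : ∀ (i : Fin n) (c : ZMod 2),
      ℓ ((Pi.single i c : X n), (0 : X n)) = c * ℓ ((Pi.single i 1 : X n), (0 : X n)) := by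
    intro i c
    rcases zmod2_cases c with rfl | rfl
    · rw [Pi.single_zero, zero_mul]; exact h0
    · rw [one_mul]
  have hs2 : ∀ (i : Fin n) (c : ZMod 2),
      ℓ ((0 : X n), (Pi.single i c : X n)) = c * ℓ ((0 : X n), (Pi.single i 1 : X n)) := by
    intro i c
    rcases zmod2_cases c with rfl | rfl
    · rw [Pi.single_zero, zero_mul]; exact h0
    · rw [one_mul]
  refine ⟨(fun i => ℓ ((0 : X n), (Pi.single i 1 : X n)),
            fun i => ℓ ((Pi.single i 1 : X n), (0 : X n))), ?_⟩
  intro u
  have hu : u = (∑ i, ((Pi.single i (u.1 i) : X n), (0 : X n)))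
      + (∑ i, ((0 : X n), (Pi.single i (u.2 i) : X n))) := by
    apply Prod.ext
    · rw [Prod.fst_add, Prod.fst_sum, Prod.fst_sum]
      simp only [Finset.sum_const_zero, add_zero]
      exact (Finset.univ_sum_single u.1).symm
    · rw [Prod.snd_add, Prod.snd_sum, Prod.snd_sum]
      simp only [Finset.sum_const_zero, zero_add]
      exact (Finset.univ_sum_single u.2).symm
  have h1 : ℓ u = (∑ i, u.1 i * ℓ ((Pi.single i 1 : X n), (0 : X n)))
      + (∑ i, u.2 i * ℓ ((0 : X n), (Pi.single i 1 : X n))) := by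
    conv_lhs => rw [hu]
    rw [← hL, map_add, map_sum, map_sum]
    congr 1
    · apply Finset.sum_congr rfl
      intro i _
      rw [hL, hs1]
    · apply Finset.sum_congr rfl
      intro i _
      rw [hL, hs2]
  rw [h1]
  unfold bil
  simp only [dotProduct]
  rw [add_comm]
  congr 1
  apply Finset.sum_congr rfl
  intro i _
  rw [mul_comm]

end Cfsg.Agent.Helper68.Cliff
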