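import Cfsg.Agent.Helper6.SzChar0
import Cfsg.Agent.Helper75.InducedIrr
import Cfsg.Agent.Helper74.DegP
import Cfsg.Agent.Helper79.CharComplete

/-!
# [FC] for helper6's S4775 farm (#11435): the irreducible characters of the Frobenius group which are
non-trivial on the kernel.
-/

set_option autoImplicit false

namespace Cfsg.Agent.Helper68

open Cfsg Cfsg.Agent.Helper6
open scoped ComplexConjugate

universe u

variable {X : Type u} [Group X] [Fintype X] {K H : Subgroup X} {T : ℕ}

/-- FC: the irreducible characters non-trivial on the kernel -/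
theorem szc_frob_nonlin (D : FrobHyp K H T) (β : X → ℂ) (hβ : IsIrrCharacter X β)
    (hk : ∃ n ∈ K, β n ≠ β 1) :
    (∀ x, x ∉ K → β x = 0) ∧
      ∃ d : ℕ, d ∣ (2 * T ^ 2) ^ 2 ∧ β 1 = (((2 * T ^ 2 - 1) * d : ℕ) : ℂ) := by
  classical
  have := D.normal
  let _ : Fintype ↥K := Fintype.ofFinite _
  have hC : ∀ n ∈ K, n ≠ 1 → Subgroup.centralizer ({n} : Set X) ≤ K := by
    intro n hn hn1 y hy
    by_contra hyK
    rw [Subgroup.mem_centralizer_iff] at hy
    have h1 := hy n rfl
    exact hn1 (Helper75.fg_cent D.sup D.fpf hyK hn h1.symm)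
  obtain ⟨φ, hφ, rfl⟩ := Helper75.ii_exists_induced hC hβ hk
  have hcomp : Subgroup.IsComplement' K H :=
    Subgroup.isComplement'_of_disjoint_and_mul_eq_univ (disjoint_iff.2 D.inf)
      (by rw [← Subgroup.normal_mul, D.sup]; rfl)
  have hidx : K.index = 2 * T ^ 2 - 1 := by
    rw [hcomp.symm.index_eq_card, D.cardH]
  refine ⟨fun x hx => Helper15.indFun_normal_of_not_mem K φ hx, charDegree φ, ?_, ?_⟩
  · have h1 := Helper74.charDegree_dvd_card (⟨φ, hφ⟩ : IrrCharacter K)
    rw [D.cardK] at h1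
    exact h1
  · rw [Helper15.indFun_apply_one, hidx]
    have h1 := Helper79.irr_one (⟨φ, hφ⟩ : IrrCharacter K)
    have h2 : φ 1 = (charDegree φ : ℂ) := h1
    rw [h2]
    push_cast
    ring

end Cfsg.Agent.Helper68
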