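import Mathlib
import Cfsg.Agent.Helper34.FratLinDefs
import Cfsg.Agent.Helper20.FratLinF2a
import Cfsg.Agent.S4169

/-!
Piece (F2) of helper34's plan for S4188 (board #7937), primed version: a finite `2`-group all of
whose normal abelian subgroups are cyclic has `i2 Q ≤ 8`, and `i2 Q ≤ 4` when `|Q| ≤ 16`.
A maximal normal abelian subgroup `A` is cyclic and self-centralizing, so `Q ⧸ A` embeds in
`Aut A = (ZMod 2^m)ˣ`.
-/

set_option autoImplicit false

namespace Cfsg.Agent.Helper68.FratLin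
open Cfsg.Agent.Helper34.FratLin

universe u

theorem totient_two_pow_le (m : ℕ) (hm : m ≤ 2) : Nat.totient (2 ^ m) ≤ 2 := by
  interval_cases m
  · simp
  · simp
  · decide

/-- Piece (F2) of helper34's S4188 plan, with the four facts of piece (F1) that it uses taken as
hypotheses (all at the universe of `Q`). -/
theorem i2_le_of_normal_abelian_cyclic' {Q : Type u} [Group Q] [Finite Q] (hQ : IsPGroup 2 Q)
    (hcyc : ∀ A : Subgroup Q, A.Normal → IsMulCommutative A → IsCyclic A)
    (H_le_card : ∀ (Q' : Type u) [Group Q'] [Finite Q'], i2 Q' ≤ Nat.card Q')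
    (H_le_mul : ∀ (K : Subgroup Q) [K.Normal], i2 Q ≤ i2 K * i2 (Q ⧸ K))
    (H_cyc : ∀ (Q' : Type u) [Group Q'] [Finite Q'] [IsCyclic Q'], i2 Q' ≤ 2)
    (H_sq : ∀ (H : Type u) [CommGroup H] [Finite H], i2 H = Nat.card {h : H // h ^ 2 = 1}) :
    i2 Q ≤ 8 ∧ (Nat.card Q ≤ 16 → i2 Q ≤ 4) := by
  have : Fact (Nat.Prime 2) := ⟨Nat.prime_two⟩
  obtain ⟨A, hAn, hAc, hCA⟩ := Cfsg.Agent.S4169.exists_self_centralizing hQ
  have := hAn
  have hAcyc : IsCyclic A := hcyc A hAn hAc
  -- the conjugation action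
  have hker : (MulAut.conjNormal (H := A)).ker = A := by
    ext g
    rw [MonoidHom.mem_ker]
    constructor
    · intro h
      rw [← hCA, Subgroup.mem_centralizer_iff]
      intro a ha
      have h1 := DFunLike.congr_fun h ⟨a, ha⟩
      have h2 := congrArg Subtype.val h1
      rw [MulAut.conjNormal_apply] at h2
      simp only [MulAut.one_apply] at h2
      calc a * g = (g * a * g⁻¹) * g := by rw [h2]
        _ = g * a := by group
    · intro hg
      ext a
      rw [MulAut.conjNormal_apply]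
      simp only [MulAut.one_apply]
      have hg' : g ∈ Subgroup.centralizer (A : Set Q) := by rw [hCA]; exact hg
      rw [Subgroup.mem_centralizer_iff] at hg'
      have := hg' a a.2
      calc g * (a : Q) * g⁻¹ = (a : Q) * g * g⁻¹ := by rw [this]
        _ = a := by group
  -- the embedding of Q ⧸ A into the units of ZMod |A|
  let ψ : Q ⧸ A →* (ZMod (Nat.card A))ˣ :=
    ((IsCyclic.mulAutMulEquiv A).toMonoidHom.comp
      (QuotientGroup.kerLift (MulAut.conjNormal (H := A)))).comp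
      (QuotientGroup.quotientMulEquivOfEq hker.symm).toMonoidHom
  have hψ : Function.Injective ψ := by
    intro x y hxy
    have h1 : (IsCyclic.mulAutMulEquiv A) ((QuotientGroup.kerLift (MulAut.conjNormal (H := A)))
        ((QuotientGroup.quotientMulEquivOfEq hker.symm) x)) =
        (IsCyclic.mulAutMulEquiv A) ((QuotientGroup.kerLift (MulAut.conjNormal (H := A)))
        ((QuotientGroup.quotientMulEquivOfEq hker.symm) y)) := hxy
    exact (QuotientGroup.quotientMulEquivOfEq hker.symm).injective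
      (QuotientGroup.kerLift_injective _ ((IsCyclic.mulAutMulEquiv A).injective h1))
  obtain ⟨m, hm⟩ := (hQ.to_subgroup A).exists_card_eq
  have hA2 : i2 A ≤ 2 := H_cyc A
  have hmul : i2 Q ≤ i2 A * i2 (Q ⧸ A) := H_le_mul A
  have hunits : ∀ n : ℕ, (∃ m, n = 2 ^ m) → Nat.card {u : (ZMod n)ˣ // u ^ 2 = 1} ≤ 4 := by
    rintro _ ⟨m, rfl⟩
    exact Cfsg.Agent.Helper20.FratLin.card_units_sq_eq_one_le m
  constructor
  · -- i2 (Q ⧸ A) ≤ 4
    have hcomm : ∀ x y : Q ⧸ A, x * y = y * x := by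
      intro x y
      apply hψ
      rw [map_mul, map_mul, mul_comm]
    let _ : CommGroup (Q ⧸ A) := { (inferInstance : Group (Q ⧸ A)) with mul_comm := hcomm }
    have h1 : i2 (Q ⧸ A) = Nat.card {h : Q ⧸ A // h ^ 2 = 1} := H_sq (Q ⧸ A)
    have h2 : Nat.card {h : Q ⧸ A // h ^ 2 = 1} ≤
        Nat.card {u : (ZMod (Nat.card A))ˣ // u ^ 2 = 1} := by
      apply Nat.card_le_card_of_injective
        (fun h : {h : Q ⧸ A // h ^ 2 = 1} =>
          (⟨ψ h.1, by rw [← map_pow, h.2, map_one]⟩ : {u : (ZMod (Nat.card A))ˣ // u ^ 2 = 1}))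
      intro x y hxy
      apply Subtype.ext
      apply hψ
      exact congrArg Subtype.val hxy
    have h3 := hunits (Nat.card A) ⟨m, hm⟩
    have h4 : i2 (Q ⧸ A) ≤ 4 := by rw [h1]; exact h2.trans h3
    calc i2 Q ≤ i2 A * i2 (Q ⧸ A) := hmul
      _ ≤ 2 * 4 := Nat.mul_le_mul hA2 h4
  · intro h16
    -- card (Q ⧸ A) ≤ 2
    have hcard : Nat.card Q = Nat.card (Q ⧸ A) * Nat.card A :=
      Subgroup.card_eq_card_quotient_mul_card_subgroup A
    have hle : Nat.card (Q ⧸ A) ≤ Nat.card (ZMod (Nat.card A))ˣ :=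
      Nat.card_le_card_of_injective ψ hψ
    have hpos : 0 < Nat.card (Q ⧸ A) := Nat.card_pos
    have hq2 : Nat.card (Q ⧸ A) ≤ 2 := by
      by_cases hm2 : m ≤ 2
      · have : NeZero (Nat.card A) := ⟨Nat.card_pos.ne'⟩
        have h5 : Nat.card (ZMod (Nat.card A))ˣ = Nat.totient (Nat.card A) := by
          rw [Nat.card_eq_fintype_card, ZMod.card_units_eq_totient]
        rw [h5, hm] at hle
        exact hle.trans (totient_two_pow_le m hm2)
      · have h8 : 8 ≤ Nat.card A := by
          rw [hm]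
          calc 8 = 2 ^ 3 := by norm_num
            _ ≤ 2 ^ m := Nat.pow_le_pow_right (by norm_num) (by omega)
        by_contra hcon
        have h3 : 3 ≤ Nat.card (Q ⧸ A) := by omega
        have : 3 * 8 ≤ Nat.card (Q ⧸ A) * Nat.card A := Nat.mul_le_mul h3 h8
        omega
    have h4 : i2 (Q ⧸ A) ≤ 2 := (H_le_card (Q ⧸ A)).trans hq2
    calc i2 Q ≤ i2 A * i2 (Q ⧸ A) := hmul
      _ ≤ 2 * 2 := Nat.mul_le_mul hA2 h4

end Cfsg.Agent.Helper68.FratLin
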