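import Mathlib
import Cfsg.Agent.Helper68.FratLinF2p
import Cfsg.Agent.Helper76.FratLinF1

/-!
Piece (F2) of helper34's plan for S4188 (board #7937), exact skeleton statement:
the primed version `FratLinF2p` fed with helper76's (F1) lemmas.
-/

set_option autoImplicit false

namespace Cfsg.Agent.Helper68.FratLin
open Cfsg.Agent.Helper34.FratLin

theorem i2_le_of_normal_abelian_cyclic {Q : Type*} [Group Q] [Finite Q] (hQ : IsPGroup 2 Q)
    (hcyc : ∀ A : Subgroup Q, A.Normal → IsMulCommutative A → IsCyclic A) :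
    i2 Q ≤ 8 ∧ (Nat.card Q ≤ 16 → i2 Q ≤ 4) :=
  i2_le_of_normal_abelian_cyclic' hQ hcyc
    (fun _ _ _ => Cfsg.Agent.Helper76.FratLin.i2_le_card)
    (fun K _ => Cfsg.Agent.Helper76.FratLin.i2_le_mul K)
    (fun _ _ _ _ => Cfsg.Agent.Helper76.FratLin.i2_le_two_of_isCyclic)
    (fun _ _ _ => Cfsg.Agent.Helper76.FratLin.i2_eq_card_sq_eq_one)

end Cfsg.Agent.Helper68.FratLin
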