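import Mathlib
import Cfsg.Agent.Helper35.Asch.Defs
import Cfsg.Agent.Helper84.SylowRel

/-!
Pieces (S8), (S9) of helper35's plan for S3401 (board #8405): `N_G(Q)` is 2-transitive and
`N_N(Q)` is transitive on the fixed points of `Q`.

The core statements `normalizer_twoTrans_core`, `normalizer_trans_core` take the needed fields of
the skeleton's `Setup` structure as hypotheses; `Setup` itself is copied verbatim from the skeleton
(it is not on main) and the `Setup.*` versions are the skeleton statements.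
-/

set_option autoImplicit false
set_option linter.unusedSectionVars false
set_option linter.unusedVariables false

namespace Cfsg.Agent.Helper68.Asch

open MulAction Cfsg.Agent.Helper35.Asch

variable {G : Type*} [Group G] [Finite G] {Ω : Type*} [Fintype Ω] [MulAction G Ω]

/-- in a finite group, `x Q x⁻¹ ≤ Q` puts `x` in the normalizer of `Q` -/
theorem mem_normalizer_of_conj_le (Q : Subgroup G) (x : G) (h : ∀ q ∈ Q, x * q * x⁻¹ ∈ Q) :
    x ∈ Subgroup.normalizer (Q : Set G) := by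
  let φ : Q → Q := fun q => ⟨x * q * x⁻¹, h q q.2⟩
  have hinj : Function.Injective φ := by
    intro q q' hqq'
    have h1 : x * (q : G) * x⁻¹ = x * (q' : G) * x⁻¹ := congrArg Subtype.val hqq'
    apply Subtype.ext
    exact mul_left_cancel (mul_right_cancel h1)
  have hsurj : Function.Surjective φ := Finite.injective_iff_surjective.mp hinj
  rw [Subgroup.mem_normalizer_iff]
  intro y
  constructor
  · intro hy
    exact h y hy
  · intro hy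
    obtain ⟨q, hq⟩ := hsurj ⟨x * y * x⁻¹, hy⟩
    have h1 : x * (q : G) * x⁻¹ = x * y * x⁻¹ := congrArg Subtype.val hq
    have h2 : (q : G) = y := mul_left_cancel (mul_right_cancel h1)
    rw [← h2]
    exact q.2

/-- Sylow's theorem inside `A`: if `Q` is a Sylow 2-subgroup of `A` and `g Q g⁻¹ ≤ A`, then some
`h ∈ A` has `h g ∈ N_G(Q)` -/
theorem exists_mul_mem_normalizer (Q A : Subgroup G) (hQA : Q ≤ A) (hQ : IsPGroup 2 Q)
    (hidx : ¬ 2 ∣ Q.relIndex A) (g : G) (hg : ∀ q ∈ Q, g * q * g⁻¹ ∈ A) :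
    ∃ h ∈ A, h * g ∈ Subgroup.normalizer (Q : Set G) := by
  have : Fact (Nat.Prime 2) := ⟨Nat.prime_two⟩
  set B : Subgroup G := Q.map (MulAut.conj g).toMonoidHom with hBdef
  have hBA : B ≤ A := by
    rintro _ ⟨q, hq, rfl⟩
    exact hg q hq
  have hB : IsPGroup 2 B := hQ.map _
  obtain ⟨h, hhA, hh⟩ := Cfsg.Agent.Helper84.exists_conj_le_of_relIndex A Q B hQA hQ hidx hBA hB
  refine ⟨h, hhA, ?_⟩
  apply mem_normalizer_of_conj_le
  intro q hq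
  have h1 : g * q * g⁻¹ ∈ B := ⟨q, hq, rfl⟩
  have h2 := hh _ h1
  have h3 : h * g * q * (h * g)⁻¹ = h * (g * q * g⁻¹) * h⁻¹ := by group
  rw [h3]
  exact h2

/-- (S8), core form -/
theorem normalizer_twoTrans_core (N Q : Subgroup G) (hN : N.Normal)
    (h2 : TwoTrans (⊤ : Subgroup G) Ω) (hQN : Q ≤ N) (hQ : IsPGroup 2 Q)
    {γ δ γ' δ' : Ω} (hγ : γ ∈ fix Q Ω) (hδ : δ ∈ fix Q Ω)
    (hγ' : γ' ∈ fix Q Ω) (hδ' : δ' ∈ fix Q Ω) (h : γ ≠ δ) (h' : γ' ≠ δ')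
    (h6 : ¬ 2 ∣ Q.relIndex (stabIn N γ' ⊓ stabilizer G δ')) :
    ∃ b ∈ Subgroup.normalizer (Q : Set G), b • γ = γ' ∧ b • δ = δ' := by
  obtain ⟨g, -, hgγ, hgδ⟩ := h2 h h'
  have hQA : Q ≤ stabIn N γ' ⊓ stabilizer G δ' := by
    intro q hq
    exact ⟨⟨hQN hq, mem_stabilizer_iff.mpr (hγ' q hq)⟩, mem_stabilizer_iff.mpr (hδ' q hq)⟩
  have hg : ∀ q ∈ Q, g * q * g⁻¹ ∈ stabIn N γ' ⊓ stabilizer G δ' := by
    intro q hq
    have h1 : g * q * g⁻¹ ∈ stabilizer G γ' := by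
      rw [mem_stabilizer_iff, mul_smul, mul_smul, ← hgγ, inv_smul_smul, hγ q hq]
    have h2 : g * q * g⁻¹ ∈ stabilizer G δ' := by
      rw [mem_stabilizer_iff, mul_smul, mul_smul, ← hgδ, inv_smul_smul, hδ q hq]
    exact ⟨⟨hN.conj_mem q (hQN hq) g, h1⟩, h2⟩
  obtain ⟨x, hxA, hx⟩ := exists_mul_mem_normalizer Q _ hQA hQ h6 g hg
  refine ⟨x * g, hx, ?_, ?_⟩
  · rw [mul_smul, hgγ]
    exact mem_stabilizer_iff.mp hxA.1.2
  · rw [mul_smul, hgδ]
    exact mem_stabilizer_iff.mp hxA.2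

/-- (S9), core form -/
theorem normalizer_trans_core (N Q : Subgroup G) (hT : Trans N Ω) (hQN : Q ≤ N)
    (hQ : IsPGroup 2 Q) {γ γ' : Ω} (hγ : γ ∈ fix Q Ω) (hγ' : γ' ∈ fix Q Ω)
    (h6 : ¬ 2 ∣ Q.relIndex (stabIn N γ')) :
    ∃ x ∈ N ⊓ Subgroup.normalizer (Q : Set G), x • γ = γ' := by
  obtain ⟨g, hgN, hgγ⟩ := hT γ γ'
  have hQA : Q ≤ stabIn N γ' := by
    intro q hq
    exact ⟨hQN hq, mem_stabilizer_iff.mpr (hγ' q hq)⟩
  have hg : ∀ q ∈ Q, g * q * g⁻¹ ∈ stabIn N γ' := by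
    intro q hq
    have h1 : g * q * g⁻¹ ∈ stabilizer G γ' := by
      rw [mem_stabilizer_iff, mul_smul, mul_smul, ← hgγ, inv_smul_smul, hγ q hq]
    exact ⟨N.mul_mem (N.mul_mem hgN (hQN hq)) (N.inv_mem hgN), h1⟩
  obtain ⟨x, hxA, hx⟩ := exists_mul_mem_normalizer Q _ hQA hQ h6 g hg
  refine ⟨x * g, ⟨N.mul_mem hxA.1 hgN, hx⟩, ?_⟩
  rw [mul_smul, hgγ]
  exact mem_stabilizer_iff.mp hxA.2

/-- the data of the skeleton (copied verbatim) -/
structure Setup (G : Type*) [Group G] (Ω : Type*) [MulAction G Ω] where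
  N : Subgroup G
  a : Ω
  Q : Subgroup G
  S : Subgroup G
  t : G
  normal : N.Normal
  trans : Trans N Ω
  twoTrans : TwoTrans (⊤ : Subgroup G) Ω
  hQle : Q ≤ stabIn N a
  hQ : IsPGroup 2 Q
  hQidx : ¬ 2 ∣ Q.relIndex (stabIn N a)
  hQS : Q ≤ S
  hSN : S ≤ N
  hS : IsPGroup 2 S
  hSidx : ¬ 2 ∣ S.relIndex N
  hcard : Nat.card S = 2 * Nat.card Q
  htS : t ∈ S
  htQ : t ∉ Q

namespace Setup

variable (D : Setup G Ω)

/-- (S8) `N_G(Q)` is 2-transitive on `fix Q`, given that `Q` is Sylow in `N_γ'δ'`. -/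
theorem normalizer_twoTrans_of {γ δ γ' δ' : Ω} (hγ : γ ∈ fix D.Q Ω) (hδ : δ ∈ fix D.Q Ω)
    (hγ' : γ' ∈ fix D.Q Ω) (hδ' : δ' ∈ fix D.Q Ω) (h : γ ≠ δ) (h' : γ' ≠ δ')
    (h6 : ¬ 2 ∣ D.Q.relIndex (stabIn D.N γ' ⊓ stabilizer G δ')) :
    ∃ b ∈ Subgroup.normalizer (D.Q : Set G), b • γ = γ' ∧ b • δ = δ' :=
  normalizer_twoTrans_core D.N D.Q D.normal D.twoTrans (D.hQle.trans inf_le_left) D.hQ
    hγ hδ hγ' hδ' h h' h6

/-- (S9) `N_N(Q)` is transitive on `fix Q`, given that `Q` is Sylow in `N_γ'`. -/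
theorem normalizer_trans_of {γ γ' : Ω} (hγ : γ ∈ fix D.Q Ω) (hγ' : γ' ∈ fix D.Q Ω)
    (h6 : ¬ 2 ∣ D.Q.relIndex (stabIn D.N γ')) :
    ∃ x ∈ D.N ⊓ Subgroup.normalizer (D.Q : Set G), x • γ = γ' :=
  normalizer_trans_core D.N D.Q D.trans (D.hQle.trans inf_le_left) D.hQ hγ hγ' h6

end Setup

end Cfsg.Agent.Helper68.Asch
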