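import Cfsg.Agent.Helper36.F4Odd.Defs2

/-!
helper68 for helper36 (S4280, batch II+III), piece (CM): `n_w` centralizes `tor (sv b)` iff `w` preserves the values of
the roots on it.  The pieces (TC) and (CS) are explicit hypotheses, with the exact statements of the skeleton.
-/

set_option autoImplicit false
set_option maxRecDepth 100000

namespace Cfsg.Agent.Helper68.F4Odd

open Cfsg Cfsg.Lie Cfsg.Agent.Helper18 Cfsg.Agent.Helper36.F4Odd Cfsg.Agent.Helper19.Twist
  Cfsg.Agent.Helper36.FieldFix

variable {F : Type*} [Field F]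

/-- `-1 ≠ 1` in the units of a finite field of odd order -/
theorem cm_neg_one_ne_one [Fintype F] (hF : Odd (Fintype.card F)) : (-1 : Fˣ) ≠ 1 := by
  intro h
  have h1 : (-1 : F) = 1 := by
    have := congrArg Units.val h
    simpa using this
  have h2 : ((2 : ℕ) : F) = 0 := by
    have : (1 : F) + 1 = 0 := by
      nth_rewrite 1 [← h1]
      ring
    rw [← this]
    norm_num
  have h3 : ringChar F ∣ 2 := ringChar.dvd h2
  have h4 : ringChar F = 2 := by
    rcases (Nat.dvd_prime Nat.prime_two).mp h3 with h | h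
    · exact absurd h (CharP.ringChar_ne_one)
    · exact h
  have h5 := FiniteField.even_card_of_char_two h4
  rcases hF with ⟨k, hk⟩
  omega

/-- (CM), with (TC) and (CS) as hypotheses -/
theorem nW_mem_Zc_iff [Fintype F] (hF : Odd (Fintype.card F))
    (hTC : ∀ (w : List ℕ) (_ : ∀ i ∈ w, i < 4) (c d : Fin chevF4.rank → Fˣ),
      nW w * tor c * (nW w)⁻¹ = tor (F := F) d ↔ ∀ s < 48, chr (aW w s) d = chr s c)
    (hCS : ∀ (b s : ℕ) (_ : b < 16) (_ : s < 48),
      chr s (sv (F := F) b) = if par b s then -1 else 1)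
    (b : ℕ) (hb : b < 16) (w : List ℕ) (hw : ∀ i ∈ w, i < 4) :
    nW w ∈ Zc (tor (F := F) (sv b)) ↔ presB b w = true := by
  have hne := cm_neg_one_ne_one (F := F) hF
  rw [mem_Zc, ← mul_inv_eq_iff_eq_mul, hTC w hw (sv b) (sv b)]
  unfold presB
  rw [List.all_eq_true]
  constructor
  · intro h x hx
    have hx' : x < 48 := List.mem_range.mp hx
    have h1 := h x hx'
    rw [hCS b (aW w x) hb (aW_lt w hw x hx'), hCS b x hb hx'] at h1
    rw [beq_iff_eq]
    by_cases p1 : par b (aW w x) = true <;> by_cases p2 : par b x = true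
    · rw [p1, p2]
    · rw [if_pos p1, if_neg p2] at h1
      exact absurd h1 hne
    · rw [if_neg p1, if_pos p2] at h1
      exact absurd h1.symm hne
    · rw [Bool.not_eq_true] at p1 p2
      rw [p1, p2]
  · intro h s hs
    have h1 := h s (List.mem_range.mpr hs)
    rw [beq_iff_eq] at h1
    rw [hCS b (aW w s) hb (aW_lt w hw s hs), hCS b s hb hs, h1]

end Cfsg.Agent.Helper68.F4Odd
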