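import Cfsg.Agent.Helper36.F4Odd.Defs2

/-!
helper68 for helper36 (S4280, batch II+III), piece (TG): the table `Tb b`, generic part (letters, completeness),
from the coset enumeration `Cfsg.Agent.Helper36.F4Mix.coset_enum tws1 nxt1 L8`.
-/

set_option autoImplicit false
set_option maxRecDepth 100000

namespace Cfsg.Agent.Helper68.F4Odd

open Cfsg Cfsg.Lie Cfsg.Agent.Helper18 Cfsg.Agent.Helper36.F4Odd Cfsg.Agent.Helper19.Twist
  Cfsg.Agent.Helper36.FieldFix

theorem tg_letters_tws1 : Cfsg.Agent.Helper36.F4Mix.lettersOK Cfsg.Agent.Helper36.F4Mix.tws1 = true := by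
  decide +kernel

theorem tg_letters_L8 : Cfsg.Agent.Helper36.F4Mix.lettersOK Cfsg.Agent.Helper36.F4Mix.L8 = true := by
  decide +kernel

theorem tg_len_tws1 : Cfsg.Agent.Helper36.F4Mix.tws1.length = 144 := by decide +kernel

theorem tg_len_L8 : Cfsg.Agent.Helper36.F4Mix.L8.length = 8 := by decide +kernel

/-- the members of `allEntries` -/
theorem tg_mem_allEntries (e : List ℕ) :
    e ∈ allEntries ↔ ∃ a < 144, ∃ j < 8,
      e = Cfsg.Agent.Helper36.F4Mix.tws1.getD a [] ++ Cfsg.Agent.Helper36.F4Mix.L8.getD j [] := by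
  unfold allEntries
  rw [List.mem_flatMap]
  constructor
  · rintro ⟨a, ha, h⟩
    rw [List.mem_map] at h
    obtain ⟨j, hj, h⟩ := h
    exact ⟨a, List.mem_range.mp ha, j, List.mem_range.mp hj, h.symm⟩
  · rintro ⟨a, ha, j, hj, h⟩
    refine ⟨a, List.mem_range.mpr ha, ?_⟩
    rw [List.mem_map]
    exact ⟨j, List.mem_range.mpr hj, h.symm⟩

/-- `presB` only depends on the action -/
theorem tg_presB_congr (b : ℕ) (w w' : List ℕ) (h : ∀ x < 48, aW w x = aW w' x) : presB b w = presB b w' := by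
  unfold presB
  rw [Bool.eq_iff_iff, List.all_eq_true, List.all_eq_true]
  constructor
  · intro h1 x hx
    rw [← h x (List.mem_range.mp hx)]
    exact h1 x hx
  · intro h1 x hx
    rw [h x (List.mem_range.mp hx)]
    exact h1 x hx

/-- (TG), letters -/
theorem Tb_letters (b : ℕ) : ∀ w ∈ Tb b, ∀ i ∈ w, i < 4 := by
  intro w hw i hi
  unfold Tb at hw
  rw [List.mem_filter] at hw
  obtain ⟨a, ha, j, hj, e⟩ := (tg_mem_allEntries w).mp hw.1
  rw [e, List.mem_append] at hi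
  rcases hi with hi | hi
  · exact Cfsg.Agent.Helper36.F4Mix.lettersOK_spec tg_letters_tws1 _
      (Cfsg.Agent.Helper36.F4Mix.getD_mem_or _ a (by rw [tg_len_tws1]; exact ha) []) i hi
  · exact Cfsg.Agent.Helper36.F4Mix.lettersOK_spec tg_letters_L8 _
      (Cfsg.Agent.Helper36.F4Mix.getD_mem_or _ j (by rw [tg_len_L8]; exact hj) []) i hi

/-- (TG), completeness -/
theorem Tb_complete (b : ℕ) (w : List ℕ) (hw : ∀ i ∈ w, i < 4) (h : presB b w = true) :
    ∃ i, i < (Tb b).length ∧ ∀ x < 48, aW w x = aW ((Tb b).getD i []) x := by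
  obtain ⟨k, hk, c, hc, hact⟩ := Cfsg.Agent.Helper36.F4Mix.coset_enum Cfsg.Agent.Helper36.F4Mix.tws1
    Cfsg.Agent.Helper36.F4Mix.nxt1 Cfsg.Agent.Helper36.F4Mix.L8 (by rw [tg_len_tws1]; norm_num)
    (by decide +kernel) (by decide +kernel) tg_letters_tws1 tg_letters_L8
    Cfsg.Agent.Helper36.F4Mix.step1 Cfsg.Agent.Helper36.F4Mix.closed8 w hw
  rw [tg_len_tws1] at hk
  obtain ⟨j, hj, ej⟩ := List.getElem_of_mem hc
  have hj8 : j < 8 := by rw [← tg_len_L8]; exact hj
  have ec : c = Cfsg.Agent.Helper36.F4Mix.L8.getD j [] := by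
    rw [List.getD_eq_getElem _ _ hj]; exact ej.symm
  have hmem : Cfsg.Agent.Helper36.F4Mix.tws1.getD k [] ++ c ∈ Tb b := by
    unfold Tb
    rw [List.mem_filter]
    refine ⟨(tg_mem_allEntries _).mpr ⟨k, hk, j, hj8, by rw [ec]⟩, ?_⟩
    rw [← tg_presB_congr b w _ hact]
    exact h
  obtain ⟨i, hi, ei⟩ := List.getElem_of_mem hmem
  refine ⟨i, hi, fun x hx => ?_⟩
  rw [List.getD_eq_getElem _ _ hi, ei]
  exact hact x hx

end Cfsg.Agent.Helper68.F4Odd
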