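import Mathlib

/-!
# (T1b) for helper38's S2272 farm (#10620): two independent vectors as columns of an `SL_d` matrix.
-/

set_option autoImplicit false

namespace Cfsg.Agent.Helper68.CP

open Matrix Module

variable {F : Type*} [Field F] {d : ℕ}

local notation "SL" => Matrix.SpecialLinearGroup (Fin d) F
local notation "PSL" => Matrix.ProjectiveSpecialLinearGroup (Fin d) F

/-- a linear automorphism of `F^d` sending `e_{i₀} ↦ x`, `e_j ↦ y` for independent `x, y`. -/
theorem exists_linearEquiv_cols (x y : Fin d → F) (hxy : LinearIndependent F ![x, y])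
    (i₀ j : Fin d) (hj : j ≠ i₀) :
    ∃ g : (Fin d → F) ≃ₗ[F] (Fin d → F), g (Pi.single i₀ 1) = x ∧ g (Pi.single j 1) = y := by
  classical
  have hstd : LinearIndependent F ![(Pi.single i₀ 1 : Fin d → F), Pi.single j 1] := by
    have hb := (Pi.basisFun F (Fin d)).linearIndependent
    have e : ![(Pi.single i₀ 1 : Fin d → F), Pi.single j 1] = (Pi.basisFun F (Fin d)) ∘ ![i₀, j] := by
      ext a : 1
      fin_cases a <;> simp
    rw [e]
    apply hb.comp
    intro a b hab
    fin_cases a <;> fin_cases b <;> simp_all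
  let b1 := Basis.span hstd
  let b2 := Basis.span hxy
  let f := b1.equiv b2 (Equiv.refl _)
  obtain ⟨g, hg⟩ := Submodule.exists_linearEquiv_restrict_eq f
  refine ⟨g, ?_, ?_⟩
  · have h1 := hg (b1 0)
    have h2 : ((b1 0 : Submodule.span F (Set.range ![(Pi.single i₀ 1 : Fin d → F), Pi.single j 1])) :
        Fin d → F) = Pi.single i₀ 1 := by
      rw [Basis.span_apply]; rfl
    have h3 : ((f (b1 0) : Submodule.span F (Set.range ![x, y])) : Fin d → F) = x := by
      rw [Basis.equiv_apply, Equiv.refl_apply, Basis.span_apply]; rfl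
    rw [h2, h3] at h1
    exact h1.symm
  · have h1 := hg (b1 1)
    have h2 : ((b1 1 : Submodule.span F (Set.range ![(Pi.single i₀ 1 : Fin d → F), Pi.single j 1])) :
        Fin d → F) = Pi.single j 1 := by
      rw [Basis.span_apply]; rfl
    have h3 : ((f (b1 1) : Submodule.span F (Set.range ![x, y])) : Fin d → F) = y := by
      rw [Basis.equiv_apply, Equiv.refl_apply, Basis.span_apply]; rfl
    rw [h2, h3] at h1
    exact h1.symm

/-- (T1b) for `d ≥ 3`, two linearly independent vectors are columns `i₀`, `j` of a matrix of determinant 1. -/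
theorem exists_sl_cols (hd : 3 ≤ d) (x y : Fin d → F) (hxy : LinearIndependent F ![x, y])
    (i₀ j : Fin d) (hj : j ≠ i₀) :
    ∃ P : SL, (∀ i, P.1 i i₀ = x i) ∧ (∀ i, P.1 i j = y i) := by
  classical
  obtain ⟨g, hgx, hgy⟩ := exists_linearEquiv_cols x y hxy i₀ j hj
  set M : Matrix (Fin d) (Fin d) F := LinearMap.toMatrix' (g : (Fin d → F) →ₗ[F] (Fin d → F)) with hM
  have hcol : ∀ (i l : Fin d), M i l = g (Pi.single l 1) i := by
    intro i l
    rw [hM, LinearMap.toMatrix'_apply]
    rfl
  have hdet : M.det ≠ 0 := by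
    rw [hM, LinearMap.det_toMatrix']
    exact (LinearEquiv.isUnit_det' g).ne_zero
  -- a third index
  obtain ⟨k, hk0, hkj⟩ : ∃ k : Fin d, k ≠ i₀ ∧ k ≠ j := by
    by_contra hcon
    push Not at hcon
    have hsub : (Finset.univ : Finset (Fin d)) ⊆ {i₀, j} := by
      intro k _
      by_cases h : k = i₀
      · simp [h]
      · simp [hcon k h]
    have := Finset.card_le_card hsub
    rw [Finset.card_univ, Fintype.card_fin] at this
    have h2 : ({i₀, j} : Finset (Fin d)).card ≤ 2 := Finset.card_le_two
    omega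
  set v : Fin d → F := fun l => if l = k then (M.det)⁻¹ else 1 with hv
  have hdetD : (Matrix.diagonal v).det = (M.det)⁻¹ := by
    rw [Matrix.det_diagonal, hv]
    rw [Finset.prod_ite_eq' Finset.univ k (fun _ => (M.det)⁻¹)]
    simp
  have hdetP : (M * Matrix.diagonal v).det = 1 := by
    rw [Matrix.det_mul, hdetD, mul_inv_cancel₀ hdet]
  refine ⟨⟨M * Matrix.diagonal v, hdetP⟩, ?_, ?_⟩
  · intro i
    show (M * Matrix.diagonal v) i i₀ = x i
    rw [Matrix.mul_diagonal, hv]
    simp only
    rw [if_neg (Ne.symm hk0), mul_one, hcol, hgx]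
  · intro i
    show (M * Matrix.diagonal v) i j = y i
    rw [Matrix.mul_diagonal, hv]
    simp only
    rw [if_neg (Ne.symm hkj), mul_one, hcol, hgy]

end Cfsg.Agent.Helper68.CP
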