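import Mathlib
import Cfsg.Agent.Helper68.CPT1b

/-!
# (T1) for helper38's S2272 farm (#10620): normal form of a non-central element of `SL_d`, `d ≥ 3`.
-/

set_option autoImplicit false

namespace Cfsg.Agent.Helper68.CP

open Matrix

variable {F : Type*} [Field F] {d : ℕ}

local notation "SL" => Matrix.SpecialLinearGroup (Fin d) F
local notation "PSL" => Matrix.ProjectiveSpecialLinearGroup (Fin d) F

theorem t1_not_scalar (A : SL) (hA : A ∉ Subgroup.center SL) :
    ∀ r : F, Matrix.scalar (Fin d) r ≠ A.1 := by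
  intro r hr
  apply hA
  rw [Matrix.SpecialLinearGroup.mem_center_iff]
  refine ⟨r, ?_, hr⟩
  have h1 : (Matrix.scalar (Fin d) r).det = 1 := by rw [hr]; exact A.2
  rw [Matrix.scalar_apply, Matrix.det_diagonal, Finset.prod_const, Finset.card_univ] at h1
  exact h1

theorem t1_mulVec_single (M : Matrix (Fin d) (Fin d) F) (l : Fin d) :
    M *ᵥ (Pi.single l 1) = fun i => M i l := by
  funext i
  simp [Matrix.mulVec_single]

/-- own copy of (T1a) (so that (T1) does not wait for it): a matrix all of whose vectors are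
eigenvectors is scalar; contrapositive form. -/
theorem t1_exists_not_eigen (A : Matrix (Fin d) (Fin d) F) (hA : ∀ r : F, Matrix.scalar (Fin d) r ≠ A) :
    ∃ x : Fin d → F, ∀ c : F, A *ᵥ x ≠ c • x := by
  classical
  by_contra hcon
  push Not at hcon
  choose lam hlam using fun i : Fin d => hcon (Pi.single i 1)
  have hentry : ∀ i l : Fin d, A i l = if i = l then lam l else 0 := by
    intro i l
    have h := congrFun (hlam l) i
    rw [t1_mulVec_single] at h
    have h' : A i l = (lam l • (Pi.single l 1 : Fin d → F)) i := h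
    rw [h', Pi.smul_apply, Pi.single_apply, smul_eq_mul]
    split_ifs <;> simp
  have hlam_eq : ∀ i l : Fin d, lam i = lam l := by
    intro i l
    by_cases hil : i = l
    · rw [hil]
    obtain ⟨μ, hμ⟩ := hcon (Pi.single i 1 + Pi.single l 1)
    rw [Matrix.mulVec_add, hlam i, hlam l] at hμ
    have hi := congrFun hμ i
    have hl := congrFun hμ l
    simp only [Pi.add_apply, Pi.smul_apply, Pi.single_apply, smul_eq_mul, if_true, if_neg hil,
      if_neg (Ne.symm hil)] at hi hl
    have hi' : lam i = μ := by linear_combination hi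
    have hl' : lam l = μ := by linear_combination hl
    rw [hi', hl']
  rcases Nat.eq_zero_or_pos d with hd0 | hdpos
  · subst hd0
    apply hA 0
    ext i
    exact i.elim0
  · apply hA (lam ⟨0, hdpos⟩)
    ext i l
    rw [Matrix.scalar_apply, Matrix.diagonal_apply, hentry, hlam_eq ⟨0, hdpos⟩ l]

/-- (T1) normal form. -/
theorem exists_conj_col (hd : 3 ≤ d) (A : SL) (hA : A ∉ Subgroup.center SL) (i₀ j : Fin d) (hj : j ≠ i₀) :
    ∃ g : SL, ∀ i, (g * A * g⁻¹).1 i i₀ = if i = j then 1 else 0 := by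
  obtain ⟨x, hx⟩ := t1_exists_not_eigen A.1 (t1_not_scalar A hA)
  have hx0 : x ≠ 0 := by
    intro h0
    apply hx 0
    rw [h0, Matrix.mulVec_zero, smul_zero]
  have hli : LinearIndependent F ![x, A.1 *ᵥ x] := by
    rw [LinearIndependent.pair_iff]
    intro s t hst
    have ht : t = 0 := by
      by_contra ht
      apply hx (-(s / t))
      have h1 : t • (A.1 *ᵥ x) = -(s • x) := by
        rw [eq_neg_iff_add_eq_zero, add_comm]; exact hst
      have h2 : A.1 *ᵥ x = t⁻¹ • (t • (A.1 *ᵥ x)) := by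
        rw [smul_smul, inv_mul_cancel₀ ht, one_smul]
      rw [h2, h1, smul_neg, smul_smul, neg_smul, div_eq_inv_mul, mul_comm]
    refine ⟨?_, ht⟩
    rw [ht, zero_smul, add_zero] at hst
    rcases smul_eq_zero.1 hst with h | h
    · exact h
    · exact absurd h hx0
  obtain ⟨P, hP0, hPj⟩ := exists_sl_cols hd x (A.1 *ᵥ x) hli i₀ j hj
  refine ⟨P⁻¹, ?_⟩
  intro i
  rw [inv_inv]
  have hcol : ((P⁻¹ * A * P : SL).1) *ᵥ (Pi.single i₀ 1) = Pi.single j 1 := by
    have e1 : ((P⁻¹ * A * P : SL).1) = (P⁻¹ : SL).1 * A.1 * P.1 := rfl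
    rw [e1, ← Matrix.mulVec_mulVec, ← Matrix.mulVec_mulVec]
    have e2 : P.1 *ᵥ (Pi.single i₀ 1) = x := by
      rw [t1_mulVec_single]; funext i; exact hP0 i
    have e3 : A.1 *ᵥ x = P.1 *ᵥ (Pi.single j 1) := by
      rw [t1_mulVec_single]; funext i; exact (hPj i).symm
    rw [e2, e3, Matrix.mulVec_mulVec]
    have e4 : (P⁻¹ : SL).1 * P.1 = 1 := by
      have : ((P⁻¹ * P : SL).1) = (P⁻¹ : SL).1 * P.1 := rfl
      rw [← this, inv_mul_cancel]; rfl
    rw [e4, Matrix.one_mulVec]
  have := congrFun hcol i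
  rw [t1_mulVec_single, Pi.single_apply] at this
  exact this

end Cfsg.Agent.Helper68.CP
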