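import Mathlib

/-!
# (DET) for helper53's Cov2 farm (#11776, S2500): a matrix commuting with `J` of prescribed determinant,
when `J` is a root of an irreducible polynomial over a finite field.
-/

set_option autoImplicit false

namespace Cfsg.Agent.Helper68.Cov2

open Polynomial Matrix

variable {F : Type*} [Field F]

/-- (DET) -/
theorem exists_commute_det [Finite F] {n : ℕ} (hn : 0 < n) (m : F[X]) (hm : Irreducible m)
    (J : Matrix (Fin n) (Fin n) F) (hJ : aeval J m = 0) (δ : F) (hδ : δ ≠ 0) :
    ∃ c : Matrix (Fin n) (Fin n) F, c * J = J * c ∧ c.det = δ := by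
  classical
  have : Fact (Irreducible m) := ⟨hm⟩
  have : Module.Finite F (AdjoinRoot m) := (AdjoinRoot.powerBasis hm.ne_zero).finite
  have : Finite (AdjoinRoot m) := Module.finite_of_finite F
  -- the algebra map `L → Mat`
  let φ : AdjoinRoot m →ₐ[F] Matrix (Fin n) (Fin n) F :=
    Ideal.Quotient.liftₐ (Ideal.span {m}) (Polynomial.aeval J) (by
      intro a ha
      obtain ⟨b, rfl⟩ := Ideal.mem_span_singleton.mp ha
      rw [map_mul, hJ, zero_mul])
  have hφmk : ∀ g : F[X], φ (AdjoinRoot.mk m g) = Polynomial.aeval J g := fun g => rfl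
  have hφroot : φ (AdjoinRoot.root m) = J := by
    rw [← AdjoinRoot.mk_X, hφmk, Polynomial.aeval_X]
  let ψ : AdjoinRoot m →ₐ[F] Module.End F (Fin n → F) :=
    (Matrix.toLinAlgEquiv' : Matrix (Fin n) (Fin n) F ≃ₐ[F] Module.End F (Fin n → F)).toAlgHom.comp φ
  let _ : Module (AdjoinRoot m) (Fin n → F) := Module.compHom (Fin n → F) ψ.toRingHom
  have hsmul : ∀ (e : AdjoinRoot m) (v : Fin n → F), e • v = (φ e) *ᵥ v := by
    intro e v
    rfl
  have : IsScalarTower F (AdjoinRoot m) (Fin n → F) := by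
    refine IsScalarTower.of_algebraMap_smul ?_
    intro c v
    rw [hsmul, AlgHom.commutes, Algebra.algebraMap_eq_smul_one, Matrix.smul_mulVec,
      Matrix.one_mulVec]
  have : Module.Finite (AdjoinRoot m) (Fin n → F) :=
    Module.Finite.of_restrictScalars_finite F (AdjoinRoot m) (Fin n → F)
  have : Nonempty (Fin n) := ⟨⟨0, hn⟩⟩
  have hkpos : 0 < Module.finrank (AdjoinRoot m) (Fin n → F) := Module.finrank_pos
  let b := Module.finBasis (AdjoinRoot m) (Fin n → F)
  obtain ⟨x, hx⟩ := FiniteField.norm_surjective F (AdjoinRoot m) δ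
  let i₀ : Fin (Module.finrank (AdjoinRoot m) (Fin n → F)) := ⟨0, hkpos⟩
  let c' : (Fin n → F) →ₗ[AdjoinRoot m] (Fin n → F) :=
    Matrix.toLin b b (Matrix.diagonal (fun i => if i = i₀ then x else 1))
  have hdetc' : LinearMap.det c' = x := by
    rw [LinearMap.det_toLin, Matrix.det_diagonal, Finset.prod_ite_eq' Finset.univ i₀]
    simp
  refine ⟨LinearMap.toMatrix' (c'.restrictScalars F), ?_, ?_⟩
  · apply Matrix.toLin'.injective
    apply LinearMap.ext
    intro v
    rw [Matrix.toLin'_mul, Matrix.toLin'_mul, Matrix.toLin'_toMatrix', LinearMap.comp_apply,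
      LinearMap.comp_apply, LinearMap.restrictScalars_apply, LinearMap.restrictScalars_apply,
      Matrix.toLin'_apply, Matrix.toLin'_apply, ← hφroot, ← hsmul, ← hsmul, map_smul]
  · rw [LinearMap.det_toMatrix', LinearMap.det_restrictScalars, hdetc', hx]

end Cfsg.Agent.Helper68.Cov2
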