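import Mathlib

/-!
# (ROOT) for helper53's Cov2 farm (#11776, S2500): if every irreducible factor of `χ` has degree divisible
by `deg m` (`m` irreducible over a finite field) then `χ ∣ m ∘ P` for some polynomial `P`.
-/

set_option autoImplicit false

namespace Cfsg.Agent.Helper68.Cov2

open Polynomial Matrix

variable {F : Type*} [Field F]

theorem comp_dvd_comp_sub (m P P' : F[X]) : P - P' ∣ m.comp P - m.comp P' := by
  have h := Polynomial.sub_dvd_eval_sub P P' (m.map C)
  rw [eval_map, eval_map] at h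
  exact h

/-- an irreducible `f` whose degree is a multiple of `deg m` divides some `m ∘ P` -/
theorem root_step1 [Finite F] (m f : F[X]) (hm : Irreducible m) (hf : Irreducible f)
    (hd : m.natDegree ∣ f.natDegree) : ∃ P1 : F[X], f ∣ m.comp P1 := by
  classical
  have : Fact (Irreducible f) := ⟨hf⟩
  have : Module.Finite F (AdjoinRoot f) := (AdjoinRoot.powerBasis hf.ne_zero).finite
  have : Finite (AdjoinRoot f) := Module.finite_of_finite F
  let _ : Fintype (AdjoinRoot f) := Fintype.ofFinite _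
  have h1 : m ∣ X ^ (Nat.card F) ^ f.natDegree - X :=
    hm.natDegree_dvd_iff_dvd_X_pow_card_pow_sub_X.1 hd
  have hcard : Fintype.card (AdjoinRoot f) = (Nat.card F) ^ f.natDegree := by
    rw [← Nat.card_eq_fintype_card, Module.natCard_eq_pow_finrank (K := F) (V := AdjoinRoot f),
      (AdjoinRoot.powerBasis hf.ne_zero).finrank, AdjoinRoot.powerBasis_dim]
  have h2 : m.map (algebraMap F (AdjoinRoot f)) ∣
      (X ^ Fintype.card (AdjoinRoot f) - X : (AdjoinRoot f)[X]) := by
    have h := Polynomial.map_dvd (algebraMap F (AdjoinRoot f)) h1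
    rw [Polynomial.map_sub, Polynomial.map_pow, Polynomial.map_X] at h
    rw [hcard]
    exact h
  have hg0 : (X ^ Fintype.card (AdjoinRoot f) - X : (AdjoinRoot f)[X]) ≠ 0 :=
    FiniteField.X_pow_card_sub_X_ne_zero _ Fintype.one_lt_card
  have hsplit : Splits (X ^ Fintype.card (AdjoinRoot f) - X : (AdjoinRoot f)[X]) := by
    rw [splits_iff_card_roots, FiniteField.roots_X_pow_card_sub_X,
      FiniteField.X_pow_card_sub_X_natDegree_eq _ Fintype.one_lt_card]
    rfl
  have hms : Splits (m.map (algebraMap F (AdjoinRoot f))) := hsplit.of_dvd hg0 h2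
  have hdeg : (m.map (algebraMap F (AdjoinRoot f))).degree ≠ 0 := by
    rw [Polynomial.degree_map]
    exact (Polynomial.degree_pos_of_irreducible hm).ne'
  obtain ⟨ρ, hρ⟩ := hms.exists_eval_eq_zero hdeg
  obtain ⟨P1, rfl⟩ := AdjoinRoot.mk_surjective ρ
  refine ⟨P1, ?_⟩
  rw [← AdjoinRoot.mk_eq_zero, ← hρ, Polynomial.eval_map, ← AdjoinRoot.aeval_eq,
    Polynomial.aeval_comp, AdjoinRoot.aeval_eq]
  rfl

theorem expand_card_pow [Finite F] (f : F[X]) (i : ℕ) :
    expand F ((Nat.card F) ^ i) f = f ^ ((Nat.card F) ^ i) := by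
  classical
  let _ : Fintype F := Fintype.ofFinite F
  rw [Nat.card_eq_fintype_card]
  induction i with
  | zero => simp
  | succ i ih => rw [pow_succ, expand_mul, FiniteField.expand_card, map_pow, ih, ← pow_mul]

/-- the prime power step -/
theorem root_step2 [Finite F] (m f : F[X]) (hm : Irreducible m) (hf : Irreducible f)
    (hd : m.natDegree ∣ f.natDegree) (i : ℕ) : ∃ P : F[X], f ^ i ∣ m.comp P := by
  obtain ⟨P1, hP1⟩ := root_step1 m f hm hf hd
  obtain ⟨Q, hQ⟩ : ∃ Q : ℕ, Q = (Nat.card F) ^ i := ⟨_, rfl⟩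
  refine ⟨P1.comp (X ^ Q), ?_⟩
  have hiQ : i ≤ Q := by
    rw [hQ]
    exact (Nat.lt_pow_self Finite.one_lt_card).le
  have h1 : f ^ i ∣ f ^ Q := pow_dvd_pow f hiQ
  have h2 : f ^ Q = expand F Q f := by rw [hQ]; exact (expand_card_pow f i).symm
  have h3 : expand F Q f ∣ expand F Q (m.comp P1) := by
    obtain ⟨k, hk⟩ := hP1
    exact ⟨expand F Q k, by rw [hk, map_mul]⟩
  have h4 : expand F Q (m.comp P1) = m.comp (P1.comp (X ^ Q)) := by
    rw [expand_eq_comp_X_pow, comp_assoc]
  rw [← h4]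
  exact h1.trans (h2 ▸ h3)

/-- (ROOT) -/
theorem exists_comp_dvd [Finite F] (m : F[X]) (hm : Irreducible m) (χ : F[X]) (hχ : χ ≠ 0)
    (hdeg : ∀ f : F[X], Irreducible f → f ∣ χ → m.natDegree ∣ f.natDegree) :
    ∃ P : F[X], χ ∣ m.comp P := by
  revert hχ hdeg
  refine UniqueFactorizationMonoid.induction_on_coprime χ ?_ ?_ ?_ ?_
  · intro h
    exact absurd rfl h
  · intro x hx _ _
    exact ⟨0, hx.dvd⟩
  · intro p i hp _ hdeg
    rcases Nat.eq_zero_or_pos i with rfl | hi
    · exact ⟨0, by rw [pow_zero]; exact one_dvd _⟩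
    · exact root_step2 m p hm hp.irreducible
        (hdeg p hp.irreducible (dvd_pow_self p hi.ne')) i
  · intro x y hxy hx hy hxy0 hdeg
    have hx0 : x ≠ 0 := left_ne_zero_of_mul hxy0
    have hy0 : y ≠ 0 := right_ne_zero_of_mul hxy0
    obtain ⟨Px, hPx⟩ := hx hx0 (fun f hf hfx => hdeg f hf (hfx.mul_right y))
    obtain ⟨Py, hPy⟩ := hy hy0 (fun f hf hfy => hdeg f hf (hfy.mul_left x))
    obtain ⟨u, v, huv⟩ := hxy.isCoprime
    refine ⟨Px * (v * y) + Py * (u * x), ?_⟩
    apply IsCoprime.mul_dvd hxy.isCoprime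
    · have h1 : x ∣ (Px * (v * y) + Py * (u * x)) - Px :=
        ⟨(Py - Px) * u, by linear_combination Px * huv⟩
      have h3 := h1.trans (comp_dvd_comp_sub m (Px * (v * y) + Py * (u * x)) Px)
      have h4 : m.comp (Px * (v * y) + Py * (u * x)) =
          (m.comp (Px * (v * y) + Py * (u * x)) - m.comp Px) + m.comp Px := by ring
      rw [h4]
      exact dvd_add h3 hPx
    · have h1 : y ∣ (Px * (v * y) + Py * (u * x)) - Py :=
        ⟨(Px - Py) * v, by linear_combination Py * huv⟩
      have h3 := h1.trans (comp_dvd_comp_sub m (Px * (v * y) + Py * (u * x)) Py)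
      have h4 : m.comp (Px * (v * y) + Py * (u * x)) =
          (m.comp (Px * (v * y) + Py * (u * x)) - m.comp Py) + m.comp Py := by ring
      rw [h4]
      exact dvd_add h3 hPy

end Cfsg.Agent.Helper68.Cov2
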