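import Mathlib
import Cfsg.Agent.Helper38.SU2G.Defs

/-!
# (ORB0) for helper38's S2412 farm (#11639): the orbit of the root group `E(e_0, t f_1, 0)` under the
Coxeter element.
-/

set_option autoImplicit false
set_option linter.unusedSectionVars false

namespace Cfsg.Agent.Helper68.SU2G

open Matrix Cfsg.Agent.Helper84.PSU Cfsg.Agent.Helper38.SU2G

variable {K : Type*} [Field K] {m r : ℕ}

local notation "Vec" => (I (m + 2) r → K)
local notation "Mat" => Matrix (I (m + 2) r) (I (m + 2) r) K

variable (bar : K →+* K) (hb : ∀ x, bar (bar x) = x)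

set_option quotPrecheck false in
local notation "SUk" => ↥(SUm (m + 2) r bar)

include hb in
/-- (ORB0) -/
theorem orb0_piece {n : SUk} {μ ν : K} (hn : IsCox bar n μ ν) (L : Subgroup SUk) (hnL : n ∈ L)
    (h0 : RGz bar L (vE i0) (vF i1)) :
    (∀ (i : Fin (m + 2)) (h : i.val + 1 < m + 2), RGz bar L (vE i) (vF ⟨i.val + 1, h⟩)) ∧
      RGz bar L (vE il) (vE i0) ∧
      (∀ (i : Fin (m + 2)) (h : i.val + 1 < m + 2), RGz bar L (vF i) (vE ⟨i.val + 1, h⟩)) ∧
      RGz bar L (vF il) (vF i0) := by
  have hM : HasM bar L (mt bar n) := hasM_mt bar hnL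
  have one_ne : (1 : K) ≠ 0 := one_ne_zero
  have key1 : ∀ (k : ℕ) (h : k + 1 < m + 2),
      RGz bar L (vE (⟨k, by omega⟩ : Fin (m + 2))) (vF (⟨k + 1, h⟩ : Fin (m + 2))) := by
    intro k
    induction k with
    | zero => intro h; exact h0
    | succ k ih =>
      intro h
      have h' : k + 1 < m + 2 := by omega
      exact RGz.transport bar hb (ih h') hM (α := 1) (β := 1)
        (by rw [one_smul]; exact hn.e_succ ⟨k, by omega⟩ h')
        (by rw [one_smul]; exact hn.f_succ ⟨k + 1, h'⟩ h) one_ne one_ne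
  have key2 : RGz bar L (vE (il : Fin (m + 2))) (vE (i0 : Fin (m + 2))) :=
    RGz.transport bar hb (key1 m (by omega)) hM (α := 1) (β := ν)
      (by rw [one_smul]; exact hn.e_succ ⟨m, by omega⟩ (by simp))
      hn.f_last one_ne hn.hν
  have key3 : ∀ (k : ℕ) (h : k + 1 < m + 2),
      RGz bar L (vF (⟨k, by omega⟩ : Fin (m + 2))) (vE (⟨k + 1, h⟩ : Fin (m + 2))) := by
    intro k
    induction k with
    | zero =>
      intro h
      exact RGz.transport bar hb key2 hM (α := μ) (β := 1) hn.e_last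
        (by rw [one_smul]; exact hn.e_succ i0 h) hn.hμ one_ne
    | succ k ih =>
      intro h
      have h' : k + 1 < m + 2 := by omega
      exact RGz.transport bar hb (ih h') hM (α := 1) (β := 1)
        (by rw [one_smul]; exact hn.f_succ ⟨k, by omega⟩ h')
        (by rw [one_smul]; exact hn.e_succ ⟨k + 1, h'⟩ h) one_ne one_ne
  have key4 : RGz bar L (vF (il : Fin (m + 2))) (vF (i0 : Fin (m + 2))) :=
    RGz.transport bar hb (key3 m (by omega)) hM (α := 1) (β := μ)
      (by rw [one_smul]; exact hn.f_succ ⟨m, by omega⟩ (by simp))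
      hn.e_last one_ne hn.hμ
  exact ⟨fun i h => key1 i.val h, key2, fun i h => key3 i.val h, key4⟩

end Cfsg.Agent.Helper68.SU2G
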