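import Cfsg.Agent.Helper39.C320.Defs

/-!
# (A3) for helper39's S1903 farm (#10066): `Z` is central in `G`.
-/

set_option autoImplicit false

namespace Cfsg.Agent.Helper68.C320

open Cfsg.Agent.Helper39.C320

section A
variable {G : Type*} [Group G] [Finite G]

omit [Finite G] in
/-- if two conjugates `x^a z x^-a`, `x^b z x^-b` with `a < b < 5` agree and `x^5 = 1`, then `x`
commutes with `z`. -/
theorem comm_of_conj_eq {x z : G} (hx5 : x ^ 5 = 1) (a b : ℕ) (hab : a < b) (hb : b < 5)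
    (hc : x ^ a * z * (x ^ a)⁻¹ = x ^ b * z * (x ^ b)⁻¹) : x * z = z * x := by
  obtain ⟨d, rfl⟩ : ∃ d, b = a + d := ⟨b - a, by omega⟩
  have hd1 : 0 < d := by omega
  have hd5 : d < 5 := by omega
  have hcd : Commute (x ^ d) z := by
    have h1 : z = x ^ d * z * (x ^ d)⁻¹ := by
      have h2 : x ^ a * z * (x ^ a)⁻¹ = x ^ a * (x ^ d * z * (x ^ d)⁻¹) * (x ^ a)⁻¹ := by
        rw [hc, pow_add]; group
      have h3 := mul_right_cancel h2
      exact mul_left_cancel h3
    show x ^ d * z = z * x ^ d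
    calc x ^ d * z = x ^ d * z * (x ^ d)⁻¹ * x ^ d := by group
      _ = z * x ^ d := by rw [← h1]
  have hx6 : x ^ 6 = x := by
    rw [show 6 = 5 + 1 from rfl, pow_add, hx5, one_mul, pow_one]
  have hx16 : x ^ 16 = x := by
    rw [show 16 = 5 * 3 + 1 from rfl, pow_add, pow_mul, hx5, one_pow, one_mul, pow_one]
  have key : ∃ m : ℕ, (x ^ d) ^ m = x := by
    interval_cases d
    · exact ⟨1, by rw [pow_one, pow_one]⟩
    · exact ⟨3, by rw [← pow_mul]; exact hx6⟩
    · exact ⟨2, by rw [← pow_mul]; exact hx6⟩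
    · exact ⟨4, by rw [← pow_mul]; exact hx16⟩
  obtain ⟨m, hm⟩ := key
  have := hcd.pow_left m
  rw [hm] at this
  exact this

/-- (A3) `Z` is central in `G` (`x` centralises `Z` since `5 ∤ |Aut Z|`) -/
theorem Setup.central {P Z : Subgroup G} {x : G} (h : Setup P Z x)
    (htop : ∀ K : Subgroup G, P ≤ K → x ∈ K → K = ⊤) :
    ∀ z ∈ Z, ∀ g : G, g * z = z * g := by
  have hx5 : x ^ 5 = 1 := by rw [← h.ord_x]; exact pow_orderOf_eq_one x
  have hnP := h.normP
  -- `Z` is normal in `G`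
  have hZn : ∀ g : G, ∀ z ∈ Z, g * z * g⁻¹ ∈ Z := by
    intro g z hz
    obtain ⟨hzP, hzc⟩ := (h.mem_Z z).1 hz
    refine (h.mem_Z _).2 ⟨hnP.conj_mem z hzP g, ?_⟩
    intro p hp
    have hp' : g⁻¹ * p * g ∈ P := by
      have := hnP.conj_mem p hp g⁻¹
      simpa using this
    have hcomm := hzc _ hp'
    calc p * (g * z * g⁻¹) = g * ((g⁻¹ * p * g) * z) * g⁻¹ := by group
      _ = g * (z * (g⁻¹ * p * g)) * g⁻¹ := by rw [hcomm]
      _ = g * z * g⁻¹ * p := by group
  intro z hz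
  have hxz : x * z = z * x := by
    classical
    have : Fintype Z := Fintype.ofFinite Z
    let f : Fin 5 → Z := fun i => ⟨x ^ (i : ℕ) * z * (x ^ (i : ℕ))⁻¹, hZn _ z hz⟩
    have hcard : Fintype.card Z < Fintype.card (Fin 5) := by
      rw [← Nat.card_eq_fintype_card, h.cardZ]; simp
    obtain ⟨i, j, hij, hfij⟩ := Fintype.exists_ne_map_eq_of_card_lt f hcard
    have hfij' : x ^ (i : ℕ) * z * (x ^ (i : ℕ))⁻¹ = x ^ (j : ℕ) * z * (x ^ (j : ℕ))⁻¹ :=
      congrArg Subtype.val hfij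
    have hne : (i : ℕ) ≠ (j : ℕ) := fun e => hij (Fin.ext e)
    rcases lt_or_gt_of_ne hne with hlt | hgt
    · exact comm_of_conj_eq hx5 i j hlt j.isLt hfij'
    · exact comm_of_conj_eq hx5 j i hgt i.isLt hfij'.symm
  obtain ⟨hzP, hzc⟩ := (h.mem_Z z).1 hz
  have hK : Subgroup.centralizer ({z} : Set G) = ⊤ := by
    apply htop
    · intro p hp
      rw [Subgroup.mem_centralizer_iff]
      intro y hy
      rw [Set.mem_singleton_iff] at hy
      subst hy
      exact (hzc p hp).symm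
    · rw [Subgroup.mem_centralizer_iff]
      intro y hy
      rw [Set.mem_singleton_iff] at hy
      subst hy
      exact hxz.symm
  intro g
  have hg : g ∈ Subgroup.centralizer ({z} : Set G) := by rw [hK]; exact Subgroup.mem_top g
  rw [Subgroup.mem_centralizer_iff] at hg
  exact (hg z (Set.mem_singleton z)).symm

end A

end Cfsg.Agent.Helper68.C320
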