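import Cfsg.Agent.Helper39.U34.Defs
import Cfsg.Agent.Helper45.SUCard

/-! (X) XFER of helper39's S3663 farm (#9233): order of `SU_3(4)` and transfer to the concrete
field `GF16`. -/

set_option autoImplicit false

namespace Cfsg.Agent.Helper68.U34X

open Cfsg.Agent.Helper39.U34

/-- `|SU_3(4)| = 62400` over any field with 16 elements -/
theorem card_SU34 {F : Type*} [Field F] [Fintype F] (hF : Fintype.card F = 16) :
    Nat.card (Cfsg.SU 3 F 4) = 62400 := by
  have h := Cfsg.Agent.Helper45.GU.card_SU (F := F) (q := 4) (by rw [hF]; norm_num) 3 (by norm_num)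
  rw [Finset.prod_range_succ, Finset.prod_range_succ, Finset.prod_range_one] at h
  norm_num at h
  omega

theorem card_G0 : Nat.card G0 = 62400 := card_SU34 GF16.card_eq

/-- the hermitian form commutes with ring homomorphisms -/
theorem hermForm_map {F F' : Type*} [Field F] [Field F'] (e : F →+* F') (n q : ℕ)
    (a b : Fin n → F) :
    Cfsg.hermForm n F' q (fun i => e (a i)) (fun i => e (b i)) = e (Cfsg.hermForm n F q a b) := by
  unfold Cfsg.hermForm
  rw [map_sum]
  refine Finset.sum_congr rfl fun i _ => ?_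
  rw [map_mul, map_pow]

theorem psu_equiv {F : Type*} [Field F] [Fintype F] (hF : Fintype.card F = 16) :
    Nonempty (Cfsg.PSU 3 F 4 ≃* G0) := by
  classical
  let e : F ≃+* GF16 := FiniteField.ringEquivOfCardEq (by rw [hF, GF16.card_eq])
  -- step 1: the centre is trivial
  have hcen : Subgroup.center (Cfsg.SU 3 F 4) = ⊥ := by
    have hc := Cfsg.Agent.Helper45.GU.card_center_SU (F := F) (q := 4) (by rw [hF]; norm_num) 3
      (by norm_num)
    have h1 : Nat.gcd 3 (4 + 1) = 1 := by decide
    rw [h1] at hc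
    exact Subgroup.eq_bot_of_card_eq _ hc
  have e1 : Cfsg.PSU 3 F 4 ≃* ↥(Cfsg.SU 3 F 4) :=
    (QuotientGroup.quotientMulEquivOfEq hcen).trans QuotientGroup.quotientBot
  -- step 2: base change along `e`
  have hmem : ∀ g : Matrix.SpecialLinearGroup (Fin 3) F, g ∈ Cfsg.SU 3 F 4 →
      Matrix.SpecialLinearGroup.map (e : F →+* GF16) g ∈ Cfsg.SU 3 GF16 4 := by
    intro g hg u v
    have hg' : ∀ a b : Fin 3 → F, Cfsg.hermForm 3 F 4 (g.1.mulVec a) (g.1.mulVec b) =
        Cfsg.hermForm 3 F 4 a b := fun a b => hg a b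
    show Cfsg.hermForm 3 GF16 4
      ((Matrix.SpecialLinearGroup.map (e : F →+* GF16) g).1.mulVec u)
      ((Matrix.SpecialLinearGroup.map (e : F →+* GF16) g).1.mulVec v) = Cfsg.hermForm 3 GF16 4 u v
    have hu : u = fun i => (e : F →+* GF16) (e.symm (u i)) := by
      funext i; simp
    have hv : v = fun i => (e : F →+* GF16) (e.symm (v i)) := by
      funext i; simp
    have hmv : ∀ w : Fin 3 → GF16,
        (Matrix.SpecialLinearGroup.map (e : F →+* GF16) g).1.mulVec w =
        fun i => (e : F →+* GF16) (g.1.mulVec (fun j => e.symm (w j)) i) := by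
      intro w
      funext i
      rw [RingHom.map_mulVec]
      congr 1
      funext j
      simp
    rw [hmv u, hmv v, hermForm_map, hg', ← hermForm_map, ← hu, ← hv]
  let φ : ↥(Cfsg.SU 3 F 4) →* G0 :=
    MonoidHom.codRestrict
      ((Matrix.SpecialLinearGroup.map (e : F →+* GF16)).comp (Cfsg.SU 3 F 4).subtype)
      (Cfsg.SU 3 GF16 4) (fun g => hmem g.1 g.2)
  have hinj : Function.Injective φ := by
    intro a b hab
    have h1 : Matrix.SpecialLinearGroup.map (e : F →+* GF16) a.1 =
        Matrix.SpecialLinearGroup.map (e : F →+* GF16) b.1 :=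
      congrArg (fun g : G0 => (g : Matrix.SpecialLinearGroup (Fin 3) GF16)) hab
    apply Subtype.ext
    apply Subtype.ext
    ext i j
    have h2 := congrArg (fun g : Matrix.SpecialLinearGroup (Fin 3) GF16 => g.1 i j) h1
    simp only [Matrix.SpecialLinearGroup.map_apply_coe, RingHom.mapMatrix_apply,
      Matrix.map_apply] at h2
    exact e.injective h2
  have hcF : Nat.card ↥(Cfsg.SU 3 F 4) = 62400 := card_SU34 hF
  have : Finite ↥(Cfsg.SU 3 F 4) := Nat.finite_of_card_ne_zero (by rw [hcF]; norm_num)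
  have : Finite G0 := Nat.finite_of_card_ne_zero (by rw [card_G0]; norm_num)
  have hbij : Function.Bijective φ :=
    hinj.bijective_of_nat_card_le (by rw [card_G0, hcF])
  exact ⟨e1.trans (MulEquiv.ofBijective φ hbij)⟩

end Cfsg.Agent.Helper68.U34X
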