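import Cfsg.Agent.Helper39.X648.Defs

/-!
# (A12) for helper39's S3366 farm (#11031): `r2 = i r1 i⁻¹` and `c = [r1, r2]`.
-/

set_option autoImplicit false

open Cfsg.Agent.Helper39.X648

namespace Cfsg.Agent.Helper68.X648

theorem comm_of_cm_eq_one {H : Type*} [Group H] (a b : H) (h : cm a b = 1) : a * b = b * a := by
  unfold cm at h
  calc a * b = (a * b * a⁻¹ * b⁻¹) * b * a := by group
    _ = b * a := by rw [h]; group

variable {X : Type*} [Group X] [Finite X] {R Z : Subgroup X} {u : X} {t : X} {Q : Subgroup X}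

/-- if `r1 ∈ Inv R t ∖ {1}` commutes with `r2 ∈ Inv R t` then `r2` is a power of `r1` -/
theorem a12_pow (h : Setup R Z u t) (r1 r2 : X) (hr1 : r1 ∈ Inv R t) (hr11 : r1 ≠ 1)
    (hr2 : r2 ∈ Inv R t) (hcomm : r1 * r2 = r2 * r1) : ∃ k : ℤ, r2 = r1 ^ k := by
  have hb := h.base
  have hr1R : r1 ∈ R := hr1.1
  have ht1 : t * r1 * t⁻¹ = r1⁻¹ := hr1.2
  have hr1Z : r1 ∉ Z := by
    intro hz
    have h1 : (1 : X) ∈ Inv R t := ⟨R.one_mem, by simp⟩
    exact hr11 (h.rep2 1 h1 r1 hz (by rw [one_mul]; exact hr1))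
  have hZn : Z.Normal := ⟨fun z hz g => by
    have := h.Zcen z hz g
    rw [this]; simpa using hz⟩
  obtain ⟨C, hC⟩ : ∃ C : Subgroup X, C = R ⊓ Subgroup.centralizer ({r1} : Set X) := ⟨_, rfl⟩
  obtain ⟨B, hB⟩ : ∃ B : Subgroup X, B = Subgroup.zpowers r1 ⊔ Z := ⟨_, rfl⟩
  have hmemC : ∀ x : X, x ∈ C ↔ x ∈ R ∧ r1 * x = x * r1 := by
    intro x
    rw [hC, Subgroup.mem_inf, Subgroup.mem_centralizer_iff]
    simp
  have hZC : Z ≤ C := fun z hz => (hmemC z).2 ⟨hb.Z_le hz, h.Zcen z hz r1⟩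
  have hr1C : r1 ∈ C := (hmemC r1).2 ⟨hr1R, rfl⟩
  have hBC : B ≤ C := by
    rw [hB]
    exact sup_le ((Subgroup.zpowers_le).2 hr1C) hZC
  have hCR : C ≤ R := fun x hx => ((hmemC x).1 hx).1
  have hZB : Z ≤ B := by rw [hB]; exact le_sup_right
  have hr1B : r1 ∈ B := by
    rw [hB]; exact (le_sup_left : Subgroup.zpowers r1 ≤ _) (Subgroup.mem_zpowers r1)
  have hCne : C ≠ R := by
    intro heq
    apply hr1Z
    rw [hb.mem_Z]
    refine ⟨hr1R, fun r hr => ?_⟩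
    have : r ∈ C := by rw [heq]; exact hr
    exact ((hmemC r).1 this).2.symm
  have hZneB : Z ≠ B := by
    intro heq
    apply hr1Z
    rw [heq]; exact hr1B
  -- cardinalities
  have c1 : Nat.card C ∣ 27 := by
    rw [← hb.cardR]; exact Subgroup.card_dvd_of_le hCR
  have c2 : Nat.card C ≠ 27 := by
    intro h27
    apply hCne
    exact Subgroup.eq_of_le_of_card_ge hCR (by rw [h27, hb.cardR])
  have c3 : Nat.card B ∣ Nat.card C := Subgroup.card_dvd_of_le hBC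
  have c4 : 3 ∣ Nat.card B := by
    rw [← hb.cardZ]; exact Subgroup.card_dvd_of_le hZB
  have c5 : Nat.card B ≠ 3 := by
    intro h3
    apply hZneB
    exact Subgroup.eq_of_le_of_card_ge hZB (by rw [h3, hb.cardZ])
  have c6 : Nat.card C ≤ Nat.card B := by
    have hpos : 0 < Nat.card B := Nat.card_pos
    have hCle : Nat.card C ≤ 27 := Nat.le_of_dvd (by norm_num) c1
    have hBle : Nat.card B ≤ Nat.card C := Nat.le_of_dvd Nat.card_pos c3
    have hCmem : Nat.card C ∈ Nat.divisors 27 := Nat.mem_divisors.2 ⟨c1, by norm_num⟩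
    have h27 : Nat.divisors 27 = {1, 3, 9, 27} := by decide
    rw [h27] at hCmem
    simp only [Finset.mem_insert, Finset.mem_singleton] at hCmem
    rcases hCmem with h1 | h1 | h1 | h1
    · rw [h1] at c3 hBle ⊢
      omega
    · rw [h1] at c3 hBle ⊢
      interval_cases (Nat.card B) <;> omega
    · rw [h1] at c3 hBle ⊢
      interval_cases (Nat.card B) <;> omega
    · exact absurd h1 c2
  have hBeqC : B = C := Subgroup.eq_of_le_of_card_ge hBC c6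
  have hr2C : r2 ∈ C := (hmemC r2).2 ⟨hr2.1, hcomm⟩
  have hr2B : r2 ∈ B := by rw [hBeqC]; exact hr2C
  rw [hB, Subgroup.mem_sup_of_normal_right] at hr2B
  obtain ⟨y, hy, z, hz, hyz⟩ := hr2B
  obtain ⟨k, hk⟩ := Subgroup.mem_zpowers_iff.1 hy
  have hyInv : y ∈ Inv R t := by
    rw [← hk]
    refine ⟨R.zpow_mem hr1R k, ?_⟩
    rw [← conj_zpow, ht1, inv_zpow]
  have hz1 : z = 1 := h.rep2 y hyInv z hz (by rw [hyz]; exact hr2)
  refine ⟨k, ?_⟩
  rw [← hyz, hz1, mul_one, hk]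

/-- (A12) `r2 = i r1 i⁻¹` and `c = [r1, r2]` -/
theorem QSetup.gens (h : QSetup R Z u t Q) (i r1 : X) (hi : i ∈ Q) (hi1 : i ≠ 1) (hit : i ≠ t)
    (hr1 : r1 ∈ Inv R t) (hr11 : r1 ≠ 1) : Gens R Z t Q i r1 := by
  have hb := h.setup.base
  have hii : i * i = t := by
    rcases h.isQ.sq i hi hi1 with h1 | h1
    · exact absurd h1 hit
    · exact h1
  have hit' : i * t = t * i := h.isQ.comm i hi
  have ht1 : t * r1 * t⁻¹ = r1⁻¹ := hr1.2
  have hr1R : r1 ∈ R := hr1.1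
  obtain ⟨r2, hr2⟩ : ∃ r2, r2 = i * r1 * i⁻¹ := ⟨_, rfl⟩
  have hr2R : r2 ∈ R := by rw [hr2]; exact hb.normR.conj_mem r1 hr1R i
  have hr2inv : t * r2 * t⁻¹ = r2⁻¹ := by
    have e : t * r2 * t⁻¹ = i * (t * r1 * t⁻¹) * i⁻¹ := by
      calc t * r2 * t⁻¹ = (t * i) * r1 * (t * i)⁻¹ := by rw [hr2]; group
        _ = (i * t) * r1 * (i * t)⁻¹ := by rw [hit']
        _ = i * (t * r1 * t⁻¹) * i⁻¹ := by group
    rw [e, ht1, hr2]; group
  have hr2Inv : r2 ∈ Inv R t := ⟨hr2R, hr2inv⟩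
  have hir2 : i * r2 * i⁻¹ = r1⁻¹ := by
    calc i * r2 * i⁻¹ = (i * i) * r1 * (i * i)⁻¹ := by rw [hr2]; group
      _ = r1⁻¹ := by rw [hii, ht1]
  obtain ⟨c, hc⟩ : ∃ c, c = cm r1 r2 := ⟨_, rfl⟩
  have hcZ : c ∈ Z := by
    rw [hc]; exact hb.comm_mem r1 hr1R r2 hr2R
  have hccen : ∀ g : X, g * c = c * g := h.setup.Zcen c hcZ
  have hc3 : c ^ 3 = 1 := hb.exp3 c (hb.Z_le hcZ)
  have hr13 : r1 ^ 3 = 1 := hb.exp3 r1 hr1R
  have hcne : c ≠ 1 := by
    intro hc1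
    have hcomm : r1 * r2 = r2 * r1 := comm_of_cm_eq_one r1 r2 (by rw [← hc]; exact hc1)
    obtain ⟨k, hk⟩ := a12_pow h.setup r1 r2 hr1 hr11 hr2Inv hcomm
    -- `r1⁻¹ = i r2 i⁻¹ = (i r1 i⁻¹)^k = r2^k = r1^(k*k)`
    have e1 : r1⁻¹ = r1 ^ (k * k) := by
      calc r1⁻¹ = i * r2 * i⁻¹ := hir2.symm
        _ = i * r1 ^ k * i⁻¹ := by rw [hk]
        _ = (i * r1 * i⁻¹) ^ k := by rw [conj_zpow]
        _ = r2 ^ k := by rw [← hr2]
        _ = r1 ^ (k * k) := by rw [hk, ← zpow_mul]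
    have e2 : r1 ^ (k * k + 1) = 1 := by
      rw [zpow_add, ← e1, zpow_one]; group
    have : Fact (Nat.Prime 3) := ⟨by norm_num⟩
    have ho : orderOf r1 = 3 := orderOf_eq_prime hr13 hr11
    have hdvd := (orderOf_dvd_iff_zpow_eq_one (x := r1) (i := k * k + 1)).2 e2
    rw [ho] at hdvd
    have h3 : (k * k + 1) % 3 = 0 := Int.emod_eq_zero_of_dvd (by exact_mod_cast hdvd)
    have : k % 3 = 0 ∨ k % 3 = 1 ∨ k % 3 = 2 := by omega
    rcases this with h0 | h0 | h0 <;> simp [Int.add_emod, Int.mul_emod, h0] at h3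
  have hr12 : r1 * r2 * c ∈ Inv R t := by
    refine ⟨R.mul_mem (R.mul_mem hr1R hr2R) (hb.Z_le hcZ), ?_⟩
    have htc : t * c * t⁻¹ = c := by rw [hccen t]; group
    have e : t * (r1 * r2 * c) * t⁻¹ = r1⁻¹ * r2⁻¹ * c := by
      calc t * (r1 * r2 * c) * t⁻¹ = (t * r1 * t⁻¹) * (t * r2 * t⁻¹) * (t * c * t⁻¹) := by group
        _ = r1⁻¹ * r2⁻¹ * c := by rw [ht1, hr2inv, htc]
    rw [e]
    symm
    rw [inv_eq_iff_mul_eq_one]
    -- `r1 r2 c r1⁻¹ r2⁻¹ c = c * c * c`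
    have hc2 : ∀ g : X, c * g = g * c := fun g => (hccen g).symm
    calc r1 * r2 * c * (r1⁻¹ * r2⁻¹ * c) = r1 * r2 * (c * (r1⁻¹ * r2⁻¹)) * c := by group
      _ = r1 * r2 * ((r1⁻¹ * r2⁻¹) * c) * c := by rw [hc2]
      _ = (r1 * r2 * r1⁻¹ * r2⁻¹) * c * c := by group
      _ = c * c * c := by rw [hc]; rfl
      _ = c ^ 3 := (pow_three' c).symm
      _ = 1 := hc3
  exact
    { i_mem := hi
      i_ne1 := hi1
      i_net := hit
      r1_mem := hr1
      r1_ne := hr11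
      i_sq := hii
      r2_mem := by rw [← hr2]; exact hr2Inv
      i_r2 := by rw [← hr2]; exact hir2
      c_mem := by rw [← hr2, ← hc]; exact hcZ
      c_ne := by rw [← hr2, ← hc]; exact hcne
      r12_mem := by rw [← hr2, ← hc]; exact hr12 }

end Cfsg.Agent.Helper68.X648
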