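import Cfsg.Agent.Helper39.X648.Defs

/-!
# (A14) for helper39's S3366 farm (#11031): the element `j` of the quaternion group.
-/

set_option autoImplicit false

open Cfsg.Agent.Helper39.X648

namespace Cfsg.Agent.Helper68.X648

theorem cm_eq_one_of_comm {H : Type*} [Group H] (a b : H) (h : a * b = b * a) : cm a b = 1 := by
  unfold cm
  rw [h]; group

variable {X : Type*} [Group X] [Finite X] {R Z : Subgroup X} {u : X} {t : X} {Q : Subgroup X}
  {i r1 : X}

/-- (A14) the element `j` -/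
theorem QSetup.exists_j (h : QSetup R Z u t Q) (hg : Gens R Z t Q i r1) :
    ∃ j ∈ Q, j * r1 * j⁻¹ = r1 * (i * r1 * i⁻¹) * cm r1 (i * r1 * i⁻¹) ∧ j * j = i * i ∧
      j * i * j⁻¹ = i⁻¹ := by
  obtain ⟨r2, hr2⟩ : ∃ r2, r2 = i * r1 * i⁻¹ := ⟨_, rfl⟩
  obtain ⟨c, hc⟩ : ∃ c, c = cm r1 r2 := ⟨_, rfl⟩
  have hcZ : c ∈ Z := by rw [hc, hr2]; exact hg.c_mem
  have hcne : c ≠ 1 := by rw [hc, hr2]; exact hg.c_ne
  have hccen : ∀ g : X, Commute g c := fun g => h.setup.Zcen c hcZ g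
  have hir2 : i * r2 * i⁻¹ = r1⁻¹ := by rw [hr2]; exact hg.i_r2
  have hsmem : r1 * r2 * c ∈ Inv R t := by rw [hc, hr2]; exact hg.r12_mem
  have hnc : ¬ Commute r1 r2 := fun hcomm => hcne (by rw [hc]; exact cm_eq_one_of_comm _ _ hcomm)
  rw [← hr2, ← hc]
  -- `r1 r2 c ≠ 1`
  have hs1 : r1 * r2 * c ≠ 1 := by
    intro h1
    apply hnc
    have e : r2 = r1⁻¹ * c⁻¹ := by
      calc r2 = r1⁻¹ * (r1 * r2 * c) * c⁻¹ := by group
        _ = r1⁻¹ * c⁻¹ := by rw [h1]; group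
    rw [e]
    exact ((Commute.refl r1).inv_right).mul_right (hccen r1).inv_right
  obtain ⟨j, hjQ, hj, -⟩ := h.reg r1 hg.r1_mem hg.r1_ne (r1 * r2 * c) hsmem hs1
  have ht1 : t * r1 * t⁻¹ = r1⁻¹ := hg.r1_mem.2
  -- `j ≠ 1`
  have hj1 : j ≠ 1 := by
    intro h1
    apply hnc
    rw [h1] at hj
    have e : r2 = c⁻¹ := by
      calc r2 = r1⁻¹ * (r1 * r2 * c) * c⁻¹ := by group
        _ = c⁻¹ := by rw [← hj]; group
    rw [e]
    exact (hccen r1).inv_right
  -- `j ≠ t`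
  have hjt : j ≠ t := by
    intro h1
    apply hnc
    rw [h1, ht1] at hj
    have e : r2 = r1⁻¹ * r1⁻¹ * c⁻¹ := by
      calc r2 = r1⁻¹ * (r1 * r2 * c) * c⁻¹ := by group
        _ = r1⁻¹ * r1⁻¹ * c⁻¹ := by rw [← hj]
    rw [e]
    exact (((Commute.refl r1).inv_right).mul_right (Commute.refl r1).inv_right).mul_right
      (hccen r1).inv_right
  have hjj : j * j = t := by
    rcases h.isQ.sq j hjQ hj1 with h1 | h1
    · exact absurd h1 hjt
    · exact h1
  -- `j ≠ i`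
  have hji : j ≠ i := by
    intro h1
    apply hnc
    rw [h1, ← hr2] at hj
    have e : r1 = r2 * c⁻¹ * r2⁻¹ := by
      calc r1 = (r1 * r2 * c) * c⁻¹ * r2⁻¹ := by group
        _ = r2 * c⁻¹ * r2⁻¹ := by rw [← hj]
    rw [e]
    exact ((((Commute.refl r2).mul_right (hccen r2).inv_right).mul_right
      (Commute.refl r2).inv_right)).symm
  -- `j ≠ i⁻¹`
  have hji' : j ≠ i⁻¹ := by
    intro h1
    apply hnc
    have e0 : i⁻¹ * r1 * i = r2⁻¹ := by
      have : r1 = i * r2⁻¹ * i⁻¹ := by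
        calc r1 = (r1⁻¹)⁻¹ := by group
          _ = (i * r2 * i⁻¹)⁻¹ := by rw [hir2]
          _ = i * r2⁻¹ * i⁻¹ := by group
      rw [this]; group
    rw [h1, inv_inv, e0] at hj
    have e : r1 = r2⁻¹ * c⁻¹ * r2⁻¹ := by
      calc r1 = (r1 * r2 * c) * c⁻¹ * r2⁻¹ := by group
        _ = r2⁻¹ * c⁻¹ * r2⁻¹ := by rw [← hj]
    rw [e]
    exact ((((Commute.refl r2).inv_right).mul_right (hccen r2).inv_right).mul_right
      (Commute.refl r2).inv_right).symm
  have hii : i * i = t := hg.i_sq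
  refine ⟨j, hjQ, hj, by rw [hjj, hii], ?_⟩
  -- `i j ∈ Q`, `≠ 1`, `≠ t`
  have hijQ : i * j ∈ Q := Q.mul_mem hg.i_mem hjQ
  have hij1 : i * j ≠ 1 := by
    intro h1
    apply hji'
    exact (eq_inv_of_mul_eq_one_right h1)
  have hijt : i * j ≠ t := by
    intro h1
    apply hji
    rw [← hii] at h1
    exact mul_left_cancel h1
  have hsq : (i * j) * (i * j) = t := by
    rcases h.isQ.sq (i * j) hijQ hij1 with h1 | h1
    · exact absurd h1 hijt
    · exact h1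
  -- `i j i j = j j`
  have h2 : i * j * i = j := by
    have : (i * j * i) * j = j * j := by rw [hjj, ← hsq]; group
    exact mul_right_cancel this
  calc j * i * j⁻¹ = i⁻¹ * (i * j * i) * j⁻¹ := by group
    _ = i⁻¹ := by rw [h2]; group

end Cfsg.Agent.Helper68.X648
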