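import Mathlib
import Cfsg.Agent.Helper9.SpGen.Root
import Cfsg.Agent.Helper9.SpGen.Pos

/-! (FL) of helper9's S2411 skeleton (#9054): filling a root subgroup with a torus element. -/

set_option autoImplicit false

namespace Cfsg.Agent.Helper68.SpGen

open Matrix Cfsg.Agent.Helper96.StN Cfsg.Agent.Helper96.StC Cfsg.Agent.Helper29.StCM
  Cfsg.Agent.Helper19.SpBN Cfsg.Agent.Helper9.SpGen

universe u v w

variable {K : Type u} [Field K] {D : Type v} [Group D] {ι : Type w}
  {X : ι ⊕ ι → ι ⊕ ι → K → D} {G1 : Subgroup D}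

theorem addSubgroup_eq_top [Fintype K] (S : AddSubgroup K) {lam c' : K}
    (hlam : ∀ x : K, x ≠ 0 → ∃ j : ℕ, x = lam ^ j) (hc : c' ∈ S) (hc0 : c' ≠ 0)
    (hS : ∀ s ∈ S, lam ^ 2 * s ∈ S) : S = ⊤ := by
  have h1 : ∀ j : ℕ, ∀ s ∈ S, lam ^ (2 * j) * s ∈ S := by
    intro j
    induction j with
    | zero => intro s hs; simpa using hs
    | succ j ih =>
      intro s hs
      have := hS _ (ih s hs)
      have e : lam ^ (2 * (j + 1)) * s = lam ^ 2 * (lam ^ (2 * j) * s) := by ring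
      rw [e]
      exact this
  have h2 : ∀ x : K, ∀ s ∈ S, x ^ 2 * s ∈ S := by
    intro x s hs
    by_cases hx : x = 0
    · subst hx
      simp
    · obtain ⟨j, rfl⟩ := hlam x hx
      have e : (lam ^ j) ^ 2 = lam ^ (2 * j) := by rw [← pow_mul, mul_comm]
      rw [e]
      exact h1 j s hs
  have h3 : ∀ t : K, t * c' ∈ S := by
    intro t
    by_cases hch : ringChar K = 2
    · obtain ⟨r, hr⟩ := FiniteField.isSquare_of_char_two hch t
      have e : t * c' = r ^ 2 * c' := by rw [hr]; ring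
      rw [e]
      exact h2 r c' hc
    · have h20 : (2 : K) ≠ 0 := Ring.two_ne_zero hch
      have e : t * c' = ((t + 1) / 2) ^ 2 * c' - ((t - 1) / 2) ^ 2 * c' := by
        field_simp
        ring
      rw [e]
      exact S.sub_mem (h2 _ c' hc) (h2 _ c' hc)
  rw [eq_top_iff]
  intro y _
  have e : y = (y / c') * c' := by field_simp
  rw [e]
  exact h3 _

theorem rootIn_of_scale [Fintype K] (hX : SpRel X) {p q : ι ⊕ ι} (hpq : p ≠ q) {lam c' : K}
    (hlam : ∀ x : K, x ≠ 0 → ∃ j : ℕ, x = lam ^ j) (hc0 : c' ≠ 0) (hc : X p q c' ∈ G1)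
    (hS : ∀ t, X p q t ∈ G1 → X p q (lam ^ 2 * t) ∈ G1) : RootIn X G1 p q := by
  have h := addSubgroup_eq_top (paramGroup hX G1 hpq) hlam ((mem_paramGroup hX hpq c').2 hc) hc0
    (fun s hs => (mem_paramGroup hX hpq _).2 (hS s ((mem_paramGroup hX hpq s).1 hs)))
  intro t
  have ht : t ∈ paramGroup hX G1 hpq := by rw [h]; trivial
  exact (mem_paramGroup hX hpq t).1 ht

end Cfsg.Agent.Helper68.SpGen
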