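import Mathlib
import Cfsg.Agent.Helper9.SpGen.Root
import Cfsg.Agent.Helper9.SpGen.Pos

/-! (TR) of helper9's S2411 skeleton (#9054): Steinberg's commutator trick. -/

set_option autoImplicit false

namespace Cfsg.Agent.Helper68.SpGen

open Matrix Cfsg.Agent.Helper96.StN Cfsg.Agent.Helper96.StC Cfsg.Agent.Helper29.StCM
  Cfsg.Agent.Helper19.SpBN Cfsg.Agent.Helper9.SpGen

universe u v w

variable {K : Type u} [Field K] {D : Type v} [Group D] {ι : Type w}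
  {X : ι ⊕ ι → ι ⊕ ι → K → D} {G1 : Subgroup D}

theorem isMono_conj {n h : D} {π : Equiv.Perm (ι ⊕ ι)} {c d : ι ⊕ ι → K} (hn : IsMono X n π c)
    (hh : IsMono X h 1 d) : IsMono X (n * h * n⁻¹) 1 (fun k => d (π⁻¹ k)) := by
  refine ⟨fun k => hh.1 _, fun k l hkl u => ?_⟩
  have hkl' : π⁻¹ k ≠ π⁻¹ l := fun h' => hkl ((π⁻¹).injective h')
  have hne : c (π⁻¹ k) * (c (π⁻¹ l))⁻¹ ≠ 0 :=
    mul_ne_zero (hn.1 _) (inv_ne_zero (hn.1 _))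
  have hπ : ∀ x, π (π⁻¹ x) = x := fun x => by simp
  have e1 := hn.2 (π⁻¹ k) (π⁻¹ l) hkl' ((c (π⁻¹ k) * (c (π⁻¹ l))⁻¹)⁻¹ * u)
  rw [mul_inv_cancel_left₀ hne, hπ, hπ] at e1
  have e2 := hh.2 (π⁻¹ k) (π⁻¹ l) hkl' ((c (π⁻¹ k) * (c (π⁻¹ l))⁻¹)⁻¹ * u)
  have e3 := hn.2 (π⁻¹ k) (π⁻¹ l) hkl'
    (d (π⁻¹ k) * (d (π⁻¹ l))⁻¹ * ((c (π⁻¹ k) * (c (π⁻¹ l))⁻¹)⁻¹ * u))
  rw [hπ, hπ] at e3
  simp only [Equiv.Perm.coe_one, id_eq] at e2 ⊢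
  rw [← e1]
  have e4 : n * h * n⁻¹ * (n * X (π⁻¹ k) (π⁻¹ l) ((c (π⁻¹ k) * (c (π⁻¹ l))⁻¹)⁻¹ * u) * n⁻¹) *
      (n * h * n⁻¹)⁻¹ =
      n * (h * X (π⁻¹ k) (π⁻¹ l) ((c (π⁻¹ k) * (c (π⁻¹ l))⁻¹)⁻¹ * u) * h⁻¹) * n⁻¹ := by
    group
  rw [e4, e2, e3]
  congr 1
  have hck := hn.1 (π⁻¹ k)
  have hcl := hn.1 (π⁻¹ l)
  have hdl := hh.1 (π⁻¹ l)
  field_simp

theorem trick (hX : SpRel X) {n h : D} {π : Equiv.Perm (ι ⊕ ι)} {c d : ι ⊕ ι → K}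
    (hn : IsMono X n π c) (hh : IsMono X h 1 d) (hcomm : Commute h (n * h * n⁻¹))
    {r : ι ⊕ ι} (ha : X r (bar r) 1 * n ∈ G1) (hhG : h ∈ G1) :
    X r (bar r) ((d r * (d (bar r))⁻¹ - 1) * (1 - d (π⁻¹ r) * (d (π⁻¹ (bar r)))⁻¹)) ∈ G1 := by
  have hr : r ≠ bar r := (bar_ne r).symm
  have hh' := isMono_conj hn hh
  have e1 : ∀ v, h * X r (bar r) v * h⁻¹ = X r (bar r) (d r * (d (bar r))⁻¹ * v) := by
    intro v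
    have := hh.2 r (bar r) hr v
    simpa using this
  have e2 : ∀ v, (n * h * n⁻¹) * X r (bar r) v * (n * h * n⁻¹)⁻¹ =
      X r (bar r) (d (π⁻¹ r) * (d (π⁻¹ (bar r)))⁻¹ * v) := by
    intro v
    have := hh'.2 r (bar r) hr v
    simpa using this
  have hg : X r (bar r) 1 * (n * h * n⁻¹) * (X r (bar r) 1)⁻¹ ∈ G1 := by
    have e : X r (bar r) 1 * (n * h * n⁻¹) * (X r (bar r) 1)⁻¹ =
        (X r (bar r) 1 * n) * h * (X r (bar r) 1 * n)⁻¹ := by group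
    rw [e]
    exact mul_mem (mul_mem ha hhG) (inv_mem ha)
  have hcm : h * (X r (bar r) 1 * (n * h * n⁻¹) * (X r (bar r) 1)⁻¹) * h⁻¹ *
      (X r (bar r) 1 * (n * h * n⁻¹) * (X r (bar r) 1)⁻¹)⁻¹ ∈ G1 :=
    mul_mem (mul_mem (mul_mem hhG hg) (inv_mem hhG)) (inv_mem hg)
  have hc' : h * (n * h * n⁻¹) * h⁻¹ = n * h * n⁻¹ := by
    rw [hcomm.eq, mul_inv_cancel_right]
  have key : h * (X r (bar r) 1 * (n * h * n⁻¹) * (X r (bar r) 1)⁻¹) * h⁻¹ *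
      (X r (bar r) 1 * (n * h * n⁻¹) * (X r (bar r) 1)⁻¹)⁻¹ =
      X r (bar r) ((d r * (d (bar r))⁻¹ - 1) * (1 - d (π⁻¹ r) * (d (π⁻¹ (bar r)))⁻¹)) := by
    have c1 : h * (X r (bar r) 1 * (n * h * n⁻¹) * (X r (bar r) 1)⁻¹) * h⁻¹ =
        (h * X r (bar r) 1 * h⁻¹) * (h * (n * h * n⁻¹) * h⁻¹) * (h * X r (bar r) 1 * h⁻¹)⁻¹ := by
      group
    rw [c1, hc', e1, mul_one]
    have c2 : X r (bar r) (d r * (d (bar r))⁻¹) * (n * h * n⁻¹) *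
        (X r (bar r) (d r * (d (bar r))⁻¹))⁻¹ *
        (X r (bar r) 1 * (n * h * n⁻¹) * (X r (bar r) 1)⁻¹)⁻¹ =
        X r (bar r) (d r * (d (bar r))⁻¹) *
        ((n * h * n⁻¹) * ((X r (bar r) (d r * (d (bar r))⁻¹))⁻¹ * X r (bar r) 1) *
          (n * h * n⁻¹)⁻¹) * (X r (bar r) 1)⁻¹ := by
      group
    rw [c2, Cfsg.Agent.Helper9.SpGen.X_neg hX hr, Cfsg.Agent.Helper9.SpGen.X_neg hX hr, ← hX.add r (bar r) hr, e2, ← hX.add r (bar r) hr,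
      ← hX.add r (bar r) hr]
    congr 1
    ring
  rw [← key]
  exact hcm

end Cfsg.Agent.Helper68.SpGen
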