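-- helper68: piece (ST-gen) of helper42's WANTED #5421 for S4538 / S2440: `SL_n(F)` is generated by the upper triangular
-- subgroup and the monomial matrices `sd i (i+1)`.
import Mathlib
import Cfsg.Agent.Helper42.DZDefs
import Cfsg.Agent.Helper5.SLn

set_option autoImplicit false

namespace Cfsg.Agent.Helper68.DZ

open Matrix Cfsg Cfsg.Agent.Helper42.DZ
open scoped commutatorElement

variable {n : ℕ} {F : Type*} [Field F]

theorem xs_eq_transvection (i j : Fin n) (hij : i ≠ j) (a : F) :
    xs i j hij a = Matrix.SpecialLinearGroup.transvection hij a := rfl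

/-- conjugation by `sd i j` maps the root subgroup `x_{ij}` onto `x_{ji}` -/
theorem sd_mul_xs (i j : Fin n) (hij : i ≠ j) (a : F) :
    sd i j hij * xs i j hij a = xs j i hij.symm (-a) * sd i j hij := by
  unfold sd
  apply Subtype.ext
  simp only [Matrix.SpecialLinearGroup.coe_mul, xs_val, Matrix.transvection]
  have hji := hij.symm
  simp only [mul_add, add_mul, mul_one, one_mul, single_mul_single_same,
    single_mul_single_of_ne _ _ _ _ hij, single_mul_single_of_ne _ _ _ _ hji,
    add_zero, zero_add, Matrix.mul_zero, Matrix.zero_mul]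
  ext k l
  simp only [Matrix.add_apply, Matrix.single_apply, Matrix.one_apply]
  by_cases hki : i = k <;> by_cases hkj : j = k <;> by_cases hli : i = l <;> by_cases hlj : j = l <;>
    (try subst hki) <;> (try subst hkj) <;> (try subst hli) <;> (try subst hlj) <;>
    simp_all [eq_comm] <;> ring

/-- the generating set of (ST-gen) -/
def genSet (n : ℕ) (F : Type*) [Field F] : Set (SLn n F) :=
  (BS n F : Set (SLn n F)) ∪ {g | ∃ (i j : Fin n) (hij : j.val = i.val + 1) (hne : i ≠ j), g = sd i j hne}

theorem xs_upper_mem_BS (i j : Fin n) (hij : i ≠ j) (hlt : i < j) (a : F) : xs i j hij a ∈ BS n F := by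
  rw [mem_BS]
  intro r c hcr
  rw [xs_val, Matrix.transvection, Matrix.add_apply, Matrix.one_apply_ne (ne_of_gt hcr), zero_add,
    Matrix.single_apply]
  rw [if_neg]
  rintro ⟨rfl, rfl⟩
  exact absurd hlt (not_lt.2 hcr.le)

theorem xs_upper_mem (i j : Fin n) (hij : i ≠ j) (hlt : i < j) (a : F) :
    xs i j hij a ∈ Subgroup.closure (genSet n F) :=
  Subgroup.subset_closure (Or.inl (xs_upper_mem_BS i j hij hlt a))

theorem sd_mem (i j : Fin n) (hij : j.val = i.val + 1) (hne : i ≠ j) :
    sd i j hne ∈ Subgroup.closure (genSet n F) :=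
  Subgroup.subset_closure (Or.inr ⟨i, j, hij, hne, rfl⟩)

/-- the adjacent lower root subgroups lie in the closure -/
theorem xs_lower_adj_mem (i j : Fin n) (hij : j.val = i.val + 1) (hne : j ≠ i) (a : F) :
    xs j i hne a ∈ Subgroup.closure (genSet n F) := by
  have hlt : i < j := by
    rw [Fin.lt_def]
    omega
  have h := sd_mul_xs i j hne.symm (-a)
  rw [neg_neg] at h
  have h' : xs j i hne a = sd i j hne.symm * xs i j hne.symm (-a) * (sd i j hne.symm)⁻¹ := by
    rw [h, mul_inv_cancel_right]
  rw [h']
  exact Subgroup.mul_mem _ (Subgroup.mul_mem _ (sd_mem i j hij _) (xs_upper_mem i j _ hlt _))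
    (Subgroup.inv_mem _ (sd_mem i j hij _))

/-- all lower root subgroups lie in the closure -/
theorem xs_lower_mem_aux (d : ℕ) : ∀ (i j : Fin n) (_ : j.val = i.val + d + 1) (hne : j ≠ i) (a : F),
    xs j i hne a ∈ Subgroup.closure (genSet n F) := by
  induction d with
  | zero =>
    intro i j hij hne a
    exact xs_lower_adj_mem i j (by omega) hne a
  | succ d ih =>
    intro i j hij hne a
    have hk : i.val + 1 < n := by
      have := j.isLt
      omega
    set k : Fin n := ⟨i.val + 1, hk⟩ with hkdef
    have hkv : k.val = i.val + 1 := rfl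
    have hjk : j ≠ k := by
      intro h
      have := congrArg Fin.val h
      omega
    have hki : k ≠ i := by
      intro h
      have := congrArg Fin.val h
      omega
    have e := Cfsg.Agent.Helper5.commutator_transvection (F := F) hne hjk hki a
    rw [xs_eq_transvection, ← e, commutatorElement_def]
    have h1 : Matrix.SpecialLinearGroup.transvection hjk a ∈ Subgroup.closure (genSet n F) := by
      rw [← xs_eq_transvection]
      exact ih k j (by omega) hjk a
    have h2 : Matrix.SpecialLinearGroup.transvection hki (1 : F) ∈ Subgroup.closure (genSet n F) := by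
      rw [← xs_eq_transvection]
      exact xs_lower_adj_mem i k hkv hki 1
    exact Subgroup.mul_mem _ (Subgroup.mul_mem _ (Subgroup.mul_mem _ h1 h2) (Subgroup.inv_mem _ h1))
      (Subgroup.inv_mem _ h2)

theorem xs_mem (i j : Fin n) (hij : i ≠ j) (a : F) : xs i j hij a ∈ Subgroup.closure (genSet n F) := by
  rcases lt_or_gt_of_ne hij with h | h
  · exact xs_upper_mem i j hij h a
  · rw [Fin.lt_def] at h
    exact xs_lower_mem_aux (i.val - j.val - 1) j i (by omega) hij a

/-- (ST-gen) -/
theorem closure_BS_sd (hn : 0 < n) : Subgroup.closure ((BS n F : Set (SLn n F)) ∪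
    {g | ∃ (i j : Fin n) (hij : j.val = i.val + 1) (hne : i ≠ j), g = sd i j hne}) = ⊤ := by
  show Subgroup.closure (genSet n F) = ⊤
  rcases Nat.lt_or_ge n 2 with h2 | h2
  · rw [eq_top_iff]
    intro g _
    apply Subgroup.subset_closure
    left
    show g ∈ BS n F
    rw [mem_BS]
    intro i j hji
    rw [Fin.lt_def] at hji
    have := i.isLt
    omega
  · haveI : Nontrivial (Fin n) := Fin.nontrivial_iff_two_le.2 h2
    rw [eq_top_iff, ← Cfsg.Agent.Helper5.closure_transvection_eq_top, Subgroup.closure_le]
    rintro _ ⟨i, j, hij, a, rfl⟩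
    rw [← xs_eq_transvection]
    exact xs_mem i j hij a

end Cfsg.Agent.Helper68.DZ
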