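import Mathlib
import Cfsg.Prelude.Def_Solvable
import Cfsg.Prelude.Def_CaseTheorems
import Cfsg.Agent.Helper54.PConstrained

/-!
helper68 for helper42 (S4385 GD farm, board #14513): leaf (FIN) `quot_oddCore_iso` of
`tools/helper42_gd/Skel.lean.txt`.
-/

set_option autoImplicit false

universe u

namespace Cfsg.Agent.Helper68.GD

open Pointwise Cfsg

/-- (FIN) -/
theorem quot_oddCore_iso {Γ : Type*} [Group Γ] [Finite Γ] (D : Subgroup Γ) [D.Normal]
    (hD : Odd (Nat.card D)) {X : Type*} [Group X] (hX : Cfsg.oddCore X = ⊥) (e : Γ ⧸ D ≃* X) :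
    Nonempty (Γ ⧸ Cfsg.oddCore Γ ≃* X) := by
  have : Fact (Nat.Prime 2) := ⟨Nat.prime_two⟩
  have hq : pPrimeCore 2 (Γ ⧸ D) = ⊥ := by
    rw [eq_bot_iff]
    intro y hy
    have h1 : e y ∈ pPrimeCore 2 X := (Cfsg.Agent.Helper54.mem_pPrimeCore_equiv e).mpr hy
    have h2 : pPrimeCore 2 X = ⊥ := hX
    rw [h2, Subgroup.mem_bot] at h1
    rw [Subgroup.mem_bot]
    exact e.injective (by rw [h1, map_one])
  have hcop : (Nat.card D).Coprime 2 := Nat.Coprime.symm (Nat.coprime_two_left.mpr hD)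
  have h3 : pPrimeCore 2 Γ = D := Cfsg.Agent.Helper54.pPrimeCore_eq_of_quotient D hcop hq
  have h4 : Cfsg.oddCore Γ = D := h3
  exact ⟨(QuotientGroup.quotientMulEquivOfEq h4).trans e⟩

end Cfsg.Agent.Helper68.GD
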