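import Mathlib
import Cfsg.Prelude.Def_Solvable
import Cfsg.Prelude.Def_CaseTheorems
import Cfsg.Agent.Lib.Cores

/-!
helper68 for helper42 (S4385 GD farm, board #14513): leaf (SYL) `card_sylow_dihedral` of
`tools/helper42_gd/Skel.lean.txt`.
-/

set_option autoImplicit false

universe u

namespace Cfsg.Agent.Helper68.GD

open Pointwise Cfsg

/-- (SYL) Sylow 2-subgroups of `Γ` when `Γ/O_2(Γ) ≅ D_n`, `n` odd. -/
theorem card_sylow_dihedral {Γ : Type*} [Group Γ] [Finite Γ] (S : Subgroup Γ) (hS : IsPGroup 2 S)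
    (hidx : ¬ 2 ∣ S.index) {n : ℕ} (hn : Odd n) (e : Γ ⧸ Cfsg.pCore 2 Γ ≃* DihedralGroup n) :
    Cfsg.pCore 2 Γ ≤ S ∧ Nat.card S = 2 * Nat.card (Cfsg.pCore 2 Γ) ∧ Nat.card Γ = n * Nat.card S := by
  have : Fact (Nat.Prime 2) := ⟨Nat.prime_two⟩
  have hle : Cfsg.pCore 2 Γ ≤ S := by
    have h := Cfsg.Agent.Lib.pCore_le_sylow (G := Γ) (hS.toSylow hidx)
    rw [IsPGroup.toSylow_coe] at h
    exact h
  have h1 : Nat.card Γ = Nat.card (Γ ⧸ Cfsg.pCore 2 Γ) * Nat.card (Cfsg.pCore 2 Γ) :=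
    Subgroup.card_eq_card_quotient_mul_card_subgroup _
  have h2 : Nat.card (Γ ⧸ Cfsg.pCore 2 Γ) = 2 * n := by
    rw [Nat.card_congr e.toEquiv, DihedralGroup.nat_card]
  obtain ⟨a, ha⟩ := (IsPGroup.iff_card).mp (Cfsg.Agent.Lib.isPGroup_pCore (G := Γ) 2)
  have hn0 : n ≠ 0 := by
    rintro rfl
    simp at hn
  have hfac : (Nat.card Γ).factorization 2 = a + 1 := by
    rw [h1, h2, ha]
    have e1 : 2 * n * 2 ^ a = 2 ^ (a + 1) * n := by ring
    rw [e1, Nat.factorization_mul (pow_ne_zero _ two_ne_zero) hn0, Nat.factorization_pow,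
      Finsupp.add_apply, Finsupp.smul_apply, Nat.prime_two.factorization_self,
      Nat.factorization_eq_zero_of_not_dvd, smul_eq_mul, mul_one, add_zero]
    intro hdvd
    exact (Nat.not_even_iff_odd.mpr hn) (even_iff_two_dvd.mpr hdvd)
  have hScard : Nat.card S = 2 * Nat.card (Cfsg.pCore 2 Γ) := by
    have h3 := Sylow.card_eq_multiplicity (hS.toSylow hidx)
    have h4 : Nat.card (hS.toSylow hidx) = Nat.card S := by
      have : ((hS.toSylow hidx : Sylow 2 Γ) : Subgroup Γ) = S := IsPGroup.toSylow_coe hS hidx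
      exact congrArg (fun K : Subgroup Γ => Nat.card K) this
    rw [h4] at h3
    rw [h3, hfac, ha, pow_succ, mul_comm]
  refine ⟨hle, hScard, ?_⟩
  rw [h1, h2, hScard]
  ring

end Cfsg.Agent.Helper68.GD
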