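import Mathlib
import Cfsg.Agent.Helper63.Frattini
import Cfsg.Agent.S4169

/-!
Piece (G1a) of helper43's plan for S6002 (board #8578): a group of order 32, exponent 4, centre of
order 2, all of whose characteristic abelian subgroups are cyclic, has all squares central.

`T` = the subgroup generated by the squares (characteristic).  If `T` is commutative it is cyclic,
all its elements square to `1` (exponent 4), so `|T| ≤ 2` and `T` is central.  `|T| ≤ 4`: `T` is
commutative.  `|T| = 8`: an element `y ∈ T ∖ Z(G)` central modulo `Z(G)` commutes with all squares,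
so `|Z(T)| ≥ 4` and `T` is commutative.  `|T| ≥ 16`: `T ≤ Φ(G)` forces `G` cyclic.
-/

set_option autoImplicit false

namespace Cfsg.Agent.Helper68.XS

variable {G : Type*} [Group G]

/-- the subgroup generated by the squares -/
def sqSub (G : Type*) [Group G] : Subgroup G := Subgroup.closure (Set.range fun x : G => x * x)

theorem sq_mem_sqSub (x : G) : x * x ∈ sqSub G := Subgroup.subset_closure ⟨x, rfl⟩

theorem sqSub_characteristic : (sqSub G).Characteristic := by
  rw [Subgroup.characteristic_iff_map_le]
  intro φ
  unfold sqSub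
  rw [MonoidHom.map_closure, Subgroup.closure_le]
  rintro _ ⟨_, ⟨x, rfl⟩, rfl⟩
  apply Subgroup.subset_closure
  exact ⟨φ x, by simp⟩

/-- a normal subgroup with at most two elements is central -/
theorem le_center_of_card_le_two [Finite G] (T : Subgroup G) (hTn : T.Normal)
    (h : Nat.card T ≤ 2) : T ≤ Subgroup.center G := by
  intro t ht
  rw [Subgroup.mem_center_iff]
  intro g
  by_contra hne
  have hc : g * t * g⁻¹ ∈ T := hTn.conj_mem t ht g
  have h1 : t ≠ 1 := by
    rintro rfl
    simp at hne
  have h2 : g * t * g⁻¹ ≠ t := by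
    intro h
    apply hne
    calc g * t = (g * t * g⁻¹) * g := by group
      _ = t * g := by rw [h]
  have h3 : g * t * g⁻¹ ≠ 1 := by
    intro h
    apply h1
    calc t = g⁻¹ * (g * t * g⁻¹) * g := by group
      _ = 1 := by rw [h]; group
  have : Fintype T := Fintype.ofFinite T
  have h4 : 2 < Nat.card T := by
    rw [Nat.card_eq_fintype_card, Fintype.two_lt_card_iff]
    refine ⟨1, ⟨t, ht⟩, ⟨g * t * g⁻¹, hc⟩, ?_, ?_, ?_⟩
    · intro h
      exact h1 (congrArg Subtype.val h).symm
    · intro h
      exact h3 (congrArg Subtype.val h).symm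
    · intro h
      exact h2 (congrArg Subtype.val h).symm
  omega

/-- if the subgroup of squares is commutative and cyclic (exponent 4) it has at most 2 elements -/
theorem card_sqSub_le_two [Finite G] (hexp : ∀ x : G, x ^ 4 = 1)
    (hcomm : ∀ a ∈ sqSub G, ∀ b ∈ sqSub G, a * b = b * a) (hcyc : IsCyclic (sqSub G)) :
    Nat.card (sqSub G) ≤ 2 := by
  have hsq : ∀ t ∈ sqSub G, t * t = 1 := by
    intro t ht
    unfold sqSub at ht
    induction ht using Subgroup.closure_induction with
    | mem x hx =>
      obtain ⟨y, rfl⟩ := hx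
      have h4 : y ^ 4 = y * y * (y * y) := by
        rw [show 4 = 2 + 2 from rfl, pow_add, pow_two]
      rw [← h4]
      exact hexp y
    | one => simp
    | mul a b ha hb iha ihb =>
      have hab := hcomm a ha b hb
      calc a * b * (a * b) = a * (b * a) * b := by group
        _ = a * (a * b) * b := by rw [hab]
        _ = (a * a) * (b * b) := by group
        _ = 1 := by rw [iha, ihb, one_mul]
    | inv a ha iha =>
      calc a⁻¹ * a⁻¹ = (a * a)⁻¹ := by group
        _ = 1 := by rw [iha, inv_one]
  obtain ⟨g, hg⟩ := hcyc.exists_generator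
  have h1 : orderOf g = Nat.card (sqSub G) := orderOf_eq_card_of_forall_mem_zpowers hg
  have h2 : g ^ 2 = 1 := by
    apply Subtype.ext
    rw [pow_two]
    exact hsq g.1 g.2
  have h3 : orderOf g ∣ 2 := orderOf_dvd_of_pow_eq_one h2
  rw [← h1]
  exact Nat.le_of_dvd (by norm_num) h3

/-- if `⟨x⟩` and the squares generate a finite 2-group then the group is commutative -/
theorem comm_of_zpowers_sup_sqSub [Finite G] (hG : IsPGroup 2 G) (x : G)
    (h : Subgroup.zpowers x ⊔ sqSub G = ⊤) : ∀ a b : G, a * b = b * a := by
  have : Fact (Nat.Prime 2) := ⟨Nat.prime_two⟩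
  have hTF : sqSub G ≤ frattini G := by
    unfold sqSub
    rw [Subgroup.closure_le]
    rintro _ ⟨y, rfl⟩
    have := Cfsg.Agent.Helper63.pow_prime_mem_frattini hG y
    rwa [pow_two] at this
  have h1 : Subgroup.zpowers x ⊔ frattini G = ⊤ := by
    rw [eq_top_iff, ← h]
    exact sup_le_sup_left hTF _
  have h2 : Subgroup.zpowers x = ⊤ := frattini_nongenerating h1
  intro a b
  have ha : a ∈ Subgroup.zpowers x := by rw [h2]; trivial
  have hb : b ∈ Subgroup.zpowers x := by rw [h2]; trivial
  obtain ⟨i, rfl⟩ := Subgroup.mem_zpowers_iff.mp ha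
  obtain ⟨j, rfl⟩ := Subgroup.mem_zpowers_iff.mp hb
  rw [← zpow_add, ← zpow_add, add_comm]

/-- the case `|T| = 8` -/
theorem comm_of_card_sqSub_eight [Finite G] (hG : IsPGroup 2 G)
    (hZ : Nat.card (Subgroup.center G) = 2) (hT8 : Nat.card (sqSub G) = 8) :
    ∀ a ∈ sqSub G, ∀ b ∈ sqSub G, a * b = b * a := by
  have : Fact (Nat.Prime 2) := ⟨Nat.prime_two⟩
  have hTchar : (sqSub G).Characteristic := sqSub_characteristic
  have hTn : (sqSub G).Normal := inferInstance
  set T := sqSub G with hTdef
  -- a central involution in `T`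
  have hTne : T ≠ ⊥ := by
    intro h
    rw [h, Subgroup.card_bot] at hT8
    omega
  obtain ⟨z, hzT, hz1, hzc⟩ := Cfsg.Agent.S4169.exists_central_of_normal hG T hTne
  -- squares of central elements are trivial
  have hcsq : ∀ c ∈ Subgroup.center G, c * c = 1 := by
    intro c hc
    have h1 : (⟨c, hc⟩ : Subgroup.center G) ^ Nat.card (Subgroup.center G) = 1 := pow_card_eq_one'
    rw [hZ, pow_two] at h1
    exact congrArg Subtype.val h1
  -- the image of `T` in `G ⧸ Z(G)`
  set π := QuotientGroup.mk' (Subgroup.center G) with hπ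
  have hπs : Function.Surjective π := QuotientGroup.mk'_surjective _
  have hT'n : (T.map π).Normal := hTn.map π hπs
  have hT'ne : T.map π ≠ ⊥ := by
    intro h
    have h1 : T ≤ Subgroup.center G := by
      intro t ht
      have h2 : π t ∈ T.map π := Subgroup.mem_map_of_mem π ht
      rw [h, Subgroup.mem_bot] at h2
      exact (QuotientGroup.eq_one_iff t).mp h2
    have := Subgroup.card_le_of_le h1
    omega
  have hGq : IsPGroup 2 (G ⧸ Subgroup.center G) := hG.to_quotient _
  obtain ⟨ybar, hybT, hyb1, hybc⟩ :=
    Cfsg.Agent.S4169.exists_central_of_normal hGq (T.map π) hT'ne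
  obtain ⟨y, hyT, rfl⟩ := hybT
  have hync : y ∉ Subgroup.center G := by
    intro h
    exact hyb1 ((QuotientGroup.eq_one_iff y).mpr h)
  -- `y` commutes with all squares
  have hysq : ∀ g : G, (g * g) * y = y * (g * g) := by
    intro g
    have h1 : π g * π y = π y * π g := (Subgroup.mem_center_iff.mp hybc (π g))
    have h2 : π (g * y) = π (y * g) := by rw [map_mul, map_mul, h1]
    have h3 : (g * y)⁻¹ * (y * g) ∈ Subgroup.center G := QuotientGroup.eq.mp h2
    set c := (g * y)⁻¹ * (y * g) with hc
    have h4 : y * g = g * y * c := by rw [hc]; group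
    have h5 : ∀ w : G, w * c = c * w := Subgroup.mem_center_iff.mp h3
    have h6 : c * c = 1 := hcsq c h3
    symm
    calc y * (g * g) = (y * g) * g := by rw [mul_assoc]
      _ = (g * y * c) * g := by rw [h4]
      _ = g * y * (g * c) := by rw [mul_assoc (g * y) c g, ← h5 g]
      _ = g * (y * g) * c := by simp only [mul_assoc]
      _ = g * (g * y * c) * c := by rw [h4]
      _ = g * g * y * (c * c) := by simp only [mul_assoc]
      _ = g * g * y := by rw [h6, mul_one]
  have hTy : T ≤ Subgroup.centralizer ({y} : Set G) := by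
    rw [hTdef]
    unfold sqSub
    rw [Subgroup.closure_le]
    rintro _ ⟨g, rfl⟩
    rw [SetLike.mem_coe, Subgroup.mem_centralizer_iff]
    intro w hw
    rw [Set.mem_singleton_iff] at hw
    rw [hw]
    exact (hysq g).symm
  -- the centre of `T` has at least three elements
  have hyc : (⟨y, hyT⟩ : T) ∈ Subgroup.center T := by
    rw [Subgroup.mem_center_iff]
    intro t
    apply Subtype.ext
    have := Subgroup.mem_centralizer_iff.mp (hTy t.2) y rfl
    exact this.symm
  have hzcT : (⟨z, hzT⟩ : T) ∈ Subgroup.center T := by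
    rw [Subgroup.mem_center_iff]
    intro t
    apply Subtype.ext
    exact Subgroup.mem_center_iff.mp hzc t.1
  have hcard3 : 2 < Nat.card (Subgroup.center T) := by
    have : Fintype (Subgroup.center T) := Fintype.ofFinite _
    rw [Nat.card_eq_fintype_card, Fintype.two_lt_card_iff]
    refine ⟨1, ⟨⟨z, hzT⟩, hzcT⟩, ⟨⟨y, hyT⟩, hyc⟩, ?_, ?_, ?_⟩
    · intro h
      exact hz1 (congrArg (fun w : Subgroup.center T => ((w : T) : G)) h).symm
    · intro h
      apply hync
      have : y = 1 := (congrArg (fun w : Subgroup.center T => ((w : T) : G)) h).symm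
      rw [this]
      exact Subgroup.one_mem _
    · intro h
      apply hync
      have : z = y := congrArg (fun w : Subgroup.center T => ((w : T) : G)) h
      rw [← this]
      exact hzc
  -- so the quotient by the centre is cyclic
  have hdvd : Nat.card (Subgroup.center T) ∣ 2 ^ 3 := by
    have := Subgroup.card_subgroup_dvd_card (Subgroup.center T)
    rw [hT8] at this
    exact this
  obtain ⟨j, hj3, hj⟩ := (Nat.dvd_prime_pow Nat.prime_two).mp hdvd
  have hmul : Nat.card T = Nat.card (T ⧸ Subgroup.center T) * Nat.card (Subgroup.center T) :=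
    Subgroup.card_eq_card_quotient_mul_card_subgroup _
  rw [hT8, hj] at hmul
  have hcycq : IsCyclic (T ⧸ Subgroup.center T) := by
    have hj2 : 2 ≤ j := by
      rw [hj] at hcard3
      by_contra hlt
      have : j ≤ 1 := by omega
      have : 2 ^ j ≤ 2 ^ 1 := Nat.pow_le_pow_right (by norm_num) this
      omega
    have hj23 : j = 2 ∨ j = 3 := by omega
    rcases hj23 with rfl | rfl
    · have h2 : Nat.card (T ⧸ Subgroup.center T) = 2 := by omega
      exact isCyclic_of_prime_card h2
    · have h1 : Nat.card (T ⧸ Subgroup.center T) = 1 := by omega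
      have : Subsingleton (T ⧸ Subgroup.center T) := (Nat.card_eq_one_iff_unique.mp h1).1
      exact isCyclic_of_subsingleton
  have hcomm : ∀ a b : T, a * b = b * a :=
    commutative_of_cyclic_center_quotient (QuotientGroup.mk' (Subgroup.center T))
      (by rw [QuotientGroup.ker_mk'])
  intro a ha b hb
  exact congrArg Subtype.val (hcomm ⟨a, ha⟩ ⟨b, hb⟩)

/-- (G1a) a group of order 32, exponent 4, centre of order 2, all of whose characteristic abelian
subgroups are cyclic: all squares are central -/
theorem sq_mem_center_of_symplectic_type {G : Type*} [Group G] (hcard : Nat.card G = 32)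
    (hexp : Monoid.exponent G = 4) (hZ : Nat.card (Subgroup.center G) = 2)
    (hchar : ∀ A : Subgroup G, A.Characteristic → IsMulCommutative A → IsCyclic A) :
    ∀ x : G, x * x ∈ Subgroup.center G := by
  have : Finite G := Nat.finite_of_card_ne_zero (by rw [hcard]; norm_num)
  have : Fact (Nat.Prime 2) := ⟨Nat.prime_two⟩
  have hG : IsPGroup 2 G := IsPGroup.of_card (n := 5) (by rw [hcard]; norm_num)
  have hpow4 : ∀ x : G, x ^ 4 = 1 := fun x => by
    rw [← hexp]
    exact Monoid.pow_exponent_eq_one x
  have hTchar : (sqSub G).Characteristic := sqSub_characteristic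
  have hTn : (sqSub G).Normal := inferInstance
  -- it suffices that `T` is commutative
  have key : (∀ a ∈ sqSub G, ∀ b ∈ sqSub G, a * b = b * a) →
      ∀ x : G, x * x ∈ Subgroup.center G := by
    intro hcomm x
    have hc : IsMulCommutative (sqSub G) := ⟨⟨fun a b => Subtype.ext (hcomm a a.2 b b.2)⟩⟩
    have hcyc := hchar (sqSub G) hTchar hc
    have h2 := card_sqSub_le_two hpow4 hcomm hcyc
    exact le_center_of_card_le_two (sqSub G) hTn h2 (sq_mem_sqSub x)
  apply key
  have hdvd : Nat.card (sqSub G) ∣ 2 ^ 5 := by
    have := Subgroup.card_subgroup_dvd_card (sqSub G)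
    rw [hcard] at this
    exact this
  obtain ⟨k, hk5, hk⟩ := (Nat.dvd_prime_pow Nat.prime_two).mp hdvd
  -- large `T`: `G` would be commutative
  have hnotcomm : ¬ ∀ a b : G, a * b = b * a := by
    intro hab
    have h1 : Subgroup.center G = ⊤ := by
      rw [eq_top_iff]
      intro g _
      rw [Subgroup.mem_center_iff]
      intro w
      exact hab w g
    rw [h1, Subgroup.card_top, hcard] at hZ
    omega
  interval_cases k
  · -- `|T| = 1`
    intro a ha b hb
    have h2 : Nat.card (sqSub G) ≤ 2 := by omega
    exact (Subgroup.mem_center_iff.mp (le_center_of_card_le_two (sqSub G) hTn h2 hb) a)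
  · -- `|T| = 2`
    intro a ha b hb
    have h2 : Nat.card (sqSub G) ≤ 2 := by omega
    exact (Subgroup.mem_center_iff.mp (le_center_of_card_le_two (sqSub G) hTn h2 hb) a)
  · -- `|T| = 4`
    intro a ha b hb
    have hcomm := IsPGroup.commutative_of_card_eq_prime_sq (p := 2) (G := sqSub G) hk
    exact congrArg Subtype.val (hcomm ⟨a, ha⟩ ⟨b, hb⟩)
  · -- `|T| = 8`
    exact comm_of_card_sqSub_eight hG hZ hk
  · -- `|T| = 16`
    exfalso
    apply hnotcomm
    have hne : sqSub G ≠ ⊤ := by
      intro h
      rw [h, Subgroup.card_top, hcard] at hk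
      omega
    obtain ⟨x, hx⟩ : ∃ x : G, x ∉ sqSub G := by
      by_contra hno
      push Not at hno
      exact hne (eq_top_iff.mpr fun g _ => hno g)
    apply comm_of_zpowers_sup_sqSub hG x
    set M := Subgroup.zpowers x ⊔ sqSub G with hM
    have hTM : sqSub G ≤ M := le_sup_right
    have h1 : Nat.card (sqSub G) ∣ Nat.card M := Subgroup.card_dvd_of_le hTM
    have h2 : Nat.card M ∣ 32 := by
      rw [← hcard]
      exact Subgroup.card_subgroup_dvd_card M
    have h3 : Nat.card M ≠ 16 := by
      intro h
      have : sqSub G = M := Subgroup.eq_of_le_of_card_ge hTM (by omega)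
      apply hx
      rw [this]
      exact le_sup_left (a := Subgroup.zpowers x) (Subgroup.mem_zpowers x)
    have h4 : Nat.card M = 32 := by
      rw [hk] at h1
      obtain ⟨j, hj⟩ := h1
      have hjd : 2 ^ 4 * j ∣ 32 := by rw [← hj]; exact h2
      have hj2 : j ∣ 2 := by
        have : 16 * j ∣ 16 * 2 := by
          norm_num at hjd ⊢
          exact hjd
        exact Nat.dvd_of_mul_dvd_mul_left (by norm_num) this
      have hjle : j ≤ 2 := Nat.le_of_dvd (by norm_num) hj2
      interval_cases j
      · simp at hj2
      · omega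
      · omega
    exact Subgroup.eq_top_of_card_eq _ (by rw [h4, hcard])
  · -- `|T| = 32`
    exfalso
    apply hnotcomm
    apply comm_of_zpowers_sup_sqSub hG 1
    have h : sqSub G = ⊤ := Subgroup.eq_top_of_card_eq _ (by rw [hk, hcard]; norm_num)
    rw [h, sup_top_eq]

end Cfsg.Agent.Helper68.XS
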