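import Mathlib
import Cfsg.Agent.Helper51.R3Tools

/-!
Piece (G1b) of helper43's plan for S6002 (board #8578): a group of order 32 with centre `{1, z}`,
all squares central and no elementary abelian subgroup of order 8 is `Q8 ∘ D8`: standard
generators.

Commutators are central, so any two elements commute or anticommute (`g h = z h g`).  Choose
`x ∉ Z`, `y` anticommuting with `x`; every `w` has a translate `w t`, `t ∈ {1, x, y, xy}`, commuting
with `x` and `y`, so `C = C(x) ∩ C(y)` has at least 8 elements and contains a noncentral `u`, and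
then `v ∈ C` anticommuting with `u`.  Each anticommuting pair is normalised to `(g, h)` with
`g² = z` and `h² ∈ {z, 1}`; types `(Q, Q)` and `(D, D)` give an elementary abelian subgroup of
order 8 (`Helper51.R3.prank_two_three_of_three`).
-/

set_option autoImplicit false

namespace Cfsg.Agent.Helper68.XS

section ac

variable {G : Type*} [Group G] {z : G}

theorem ac_symm (hzz : z * z = 1) {g h : G} (h1 : g * h = z * (h * g)) :
    h * g = z * (g * h) := by
  rw [h1, ← mul_assoc, hzz, one_mul]

theorem ac_not_comm (hz1 : z ≠ 1) {g h : G} (h1 : g * h = z * (h * g)) : g * h ≠ h * g := by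
  intro h2
  rw [h2] at h1
  apply hz1
  have h3 : 1 * (h * g) = z * (h * g) := by rw [one_mul]; exact h1
  exact (mul_right_cancel h3).symm

theorem comm_mul {g h w : G} (h1 : g * h = h * g) (h2 : w * h = h * w) :
    (g * w) * h = h * (g * w) := by
  calc g * w * h = g * (w * h) := mul_assoc _ _ _
    _ = g * (h * w) := by rw [h2]
    _ = (g * h) * w := (mul_assoc _ _ _).symm
    _ = (h * g) * w := by rw [h1]
    _ = h * (g * w) := mul_assoc _ _ _

theorem ac_mul_right {g h w : G} (h1 : g * h = z * (h * g)) (h2 : w * h = h * w) :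
    (g * w) * h = z * (h * (g * w)) := by
  calc g * w * h = g * (w * h) := mul_assoc _ _ _
    _ = g * (h * w) := by rw [h2]
    _ = (g * h) * w := (mul_assoc _ _ _).symm
    _ = z * (h * g) * w := by rw [h1]
    _ = z * (h * (g * w)) := by simp only [mul_assoc]

theorem ac_mul_left (hz : ∀ g : G, z * g = g * z) {g h w : G} (h1 : g * h = z * (h * g))
    (h2 : w * h = h * w) : (w * g) * h = z * (h * (w * g)) := by
  calc w * g * h = w * (g * h) := mul_assoc _ _ _
    _ = w * (z * (h * g)) := by rw [h1]
    _ = (w * z) * (h * g) := (mul_assoc _ _ _).symm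
    _ = (z * w) * (h * g) := by rw [hz w]
    _ = z * ((w * h) * g) := by simp only [mul_assoc]
    _ = z * ((h * w) * g) := by rw [h2]
    _ = z * (h * (w * g)) := by simp only [mul_assoc]

theorem comm_of_ac_ac (hz : ∀ g : G, z * g = g * z) (hzz : z * z = 1) {g h w : G}
    (h1 : g * h = z * (h * g)) (h2 : w * h = z * (h * w)) : (g * w) * h = h * (g * w) := by
  calc g * w * h = g * (w * h) := mul_assoc _ _ _
    _ = g * (z * (h * w)) := by rw [h2]
    _ = (g * z) * (h * w) := (mul_assoc _ _ _).symm
    _ = (z * g) * (h * w) := by rw [hz g]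
    _ = z * ((g * h) * w) := by simp only [mul_assoc]
    _ = z * ((z * (h * g)) * w) := by rw [h1]
    _ = (z * z) * (h * (g * w)) := by simp only [mul_assoc]
    _ = h * (g * w) := by rw [hzz, one_mul]

theorem sq_mul_of_ac (hz : ∀ g : G, z * g = g * z) (hzz : z * z = 1) {g h : G}
    (h1 : g * h = z * (h * g)) : (g * h) * (g * h) = z * ((g * g) * (h * h)) := by
  have h2 := ac_symm hzz h1
  calc g * h * (g * h) = g * (h * g) * h := by simp only [mul_assoc]
    _ = g * (z * (g * h)) * h := by rw [h2]
    _ = (g * z) * (g * h) * h := by simp only [mul_assoc]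
    _ = (z * g) * (g * h) * h := by rw [hz g]
    _ = z * ((g * g) * (h * h)) := by simp only [mul_assoc]

theorem sq_mul_of_comm {g h : G} (h1 : g * h = h * g) :
    (g * h) * (g * h) = (g * g) * (h * h) := by
  calc g * h * (g * h) = g * (h * g) * h := by simp only [mul_assoc]
    _ = g * (g * h) * h := by rw [h1]
    _ = (g * g) * (h * h) := by simp only [mul_assoc]

/-- an element killed by `z` is central -/
theorem comm_of_z_mul_eq_one (hz : ∀ g : G, z * g = g * z) {p : G} (h : z * p = 1) (w : G) :
    p * w = w * p := by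
  apply mul_left_cancel (a := z)
  calc z * (p * w) = (z * p) * w := (mul_assoc _ _ _).symm
    _ = w := by rw [h, one_mul]
    _ = w * (z * p) := by rw [h, mul_one]
    _ = (w * z) * p := (mul_assoc _ _ _).symm
    _ = (z * w) * p := by rw [hz w]
    _ = z * (w * p) := mul_assoc _ _ _

/-- normalisation of an anticommuting pair: first square `z`, second square `z` or `1` -/
theorem exists_norm_pair (hz : ∀ g : G, z * g = g * z) (hzz : z * z = 1)
    (hsq : ∀ g : G, g * g = 1 ∨ g * g = z) {g h : G} (hgh : g * h = z * (h * g)) :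
    ∃ g' h' : G, g' * h' = z * (h' * g') ∧
      (∀ w : G, w * g = g * w → w * h = h * w → w * g' = g' * w ∧ w * h' = h' * w) ∧
      g' * g' = z ∧ (h' * h' = z ∨ h' * h' = 1) := by
  rcases hsq g with hg | hg
  · rcases hsq h with hh | hh
    · -- both involutions: `(g h, h)`
      refine ⟨g * h, h, ac_mul_right hgh rfl, ?_, ?_, Or.inr hh⟩
      · intro w hwg hwh
        refine ⟨?_, hwh⟩
        calc w * (g * h) = (w * g) * h := (mul_assoc _ _ _).symm
          _ = (g * w) * h := by rw [hwg]
          _ = g * (w * h) := mul_assoc _ _ _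
          _ = g * (h * w) := by rw [hwh]
          _ = g * h * w := (mul_assoc _ _ _).symm
      · rw [sq_mul_of_ac hz hzz hgh, hg, hh, one_mul, mul_one]
    · -- `(h, g)`
      exact ⟨h, g, ac_symm hzz hgh, fun w hwg hwh => ⟨hwh, hwg⟩, hh, Or.inr hg⟩
  · exact ⟨g, h, hgh, fun w hwg hwh => ⟨hwg, hwh⟩, hg, (hsq h).symm⟩

end ac

/-- (G1b) a group of order 32 with centre `{1, z}` of order 2 and all squares central, having no
elementary abelian subgroup of order 8, is `Q8 ∘ D8`: standard generators -/
theorem exists_std_generators {G : Type*} [Group G] (hcard : Nat.card G = 32)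
    (hZ : Nat.card (Subgroup.center G) = 2) (hsq : ∀ x : G, x * x ∈ Subgroup.center G)
    (hminus : ∀ A : Subgroup G, IsMulCommutative A → (∀ x ∈ A, x * x = 1) → Nat.card A < 2 ^ 3) :
    ∃ z a b c d : G, z ≠ 1 ∧ z ∈ Subgroup.center G ∧ z * z = 1 ∧
      a * a = z ∧ b * b = z ∧ a * b = z * (b * a) ∧
      c * c = z ∧ d * d = 1 ∧ d ≠ 1 ∧ d ≠ z ∧ c * d = z * (d * c) ∧
      a * c = c * a ∧ a * d = d * a ∧ b * c = c * b ∧ b * d = d * b := by
  classical
  have : Finite G := Nat.finite_of_card_ne_zero (by rw [hcard]; norm_num)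
  -- the central involution
  obtain ⟨⟨z, hzc⟩, hz1, hzuniq⟩ := (Nat.card_eq_two_iff' (1 : Subgroup.center G)).mp hZ
  have hz1' : z ≠ 1 := fun h => hz1 (Subtype.ext h)
  have hcen : ∀ c ∈ Subgroup.center G, c = 1 ∨ c = z := by
    intro c hc
    by_cases h : c = 1
    · exact Or.inl h
    · right
      have := hzuniq ⟨c, hc⟩ (fun h' => h (congrArg Subtype.val h'))
      exact congrArg Subtype.val this
  have hz : ∀ g : G, z * g = g * z := fun g => (Subgroup.mem_center_iff.mp hzc g).symm
  have hzz : z * z = 1 := by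
    rcases hcen (z * z) (Subgroup.mul_mem _ hzc hzc) with h | h
    · exact h
    · exfalso
      apply hz1'
      exact mul_left_cancel (a := z) (by rw [h, mul_one])
  have hsq' : ∀ g : G, g * g = 1 ∨ g * g = z := fun g => hcen _ (hsq g)
  -- two elements commute or anticommute
  have hcomm_or : ∀ g h : G, g * h = h * g ∨ g * h = z * (h * g) := by
    intro g h
    have hc : g * h * g⁻¹ * h⁻¹ ∈ Subgroup.center G := by
      have hs := hsq g⁻¹
      have ht := hsq h⁻¹
      have hgh := hsq (g * h)
      have h1 : (g⁻¹ * g⁻¹) * h = h * (g⁻¹ * g⁻¹) := (Subgroup.mem_center_iff.mp hs h).symm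
      have e : g * h * g⁻¹ * h⁻¹ = (g * h) * (g * h) * ((g⁻¹ * g⁻¹) * (h⁻¹ * h⁻¹)) := by
        calc g * h * g⁻¹ * h⁻¹ = g * h * (g * (g⁻¹ * g⁻¹)) * (h * (h⁻¹ * h⁻¹)) := by group
          _ = g * h * g * ((g⁻¹ * g⁻¹) * h) * (h⁻¹ * h⁻¹) := by simp only [mul_assoc]
          _ = g * h * g * (h * (g⁻¹ * g⁻¹)) * (h⁻¹ * h⁻¹) := by rw [h1]
          _ = (g * h) * (g * h) * ((g⁻¹ * g⁻¹) * (h⁻¹ * h⁻¹)) := by simp only [mul_assoc]
      rw [e]
      exact Subgroup.mul_mem _ hgh (Subgroup.mul_mem _ hs ht)
    rcases hcen _ hc with h1 | h1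
    · left
      calc g * h = (g * h * g⁻¹ * h⁻¹) * (h * g) := by group
        _ = h * g := by rw [h1, one_mul]
    · right
      calc g * h = (g * h * g⁻¹ * h⁻¹) * (h * g) := by group
        _ = z * (h * g) := by rw [h1]
  -- a noncentral `x` and `y` anticommuting with it
  obtain ⟨x, hx⟩ : ∃ x : G, x ∉ Subgroup.center G := by
    by_contra hno
    push Not at hno
    have h1 : Subgroup.center G = ⊤ := eq_top_iff.mpr fun g _ => hno g
    rw [h1, Subgroup.card_top, hcard] at hZ
    omega
  obtain ⟨y, hy⟩ : ∃ y : G, x * y ≠ y * x := by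
    by_contra hno
    push Not at hno
    apply hx
    rw [Subgroup.mem_center_iff]
    intro g
    exact (hno g).symm
  have hxy : x * y = z * (y * x) := (hcomm_or x y).resolve_left hy
  have hyx : y * x = z * (x * y) := ac_symm hzz hxy
  -- the translation making `w` commute with `x` and `y`
  let t : Bool → Bool → G := fun e d => (if d then x else 1) * (if e then y else 1)
  let e : G → Bool := fun w => decide (¬ w * x = x * w)
  let d : G → Bool := fun w => decide (¬ w * y = y * w)
  have hadj : ∀ w : G, (w * t (e w) (d w)) * x = x * (w * t (e w) (d w)) ∧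
      (w * t (e w) (d w)) * y = y * (w * t (e w) (d w)) := by
    intro w
    by_cases h1 : w * x = x * w
    · by_cases h2 : w * y = y * w
      · have ht : t (e w) (d w) = 1 := by simp [t, e, d, h1, h2]
        rw [ht, mul_one]
        exact ⟨h1, h2⟩
      · have ht : t (e w) (d w) = x := by simp [t, e, d, h1, h2]
        rw [ht]
        have h2' : w * y = z * (y * w) := (hcomm_or w y).resolve_left h2
        exact ⟨comm_mul h1 rfl, comm_of_ac_ac hz hzz h2' hxy⟩
    · have h1' : w * x = z * (x * w) := (hcomm_or w x).resolve_left h1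
      by_cases h2 : w * y = y * w
      · have ht : t (e w) (d w) = y := by simp [t, e, d, h1, h2]
        rw [ht]
        exact ⟨comm_of_ac_ac hz hzz h1' hyx, comm_mul h2 rfl⟩
      · have ht : t (e w) (d w) = x * y := by simp [t, e, d, h1, h2]
        rw [ht]
        have h2' : w * y = z * (y * w) := (hcomm_or w y).resolve_left h2
        have h3 : (x * y) * x = z * (x * (x * y)) := ac_mul_left hz hyx rfl
        have h4 : (x * y) * y = z * (y * (x * y)) := ac_mul_right hxy rfl
        exact ⟨comm_of_ac_ac hz hzz h1' h3, comm_of_ac_ac hz hzz h2' h4⟩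
  -- so `C(x) ∩ C(y)` has at least 8 elements
  set C : Subgroup G := Subgroup.centralizer ({x, y} : Set G) with hC
  have hmemC : ∀ g : G, g ∈ C ↔ g * x = x * g ∧ g * y = y * g := by
    intro g
    rw [hC, Subgroup.mem_centralizer_iff]
    constructor
    · intro h
      exact ⟨(h x (by simp)).symm, (h y (by simp)).symm⟩
    · rintro ⟨h1, h2⟩ w hw
      rcases hw with rfl | rfl
      · exact h1.symm
      · exact h2.symm
  let f : G → C × Bool × Bool := fun w => (⟨w * t (e w) (d w), (hmemC _).mpr (hadj w)⟩, e w, d w)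
  have hf : Function.Injective f := by
    intro w w' hww'
    have h1 : w * t (e w) (d w) = w' * t (e w') (d w') :=
      congrArg (fun p : C × Bool × Bool => (p.1 : G)) hww'
    have h2 : e w = e w' := congrArg (fun p : C × Bool × Bool => p.2.1) hww'
    have h3 : d w = d w' := congrArg (fun p : C × Bool × Bool => p.2.2) hww'
    rw [h2, h3] at h1
    exact mul_right_cancel h1
  have hC8 : 8 ≤ Nat.card C := by
    have h1 := Nat.card_le_card_of_injective f hf
    rw [Nat.card_prod, Nat.card_prod, Nat.card_eq_fintype_card (α := Bool), Fintype.card_bool,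
      hcard] at h1
    omega
  -- a noncentral `u ∈ C`
  obtain ⟨u, huC, hu⟩ : ∃ u ∈ C, u ∉ Subgroup.center G := by
    by_contra hno
    push Not at hno
    have h1 : C ≤ Subgroup.center G := fun g hg => hno g hg
    have := Subgroup.card_le_of_le h1
    omega
  obtain ⟨hux, huy⟩ := (hmemC u).mp huC
  obtain ⟨v₀, hv₀⟩ : ∃ v₀ : G, u * v₀ ≠ v₀ * u := by
    by_contra hno
    push Not at hno
    apply hu
    rw [Subgroup.mem_center_iff]
    intro g
    exact (hno g).symm
  have huv₀ : u * v₀ = z * (v₀ * u) := (hcomm_or u v₀).resolve_left hv₀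
  set v := v₀ * t (e v₀) (d v₀) with hv
  obtain ⟨hvx, hvy⟩ := hadj v₀
  have htu : t (e v₀) (d v₀) * u = u * t (e v₀) (d v₀) := by
    apply comm_mul
    · split_ifs
      · exact hux.symm
      · rw [one_mul, mul_one]
    · split_ifs
      · exact huy.symm
      · rw [one_mul, mul_one]
  have huv : u * v = z * (v * u) := ac_symm hzz (ac_mul_right (ac_symm hzz huv₀) htu)
  -- normalise the two pairs
  obtain ⟨a, b, hab, hcl1, ha, hb⟩ := exists_norm_pair hz hzz hsq' hxy
  obtain ⟨c, dd, hcd, hcl2, hc, hd⟩ := exists_norm_pair hz hzz hsq' huv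
  obtain ⟨hua, hub⟩ := hcl1 u hux huy
  obtain ⟨hva, hvb⟩ := hcl1 v hvx hvy
  obtain ⟨hac, had⟩ := hcl2 a hua.symm hva.symm
  obtain ⟨hbc, hbd⟩ := hcl2 b hub.symm hvb.symm
  -- three commuting independent involutions are impossible
  have hno3 : ∀ p r : G, p * p = 1 → r * r = 1 → p * r = r * p →
      (∃ w, p * w ≠ w * p) → (∃ w, r * w ≠ w * r) → (∃ w, (p * r) * w ≠ w * (p * r)) → False := by
    intro p r hp hr hpr ⟨w1, hw1⟩ ⟨w2, hw2⟩ ⟨w3, hw3⟩
    have h3 := Cfsg.Agent.Helper51.R3.prank_two_three_of_three z p r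
      (by rw [pow_two]; exact hzz) (by rw [pow_two]; exact hp) (by rw [pow_two]; exact hr)
      (hz p) (hz r) hpr hz1'
      (fun h => hw1 (by rw [h, one_mul, mul_one]))
      (fun h => hw1 (comm_of_z_mul_eq_one hz h w1))
      (fun h => hw2 (by rw [h, one_mul, mul_one]))
      (fun h => hw2 (comm_of_z_mul_eq_one hz h w2))
      (fun h => hw3 (by rw [h, one_mul, mul_one]))
      (fun h => hw3 (comm_of_z_mul_eq_one hz (by rw [← mul_assoc]; exact h) w3))
    obtain ⟨A, hA1, hA2, hA3⟩ := h3
    have := hminus A hA1 (fun g hg => by rw [← pow_two]; exact hA2 g hg)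
    omega
  rcases hb with hb | hb
  · rcases hd with hd | hd
    · -- type `(Q, Q)`: `z, a c, b dd`
      exfalso
      have hcb : c * b = b * c := hbc.symm
      have hda : dd * a = a * dd := had.symm
      have hp : (a * c) * (a * c) = 1 := by
        rw [sq_mul_of_comm hac, ha, hc, hzz]
      have hr : (b * dd) * (b * dd) = 1 := by
        rw [sq_mul_of_comm hbd, hb, hd, hzz]
      -- `a c` anticommutes with `b`, `b dd` anticommutes with `a`
      have h1 : (a * c) * b = z * (b * (a * c)) := ac_mul_right hab hcb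
      have h2 : (b * dd) * a = z * (a * (b * dd)) := ac_mul_right (ac_symm hzz hab) hda
      -- `a c` and `b dd` commute
      have h3 : (a * c) * dd = z * (dd * (a * c)) := ac_mul_left hz hcd hda.symm
      have hpr : (a * c) * (b * dd) = (b * dd) * (a * c) := by
        have h4 : (b * dd) * (a * c) = (a * c) * (b * dd) := by
          have := comm_of_ac_ac hz hzz (ac_symm hzz h1) (ac_symm hzz h3)
          exact this
        exact h4.symm
      -- the product anticommutes with `a`
      have h5 : (a * c) * a = a * (a * c) := comm_mul rfl hac.symm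
      have h6 : ((a * c) * (b * dd)) * a = z * (a * ((a * c) * (b * dd))) :=
        ac_mul_left hz h2 h5
      exact hno3 (a * c) (b * dd) hp hr hpr ⟨b, ac_not_comm hz1' h1⟩ ⟨a, ac_not_comm hz1' h2⟩
        ⟨a, ac_not_comm hz1' h6⟩
    · -- type `(Q, D)`
      refine ⟨z, a, b, c, dd, hz1', hzc, hzz, ha, hb, hab, hc, hd, ?_, ?_, hcd, hac, had, hbc, hbd⟩
      · rintro rfl
        apply ac_not_comm hz1' hcd
        rw [mul_one, one_mul]
      · rintro rfl
        exact ac_not_comm hz1' hcd (hz c).symm
  · rcases hd with hd | hd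
    · -- type `(D, Q)`
      refine ⟨z, c, dd, a, b, hz1', hzc, hzz, hc, hd, hcd, ha, hb, ?_, ?_, hab, hac.symm,
        hbc.symm, had.symm, hbd.symm⟩
      · rintro rfl
        apply ac_not_comm hz1' hab
        rw [mul_one, one_mul]
      · rintro rfl
        exact ac_not_comm hz1' hab (hz a).symm
    · -- type `(D, D)`: `z, b, dd`
      exfalso
      have h1 : b * a = z * (a * b) := ac_symm hzz hab
      have h2 : dd * c = z * (c * dd) := ac_symm hzz hcd
      have h3 : (b * dd) * a = z * (a * (b * dd)) := ac_mul_right h1 had.symm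
      exact hno3 b dd hb hd hbd ⟨a, ac_not_comm hz1' h1⟩ ⟨c, ac_not_comm hz1' h2⟩
        ⟨a, ac_not_comm hz1' h3⟩

end Cfsg.Agent.Helper68.XS
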