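import Mathlib
import Cfsg.Agent.Helper45.VL.Defs

/-!
helper68 for helper45 (S3777 Vaughan-Lee, board #13620): leaf (ACC1) `card_mul_prod_le` of
`tools/helper45_vl/Skel.lean.txt`.
-/

set_option autoImplicit false

universe u

namespace Cfsg.Agent.Helper68.VL

open Cfsg.Agent.Helper1.HKK Cfsg.Agent.Helper93.HKKLG Cfsg.Agent.Helper45.VL

/-- `|H ⊔ K| * |H ⊓ K| = |H| * |K|` in a commutative group -/
theorem ACC1_card_sup_mul_card_inf {M : Type*} [AddCommGroup M] (H K : AddSubgroup M) :
    Nat.card ↥(H ⊔ K) * Nat.card ↥(H ⊓ K) = Nat.card ↥H * Nat.card ↥K := by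
  have h1 : Nat.card ↥(H ⊔ K) = Nat.card ↥H * H.relIndex (H ⊔ K) := by
    have h := AddSubgroup.relIndex_mul_relIndex ⊥ H (H ⊔ K) bot_le le_sup_left
    rw [AddSubgroup.relIndex_bot_left, AddSubgroup.relIndex_bot_left] at h
    exact h.symm
  have h2 : Nat.card ↥K = Nat.card ↥(H ⊓ K) * (H ⊓ K).relIndex K := by
    have h := AddSubgroup.relIndex_mul_relIndex ⊥ (H ⊓ K) K bot_le inf_le_right
    rw [AddSubgroup.relIndex_bot_left, AddSubgroup.relIndex_bot_left] at h
    exact h.symm
  rw [h1, h2, AddSubgroup.relIndex_sup_left, AddSubgroup.inf_relIndex_right]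
  ring

/-- the general form, for the sum of the subgroups -/
theorem ACC1_gen {M : Type*} [AddCommGroup M] [Finite M] : ∀ (d : ℕ)
    (T : Fin d → AddSubgroup M) (c : Fin d → ℕ),
    (∀ i, c i ≤ Nat.card ↥(T i ⊓ ⨆ l : {l : Fin d // l < i}, T (l : Fin d))) →
    Nat.card ↥(⨆ i, T i) * ∏ i, c i ≤ ∏ i, Nat.card ↥(T i) := by
  intro d
  induction d with
  | zero =>
    intro T c _
    have h0 : (⨆ i, T i) = ⊥ := by
      rw [eq_bot_iff]
      apply iSup_le
      intro i
      exact i.elim0
    rw [h0]
    simp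
  | succ d ih =>
    intro T c hc
    -- the first `d` subgroups
    have hsup_lt : ∀ i : Fin d, (⨆ l : {l : Fin (d + 1) // l < i.castSucc}, T (l : Fin (d + 1))) =
        ⨆ l : {l : Fin d // l < i}, T ((l : Fin d).castSucc) := by
      intro i
      apply le_antisymm
      · apply iSup_le
        rintro ⟨l, hl⟩
        have hl' : l.val < i.val := hl
        have hld : l.val < d := lt_trans hl' i.isLt
        have e : l = (⟨l.val, hld⟩ : Fin d).castSucc := Fin.ext rfl
        rw [show T ((⟨l, hl⟩ : {l : Fin (d + 1) // l < i.castSucc}) : Fin (d + 1)) = T l from rfl, e]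
        exact le_iSup (fun l : {l : Fin d // l < i} => T ((l : Fin d).castSucc))
          ⟨⟨l.val, hld⟩, hl'⟩
      · apply iSup_le
        rintro ⟨l, hl⟩
        exact le_iSup (fun l : {l : Fin (d + 1) // l < i.castSucc} => T (l : Fin (d + 1)))
          ⟨l.castSucc, Fin.castSucc_lt_castSucc_iff.mpr hl⟩
    have hsup_last : (⨆ l : {l : Fin (d + 1) // l < Fin.last d}, T (l : Fin (d + 1))) =
        ⨆ i : Fin d, T i.castSucc := by
      apply le_antisymm
      · apply iSup_le
        rintro ⟨l, hl⟩
        have hld : l.val < d := hl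
        have e : l = (⟨l.val, hld⟩ : Fin d).castSucc := Fin.ext rfl
        rw [show T ((⟨l, hl⟩ : {l : Fin (d + 1) // l < Fin.last d}) : Fin (d + 1)) = T l from rfl, e]
        exact le_iSup (fun i : Fin d => T i.castSucc) ⟨l.val, hld⟩
      · apply iSup_le
        intro i
        exact le_iSup (fun l : {l : Fin (d + 1) // l < Fin.last d} => T (l : Fin (d + 1)))
          ⟨i.castSucc, Fin.castSucc_lt_last i⟩
    have hsup_all : (⨆ i, T i) = (⨆ i : Fin d, T i.castSucc) ⊔ T (Fin.last d) := by
      apply le_antisymm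
      · apply iSup_le
        intro i
        refine Fin.lastCases ?_ (fun j => ?_) i
        · exact le_sup_right
        · exact le_trans (le_iSup (fun i : Fin d => T i.castSucc) j) le_sup_left
      · apply sup_le
        · apply iSup_le
          intro i
          exact le_iSup T i.castSucc
        · exact le_iSup T (Fin.last d)
    have hih := ih (fun i => T i.castSucc) (fun i => c i.castSucc) (by
      intro i
      have h := hc i.castSucc
      rw [hsup_lt i] at h
      exact h)
    have hlast := hc (Fin.last d)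
    rw [hsup_last] at hlast
    set S : AddSubgroup M := ⨆ i : Fin d, T i.castSucc with hS
    have hkey := ACC1_card_sup_mul_card_inf S (T (Fin.last d))
    rw [inf_comm] at hkey
    rw [hsup_all, Fin.prod_univ_castSucc, Fin.prod_univ_castSucc]
    calc Nat.card ↥(S ⊔ T (Fin.last d)) * ((∏ i : Fin d, c i.castSucc) * c (Fin.last d))
        = (Nat.card ↥(S ⊔ T (Fin.last d)) * c (Fin.last d)) * ∏ i : Fin d, c i.castSucc := by ring
      _ ≤ (Nat.card ↥(S ⊔ T (Fin.last d)) * Nat.card ↥(T (Fin.last d) ⊓ S)) *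
            ∏ i : Fin d, c i.castSucc :=
          Nat.mul_le_mul_right _ (Nat.mul_le_mul_left _ hlast)
      _ = (Nat.card ↥S * ∏ i : Fin d, c i.castSucc) * Nat.card ↥(T (Fin.last d)) := by
          rw [hkey]
          ring
      _ ≤ (∏ i : Fin d, Nat.card ↥(T i.castSucc)) * Nat.card ↥(T (Fin.last d)) :=
          Nat.mul_le_mul_right _ hih

/-- (ACC1) counting a sum of subgroups with lower bounds on the successive meets. -/
theorem card_mul_prod_le {M : Type*} [AddCommGroup M] [Finite M] {d : ℕ}
    (T : Fin d → AddSubgroup M) (hT : ⨆ i, T i = ⊤) (c : Fin d → ℕ)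
    (hc : ∀ i, c i ≤ Nat.card ↥(T i ⊓ ⨆ l : {l : Fin d // l < i}, T (l : Fin d))) :
    Nat.card M * ∏ i, c i ≤ ∏ i, Nat.card ↥(T i) := by
  have h := ACC1_gen d T c hc
  rwa [hT, AddSubgroup.card_top] at h

end Cfsg.Agent.Helper68.VL
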