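import Mathlib
import Cfsg.Agent.Helper46.RSp.Defs
import Cfsg.Agent.Helper1.RSpUWP
import Cfsg.Agent.Helper67.RSpUWA2

/-!
# (ITER) for helper46's S2281 (n ≥ 3) farm (#10461): two consequences of `NU_iter_top`.
-/

set_option autoImplicit false
set_option linter.unusedSectionVars false
set_option linter.unusedVariables false

namespace Cfsg.Agent.Helper68.RSp

open Matrix Cfsg.Agent.Helper13 Cfsg.Agent.Helper46.RSp

variable {K : Type*} [Field K] {j : ℕ}

local notation "Vec" => (Fin (j + 3) ⊕ Fin (j + 3) → K)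
local notation "Mat" => Matrix (Fin (j + 3) ⊕ Fin (j + 3)) (Fin (j + 3) ⊕ Fin (j + 3)) K
local notation "Mk" => Matrix (Fin (j + 3)) (Fin (j + 3)) K
local notation "SpG" => Matrix.symplecticGroup (Fin (j + 3)) K
local notation "B" => Cfsg.sympForm (j + 3) K

theorem i1_ne_i2 : (i1 : Fin (j + 3)) ≠ i2 := by
  intro h
  have := congrArg Fin.val h
  simp [i1, i2] at this

theorem i2_ne_i3 : (i2 : Fin (j + 3)) ≠ i3 := by
  intro h
  have := congrArg Fin.val h
  simp [i2, i3] at this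

theorem i1_ne_i3 : (i1 : Fin (j + 3)) ≠ i3 := by
  intro h
  have := congrArg Fin.val h
  simp [i1, i3] at this

theorem NU_smul (c t : K) (x : Vec) : NU c (t • x) = t • NU c x := by
  unfold NU
  rw [Matrix.mulVec_smul, smul_sub]

theorem NU_iter_Y (c s₁ : K) :
    (NU c)^[2 * j + 3] (-bF i2 - s₁ • bE i2 : Vec) = ((-1 : K) ^ j * c) • bE i2 := by
  have hx : InV' (-bF i2 - s₁ • bE i2 : Vec) := by
    constructor
    · simp [bF_apply_inl, bE_apply_inl, i1_ne_i2]
    · simp [bF_apply_inr, bE_apply_inr, i1_ne_i2]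
  rw [Cfsg.Agent.Helper1.RSp.NU_iter_top c _ hx]
  congr 1
  simp [bF_apply_inr, bE_apply_inr]
  ring

theorem NU_iter_f3 (c t : K) : (NU c)^[2 * j + 2] (t • bF i3 : Vec) = ((-1 : K) ^ j * c * t) • bE i2 := by
  have h1 : NU c ((-t) • bF i2 : Vec) = t • bF i3 := by
    rw [NU_smul]
    unfold NU
    rw [Cfsg.Agent.Helper67.RSp.UWM_bF c i2 (by simp [i2]) (by simp [i2])]
    have : (⟨(i2 : Fin (j + 3)).val + 1, by simp [i2]⟩ : Fin (j + 3)) = i3 := by
      apply Fin.ext; simp [i2, i3]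
    rw [this]
    module
  have hx : InV' ((-t) • bF i2 : Vec) := by
    constructor
    · simp [bF_apply_inl]
    · simp [bF_apply_inr, i1_ne_i2]
  have h2 := Cfsg.Agent.Helper1.RSp.NU_iter_top c ((-t) • bF i2 : Vec) hx
  rw [show 2 * j + 3 = (2 * j + 2) + 1 from rfl, Function.iterate_succ_apply, h1] at h2
  rw [h2]
  congr 1
  simp [bF_apply_inr]
  ring

end Cfsg.Agent.Helper68.RSp
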