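import Mathlib
import Cfsg.Agent.Helper46.RSp.Defs
import Cfsg.Agent.Helper1.RSpUWP
import Cfsg.Agent.Helper67.RSpUWA2
import Cfsg.Agent.Helper66.RSpSTEP
import Cfsg.Agent.Helper22.RSpCHAINK

/-!
# (TOPG) for helper46's S2281 (n ≥ 3) farm (#10462): the top of a chain is pure.
-/

set_option autoImplicit false
set_option linter.unusedSectionVars false
set_option linter.unusedVariables false

namespace Cfsg.Agent.Helper68.RSp

open Matrix Cfsg.Agent.Helper13 Cfsg.Agent.Helper46.RSp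

variable {K : Type*} [Field K] {j : ℕ}

local notation "Vec" => (Fin (j + 3) ⊕ Fin (j + 3) → K)
local notation "Mat" => Matrix (Fin (j + 3) ⊕ Fin (j + 3)) (Fin (j + 3) ⊕ Fin (j + 3)) K
local notation "Mk" => Matrix (Fin (j + 3)) (Fin (j + 3)) K
local notation "SpG" => Matrix.symplecticGroup (Fin (j + 3)) K
local notation "B" => Cfsg.sympForm (j + 3) K

theorem topg_iter_inV' (c : K) (k : ℕ) (y : Vec) (hy : InV' y) : InV' ((NU c)^[k] y) := by
  induction k with
  | zero => simpa using hy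
  | succ k ih =>
    rw [Function.iterate_succ_apply']
    exact Cfsg.Agent.Helper1.RSp.NU_inV' c _ ih

theorem topg_form_w {w : Vec} (hw : w = bE i1 ∨ w = bF i1) {x : Vec} (hx : InV' x) : B x w = 0 := by
  rcases hw with rfl | rfl
  · rw [form_bE_right]; exact hx.2
  · rw [form_bF_right, hx.1, neg_zero]

theorem topg_UWM_w (c : K) {w : Vec} (hw : w = bE i1 ∨ w = bF i1) : UWM c *ᵥ w = w := by
  rcases hw with rfl | rfl
  · exact Cfsg.Agent.Helper67.RSp.UWM_bE1 c
  · exact Cfsg.Agent.Helper67.RSp.UWM_bF1 c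

theorem hasM_pure_of_iter (c : K) {H : Subgroup SpG} (hUW : HasM H (UWM c)) {w : Vec}
    (hw : w = bE i1 ∨ w = bF i1) (k : ℕ) {y : Vec} (hy : InV' y) {z a : K} (hE : HasM H (eichS w y z))
    (hk : (NU c)^[k + 2] y = a • bE i2) : HasM H (eichS w (a • bE i2) 0) := by
  obtain ⟨z', hz'⟩ := Cfsg.Agent.Helper22.RSp.hasM_chain_iter c hUW hw (k + 1) hy hE
  set y1 : Vec := (NU c)^[k + 1] y with hy1
  have hy1V : InV' y1 := topg_iter_inV' c (k + 1) y hy
  have hstep := Cfsg.Agent.Helper66.RSp.hasM_step hUW (topg_UWM_w c hw) (topg_form_w hw hy1V) hz'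
  have hNU : UWM c *ᵥ y1 - y1 = a • bE i2 := by
    have : NU c y1 = (NU c)^[k + 2] y := by
      rw [hy1, ← Function.iterate_succ_apply' (NU c) (k + 1) y]
    rw [← hk, ← this]
    rfl
  have hy1f2 : y1 (Sum.inr i2) = 0 := by
    rw [hy1, Function.iterate_succ_apply']
    exact Cfsg.Agent.Helper1.RSp.NU_apply_f2 c _
  have hcentre : -(B y1 (UWM c *ᵥ y1)) = 0 := by
    have e : UWM c *ᵥ y1 = y1 + a • bE i2 := by
      rw [← hNU]; abel
    rw [e, sympForm_add_right, sympForm_self, zero_add, sympForm_smul_right, form_bE_right, hy1f2,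
      mul_zero, neg_zero]
  rw [hNU, hcentre] at hstep
  exact hstep

end Cfsg.Agent.Helper68.RSp
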