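import Mathlib
import Cfsg.Agent.Helper46.RSp.Defs
import Cfsg.Agent.Helper29.RSpKACT
import Cfsg.Agent.Helper68.RSpITER
import Cfsg.Agent.Helper68.RSpTOPG

/-!
# (P2) for helper46's S2281 (n ≥ 3) farm (#10462): all pure `E(w, t e_2, 0)`.
-/

set_option autoImplicit false
set_option linter.unusedSectionVars false
set_option linter.unusedVariables false

namespace Cfsg.Agent.Helper68.RSp

open Matrix Cfsg.Agent.Helper13 Cfsg.Agent.Helper46.RSp

variable {K : Type*} [Field K] {j : ℕ}

local notation "Vec" => (Fin (j + 3) ⊕ Fin (j + 3) → K)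
local notation "Mat" => Matrix (Fin (j + 3) ⊕ Fin (j + 3)) (Fin (j + 3) ⊕ Fin (j + 3)) K
local notation "Mk" => Matrix (Fin (j + 3)) (Fin (j + 3)) K
local notation "SpG" => Matrix.symplecticGroup (Fin (j + 3)) K
local notation "B" => Cfsg.sympForm (j + 3) K

theorem p2_inV'_e2 (t : K) : InV' (t • bE i2 : Vec) := by
  constructor
  · simp [bE_apply_inl, i1_ne_i2]
  · simp [bE_apply_inr]

theorem p2_inV'_f3 (t : K) : InV' (t • bF i3 : Vec) := by
  constructor
  · simp [bF_apply_inl]
  · simp [bF_apply_inr, i1_ne_i3]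

theorem pure_e2_step (c : K) {H : Subgroup SpG} (hUW : HasM H (UWM c)) (hk2 : HasM H k2M) {w : Vec}
    (hw : w = bE i1 ∨ w = bF i1) {t : K} (hE : HasM H (eichS w (t • bE i2) 0)) :
    HasM H (eichS w ((c * t) • bE i2) 0) := by
  have hBe2 : B (t • bE i2 : Vec) w = 0 := topg_form_w hw (p2_inV'_e2 t)
  -- conjugate by `k2M`
  have h1 := hasM_conj_eichS hk2 hE
  rw [Cfsg.Agent.Helper29.RSp.k2M_fix hw, Matrix.mulVec_smul, Cfsg.Agent.Helper29.RSp.k2M_bE2] at h1
  -- multiply by the inverse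
  have h2 := HasM.eichS_inv hBe2 hE
  have hB1 : B (t • (bE i2 + bF i3) : Vec) w = 0 := by
    have : (t • (bE i2 + bF i3) : Vec) = t • bE i2 + t • bF i3 := smul_add _ _ _
    rw [this, sympForm_add_left, hBe2, topg_form_w hw (p2_inV'_f3 t), add_zero]
  have hB2 : B (-(t • bE i2) : Vec) w = 0 := by
    rw [sympForm_neg_left, hBe2, neg_zero]
  have h3 := h1.mul h2
  rw [eichS_mul _ _ hB1 hB2] at h3
  have e1 : (t • (bE i2 + bF i3) + -(t • bE i2) : Vec) = t • bF i3 := by module
  have e2 : (0 : K) + -0 + B (-(t • bE i2) : Vec) (t • (bE i2 + bF i3)) = 0 := by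
    rw [sympForm_neg_left, sympForm_smul_left, sympForm_smul_right, sympForm_add_right, sympForm_self,
      form_bE_left, bF_apply_inr, if_neg i2_ne_i3]
    ring
  rw [e1, e2] at h3
  -- the top of the chain
  have h4 := hasM_pure_of_iter c hUW hw (2 * j) (p2_inV'_f3 t) h3 (NU_iter_f3 c t)
  rcases neg_one_pow_eq_or K j with hs | hs
  · rw [hs, one_mul] at h4
    exact h4
  · rw [hs] at h4
    have hB3 : B ((-1 * c * t) • bE i2 : Vec) w = 0 := topg_form_w hw (p2_inV'_e2 _)
    have h5 := HasM.eichS_inv hB3 h4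
    have e3 : (-((-1 * c * t) • bE i2) : Vec) = (c * t) • bE i2 := by module
    rw [e3, neg_zero] at h5
    exact h5

theorem pure_e2_all (c : K) (hc : c ≠ 0)
    (hgen : ∀ A : AddSubgroup K, (∀ x ∈ A, c * x ∈ A) → (1 : K) ∈ A → A = ⊤) {H : Subgroup SpG}
    (hUW : HasM H (UWM c)) (hk2 : HasM H k2M) {w : Vec} (hw : w = bE i1 ∨ w = bF i1) {t₀ : K} (ht₀ : t₀ ≠ 0)
    (h0 : HasM H (eichS w (t₀ • bE i2) 0)) : ∀ t : K, HasM H (eichS w (t • bE i2) 0) := by
  have hBe2 : ∀ t : K, B (t • bE i2 : Vec) w = 0 := fun t => topg_form_w hw (p2_inV'_e2 t)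
  let A : AddSubgroup K :=
    { carrier := {t | HasM H (eichS w ((t₀ * t) • bE i2) 0)}
      zero_mem' := by
        show HasM H (eichS w ((t₀ * 0) • bE i2) 0)
        rw [mul_zero, zero_smul, eichS_zero_zero]
        exact HasM.one H
      add_mem' := by
        intro a b ha hb
        show HasM H (eichS w ((t₀ * (a + b)) • bE i2) 0)
        have ha' : HasM H (eichS w ((t₀ * a) • bE i2) 0) := ha
        have hb' : HasM H (eichS w ((t₀ * b) • bE i2) 0) := hb
        have h := ha'.mul hb'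
        rw [eichS_mul _ _ (hBe2 _) (hBe2 _)] at h
        have e1 : ((t₀ * a) • bE i2 + (t₀ * b) • bE i2 : Vec) = (t₀ * (a + b)) • bE i2 := by module
        have e2 : (0 : K) + 0 + B ((t₀ * b) • bE i2 : Vec) ((t₀ * a) • bE i2) = 0 := by
          rw [sympForm_smul_left, sympForm_smul_right, sympForm_self]
          ring
        rw [e1, e2] at h
        exact h
      neg_mem' := by
        intro a ha
        show HasM H (eichS w ((t₀ * -a) • bE i2) 0)
        have ha' : HasM H (eichS w ((t₀ * a) • bE i2) 0) := ha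
        have h := HasM.eichS_inv (hBe2 _) ha'
        have e1 : (-((t₀ * a) • bE i2) : Vec) = (t₀ * -a) • bE i2 := by module
        rw [e1, neg_zero] at h
        exact h }
  have hA1 : (1 : K) ∈ A := by
    show HasM H (eichS w ((t₀ * 1) • bE i2) 0)
    rw [mul_one]; exact h0
  have hAc : ∀ x ∈ A, c * x ∈ A := by
    intro x hx
    have hx' : HasM H (eichS w ((t₀ * x) • bE i2) 0) := hx
    show HasM H (eichS w ((t₀ * (c * x)) • bE i2) 0)
    have h := pure_e2_step c hUW hk2 hw hx'
    have e : c * (t₀ * x) = t₀ * (c * x) := by ring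
    rw [e] at h
    exact h
  have hAtop := hgen A hAc hA1
  intro t
  have ht : t / t₀ ∈ A := by rw [hAtop]; exact AddSubgroup.mem_top _
  have ht' : HasM H (eichS w ((t₀ * (t / t₀)) • bE i2) 0) := ht
  have e : t₀ * (t / t₀) = t := by field_simp
  rw [e] at ht'
  exact ht'

end Cfsg.Agent.Helper68.RSp
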