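import Mathlib
import Cfsg.Agent.Helper91.J2A
import Cfsg.Agent.Helper91.J2B

/-!
# J2 icosian cluster, piece (J2-C) (helper68 for helper7): perm-level structure of `twoJ2`
-/

set_option autoImplicit false

open Quaternion Cfsg.Spor Cfsg.Agent.Helper7.J2 Cfsg.Agent.Helper91.J2A Cfsg.Agent.Helper91.J2B

namespace Cfsg.Agent.Helper68.J2C

/-- the reflection in a minimal vector, as a permutation of the lattice -/
noncomputable def reflPerm (r : Fin 3 → ℍ[ℝ]) (hr : r ∈ icoLeech) (h4 : qip r r = 4) :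
    Equiv.Perm icoLeech where
  toFun x := ⟨qrefl r x.1, qrefl_mem hr h4 x.2⟩
  invFun x := ⟨qrefl r x.1, qrefl_mem hr h4 x.2⟩
  left_inv x := Subtype.ext (qrefl_qrefl r x.1 h4)
  right_inv x := Subtype.ext (qrefl_qrefl r x.1 h4)

theorem reflPerm_apply (r : Fin 3 → ℍ[ℝ]) (hr : r ∈ icoLeech) (h4 : qip r r = 4) (x : icoLeech) :
    ((reflPerm r hr h4 x : icoLeech) : Fin 3 → ℍ[ℝ]) = qrefl r x := rfl

theorem isIcoReflection_reflPerm (r : Fin 3 → ℍ[ℝ]) (hr : r ∈ icoLeech) (h4 : qip r r = 4) :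
    IsIcoReflection (reflPerm r hr h4) :=
  ⟨⟨r, hr⟩, h4, fun _ => rfl⟩

theorem eq_reflPerm_of_isIcoReflection {f : Equiv.Perm icoLeech} (hf : IsIcoReflection f) :
    ∃ r hr h4, f = reflPerm r hr h4 := by
  obtain ⟨r, h4, hf⟩ := hf
  refine ⟨r.1, r.2, h4, ?_⟩
  apply Equiv.ext
  intro x
  apply Subtype.ext
  rw [hf x, reflPerm_apply]

theorem reflPerm_mem_twoJ2 (r : Fin 3 → ℍ[ℝ]) (hr : r ∈ icoLeech) (h4 : qip r r = 4) :
    reflPerm r hr h4 ∈ twoJ2 :=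
  Subgroup.subset_closure (isIcoReflection_reflPerm r hr h4)

theorem reflPerm_mul_self (r : Fin 3 → ℍ[ℝ]) (hr : r ∈ icoLeech) (h4 : qip r r = 4) :
    reflPerm r hr h4 * reflPerm r hr h4 = 1 := by
  apply Equiv.ext
  intro x
  apply Subtype.ext
  rw [Equiv.Perm.mul_apply, reflPerm_apply, reflPerm_apply, Equiv.Perm.one_apply]
  exact qrefl_qrefl r x.1 h4

theorem reflPerm_unit_lsmul (u : ℍ[ℝ]) (hu : u ∈ icosians) (hu1 : u * star u = 1)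
    (r : Fin 3 → ℍ[ℝ]) (hr : r ∈ icoLeech) (h4 : qip r r = 4) (hr' : lsmul u r ∈ icoLeech)
    (h4' : qip (lsmul u r) (lsmul u r) = 4) :
    reflPerm (lsmul u r) hr' h4' = reflPerm r hr h4 := by
  apply Equiv.ext
  intro x
  apply Subtype.ext
  rw [reflPerm_apply, reflPerm_apply]
  exact qrefl_unit_lsmul u r x.1 hu1

/-- additivity, `I`-linearity and isometry, on the lattice -/
def IsLin (g : Equiv.Perm icoLeech) : Prop :=
  (∀ (x y : icoLeech) (hxy : (x : Fin 3 → ℍ[ℝ]) + y ∈ icoLeech),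
    ((g ⟨_, hxy⟩ : icoLeech) : Fin 3 → ℍ[ℝ]) = g x + g y) ∧
  (∀ a ∈ icosians, ∀ (x : icoLeech) (hax : lsmul a (x : Fin 3 → ℍ[ℝ]) ∈ icoLeech),
    ((g ⟨_, hax⟩ : icoLeech) : Fin 3 → ℍ[ℝ]) = lsmul a (g x)) ∧
  (∀ x y : icoLeech, qip (g x : Fin 3 → ℍ[ℝ]) (g y) = qip (x : Fin 3 → ℍ[ℝ]) y)

theorem val_congr (g : Equiv.Perm icoLeech) {a b : Fin 3 → ℍ[ℝ]} (ha : a ∈ icoLeech)
    (hb : b ∈ icoLeech) (h : a = b) :
    ((g ⟨a, ha⟩ : icoLeech) : Fin 3 → ℍ[ℝ]) = g ⟨b, hb⟩ := by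
  subst h; rfl

theorem apply_inv' (g : Equiv.Perm icoLeech) (x : icoLeech) : g (g⁻¹ x) = x :=
  g.apply_symm_apply x

theorem isLin_one : IsLin 1 :=
  ⟨fun _ _ _ => rfl, fun _ _ _ _ => rfl, fun _ _ => rfl⟩

theorem isLin_of_isIcoReflection {f : Equiv.Perm icoLeech} (hf : IsIcoReflection f) :
    IsLin f := by
  obtain ⟨r, h4, hf⟩ := hf
  refine ⟨fun x y hxy => ?_, fun a ha x hax => ?_, fun x y => ?_⟩
  · rw [hf, hf, hf]; exact qrefl_add _ _ _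
  · rw [hf, hf]; exact qrefl_lsmul _ _ _
  · rw [hf, hf]; exact qip_qrefl _ _ _ h4

theorem IsLin.mul {g h : Equiv.Perm icoLeech} (hg : IsLin g) (hh : IsLin h) : IsLin (g * h) := by
  refine ⟨fun x y hxy => ?_, fun a ha x hax => ?_, fun x y => ?_⟩
  · have e : h ⟨_, hxy⟩ = ⟨(h x).1 + (h y).1, icoLeech_add (h x).2 (h y).2⟩ :=
      Subtype.ext (hh.1 x y hxy)
    rw [Equiv.Perm.mul_apply, Equiv.Perm.mul_apply, Equiv.Perm.mul_apply, e]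
    exact hg.1 (h x) (h y) _
  · have e : h ⟨_, hax⟩ = ⟨lsmul a (h x).1, icoLeech_lsmul ha (h x).2⟩ :=
      Subtype.ext (hh.2.1 a ha x hax)
    rw [Equiv.Perm.mul_apply, Equiv.Perm.mul_apply, e]
    exact hg.2.1 a ha (h x) _
  · rw [Equiv.Perm.mul_apply, Equiv.Perm.mul_apply, hg.2.2, hh.2.2]

theorem IsLin.inv {g : Equiv.Perm icoLeech} (hg : IsLin g) : IsLin g⁻¹ := by
  refine ⟨fun x y hxy => ?_, fun a ha x hax => ?_, fun x y => ?_⟩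
  · have hm : (g⁻¹ x).1 + (g⁻¹ y).1 ∈ icoLeech := icoLeech_add (g⁻¹ x).2 (g⁻¹ y).2
    have e : g⁻¹ ⟨_, hxy⟩ = ⟨(g⁻¹ x).1 + (g⁻¹ y).1, hm⟩ := by
      rw [Equiv.Perm.inv_eq_iff_eq]
      apply Subtype.ext
      rw [hg.1 (g⁻¹ x) (g⁻¹ y) hm, apply_inv', apply_inv']
    rw [e]
  · have hm : lsmul a (g⁻¹ x).1 ∈ icoLeech := icoLeech_lsmul ha (g⁻¹ x).2
    have e : g⁻¹ ⟨_, hax⟩ = ⟨lsmul a (g⁻¹ x).1, hm⟩ := by
      rw [Equiv.Perm.inv_eq_iff_eq]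
      apply Subtype.ext
      rw [hg.2.1 a ha (g⁻¹ x) hm, apply_inv']
    rw [e]
  · have h := hg.2.2 (g⁻¹ x) (g⁻¹ y)
    rw [apply_inv', apply_inv'] at h
    exact h.symm

theorem isLin_of_mem_twoJ2 {g : Equiv.Perm icoLeech} (hg : g ∈ twoJ2) : IsLin g := by
  unfold twoJ2 at hg
  induction hg using Subgroup.closure_induction with
  | mem x hx => exact isLin_of_isIcoReflection hx
  | one => exact isLin_one
  | mul x y _ _ hx hy => exact hx.mul hy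
  | inv x _ hx => exact hx.inv

theorem neg_one_mem_icosians : (-1 : ℍ[ℝ]) ∈ icosians := icosians.neg_mem icosians.one_mem

theorem lsmul_neg_one (x : Fin 3 → ℍ[ℝ]) : lsmul (-1) x = -x := by
  funext t
  simp [lsmul_apply]

theorem lsmul_neg (a : ℍ[ℝ]) (x : Fin 3 → ℍ[ℝ]) : lsmul (-a) x = -lsmul a x := by
  funext t
  simp [lsmul_apply]

theorem IsLin.map_neg {g : Equiv.Perm icoLeech} (hg : IsLin g) (x : icoLeech)
    (hnx : -(x : Fin 3 → ℍ[ℝ]) ∈ icoLeech) :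
    ((g ⟨_, hnx⟩ : icoLeech) : Fin 3 → ℍ[ℝ]) = -(g x : Fin 3 → ℍ[ℝ]) := by
  have hm : lsmul (-1) (x : Fin 3 → ℍ[ℝ]) ∈ icoLeech := by rw [lsmul_neg_one]; exact hnx
  rw [val_congr g hnx hm (lsmul_neg_one _).symm, hg.2.1 (-1) neg_one_mem_icosians x hm,
    lsmul_neg_one]

theorem conj_reflPerm {g : Equiv.Perm icoLeech} (hg : g ∈ twoJ2) (r : Fin 3 → ℍ[ℝ])
    (hr : r ∈ icoLeech) (h4 : qip r r = 4) :
    ∃ hr' h4', g * reflPerm r hr h4 * g⁻¹ =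
      reflPerm ((g ⟨r, hr⟩ : icoLeech) : Fin 3 → ℍ[ℝ]) hr' h4' := by
  have hl := isLin_of_mem_twoJ2 hg
  have h4' : qip ((g ⟨r, hr⟩ : icoLeech) : Fin 3 → ℍ[ℝ]) (g ⟨r, hr⟩) = 4 := by
    rw [hl.2.2]; exact h4
  refine ⟨(g ⟨r, hr⟩).2, h4', ?_⟩
  apply Equiv.ext
  intro x
  apply Subtype.ext
  rw [Equiv.Perm.mul_apply, Equiv.Perm.mul_apply, reflPerm_apply]
  set y : icoLeech := g⁻¹ x with hy
  have hgy : g y = x := by rw [hy, apply_inv']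
  obtain ⟨a, ha, hqa⟩ := qip_mem_two y.2 hr
  have hhalf : (1 / 2 : ℝ) • qip (y : Fin 3 → ℍ[ℝ]) r = a := by
    rw [hqa, ← two_smul ℝ a, smul_smul]
    norm_num
  -- the right-hand side
  have hq : qip (x : Fin 3 → ℍ[ℝ]) (g ⟨r, hr⟩) = qip (y : Fin 3 → ℍ[ℝ]) r := by
    rw [← hgy, hl.2.2]
  rw [qrefl_eq, hq, hhalf]
  -- the left-hand side
  have hna : -a ∈ icosians := icosians.neg_mem ha
  have hm1 : lsmul (-a) r ∈ icoLeech := icoLeech_lsmul hna hr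
  have hm2 : (y : Fin 3 → ℍ[ℝ]) + lsmul (-a) r ∈ icoLeech := icoLeech_add y.2 hm1
  have hry : reflPerm r hr h4 y = ⟨(y : Fin 3 → ℍ[ℝ]) + lsmul (-a) r, hm2⟩ := by
    apply Subtype.ext
    show qrefl r (y : Fin 3 → ℍ[ℝ]) = (y : Fin 3 → ℍ[ℝ]) + lsmul (-a) r
    rw [qrefl_eq, hhalf, lsmul_neg, sub_eq_add_neg]
  rw [hry, hl.1 y ⟨_, hm1⟩ hm2, hl.2.1 (-a) hna ⟨r, hr⟩ hm1, hgy, lsmul_neg, sub_eq_add_neg]

/-- the frame vectors `2 e_t` -/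
noncomputable def E (t : Fin 3) : Fin 3 → ℍ[ℝ] := Pi.single t 2

theorem two_mem_icosians : (2 : ℍ[ℝ]) ∈ icosians := by
  have : (2 : ℍ[ℝ]) = 1 + 1 := by norm_num
  rw [this]; exact icosians.add_mem icosians.one_mem icosians.one_mem

theorem two_mem_leftIdeal : (2 : ℍ[ℝ]) ∈ leftIdeal icoH :=
  ⟨star icoH, star_icoH_mem, star_icoH_mul.symm⟩

theorem neg_two_mem_leftIdeal : (-2 : ℍ[ℝ]) ∈ leftIdeal icoH := leftIdeal_neg two_mem_leftIdeal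

theorem zero_mem_leftIdeal (q : ℍ[ℝ]) : (0 : ℍ[ℝ]) ∈ leftIdeal q :=
  ⟨0, icosians.zero_mem, (zero_mul q).symm⟩

theorem two_mem_leftIdeal_star : (2 : ℍ[ℝ]) ∈ leftIdeal (star icoH) :=
  ⟨icoH, icoH_mem, icoH_mul_star.symm⟩

theorem E_mem (t : Fin 3) : E t ∈ icoLeech := by
  refine ⟨fun s => ?_, ?_, ?_, ?_⟩
  · unfold E
    rw [Pi.single_apply]
    split_ifs
    · exact two_mem_icosians
    · exact icosians.zero_mem
  · fin_cases t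
    · have : E 0 0 - E 0 1 = 2 := by simp [E]
      show E 0 0 - E 0 1 ∈ leftIdeal icoH
      rw [this]; exact two_mem_leftIdeal
    · have : E 1 0 - E 1 1 = -2 := by simp [E]
      show E 1 0 - E 1 1 ∈ leftIdeal icoH
      rw [this]; exact neg_two_mem_leftIdeal
    · have : E 2 0 - E 2 1 = 0 := by simp [E]
      show E 2 0 - E 2 1 ∈ leftIdeal icoH
      rw [this]; exact zero_mem_leftIdeal _
  · fin_cases t
    · have : E 0 1 - E 0 2 = 0 := by simp [E]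
      show E 0 1 - E 0 2 ∈ leftIdeal icoH
      rw [this]; exact zero_mem_leftIdeal _
    · have : E 1 1 - E 1 2 = 2 := by simp [E]
      show E 1 1 - E 1 2 ∈ leftIdeal icoH
      rw [this]; exact two_mem_leftIdeal
    · have : E 2 1 - E 2 2 = -2 := by simp [E]
      show E 2 1 - E 2 2 ∈ leftIdeal icoH
      rw [this]; exact neg_two_mem_leftIdeal
  · have : E t 0 + E t 1 + E t 2 = 2 := by
      fin_cases t <;> simp [E]
    rw [this]; exact two_mem_leftIdeal_star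

theorem qip_E_right (x : Fin 3 → ℍ[ℝ]) (t : Fin 3) : qip x (E t) = x t * 2 := by
  unfold qip E
  rw [Finset.sum_eq_single t]
  · rw [Pi.single_eq_same]
    congr 1
    rw [show (2 : ℍ[ℝ]) = ((2 : ℝ) : ℍ[ℝ]) by norm_cast, Quaternion.star_coe]
  · intro s _ hs
    rw [Pi.single_eq_of_ne hs, star_zero, mul_zero]
  · intro h; exact absurd (Finset.mem_univ t) h

theorem qip_E (t : Fin 3) : qip (E t) (E t) = 4 := by
  rw [qip_E_right]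
  unfold E
  rw [Pi.single_eq_same]
  norm_num

theorem half_smul_mul_two (a : ℍ[ℝ]) : (1 / 2 : ℝ) • (a * 2) = a := by
  rw [mul_two, ← two_smul ℝ a, smul_smul]
  norm_num

theorem qrefl_E_same (x : Fin 3 → ℍ[ℝ]) (t : Fin 3) : qrefl (E t) x t = -(x t) := by
  unfold qrefl
  rw [qip_E_right, half_smul_mul_two]
  unfold E
  rw [Pi.single_eq_same, mul_two]
  abel

theorem qrefl_E_of_ne (x : Fin 3 → ℍ[ℝ]) {t s : Fin 3} (h : s ≠ t) : qrefl (E t) x s = x s := by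
  unfold qrefl
  unfold E
  rw [Pi.single_eq_of_ne h, mul_zero, sub_zero]

/-- twice a lattice vector, in terms of the frame -/
theorem add_self_eq_frame (x : Fin 3 → ℍ[ℝ]) :
    x + x = lsmul (x 0) (E 0) + lsmul (x 1) (E 1) + lsmul (x 2) (E 2) := by
  funext s
  fin_cases s <;> simp [E, lsmul_apply, mul_two]

theorem IsLin.frame {g : Equiv.Perm icoLeech} (hg : IsLin g) (x : icoLeech) :
    (g x : Fin 3 → ℍ[ℝ]) + g x =
      lsmul ((x : Fin 3 → ℍ[ℝ]) 0) (g ⟨E 0, E_mem 0⟩) +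
        lsmul ((x : Fin 3 → ℍ[ℝ]) 1) (g ⟨E 1, E_mem 1⟩) +
        lsmul ((x : Fin 3 → ℍ[ℝ]) 2) (g ⟨E 2, E_mem 2⟩) := by
  have hl0 : lsmul ((x : Fin 3 → ℍ[ℝ]) 0) (E 0) ∈ icoLeech := icoLeech_lsmul (x.2.1 0) (E_mem 0)
  have hl1 : lsmul ((x : Fin 3 → ℍ[ℝ]) 1) (E 1) ∈ icoLeech := icoLeech_lsmul (x.2.1 1) (E_mem 1)
  have hl2 : lsmul ((x : Fin 3 → ℍ[ℝ]) 2) (E 2) ∈ icoLeech := icoLeech_lsmul (x.2.1 2) (E_mem 2)
  have h01 := icoLeech_add hl0 hl1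
  have h012 := icoLeech_add h01 hl2
  have hxx : (x : Fin 3 → ℍ[ℝ]) + x ∈ icoLeech := icoLeech_add x.2 x.2
  rw [← hg.1 x x hxx, val_congr g hxx h012 (add_self_eq_frame _),
    hg.1 ⟨_, h01⟩ ⟨_, hl2⟩ h012, hg.1 ⟨_, hl0⟩ ⟨_, hl1⟩ h01,
    hg.2.1 _ (x.2.1 0) ⟨E 0, E_mem 0⟩ hl0, hg.2.1 _ (x.2.1 1) ⟨E 1, E_mem 1⟩ hl1,
    hg.2.1 _ (x.2.1 2) ⟨E 2, E_mem 2⟩ hl2]

theorem eq_of_add_self_eq {a b : Fin 3 → ℍ[ℝ]} (h : a + a = b + b) : a = b := by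
  have h2 : (2 : ℝ) • a = (2 : ℝ) • b := by rw [two_smul, two_smul, h]
  exact smul_right_injective _ (two_ne_zero) h2

theorem ext_of_frame {g g' : Equiv.Perm icoLeech} (hg : g ∈ twoJ2) (hg' : g' ∈ twoJ2)
    (h : ∀ t, g ⟨E t, E_mem t⟩ = g' ⟨E t, E_mem t⟩) : g = g' := by
  have hl := isLin_of_mem_twoJ2 hg
  have hl' := isLin_of_mem_twoJ2 hg'
  apply Equiv.ext
  intro x
  apply Subtype.ext
  apply eq_of_add_self_eq
  rw [hl.frame x, hl'.frame x, h 0, h 1, h 2]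

theorem exists_neg_one :
    ∃ z ∈ twoJ2, ∀ x : icoLeech, ((z x : icoLeech) : Fin 3 → ℍ[ℝ]) = -(x : Fin 3 → ℍ[ℝ]) := by
  refine ⟨reflPerm (E 0) (E_mem 0) (qip_E 0) * reflPerm (E 1) (E_mem 1) (qip_E 1) *
    reflPerm (E 2) (E_mem 2) (qip_E 2), ?_, ?_⟩
  · exact twoJ2.mul_mem (twoJ2.mul_mem (reflPerm_mem_twoJ2 _ _ _) (reflPerm_mem_twoJ2 _ _ _))
      (reflPerm_mem_twoJ2 _ _ _)
  · intro x
    rw [Equiv.Perm.mul_apply, Equiv.Perm.mul_apply, reflPerm_apply, reflPerm_apply,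
      reflPerm_apply]
    funext s
    fin_cases s
    · show qrefl (E 0) (qrefl (E 1) (qrefl (E 2) x)) 0 = -(x : Fin 3 → ℍ[ℝ]) 0
      rw [qrefl_E_same, qrefl_E_of_ne _ (by decide), qrefl_E_of_ne _ (by decide)]
    · show qrefl (E 0) (qrefl (E 1) (qrefl (E 2) x)) 1 = -(x : Fin 3 → ℍ[ℝ]) 1
      rw [qrefl_E_of_ne _ (by decide), qrefl_E_same, qrefl_E_of_ne _ (by decide)]
    · show qrefl (E 0) (qrefl (E 1) (qrefl (E 2) x)) 2 = -(x : Fin 3 → ℍ[ℝ]) 2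
      rw [qrefl_E_of_ne _ (by decide), qrefl_E_of_ne _ (by decide), qrefl_E_same]

theorem neg_one_mem_center {z : Equiv.Perm icoLeech} (hz : z ∈ twoJ2)
    (h : ∀ x : icoLeech, ((z x : icoLeech) : Fin 3 → ℍ[ℝ]) = -(x : Fin 3 → ℍ[ℝ])) :
    (⟨z, hz⟩ : twoJ2) ∈ Subgroup.center twoJ2 := by
  rw [Subgroup.mem_center_iff]
  intro g
  apply Subtype.ext
  show (g : Equiv.Perm icoLeech) * z = z * g
  have hl := isLin_of_mem_twoJ2 g.2
  apply Equiv.ext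
  intro x
  apply Subtype.ext
  rw [Equiv.Perm.mul_apply, Equiv.Perm.mul_apply, h]
  have hnx : -(x : Fin 3 → ℍ[ℝ]) ∈ icoLeech := icoLeech_neg x.2
  have e : z x = ⟨-(x : Fin 3 → ℍ[ℝ]), hnx⟩ := Subtype.ext (h x)
  rw [e, hl.map_neg x hnx]

theorem twoJ2_finite_of (S : Set (Fin 3 → ℍ[ℝ])) (hS : S.Finite)
    (h : ∀ r, r ∈ icoLeech → qip r r = 4 → r ∈ S) : Finite twoJ2 := by
  haveI : Finite S := hS.to_subtype
  have hmem : ∀ (g : twoJ2) (t : Fin 3),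
      (((g : Equiv.Perm icoLeech) ⟨E t, E_mem t⟩ : icoLeech) : Fin 3 → ℍ[ℝ]) ∈ S := by
    intro g t
    apply h _ (Subtype.property _)
    rw [(isLin_of_mem_twoJ2 g.2).2.2]
    exact qip_E t
  let f : twoJ2 → S × S × S := fun g => (⟨_, hmem g 0⟩, ⟨_, hmem g 1⟩, ⟨_, hmem g 2⟩)
  apply Finite.of_injective f
  intro g g' hgg
  apply Subtype.ext
  apply ext_of_frame g.2 g'.2
  intro t
  apply Subtype.ext
  have h0 := congrArg (fun p => (p.1 : Fin 3 → ℍ[ℝ])) hgg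
  have h1 := congrArg (fun p => (p.2.1 : Fin 3 → ℍ[ℝ])) hgg
  have h2 := congrArg (fun p => (p.2.2 : Fin 3 → ℍ[ℝ])) hgg
  fin_cases t
  · exact h0
  · exact h1
  · exact h2

end Cfsg.Agent.Helper68.J2C
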