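import Mathlib
import Cfsg.Agent.Helper58.PADefs

/-!
# S4016 (helper58), piece (C2) by helper68: the numerics `p = 3`, `#K = 4`, `K` of exponent 2
-/

set_option autoImplicit false

open Cfsg.Agent.Helper58.PA

namespace Cfsg.Agent.Helper68.PAC2

variable {G : Type*} [Group G] [Finite G]

section localFacts

variable {p : ℕ} [Fact p.Prime]

/-- `P ⊓ K = ⊥`, elementwise -/
theorem eq_one_of_mem_sylow_of_mem (P : Sylow p G) (K : Subgroup G) (hK : ¬ p ∣ Nat.card K)
    {y : G} (hyP : y ∈ (P : Subgroup G)) (hyK : y ∈ K) : y = 1 := by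
  obtain ⟨n, hn⟩ := (IsPGroup.iff_orderOf.mp P.isPGroup') ⟨y, hyP⟩
  rw [Subgroup.orderOf_mk] at hn
  have hdvd : orderOf y ∣ Nat.card K := Subgroup.orderOf_dvd_natCard K hyK
  rw [hn] at hdvd
  cases n with
  | zero => rwa [pow_zero, orderOf_eq_one_iff] at hn
  | succ n => exact absurd (dvd_trans (dvd_pow_self p (Nat.succ_ne_zero n)) hdvd) hK

/-- a `p`-element of `N_G(P)` lies in `P` -/
theorem mem_sylow_of_mem_normalizer (P : Sylow p G) {y : G}
    (hyM : y ∈ Subgroup.normalizer ((P : Subgroup G) : Set G))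
    (hy : ∃ n : ℕ, orderOf y = p ^ n) : y ∈ (P : Subgroup G) := by
  obtain ⟨n, hn⟩ := hy
  have h1 : IsPGroup p (Subgroup.zpowers y) :=
    IsPGroup.of_card (n := n) (by rw [Nat.card_zpowers, hn])
  have h2 : Subgroup.zpowers y ≤ Subgroup.normalizer ((P : Subgroup G) : Set G) :=
    Subgroup.zpowers_le.mpr hyM
  have h3 : IsPGroup p (Subgroup.zpowers y ⊔ (P : Subgroup G) : Subgroup G) :=
    h1.to_sup_of_normal_right' P.isPGroup' h2
  have h4 := P.is_maximal' h3 le_sup_right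
  have h5 : y ∈ Subgroup.zpowers y ⊔ (P : Subgroup G) :=
    Subgroup.mem_sup_left (Subgroup.mem_zpowers y)
  rw [h4] at h5
  exact h5

/-- (a): `K₀ ⊓ z K₀ z⁻¹ = ⊥` for `1 ≠ z ∈ Z` -/
theorem conj_K0_disjoint (P : Sylow p G) (K : Subgroup G) (hL : Loc p P K)
    (d : G) (hdK : d ∈ K) (hd1 : d ≠ 1)
    (Z : Subgroup G) (hZp : IsPGroup p Z) (hZK : Z ≤ Subgroup.normalizer (K : Set G))
    (hfrob : ∀ z ∈ Z, z ≠ 1 → ∀ w ∈ K, z * w = w * z → w = 1)
    {z : G} (hz : z ∈ Z) (hz1 : z ≠ 1) {w : G} (hwK : w ∈ K)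
    (hwc : w ∈ Subgroup.centralizer ((P : Subgroup G) : Set G)) (hw1 : w ≠ 1)
    (hzwc : z * w * z⁻¹ ∈ Subgroup.centralizer ((P : Subgroup G) : Set G)) : False := by
  have hzN : z ∈ Subgroup.normalizer (K : Set G) := hZK hz
  have hzwK : z * w * z⁻¹ ∈ K := (Subgroup.mem_normalizer_iff.mp hzN w).mp hwK
  have hzw1 : z * w * z⁻¹ ≠ 1 := fun h => hw1 (conj_eq_one_iff.mp h)
  have hC1 := hL.cent_K0 w hwK hwc hw1
  have hC2 := hL.cent_K0 (z * w * z⁻¹) hzwK hzwc hzw1
  have hconj1 : ∀ m ∈ Subgroup.normalizer ((P : Subgroup G) : Set G),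
      z * m * z⁻¹ ∈ Subgroup.normalizer ((P : Subgroup G) : Set G) := by
    intro m hm
    rw [← hC1] at hm
    rw [← hC2]
    rw [Subgroup.mem_centralizer_singleton_iff] at hm ⊢
    calc z * m * z⁻¹ * (z * w * z⁻¹) = z * (m * w) * z⁻¹ := by group
      _ = z * (w * m) * z⁻¹ := by rw [hm]
      _ = z * w * z⁻¹ * (z * m * z⁻¹) := by group
  have hconj2 : ∀ m ∈ Subgroup.normalizer ((P : Subgroup G) : Set G),
      z⁻¹ * m * z ∈ Subgroup.normalizer ((P : Subgroup G) : Set G) := by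
    intro m hm
    rw [← hC2] at hm
    rw [← hC1]
    rw [Subgroup.mem_centralizer_singleton_iff] at hm ⊢
    calc z⁻¹ * m * z * w = z⁻¹ * (m * (z * w * z⁻¹)) * z := by group
      _ = z⁻¹ * ((z * w * z⁻¹) * m) * z := by rw [hm]
      _ = w * (z⁻¹ * m * z) := by group
  have hPM : (P : Subgroup G) ≤ Subgroup.normalizer ((P : Subgroup G) : Set G) :=
    Subgroup.le_normalizer
  have hzM : z ∈ Subgroup.normalizer ((P : Subgroup G) : Set G) := by
    rw [Subgroup.mem_normalizer_iff]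
    intro x
    constructor
    · intro hx
      apply mem_sylow_of_mem_normalizer P (hconj1 x (hPM hx))
      obtain ⟨n, hn⟩ := IsPGroup.iff_orderOf.mp P.isPGroup' ⟨x, hx⟩
      refine ⟨n, ?_⟩
      rw [← hn, Subgroup.orderOf_mk]
      exact (MulAut.conj z).orderOf_eq x
    · intro hx
      have h1 : z⁻¹ * (z * x * z⁻¹) * z ∈ (P : Subgroup G) := by
        apply mem_sylow_of_mem_normalizer P (hconj2 _ (hPM hx))
        obtain ⟨n, hn⟩ := IsPGroup.iff_orderOf.mp P.isPGroup' ⟨_, hx⟩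
        refine ⟨n, ?_⟩
        rw [← hn, Subgroup.orderOf_mk]
        have h := (MulAut.conj z⁻¹).orderOf_eq (z * x * z⁻¹)
        rwa [MulAut.conj_apply, inv_inv] at h
      have h2 : z⁻¹ * (z * x * z⁻¹) * z = x := by group
      rwa [h2] at h1
  have hzP : z ∈ (P : Subgroup G) := by
    apply mem_sylow_of_mem_normalizer P hzM
    obtain ⟨n, hn⟩ := IsPGroup.iff_orderOf.mp hZp ⟨z, hz⟩
    exact ⟨n, by rw [← hn, Subgroup.orderOf_mk]⟩
  have hcomm : ∀ k ∈ K, z * k = k * z := by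
    intro k hk
    have hkM : k ∈ Subgroup.normalizer ((P : Subgroup G) : Set G) := hL.K_le hk
    have h1 : z * k * z⁻¹ * k⁻¹ ∈ K :=
      K.mul_mem ((Subgroup.mem_normalizer_iff.mp hzN k).mp hk) (K.inv_mem hk)
    have h2 : z * k * z⁻¹ * k⁻¹ ∈ (P : Subgroup G) := by
      have h3 : k * z⁻¹ * k⁻¹ ∈ (P : Subgroup G) :=
        (Subgroup.mem_normalizer_iff.mp hkM z⁻¹).mp (inv_mem hzP)
      have h4 := (P : Subgroup G).mul_mem hzP h3
      have h5 : z * (k * z⁻¹ * k⁻¹) = z * k * z⁻¹ * k⁻¹ := by group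
      rwa [h5] at h4
    have h6 := eq_one_of_mem_sylow_of_mem P K hL.K_p' h2 h1
    calc z * k = z * k * z⁻¹ * k⁻¹ * (k * z) := by group
      _ = k * z := by rw [h6, one_mul]
  exact hd1 (hfrob z hz hz1 d hdK (hcomm d hdK))

end localFacts

/-- the `r`-torsion of a group embedded in `(ZMod p)ˣ × (ZMod p)ˣ` has at most `r²` elements -/
theorem card_pow_eq_one_le {H : Type*} [Group H] [Finite H] {p : ℕ} [Fact p.Prime]
    (Θ : H →* (ZMod p)ˣ × (ZMod p)ˣ) (hΘ : Function.Injective Θ) (r : ℕ) [NeZero r] :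
    Nat.card {k : H // k ^ r = 1} ≤ r * r := by
  let f : {k : H // k ^ r = 1} → rootsOfUnity r (ZMod p) × rootsOfUnity r (ZMod p) :=
    fun k => (⟨(Θ k.1).1, by
        rw [mem_rootsOfUnity, ← Prod.pow_fst, ← map_pow, k.2, map_one]; rfl⟩,
      ⟨(Θ k.1).2, by
        rw [mem_rootsOfUnity, ← Prod.pow_snd, ← map_pow, k.2, map_one]; rfl⟩)
  have hf : Function.Injective f := by
    intro a b hab
    apply Subtype.ext
    apply hΘ
    have h1 : (Θ a.1).1 = (Θ b.1).1 := congrArg (fun q => (q.1 : (ZMod p)ˣ)) hab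
    have h2 : (Θ a.1).2 = (Θ b.1).2 := congrArg (fun q => (q.2 : (ZMod p)ˣ)) hab
    exact Prod.ext h1 h2
  calc Nat.card {k : H // k ^ r = 1}
      ≤ Nat.card (rootsOfUnity r (ZMod p) × rootsOfUnity r (ZMod p)) :=
        Nat.card_le_card_of_injective f hf
    _ = Nat.card (rootsOfUnity r (ZMod p)) * Nat.card (rootsOfUnity r (ZMod p)) :=
        Nat.card_prod _ _
    _ ≤ r * r := Nat.mul_le_mul (card_rootsOfUnity (ZMod p) r) (card_rootsOfUnity (ZMod p) r)

theorem numerics {p : ℕ} [Fact p.Prime] (c : Ctx p G) (P : Sylow p G) (K : Subgroup G)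
    (hL : Loc p P K)
    (hφ : ∃ φ : K →* (ZMod p)ˣ, ∀ k : K, φ k = 1 ↔
      (k : G) ∈ Subgroup.centralizer ((P : Subgroup G) : Set G))
    (d : G) (hdK : d ∈ K) (hdc : d ∈ Subgroup.centralizer ((P : Subgroup G) : Set G))
    (hd1 : d ≠ 1) (Z : Subgroup G) (hZp : IsPGroup p Z) (hZ1 : Z ≠ ⊥)
    (hZK : Z ≤ Subgroup.normalizer (K : Set G))
    (hfrob : ∀ z ∈ Z, z ≠ 1 → ∀ w ∈ K, z * w = w * z → w = 1) :
    p = 3 ∧ Nat.card K = 4 ∧ ∀ x ∈ K, x * x = 1 := by
  have hp : p.Prime := Fact.out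
  obtain ⟨φ, hφ⟩ := hφ
  -- a nontrivial element of `Z`
  obtain ⟨⟨z₀, hz₀Z⟩, hz₀1'⟩ := (Subgroup.ne_bot_iff_exists_ne_one).mp hZ1
  have hz₀1 : z₀ ≠ 1 := fun h => hz₀1' (Subtype.ext h)
  have hz₀N : z₀ ∈ Subgroup.normalizer (K : Set G) := hZK hz₀Z
  -- conjugation by `z₀` on `K`
  let κ : K →* K :=
    { toFun := fun k => ⟨z₀ * k.1 * z₀⁻¹, (Subgroup.mem_normalizer_iff.mp hz₀N k.1).mp k.2⟩
      map_one' := Subtype.ext (by simp)
      map_mul' := fun a b => Subtype.ext (by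
        show z₀ * (a.1 * b.1) * z₀⁻¹ = z₀ * a.1 * z₀⁻¹ * (z₀ * b.1 * z₀⁻¹)
        group) }
  have hκ : ∀ k : K, ((κ k : K) : G) = z₀ * k.1 * z₀⁻¹ := fun _ => rfl
  let Θ : K →* (ZMod p)ˣ × (ZMod p)ˣ := φ.prod (φ.comp κ)
  have hΘ1 : ∀ k : K, (Θ k).1 = φ k := fun _ => rfl
  have hΘ2 : ∀ k : K, (Θ k).2 = φ (κ k) := fun _ => rfl
  have hΘinj : Function.Injective Θ := by
    rw [injective_iff_map_eq_one]
    intro k hk
    have h1 : φ k = 1 := by rw [← hΘ1, hk]; rfl
    have h2 : φ (κ k) = 1 := by rw [← hΘ2, hk]; rfl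
    have hkc := (hφ k).mp h1
    have hkc' := (hφ (κ k)).mp h2
    rw [hκ] at hkc'
    by_contra hk1
    exact conj_K0_disjoint P K hL d hdK hd1 Z hZp hZK hfrob hz₀Z hz₀1 k.2 hkc
      (fun h => hk1 (Subtype.ext h)) hkc'
  -- every element of the target has `(p-1)`-th power one
  have hexpU : ∀ u : (ZMod p)ˣ × (ZMod p)ˣ, u ^ (p - 1) = 1 := by
    intro u
    apply Prod.ext
    · rw [Prod.pow_fst]; exact ZMod.units_pow_card_sub_one_eq_one p u.1
    · rw [Prod.pow_snd]; exact ZMod.units_pow_card_sub_one_eq_one p u.2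
  -- an element `x` of prime order `r` in `K₀`
  have hdo : orderOf d ≠ 0 := (orderOf_pos d).ne'
  have hdo1 : orderOf d ≠ 1 := fun h => hd1 (orderOf_eq_one_iff.mp h)
  obtain ⟨r, hr⟩ : ∃ r, r = (orderOf d).minFac := ⟨_, rfl⟩
  have hrp : r.Prime := hr ▸ Nat.minFac_prime hdo1
  have hrd : r ∣ orderOf d := hr ▸ Nat.minFac_dvd _
  obtain ⟨x, hx⟩ : ∃ x : G, x = d ^ (orderOf d / r) := ⟨_, rfl⟩
  have hxo : orderOf x = r := hx ▸ orderOf_pow_orderOf_div hdo hrd
  have hxK : x ∈ K := hx ▸ K.pow_mem hdK _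
  have hxc : x ∈ Subgroup.centralizer ((P : Subgroup G) : Set G) :=
    hx ▸ Subgroup.pow_mem _ hdc _
  haveI : NeZero r := ⟨hrp.ne_zero⟩
  -- `r ∣ p - 1`
  have hrdvd : r ∣ p - 1 := by
    have h1 : orderOf (Θ ⟨x, hxK⟩) = r := by
      rw [orderOf_injective Θ hΘinj, Subgroup.orderOf_mk, hxo]
    rw [← h1]
    exact orderOf_dvd_of_pow_eq_one (hexpU _)
  have hp1 : 0 < p - 1 := by have := hp.two_le; omega
  have hrle : r ≤ p - 1 := Nat.le_of_dvd hp1 hrdvd
  -- the counting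
  have hcount : Nat.card Z * (r - 1) + 1 ≤ r * r := by
    have hpowK : ∀ (z : G) (n : ℕ), z ∈ Z → z * x ^ n * z⁻¹ ∈ K := fun z n hz =>
      (Subgroup.mem_normalizer_iff.mp (hZK hz) _).mp (K.pow_mem hxK n)
    have hpowr : ∀ (z : G) (n : ℕ) (h : z * x ^ n * z⁻¹ ∈ K),
        (⟨z * x ^ n * z⁻¹, h⟩ : K) ^ r = 1 := by
      intro z n h
      apply Subtype.ext
      show (z * x ^ n * z⁻¹) ^ r = 1
      rw [conj_pow, ← pow_mul, mul_comm, pow_mul, ← hxo, pow_orderOf_eq_one, one_pow]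
      group
    let f : Option (Z × Fin (r - 1)) → {k : K // k ^ r = 1} := fun o =>
      match o with
      | none => ⟨1, one_pow r⟩
      | some (z, j) => ⟨⟨z.1 * x ^ (j.1 + 1) * z.1⁻¹, hpowK z.1 _ z.2⟩, hpowr z.1 _ _⟩
    have hxpow_ne : ∀ j : Fin (r - 1), x ^ (j.1 + 1) ≠ 1 := by
      intro j
      apply pow_ne_one_of_lt_orderOf (by omega)
      rw [hxo]
      have := j.2
      omega
    have hf : Function.Injective f := by
      intro a b hab
      match a, b with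
      | none, none => rfl
      | none, some (z, j) =>
        exfalso
        have h1 : (1 : G) = z.1 * x ^ (j.1 + 1) * z.1⁻¹ :=
          congrArg (fun q : {k : K // k ^ r = 1} => ((q.1 : K) : G)) hab
        exact hxpow_ne j (conj_eq_one_iff.mp h1.symm)
      | some (z, j), none =>
        exfalso
        have h1 : z.1 * x ^ (j.1 + 1) * z.1⁻¹ = (1 : G) :=
          congrArg (fun q : {k : K // k ^ r = 1} => ((q.1 : K) : G)) hab
        exact hxpow_ne j (conj_eq_one_iff.mp h1)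
      | some (z, j), some (z', j') =>
        have h1 : z.1 * x ^ (j.1 + 1) * z.1⁻¹ = z'.1 * x ^ (j'.1 + 1) * z'.1⁻¹ :=
          congrArg (fun q : {k : K // k ^ r = 1} => ((q.1 : K) : G)) hab
        have h2 : (z'.1⁻¹ * z.1) * x ^ (j.1 + 1) * (z'.1⁻¹ * z.1)⁻¹ = x ^ (j'.1 + 1) := by
          calc (z'.1⁻¹ * z.1) * x ^ (j.1 + 1) * (z'.1⁻¹ * z.1)⁻¹
              = z'.1⁻¹ * (z.1 * x ^ (j.1 + 1) * z.1⁻¹) * z'.1 := by group
            _ = z'.1⁻¹ * (z'.1 * x ^ (j'.1 + 1) * z'.1⁻¹) * z'.1 := by rw [h1]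
            _ = x ^ (j'.1 + 1) := by group
        have hy1 : z'.1⁻¹ * z.1 = 1 := by
          by_contra hne
          refine conj_K0_disjoint P K hL d hdK hd1 Z hZp hZK hfrob
            (Z.mul_mem (Z.inv_mem z'.2) z.2) hne (K.pow_mem hxK (j.1 + 1))
            (Subgroup.pow_mem _ hxc _) (hxpow_ne j) ?_
          rw [h2]
          exact Subgroup.pow_mem _ hxc _
        have hzz : z = z' := by
          apply Subtype.ext
          calc z.1 = z'.1 * (z'.1⁻¹ * z.1) := by group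
            _ = z'.1 := by rw [hy1, mul_one]
        have hjj : j = j' := by
          rw [hy1, one_mul, inv_one, mul_one] at h2
          have h3 := pow_injOn_Iio_orderOf (x := x)
            (show j.1 + 1 ∈ Set.Iio (orderOf x) by
              rw [Set.mem_Iio, hxo]; have := j.2; omega)
            (show j'.1 + 1 ∈ Set.Iio (orderOf x) by
              rw [Set.mem_Iio, hxo]; have := j'.2; omega) h2
          apply Fin.ext
          omega
        rw [hzz, hjj]
    have h1 := Nat.card_le_card_of_injective f hf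
    have h2 := card_pow_eq_one_le Θ hΘinj r
    have h3 : Nat.card (Option (Z × Fin (r - 1))) = Nat.card Z * (r - 1) + 1 := by
      rw [Finite.card_option, Nat.card_prod, Nat.card_eq_fintype_card (α := Fin (r - 1)),
        Fintype.card_fin]
    rw [h3] at h1
    exact h1.trans h2
  -- `p ≤ #Z`
  have hpZ : p ≤ Nat.card Z := by
    obtain ⟨n, hn⟩ := IsPGroup.iff_card.mp hZp
    have h1 : 1 < Nat.card Z := (Subgroup.one_lt_card_iff_ne_bot _).mpr hZ1
    rw [hn] at h1 ⊢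
    cases n with
    | zero => simp at h1
    | succ n => exact Nat.le_self_pow (Nat.succ_ne_zero n) p
  have hr2 : 2 ≤ r := hrp.two_le
  -- `p = r + 1`
  have hpr : p = r + 1 := by
    by_contra hne
    have h1 : r + 2 ≤ p := by omega
    have h2 : (r + 2) * (r - 1) + 1 ≤ r * r :=
      le_trans (by
        have := Nat.mul_le_mul_right (r - 1) (le_trans h1 hpZ)
        omega) hcount
    obtain ⟨t, ht⟩ : ∃ t, r = t + 2 := ⟨r - 2, by omega⟩
    rw [ht] at h2
    have h3 : t + 2 - 1 = t + 1 := by omega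
    rw [h3] at h2
    nlinarith
  have hr2' : r = 2 := by
    rcases hrp.eq_two_or_odd with h | h
    · exact h
    · exfalso
      rcases hp.eq_two_or_odd with h' | h'
      · omega
      · omega
  have hp3 : p = 3 := by omega
  refine ⟨hp3, ?_, ?_⟩
  · -- `#K = 4`
    have hcardU : Nat.card ((ZMod p)ˣ × (ZMod p)ˣ) = 4 := by
      rw [Nat.card_prod, Nat.card_eq_fintype_card, ZMod.card_units, hp3]
    have h4 : Nat.card K ∣ 4 := by
      rw [← hcardU]
      exact Subgroup.card_dvd_of_injective Θ hΘinj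
    have hker1 : φ.ker ≠ ⊥ := by
      intro h
      have hdker : (⟨d, hdK⟩ : K) ∈ φ.ker := (MonoidHom.mem_ker).mpr ((hφ ⟨d, hdK⟩).mpr hdc)
      rw [h, Subgroup.mem_bot] at hdker
      exact hd1 (congrArg Subtype.val hdker)
    have hker2 : φ.ker ≠ ⊤ := by
      intro h
      apply hL.K_not_cent
      intro k hk
      have : (⟨k, hk⟩ : K) ∈ φ.ker := by rw [h]; exact Subgroup.mem_top _
      exact (hφ ⟨k, hk⟩).mp (MonoidHom.mem_ker.mp this)
    have h5 : 2 ≤ Nat.card φ.ker := (Subgroup.one_lt_card_iff_ne_bot _).mpr hker1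
    have h6 : 2 ≤ φ.ker.index := by
      have h7 : φ.ker.index ≠ 1 := fun h => hker2 (Subgroup.index_eq_one.mp h)
      have h8 : φ.ker.index ≠ 0 := Subgroup.index_ne_zero_of_finite
      omega
    have h9 : Nat.card φ.ker * φ.ker.index = Nat.card K := Subgroup.card_mul_index _
    have h10 : 4 ≤ Nat.card K := by
      rw [← h9]
      calc 4 = 2 * 2 := by norm_num
        _ ≤ Nat.card φ.ker * φ.ker.index := Nat.mul_le_mul h5 h6
    exact le_antisymm (Nat.le_of_dvd (by norm_num) h4) h10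
  · -- exponent 2
    intro k hk
    have h1 : Θ (⟨k, hk⟩ * ⟨k, hk⟩) = Θ 1 := by
      rw [map_mul, map_one, ← pow_two]
      have h3 := hexpU (Θ ⟨k, hk⟩)
      have h4 : p - 1 = 2 := by omega
      rwa [h4] at h3
    have h2 := hΘinj h1
    exact congrArg Subtype.val h2

end Cfsg.Agent.Helper68.PAC2
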