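import Mathlib
import Cfsg.Agent.Helper58.PADefs
import Cfsg.Agent.Helper66.ClassSize

/-!
# S4016 (helper58), piece (CNT) by helper68: `|G : C(J)| ≤ 2 E`

`E` = number of involutions `y` such that `J * y` has even order.
-/

set_option autoImplicit false

open Cfsg.Agent.Helper58.PA

namespace Cfsg.Agent.Helper68.PACNT

variable {G : Type*} [Group G]

theorem inv_eq_self_of_mul_self {J : G} (hJ : J * J = 1) : J⁻¹ = J :=
  inv_eq_of_mul_eq_one_left hJ

/-- the elements of `zpowers J` for an involution `J` -/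
theorem eq_one_or_eq_of_mem_zpowers {J a : G} (hJ : J * J = 1) (ha : a ∈ Subgroup.zpowers J) :
    a = 1 ∨ a = J := by
  obtain ⟨i, rfl⟩ := Subgroup.mem_zpowers_iff.mp ha
  have hJ2 : J ^ (2 : ℤ) = 1 := by
    rw [show (2 : ℤ) = ((2 : ℕ) : ℤ) by norm_num, zpow_natCast, pow_two, hJ]
  have h1 : J ^ i = J ^ (i % 2) := by
    conv_lhs => rw [← Int.mul_ediv_add_emod i 2]
    rw [zpow_add, zpow_mul, hJ2, one_zpow, one_mul]
  rcases Int.emod_two_eq_zero_or_one i with h | h
  · left; rw [h1, h, zpow_zero]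
  · right; rw [h1, h, zpow_one]

/-- `J` inverts the powers of an element it inverts -/
theorem conj_zpow_inv {J v : G} (hinv : J * v * J⁻¹ = v⁻¹) (k : ℤ) :
    J * v ^ k * J⁻¹ = (v ^ k)⁻¹ := by
  rw [← conj_zpow, hinv, inv_zpow]

theorem mem_normalizer_zpowers_of_inverts {J v : G} (hJ : J * J = 1)
    (hinv : J * v * J⁻¹ = v⁻¹) :
    J ∈ Subgroup.normalizer ((Subgroup.zpowers v : Subgroup G) : Set G) := by
  have hfwd : ∀ h : G, h ∈ Subgroup.zpowers v → J * h * J⁻¹ ∈ Subgroup.zpowers v := by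
    intro h hh
    obtain ⟨k, rfl⟩ := Subgroup.mem_zpowers_iff.mp hh
    rw [conj_zpow_inv hinv]
    exact (Subgroup.zpowers v).inv_mem (Subgroup.zpow_mem_zpowers v k)
  rw [Subgroup.mem_normalizer_iff]
  intro h
  refine ⟨hfwd h, fun hh => ?_⟩
  have h1 := hfwd _ hh
  have hJi := inv_eq_self_of_mul_self hJ
  have h2 : J * (J * h * J⁻¹) * J⁻¹ = h := by
    rw [hJi]
    calc J * (J * h * J) * J = (J * J) * h * (J * J) := by group
      _ = h := by rw [hJ, one_mul, mul_one]
  rwa [h2] at h1

/-- Lemma A: the "dihedral" group generated by an involution `J` and an element `v` inverted by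
`J` has order prime to any odd prime not dividing the order of `v`. -/
theorem not_dvd_card_dihedral [Finite G] {J v : G} (hJ : J * J = 1)
    (hinv : J * v * J⁻¹ = v⁻¹) {q : ℕ} [Fact q.Prime] (hq2 : q ≠ 2) (hqv : ¬ q ∣ orderOf v) :
    ¬ q ∣ Nat.card (Subgroup.zpowers J ⊔ Subgroup.zpowers v : Subgroup G) := by
  intro hdvd
  obtain ⟨x, hx⟩ := exists_prime_orderOf_dvd_card' q hdvd
  have hxo : orderOf (x : G) = q := by rw [Subgroup.orderOf_coe, hx]
  have hnorm : Subgroup.zpowers J ≤
      Subgroup.normalizer ((Subgroup.zpowers v : Subgroup G) : Set G) :=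
    Subgroup.zpowers_le.mpr (mem_normalizer_zpowers_of_inverts hJ hinv)
  have hmem : (x : G) ∈ ((Subgroup.zpowers J ⊔ Subgroup.zpowers v : Subgroup G) : Set G) := x.2
  rw [Subgroup.coe_mul_of_left_le_normalizer_right _ _ hnorm] at hmem
  obtain ⟨a, ha, b, hb, hab⟩ := Set.mem_mul.mp hmem
  rcases eq_one_or_eq_of_mem_zpowers hJ ha with h | h
  · rw [h, one_mul] at hab
    apply hqv
    rw [← hxo, ← hab]
    exact orderOf_dvd_of_mem_zpowers hb
  · rw [h] at hab
    obtain ⟨k, rfl⟩ := Subgroup.mem_zpowers_iff.mp hb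
    have hsq : (x : G) ^ 2 = 1 := by
      rw [← hab, pow_two]
      have h1 := conj_zpow_inv hinv k
      rw [inv_eq_self_of_mul_self hJ] at h1
      calc J * v ^ k * (J * v ^ k) = (J * v ^ k * J) * v ^ k := by group
        _ = 1 := by rw [h1, inv_mul_cancel]
    have h2 : q ∣ 2 := by
      rw [← hxo]; exact orderOf_dvd_of_pow_eq_one hsq
    exact hq2 ((Nat.prime_dvd_prime_iff_eq Fact.out Nat.prime_two).mp h2)

/-- Lemma B: an element of odd order inverted by an involution is a `3`-element, when all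
`3'`-subgroups are abelian -/
theorem exists_orderOf_eq_three_pow [Finite G]
    (hab : ∀ H : Subgroup G, ¬ 3 ∣ Nat.card H → IsMulCommutative H) {J u : G} (hJ : J * J = 1)
    (hinv : J * u * J⁻¹ = u⁻¹) (hodd : ¬ 2 ∣ orderOf u) : ∃ e : ℕ, orderOf u = 3 ^ e := by
  haveI : Fact (Nat.Prime 3) := ⟨Nat.prime_three⟩
  have ho : orderOf u ≠ 0 := (orderOf_pos u).ne'
  obtain ⟨e, m, hm3, hom⟩ := Nat.exists_eq_pow_mul_and_not_dvd ho 3 (by norm_num)
  have h3e : (3 : ℕ) ^ e ≠ 0 := pow_ne_zero _ (by norm_num)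
  have hvo : orderOf (u ^ 3 ^ e) = m := by
    rw [orderOf_pow_of_dvd h3e (Dvd.intro _ hom.symm), hom, Nat.mul_div_cancel_left _
      (Nat.pos_of_ne_zero h3e)]
  have hinv' : J * u ^ 3 ^ e * J⁻¹ = (u ^ 3 ^ e)⁻¹ := by
    rw [← conj_pow, hinv, inv_pow]
  have h3 := not_dvd_card_dihedral hJ hinv' (q := 3) (by norm_num) (by rw [hvo]; exact hm3)
  have hcomm := isMulCommutative_iff.mp (hab _ h3)
  have hJH : J ∈ (Subgroup.zpowers J ⊔ Subgroup.zpowers (u ^ 3 ^ e) : Subgroup G) :=
    Subgroup.mem_sup_left (Subgroup.mem_zpowers J)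
  have hvH : u ^ 3 ^ e ∈ (Subgroup.zpowers J ⊔ Subgroup.zpowers (u ^ 3 ^ e) : Subgroup G) :=
    Subgroup.mem_sup_right (Subgroup.mem_zpowers _)
  have hJv : J * u ^ 3 ^ e = u ^ 3 ^ e * J := congrArg Subtype.val (hcomm ⟨J, hJH⟩ ⟨_, hvH⟩)
  have hvv : u ^ 3 ^ e * u ^ 3 ^ e = 1 := by
    have h1 : u ^ 3 ^ e = (u ^ 3 ^ e)⁻¹ := by
      rw [← hinv', hJv, mul_inv_cancel_right]
    calc u ^ 3 ^ e * u ^ 3 ^ e = u ^ 3 ^ e * (u ^ 3 ^ e)⁻¹ := by rw [← h1]
      _ = 1 := mul_inv_cancel _
  have hm2 : m ∣ 2 := by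
    rw [← hvo]
    apply orderOf_dvd_of_pow_eq_one
    rw [pow_two, hvv]
  have hm1 : m = 1 := by
    rcases (Nat.dvd_prime Nat.prime_two).mp hm2 with h | h
    · exact h
    · exfalso
      apply hodd
      rw [hom, h]
      exact Dvd.intro_left _ rfl
  exact ⟨e, by rw [hom, hm1, mul_one]⟩

/-- Lemma C: the involution `d'` attached to a nontrivial `3`-element -/
theorem exists_d [Finite G]
    (hall : ∀ P' : Sylow 3 G, ∃ (K' : Subgroup G) (d' : G), Loc 3 P' K' ∧ d' ∈ K' ∧
      d' ∈ Subgroup.centralizer ((P' : Subgroup G) : Set G) ∧ orderOf d' = 2)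
    (u : G) (hu1 : u ≠ 1) (hu : ∃ e : ℕ, orderOf u = 3 ^ e) :
    ∃ d' : G, orderOf d' = 2 ∧ d' * u = u * d' ∧
      ∀ g ∈ Subgroup.normalizer ((Subgroup.zpowers u : Subgroup G) : Set G), g * d' = d' * g := by
  obtain ⟨e, he⟩ := hu
  have hpg : IsPGroup 3 (Subgroup.zpowers u) :=
    IsPGroup.of_card (n := e) (by rw [Nat.card_zpowers, he])
  obtain ⟨P', hP'⟩ := hpg.exists_le_sylow
  obtain ⟨K', d', hLoc, hd'K, hd'c, hd'2⟩ := hall P'
  have huP : u ∈ (P' : Subgroup G) := hP' (Subgroup.mem_zpowers u)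
  have hd'1 : d' ≠ 1 := by
    intro h
    rw [h, orderOf_one] at hd'2
    omega
  refine ⟨d', hd'2, ?_, ?_⟩
  · exact ((Subgroup.mem_centralizer_iff.mp hd'c) u huP).symm
  · intro g hg
    have hne : Subgroup.zpowers u ≠ ⊥ := by
      intro h
      apply hu1
      have : u ∈ (⊥ : Subgroup G) := h ▸ Subgroup.mem_zpowers u
      exact Subgroup.mem_bot.mp this
    rw [hLoc.norm_eq _ hP' hne, ← hLoc.cent_K0 d' hd'K hd'c hd'1,
      Subgroup.mem_centralizer_singleton_iff] at hg
    exact hg

/-- Lemma D: square roots are unique among elements of odd order -/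
theorem eq_of_sq_eq_of_odd {a b : G} (ha : ¬ 2 ∣ orderOf a) (hb : ¬ 2 ∣ orderOf b)
    (h : a * a = b * b) : a = b := by
  have hodd : Odd (orderOf a * orderOf b) := by
    rw [← Nat.not_even_iff_odd, even_iff_two_dvd, Nat.Prime.dvd_mul Nat.prime_two]
    tauto
  obtain ⟨m, hm⟩ := hodd
  have ha1 : a ^ (2 * m + 1) = 1 := by
    rw [← hm, pow_mul, pow_orderOf_eq_one, one_pow]
  have hb1 : b ^ (2 * m + 1) = 1 := by
    rw [← hm, mul_comm, pow_mul, pow_orderOf_eq_one, one_pow]
  have ha2 : a = (a * a) ^ (m + 1) := by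
    rw [← pow_two, ← pow_mul, show 2 * (m + 1) = (2 * m + 1) + 1 by ring, pow_succ, ha1, one_mul]
  have hb2 : b = (b * b) ^ (m + 1) := by
    rw [← pow_two, ← pow_mul, show 2 * (m + 1) = (2 * m + 1) + 1 by ring, pow_succ, hb1, one_mul]
  rw [ha2, hb2, h]

theorem mul_self_of_orderOf_two' {a : G} (h : orderOf a = 2) : a * a = 1 := by
  rw [← pow_two, ← h, pow_orderOf_eq_one]

theorem ne_one_of_orderOf_two {a : G} (h : orderOf a = 2) : a ≠ 1 := by
  intro h1
  rw [h1, orderOf_one] at h
  omega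

theorem orderOf_eq_two_of {a : G} (h1 : a * a = 1) (h2 : a ≠ 1) : orderOf a = 2 := by
  haveI : Fact (Nat.Prime 2) := ⟨Nat.prime_two⟩
  exact orderOf_eq_prime (by rw [pow_two, h1]) h2

theorem index_le_two_mul [Finite G]
    (hab : ∀ H : Subgroup G, ¬ 3 ∣ Nat.card H → IsMulCommutative H)
    (hone : ∀ s t : G, orderOf s = 2 → orderOf t = 2 → IsConj s t)
    (hall : ∀ P' : Sylow 3 G, ∃ (K' : Subgroup G) (d' : G), Loc 3 P' K' ∧ d' ∈ K' ∧
      d' ∈ Subgroup.centralizer ((P' : Subgroup G) : Set G) ∧ orderOf d' = 2)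
    (J a : G) (hJ : orderOf J = 2) (ha : orderOf a = 2) (hJa : J * a = a * J) (hne : a ≠ J) :
    (Subgroup.centralizer ({J} : Set G)).index ≤
      2 * Nat.card {y : G // orderOf y = 2 ∧ 2 ∣ orderOf (J * y)} := by
  classical
  have hJJ : J * J = 1 := mul_self_of_orderOf_two' hJ
  have hJi : J⁻¹ = J := inv_eq_self_of_mul_self hJJ
  have hJ1 : J ≠ 1 := ne_one_of_orderOf_two hJ
  have haa : a * a = 1 := mul_self_of_orderOf_two' ha
  -- the index is the number of involutions
  have hidx : (Subgroup.centralizer ({J} : Set G)).index = Nat.card {y : G // orderOf y = 2} := by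
    rw [← Cfsg.Agent.Helper66.card_range_conj_eq_index J]
    apply Nat.card_congr
    apply Equiv.subtypeEquivRight
    intro y
    constructor
    · rintro ⟨c, rfl⟩
      rw [← hJ]
      exact (MulAut.conj c).orderOf_eq J
    · intro hy
      obtain ⟨c, hc⟩ := isConj_iff.mp (hone J y hJ hy)
      exact ⟨c, hc⟩
  rw [hidx]
  -- the function `d'`
  choose! dOf hdOf using exists_d hall
  -- properties of `y` in the odd part
  have hprop : ∀ y : G, orderOf y = 2 → ¬ 2 ∣ orderOf (J * y) → y ≠ J →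
      orderOf (y * dOf (J * y)) = 2 ∧ 2 ∣ orderOf (J * (y * dOf (J * y))) ∧
      3 ∣ orderOf (J * (y * dOf (J * y))) ∧
      (J * (y * dOf (J * y))) * (J * (y * dOf (J * y))) = (J * y) * (J * y) := by
    intro y hy hodd hyJ
    have hyy : y * y = 1 := mul_self_of_orderOf_two' hy
    have hyi : y⁻¹ = y := inv_eq_self_of_mul_self hyy
    have hu1 : J * y ≠ 1 := by
      intro h
      apply hyJ
      calc y = J⁻¹ * (J * y) := by group
        _ = J := by rw [h, mul_one, hJi]
    have hinv : J * (J * y) * J⁻¹ = (J * y)⁻¹ := by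
      rw [mul_inv_rev, hJi, hyi]
      calc J * (J * y) * J = (J * J) * y * J := by group
        _ = y * J := by rw [hJJ, one_mul]
    obtain ⟨e, he⟩ := exists_orderOf_eq_three_pow hab hJJ hinv hodd
    obtain ⟨hd2, hdu, hdN⟩ := hdOf (J * y) hu1 ⟨e, he⟩
    set d' := dOf (J * y) with hd'
    have hdd : d' * d' = 1 := mul_self_of_orderOf_two' hd2
    have hJd : J * d' = d' * J := hdN J (mem_normalizer_zpowers_of_inverts hJJ hinv)
    have hyd : y * d' = d' * y := by
      have h1 : y = J * (J * y) := by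
        calc y = (J * J) * y := by rw [hJJ, one_mul]
          _ = J * (J * y) := by group
      calc y * d' = J * (J * y) * d' := by rw [← h1]
        _ = J * ((J * y) * d') := by group
        _ = J * (d' * (J * y)) := by rw [hdu]
        _ = (J * d') * (J * y) := by group
        _ = (d' * J) * (J * y) := by rw [hJd]
        _ = d' * (J * (J * y)) := by group
        _ = d' * y := by rw [← h1]
    have he1 : e ≠ 0 := by
      intro h
      rw [h, pow_zero, orderOf_eq_one_iff] at he
      exact hu1 he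
    have hcop : (orderOf (J * y)).Coprime (orderOf d') := by
      rw [he, hd2]
      exact Nat.Coprime.pow_left e (by norm_num)
    have hcomm : Commute (J * y) d' := hdu.symm
    have hord : orderOf (J * (y * d')) = 3 ^ e * 2 := by
      rw [← mul_assoc, hcomm.orderOf_mul_eq_mul_orderOf_of_coprime hcop, he, hd2]
    refine ⟨?_, ?_, ?_, ?_⟩
    · apply orderOf_eq_two_of
      · calc y * d' * (y * d') = y * (d' * y) * d' := by group
          _ = y * (y * d') * d' := by rw [hyd]
          _ = (y * y) * (d' * d') := by group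
          _ = 1 := by rw [hyy, hdd, one_mul]
      · intro h
        rw [h, mul_one, hJ] at hord
        have h3 : 3 ∣ 2 := by
          rw [hord]
          exact dvd_mul_of_dvd_left (dvd_pow_self 3 he1) 2
        omega
    · rw [hord]; exact Dvd.intro_left _ rfl
    · rw [hord]
      exact dvd_mul_of_dvd_left (dvd_pow_self 3 he1) 2
    · calc J * (y * d') * (J * (y * d')) = (J * y) * d' * ((J * y) * d') := by group
        _ = (J * y) * (d' * (J * y)) * d' := by group
        _ = (J * y) * ((J * y) * d') * d' := by rw [hdu]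
        _ = (J * y) * (J * y) * (d' * d') := by group
        _ = (J * y) * (J * y) := by rw [hdd, mul_one]
  -- `a` is in the even part
  have hJa2 : orderOf (J * a) = 2 := by
    apply orderOf_eq_two_of
    · calc J * a * (J * a) = J * (a * J) * a := by group
        _ = J * (J * a) * a := by rw [hJa]
        _ = (J * J) * (a * a) := by group
        _ = 1 := by rw [hJJ, haa, one_mul]
    · intro h
      apply hne
      calc a = J⁻¹ * (J * a) := by group
        _ = J := by rw [h, mul_one, hJi]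
  -- the injection
  let Ev := {y : G // orderOf y = 2 ∧ 2 ∣ orderOf (J * y)}
  let Ψ : {y : G // orderOf y = 2} → Bool × Ev := fun y =>
    if h : 2 ∣ orderOf (J * y.1) then (false, ⟨y.1, y.2, h⟩)
    else if hJy : y.1 = J then (true, ⟨a, ha, by rw [hJa2]⟩)
    else (true, ⟨y.1 * dOf (J * y.1), (hprop y.1 y.2 h hJy).1, (hprop y.1 y.2 h hJy).2.1⟩)
  have hΨ : Function.Injective Ψ := by
    intro y1 y2 h12
    apply Subtype.ext
    by_cases h1 : 2 ∣ orderOf (J * y1.1)
    · by_cases h2 : 2 ∣ orderOf (J * y2.1)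
      · simp only [Ψ, dif_pos h1, dif_pos h2] at h12
        exact congrArg (fun q : Bool × Ev => (q.2 : G)) h12
      · exfalso
        by_cases hJ2 : y2.1 = J
        · simp only [Ψ, dif_pos h1, dif_neg h2, dif_pos hJ2] at h12
          exact Bool.false_ne_true (congrArg Prod.fst h12)
        · simp only [Ψ, dif_pos h1, dif_neg h2, dif_neg hJ2] at h12
          exact Bool.false_ne_true (congrArg Prod.fst h12)
    · by_cases h2 : 2 ∣ orderOf (J * y2.1)
      · exfalso
        by_cases hJ1' : y1.1 = J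
        · simp only [Ψ, dif_neg h1, dif_pos h2, dif_pos hJ1'] at h12
          exact Bool.false_ne_true (congrArg Prod.fst h12).symm
        · simp only [Ψ, dif_neg h1, dif_pos h2, dif_neg hJ1'] at h12
          exact Bool.false_ne_true (congrArg Prod.fst h12).symm
      · by_cases hJ1' : y1.1 = J
        · by_cases hJ2 : y2.1 = J
          · rw [hJ1', hJ2]
          · exfalso
            simp only [Ψ, dif_neg h1, dif_neg h2, dif_pos hJ1', dif_neg hJ2] at h12
            have h3 : a = y2.1 * dOf (J * y2.1) :=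
              congrArg (fun q : Bool × Ev => (q.2 : G)) h12
            have h4 := (hprop y2.1 y2.2 h2 hJ2).2.2.1
            rw [← h3, hJa2] at h4
            omega
        · by_cases hJ2 : y2.1 = J
          · exfalso
            simp only [Ψ, dif_neg h1, dif_neg h2, dif_neg hJ1', dif_pos hJ2] at h12
            have h3 : y1.1 * dOf (J * y1.1) = a :=
              congrArg (fun q : Bool × Ev => (q.2 : G)) h12
            have h4 := (hprop y1.1 y1.2 h1 hJ1').2.2.1
            rw [h3, hJa2] at h4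
            omega
          · simp only [Ψ, dif_neg h1, dif_neg h2, dif_neg hJ1', dif_neg hJ2] at h12
            have h3 : y1.1 * dOf (J * y1.1) = y2.1 * dOf (J * y2.1) :=
              congrArg (fun q : Bool × Ev => (q.2 : G)) h12
            have h5 := (hprop y1.1 y1.2 h1 hJ1').2.2.2
            have h6 := (hprop y2.1 y2.2 h2 hJ2).2.2.2
            rw [h3, h6] at h5
            have h7 : J * y1.1 = J * y2.1 := (eq_of_sq_eq_of_odd h2 h1 h5).symm
            exact mul_left_cancel h7
  have hcard := Nat.card_le_card_of_injective Ψ hΨ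
  have h2 : Nat.card (Bool × Ev) = 2 * Nat.card Ev := by
    rw [Nat.card_prod, Nat.card_eq_fintype_card (α := Bool), Fintype.card_bool]
  rw [h2] at hcard
  exact hcard

end Cfsg.Agent.Helper68.PACNT
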