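import Mathlib
import Cfsg.Agent.Helper6.SUaut1

/-!
Piece (C1) of helper6's plan for S3162 (board #8751): the semilinearity lemma.
-/

set_option autoImplicit false
set_option linter.unusedSectionVars false

namespace Cfsg.Agent.Helper68.SUaut

open Cfsg.Agent.Helper19.SU3 Cfsg.Agent.Helper6.SUaut

variable {F : Type*} [Field F] [Fintype F] {bar : F →+* F} [BarField F bar]

/-- (C1) `A` additive injective with `A 1 = 1`, `B` additive on the fixed field `F₀ = {bar c = c}`,
`N(A a) = B(N a)` for the norm `N a = a * bar a`.  Then `A` maps `F₀` to `F₀`, is `A|F₀`-semilinear,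
commutes with `bar`, and `N(A a) = A(N a)`. -/
theorem C1 (hω : ∃ ω : F, bar ω ≠ ω) (hsq : ∀ c : F, ∃ m : F, m * m = c)
    (A : F →+ F) (hA : Function.Injective A) (h1 : A 1 = 1) (B : F → F)
    (hBadd : ∀ c c' : F, bar c = c → bar c' = c' → B (c + c') = B c + B c')
    (hAB : ∀ a : F, nm bar (A a) = B (nm bar a)) :
    (∀ μ : F, bar μ = μ → bar (A μ) = A μ) ∧
    (∀ μ x : F, bar μ = μ → A (μ * x) = A μ * A x) ∧
    (∀ x : F, A (bar x) = bar (A x)) ∧
    (∀ a : F, nm bar (A a) = A (nm bar a)) := by
  have h2 : (2 : F) = 0 := BarField.two bar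
  have hbb : ∀ x : F, bar (bar x) = x := fun x => BarField.invol x
  have hNf : ∀ a : F, bar (nm bar a) = nm bar a := fun a => by
    simp only [nm, map_mul, hbb]
    ring
  -- (i) `B 0 = 0`
  have hB0 : B 0 = 0 := by
    have := hAB 0
    simp only [nm, map_zero, zero_mul] at this
    exact this.symm
  -- (ii) polarisation
  have hpol : ∀ a b : F, B (a * bar b + b * bar a) =
      A a * bar (A b) + A b * bar (A a) := by
    intro a b
    have hT : bar (a * bar b + b * bar a) = a * bar b + b * bar a := by
      simp only [map_add, map_mul, hbb]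
      ring
    have hS : bar (nm bar a + nm bar b) = nm bar a + nm bar b := by
      rw [map_add, hNf, hNf]
    have e1 : nm bar (a + b) = (nm bar a + nm bar b) + (a * bar b + b * bar a) := by
      simp only [nm, map_add]
      ring
    have e2 := hAB (a + b)
    rw [e1, hBadd _ _ hS hT, hBadd _ _ (hNf a) (hNf b), ← hAB a, ← hAB b] at e2
    simp only [nm, map_add] at e2
    linear_combination (-1 : F) * e2
  -- (iii) `B` is injective on the fixed field
  have hBinj : ∀ c : F, bar c = c → B c = 0 → c = 0 := by
    intro c hc hBc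
    obtain ⟨m, hm⟩ := hsq c
    have hmf : bar m = m := by
      apply Heis.eq_of_mul_self_eq bar
      rw [← map_mul, hm, hc]
    have hNm : nm bar m = c := by
      simp only [nm, hmf]
      exact hm
    have h3 := hAB m
    rw [hNm, hBc] at h3
    have h4 : A m = 0 := by
      rcases mul_eq_zero.mp h3 with h | h
      · exact h
      · exact (map_eq_zero bar).mp h
    have h5 : m = 0 := hA (by rw [h4, map_zero])
    rw [← hm, h5, mul_zero]
  -- (iv) the ratio `A (μ a) / A a` is fixed
  have hratio : ∀ μ a : F, bar μ = μ → a ≠ 0 →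
      ∃ r : F, bar r = r ∧ A (μ * a) = r * A a := by
    intro μ a hμ ha
    have hAa : A a ≠ 0 := fun h => ha (hA (by rw [h, map_zero]))
    have h3 : a * bar (μ * a) + μ * a * bar a = 0 := by
      rw [map_mul, hμ]
      linear_combination (μ * a * bar a) * h2
    have h4 := hpol a (μ * a)
    rw [h3, hB0] at h4
    have h5 : Quad.tf bar (A a) (A (μ * a)) = 0 := by
      unfold Quad.tf
      exact h4.symm
    exact ⟨A (μ * a) / A a, Quad.div_fixed_of_tf_eq_zero hAa h5, (div_mul_cancel₀ _ hAa).symm⟩
  -- (a)
  have ha : ∀ μ : F, bar μ = μ → bar (A μ) = A μ := by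
    intro μ hμ
    obtain ⟨r, hr, hr'⟩ := hratio μ 1 hμ one_ne_zero
    rw [mul_one, h1, mul_one] at hr'
    rw [hr']
    exact hr
  -- (vi) the key identity for `a` outside the fixed field
  have hkey : ∀ a : F, bar a ≠ a →
      (∀ ν : F, bar ν = ν → A (ν * a) = A ν * A a) ∧
      (∀ μ ν : F, bar μ = μ → bar ν = ν → A (μ * ν) = A μ * A ν) := by
    intro a hane
    have ha0 : a ≠ 0 := by
      rintro rfl
      exact hane (map_zero bar)
    set t := a + bar a with ht
    set t' := A a + bar (A a) with ht'
    have htf : bar t = t := by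
      rw [ht, map_add, hbb]
      ring
    have ht0 : t ≠ 0 := by
      intro h
      apply hane
      have h3 : a + a = 0 := by linear_combination a * h2
      linear_combination h - h3
    -- the general identity
    have hK : ∀ μ ν r : F, bar μ = μ → bar ν = ν → bar r = r → A (ν * a) = r * A a →
        B (μ * ν * t) = A μ * r * t' := by
      intro μ ν r hμ hν hr hra
      have h3 := hpol μ (ν * a)
      rw [hra, ha μ hμ, map_mul, map_mul, hν, hμ, hr] at h3
      have e1 : μ * (ν * bar a) + ν * a * μ = μ * ν * t := by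
        rw [ht]
        ring
      rw [e1] at h3
      rw [h3, ht']
      ring
    have hK1 : ∀ μ : F, bar μ = μ → B (μ * t) = A μ * t' := by
      intro μ hμ
      have := hK μ 1 1 hμ (map_one bar) (map_one bar) (by rw [one_mul, one_mul])
      rwa [mul_one, mul_one] at this
    have hBt : B t = t' := by
      have := hK1 1 (map_one bar)
      rwa [one_mul, h1, one_mul] at this
    have ht'0 : t' ≠ 0 := by
      intro h
      exact ht0 (hBinj t htf (by rw [hBt, h]))
    have hS : ∀ ν : F, bar ν = ν → A (ν * a) = A ν * A a := by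
      intro ν hν
      obtain ⟨r, hr, hra⟩ := hratio ν a hν ha0
      have h3 := hK 1 ν r (map_one bar) hν hr hra
      rw [one_mul, h1, one_mul, hK1 ν hν] at h3
      have h4 : A ν = r := mul_right_cancel₀ ht'0 h3
      rw [hra, h4]
    refine ⟨hS, ?_⟩
    intro μ ν hμ hν
    have h3 := hK μ ν (A ν) hμ hν (ha ν hν) (hS ν hν)
    have hμν : bar (μ * ν) = μ * ν := by rw [map_mul, hμ, hν]
    rw [hK1 (μ * ν) hμν] at h3
    have h4 : A (μ * ν) * t' = (A μ * A ν) * t' := h3
    exact mul_right_cancel₀ ht'0 h4
  obtain ⟨ω, hω'⟩ := hω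
  have hM : ∀ μ ν : F, bar μ = μ → bar ν = ν → A (μ * ν) = A μ * A ν := (hkey ω hω').2
  -- (b)
  have hb : ∀ μ x : F, bar μ = μ → A (μ * x) = A μ * A x := by
    intro μ x hμ
    by_cases hx : bar x = x
    · exact hM μ x hμ hx
    · exact (hkey x hx).1 μ hμ
  -- `B = A` on the fixed field
  have hBA : ∀ c : F, bar c = c → B c = A c := by
    intro c hc
    obtain ⟨m, hm⟩ := hsq c
    have hmf : bar m = m := by
      apply Heis.eq_of_mul_self_eq bar
      rw [← map_mul, hm, hc]
    have h3 := hAB m
    simp only [nm] at h3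
    rw [hmf, ha m hmf, hm] at h3
    rw [← h3, ← hM m m hmf hmf, hm]
  refine ⟨ha, hb, ?_, ?_⟩
  · -- (c)
    intro x
    have h3 := hpol 1 x
    rw [one_mul, map_one, mul_one, h1, one_mul, map_one, mul_one] at h3
    have hf : bar (bar x + x) = bar x + x := by
      rw [map_add, hbb]
      ring
    rw [hBA _ hf, map_add] at h3
    exact add_right_cancel h3
  · -- (d)
    intro a
    rw [hAB a, hBA _ (hNf a)]

end Cfsg.Agent.Helper68.SUaut
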