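import Mathlib
import Cfsg.Agent.Helper6.SUaut1

/-!
Piece (C2) of helper6's plan for S3162 (board #8751): a `bar`-compatible, norm-compatible map that
is semilinear over the fixed field is multiplicative.
-/

set_option autoImplicit false
set_option linter.unusedSectionVars false

namespace Cfsg.Agent.Helper68.SUaut

open Cfsg.Agent.Helper19.SU3 Cfsg.Agent.Helper6.SUaut

variable {F : Type*} [Field F] [Fintype F] {bar : F →+* F} [BarField F bar]

/-- (C2) -/
theorem C2 (hω : ∃ ω : F, bar ω ≠ ω) (A : F →+ F)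
    (hsemi : ∀ μ x : F, bar μ = μ → A (μ * x) = A μ * A x)
    (hbarA : ∀ x : F, A (bar x) = bar (A x))
    (hnm : ∀ a : F, nm bar (A a) = A (nm bar a)) :
    ∀ x y : F, A (x * y) = A x * A y := by
  have h2 : (2 : F) = 0 := BarField.two bar
  have hbb : ∀ x : F, bar (bar x) = x := fun x => BarField.invol x
  obtain ⟨a₁, ha₁⟩ := hω
  set t := a₁ + bar a₁ with ht
  set c := a₁ * bar a₁ with hc
  have htf : bar t = t := by
    rw [ht, map_add, hbb]
    ring
  have hcf : bar c = c := by
    rw [hc, map_mul, hbb]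
    ring
  have ht0 : t ≠ 0 := by
    intro h
    apply ha₁
    have h3 : a₁ + a₁ = 0 := by linear_combination a₁ * h2
    linear_combination h - h3
  -- decomposition `x = μ + ν a₁`
  have hdec : ∀ x : F, ∃ μ ν : F, bar μ = μ ∧ bar ν = ν ∧ x = μ + ν * a₁ := by
    intro x
    have hνf : bar ((x + bar x) / t) = (x + bar x) / t := by
      rw [map_div₀, map_add, hbb, htf]
      ring
    refine ⟨x + (x + bar x) / t * a₁, (x + bar x) / t, ?_, hνf, ?_⟩
    · rw [map_add, map_mul, hνf]
      have h3 : (x + bar x) / t * (a₁ + bar a₁) = x + bar x := by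
        rw [← ht]
        exact div_mul_cancel₀ _ ht0
      linear_combination h3 + (bar x - (x + bar x) / t * a₁) * h2
    · linear_combination (-((x + bar x) / t * a₁)) * h2
  -- the quadratic equations of `a₁` and `A a₁`
  have hq : a₁ * a₁ = t * a₁ + c := by
    rw [ht, hc]
    linear_combination (-(a₁ * bar a₁)) * h2
  have hAt : A t = A a₁ + bar (A a₁) := by
    rw [ht, map_add, hbarA]
  have hAc : A c = A a₁ * bar (A a₁) := by
    rw [hc]
    exact (hnm a₁).symm
  have hAq : A a₁ * A a₁ = A t * A a₁ + A c := by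
    rw [hAt, hAc]
    linear_combination (-(A a₁ * bar (A a₁))) * h2
  intro x y
  obtain ⟨μ, ν, hμ, hν, rfl⟩ := hdec x
  obtain ⟨μ', ν', hμ', hν', rfl⟩ := hdec y
  have hcoef : bar (μ * ν' + ν * μ' + ν * ν' * t) = μ * ν' + ν * μ' + ν * ν' * t := by
    simp only [map_add, map_mul, hμ, hν, hμ', hν', htf]
  have e1 : (μ + ν * a₁) * (μ' + ν' * a₁) =
      μ * μ' + ν * (ν' * c) + (μ * ν' + ν * μ' + ν * ν' * t) * a₁ := by
    linear_combination (ν * ν') * hq
  rw [e1]
  simp only [map_add]
  rw [hsemi _ a₁ hcoef]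
  simp only [map_add]
  rw [hsemi μ μ' hμ, hsemi ν (ν' * c) hν, hsemi ν' c hν', hsemi μ ν' hμ, hsemi ν μ' hν,
    hsemi (ν * ν') t (by rw [map_mul, hν, hν']), hsemi ν ν' hν, hsemi ν a₁ hν, hsemi ν' a₁ hν']
  linear_combination (-(A ν * A ν')) * hAq

end Cfsg.Agent.Helper68.SUaut
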