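import Mathlib

set_option autoImplicit false
set_option linter.unusedSectionVars false
set_option linter.unusedVariables false

/-!
# S0429 farm (helper94), piece (AB): abstract counting lemma

77 six-subsets of a 22-set pairwise meeting in at most 2 elements cover every 3-subset.
-/

namespace Cfsg.Agent.Helper68.Srg77

open Finset

/-- (AB) Abstract counting lemma (Mathlib only). -/
theorem exists_block_of_count {α ι : Type*} [Fintype α] [DecidableEq α] [Fintype ι] [DecidableEq ι]
    (f : ι → Finset α) (hα : Fintype.card α = 22) (hι : Fintype.card ι = 77)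
    (h6 : ∀ i, (f i).card = 6) (h2 : ∀ i j, i ≠ j → (f i ∩ f j).card ≤ 2)
    (s : Finset α) (hs : s.card = 3) : ∃ i, s ⊆ f i := by
  classical
  set T : Finset (Σ _ : ι, Finset α) :=
    (Finset.univ : Finset ι).sigma (fun i => (f i).powersetCard 3) with hT
  have hTcard : T.card = 1540 := by
    rw [hT, Finset.card_sigma]
    have : ∀ i ∈ (Finset.univ : Finset ι), ((f i).powersetCard 3).card = 20 := by
      intro i _
      rw [Finset.card_powersetCard, h6 i]
      rfl
    rw [Finset.sum_congr rfl this, Finset.sum_const, Finset.card_univ, hι]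
    rfl
  have hinj : Set.InjOn (Sigma.snd : (Σ _ : ι, Finset α) → Finset α) (T : Set _) := by
    rintro ⟨i, a⟩ hi ⟨j, b⟩ hj hab
    simp only at hab
    subst hab
    rw [Finset.mem_coe, hT, Finset.mem_sigma, Finset.mem_powersetCard] at hi hj
    by_cases hij : i = j
    · subst hij; rfl
    · exfalso
      have hsub : a ⊆ f i ∩ f j := Finset.subset_inter hi.2.1 hj.2.1
      have h1 : a.card ≤ (f i ∩ f j).card := Finset.card_le_card hsub
      have h3 := h2 i j hij
      have h4 : a.card = 3 := hi.2.2
      omega
  have himg : T.image Sigma.snd = (Finset.univ : Finset α).powersetCard 3 := by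
    apply Finset.eq_of_subset_of_card_le
    · intro a ha
      rw [Finset.mem_image] at ha
      obtain ⟨⟨i, b⟩, hb, rfl⟩ := ha
      rw [hT, Finset.mem_sigma, Finset.mem_powersetCard] at hb
      rw [Finset.mem_powersetCard]
      exact ⟨Finset.subset_univ _, hb.2.2⟩
    · rw [Finset.card_image_of_injOn hinj, hTcard, Finset.card_powersetCard, Finset.card_univ, hα]
      decide
  have hsmem : s ∈ T.image Sigma.snd := by
    rw [himg, Finset.mem_powersetCard]
    exact ⟨Finset.subset_univ _, hs⟩
  rw [Finset.mem_image] at hsmem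
  obtain ⟨⟨i, b⟩, hb, rfl⟩ := hsmem
  rw [hT, Finset.mem_sigma, Finset.mem_powersetCard] at hb
  exact ⟨i, hb.2.1⟩

end Cfsg.Agent.Helper68.Srg77
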