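import Cfsg.Agent.Helper61.DihDefs

/-! (COMPL) of helper61's S3616 farm (#9767): the complementary connection set. -/

set_option autoImplicit false

namespace Cfsg.Agent.Helper68.Dih

open DihedralGroup Finset Cfsg.Agent.Helper61.Dih

/-- inclusion-exclusion for two predicates -/
theorem card_not_not {α : Type*} [Fintype α] [DecidableEq α] (P Q : α → Prop) [DecidablePred P]
    [DecidablePred Q] :
    ((univ.filter (fun i => ¬ P i ∧ ¬ Q i)).card : ℤ) =
      (Fintype.card α : ℤ) - (univ.filter P).card - (univ.filter Q).card +
        (univ.filter (fun i => P i ∧ Q i)).card := by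
  have h1 : univ.filter (fun i => ¬ P i ∧ ¬ Q i) = (univ.filter P ∪ univ.filter Q)ᶜ := by
    ext i
    simp
  have h2 : univ.filter (fun i => P i ∧ Q i) = univ.filter P ∩ univ.filter Q := by
    ext i
    simp
  rw [h1, h2, Finset.card_compl, Nat.cast_sub (Finset.card_le_univ _)]
  have h3 := Finset.card_union_add_card_inter (univ.filter P) (univ.filter Q)
  have h3' : (((univ.filter P ∪ univ.filter Q).card + (univ.filter P ∩ univ.filter Q).card : ℕ) :
      ℤ) = (((univ.filter P).card + (univ.filter Q).card : ℕ) : ℤ) := by rw [h3]
  push_cast at h3'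
  linarith

variable {e : ℕ} [NeZero e]

theorem mem_compA {A : Finset (ZMod e)} {i : ZMod e} : i ∈ compA A ↔ i ≠ 0 ∧ i ∉ A := by
  simp [compA]

theorem mem_compB {B : Finset (ZMod e)} {i : ZMod e} : i ∈ compB B ↔ i ∉ B := by
  simp [compB]

theorem card_zero_or_mem {A : Finset (ZMod e)} (h0 : (0 : ZMod e) ∉ A) :
    (univ.filter (fun i : ZMod e => i = 0 ∨ i ∈ A)).card = A.card + 1 := by
  have h1 : univ.filter (fun i : ZMod e => i = 0 ∨ i ∈ A) = insert 0 A := by
    ext i
    simp
  rw [h1, Finset.card_insert_of_notMem h0]

theorem card_filter_mem (B : Finset (ZMod e)) :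
    (univ.filter (fun i : ZMod e => i ∈ B)).card = B.card := by
  congr 1
  ext i
  simp

/-- (COMPL) -/
theorem DihData.compl {A B : Finset (ZMod e)} {k lam mu : ℤ} (h : DihData e A B k lam mu) :
    DihData e (compA A) (compB B) (2 * e - 1 - k) (2 * e - 2 - 2 * k + mu) (2 * e - 2 * k + lam) := by
  have h0 := h.zero_notMem
  have hcard : (Fintype.card (ZMod e) : ℤ) = e := by rw [ZMod.card]
  have hk := h.card_add
  refine ⟨?_, ?_, ?_, ?_, ?_⟩
  · rw [mem_compA]
    intro hc
    exact hc.1 rfl
  · intro i hi
    rw [mem_compA] at hi ⊢
    refine ⟨neg_ne_zero.2 hi.1, fun hc => hi.2 ?_⟩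
    have := h.neg_mem _ hc
    rwa [neg_neg] at this
  · -- cardinalities
    have e1 : compA A = univ.filter (fun i : ZMod e => ¬ (i = 0 ∨ i ∈ A) ∧ ¬ False) := by
      ext i
      simp [compA]
    have e2 : compB B = univ.filter (fun i : ZMod e => ¬ (i ∈ B) ∧ ¬ False) := by
      ext i
      simp [compB]
    rw [e1, e2, card_not_not, card_not_not, hcard, card_zero_or_mem h0, card_filter_mem]
    simp only [Finset.filter_false, Finset.card_empty, and_false, Nat.cast_zero]
    push_cast
    linarith
  · intro x hx
    -- the rotation part
    have eA : (compA A).filter (fun i => x - i ∈ compA A) =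
        univ.filter (fun i : ZMod e => ¬ (i = 0 ∨ i ∈ A) ∧ ¬ (x - i = 0 ∨ x - i ∈ A)) := by
      ext i
      simp [compA]
    have eB : (compB B).filter (fun j => j + x ∈ compB B) =
        univ.filter (fun j : ZMod e => ¬ (j ∈ B) ∧ ¬ (j + x ∈ B)) := by
      ext j
      simp [compB]
    have cQA : (univ.filter (fun i : ZMod e => x - i = 0 ∨ x - i ∈ A)).card = A.card + 1 := by
      rw [← card_zero_or_mem h0]
      refine Finset.card_bij' (fun i _ => x - i) (fun i _ => x - i) ?_ ?_ ?_ ?_
      · intro i hi
        simpa using hi
      · intro i hi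
        simp only [Finset.mem_filter, Finset.mem_univ, true_and] at hi ⊢
        rwa [sub_sub_cancel]
      · intro i _
        exact sub_sub_cancel x i
      · intro i _
        exact sub_sub_cancel x i
    have cQB : (univ.filter (fun j : ZMod e => j + x ∈ B)).card = B.card := by
      rw [← card_filter_mem B]
      refine Finset.card_bij' (fun j _ => j + x) (fun j _ => j - x) ?_ ?_ ?_ ?_
      · intro j hj
        simpa using hj
      · intro j hj
        simp only [Finset.mem_filter, Finset.mem_univ, true_and] at hj ⊢
        rwa [sub_add_cancel]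
      · intro j _
        exact add_sub_cancel_right j x
      · intro j _
        exact sub_add_cancel j x
    have cPQB : univ.filter (fun j : ZMod e => j ∈ B ∧ j + x ∈ B) =
        B.filter (fun j => j + x ∈ B) := by
      ext j
      simp
    have cPQA : ((univ.filter (fun i : ZMod e => (i = 0 ∨ i ∈ A) ∧
        (x - i = 0 ∨ x - i ∈ A))).card : ℤ) =
        ((A.filter (fun i => x - i ∈ A)).card : ℤ) + (if x ∈ A then 2 else 0) := by
      by_cases hxA : x ∈ A
      · rw [if_pos hxA]
        have e3 : univ.filter (fun i : ZMod e => (i = 0 ∨ i ∈ A) ∧ (x - i = 0 ∨ x - i ∈ A)) =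
            insert 0 (insert x (A.filter (fun i => x - i ∈ A))) := by
          ext i
          simp only [Finset.mem_filter, Finset.mem_univ, true_and, Finset.mem_insert]
          constructor
          · rintro ⟨hi | hi, hq | hq⟩
            · left; exact hi
            · left; exact hi
            · right; left
              exact (sub_eq_zero.1 hq).symm
            · right; right
              exact ⟨hi, hq⟩
          · rintro (hi | hi | ⟨hi, hq⟩)
            · subst hi
              exact ⟨Or.inl rfl, Or.inr (by rwa [sub_zero])⟩
            · subst hi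
              exact ⟨Or.inr hxA, Or.inl (sub_self _)⟩
            · exact ⟨Or.inr hi, Or.inr hq⟩
        have hx_notin : x ∉ A.filter (fun i => x - i ∈ A) := by
          intro hc
          rw [Finset.mem_filter, sub_self] at hc
          exact h0 hc.2
        have h0_notin : (0 : ZMod e) ∉ insert x (A.filter (fun i => x - i ∈ A)) := by
          intro hc
          rw [Finset.mem_insert, Finset.mem_filter] at hc
          rcases hc with hc | hc
          · exact hx hc.symm
          · exact h0 hc.1
        rw [e3, Finset.card_insert_of_notMem h0_notin, Finset.card_insert_of_notMem hx_notin]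
        push_cast
        ring
      · rw [if_neg hxA, add_zero]
        congr 2
        ext i
        simp only [Finset.mem_filter, Finset.mem_univ, true_and]
        constructor
        · rintro ⟨hi | hi, hq | hq⟩
          · subst hi
            rw [sub_zero] at hq
            exact absurd hq hx
          · subst hi
            rw [sub_zero] at hq
            exact absurd hq hxA
          · have : x = i := sub_eq_zero.1 hq
            rw [this] at hxA
            exact absurd hi hxA
          · exact ⟨hi, hq⟩
        · rintro ⟨hi, hq⟩
          exact ⟨Or.inr hi, Or.inr hq⟩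
    have hrot := h.rot x hx
    rw [eA, eB, card_not_not, card_not_not, hcard, card_zero_or_mem h0, cQA, cPQA,
      card_filter_mem, cQB, cPQB]
    have hxc : x ∈ compA A ↔ x ∉ A := by
      rw [mem_compA]
      exact ⟨fun h1 => h1.2, fun h1 => ⟨hx, h1⟩⟩
    by_cases hxA : x ∈ A
    · rw [if_pos hxA] at hrot ⊢
      rw [if_neg (fun hc => (hxc.1 hc) hxA)]
      push_cast
      linarith
    · rw [if_neg hxA] at hrot ⊢
      rw [if_pos (hxc.2 hxA)]
      push_cast
      linarith
  · intro x
    have eA : (compA A).filter (fun i => x + i ∈ compB B) =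
        univ.filter (fun i : ZMod e => ¬ (i = 0 ∨ i ∈ A) ∧ ¬ (x + i ∈ B)) := by
      ext i
      simp [compA, compB]
    have cQ : (univ.filter (fun i : ZMod e => x + i ∈ B)).card = B.card := by
      rw [← card_filter_mem B]
      refine Finset.card_bij' (fun i _ => x + i) (fun i _ => i - x) ?_ ?_ ?_ ?_
      · intro i hi
        simpa using hi
      · intro i hi
        simp only [Finset.mem_filter, Finset.mem_univ, true_and] at hi ⊢
        rwa [add_sub_cancel]
      · intro i _
        exact add_sub_cancel_left x i
      · intro i _
        exact add_sub_cancel x i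
    have cPQ : ((univ.filter (fun i : ZMod e => (i = 0 ∨ i ∈ A) ∧ x + i ∈ B)).card : ℤ) =
        ((A.filter (fun i => x + i ∈ B)).card : ℤ) + (if x ∈ B then 1 else 0) := by
      by_cases hxB : x ∈ B
      · rw [if_pos hxB]
        have e3 : univ.filter (fun i : ZMod e => (i = 0 ∨ i ∈ A) ∧ x + i ∈ B) =
            insert 0 (A.filter (fun i => x + i ∈ B)) := by
          ext i
          simp only [Finset.mem_filter, Finset.mem_univ, true_and, Finset.mem_insert]
          constructor
          · rintro ⟨hi | hi, hq⟩
            · left; exact hi
            · right; exact ⟨hi, hq⟩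
          · rintro (hi | ⟨hi, hq⟩)
            · subst hi
              exact ⟨Or.inl rfl, by rwa [add_zero]⟩
            · exact ⟨Or.inr hi, hq⟩
        have h0_notin : (0 : ZMod e) ∉ A.filter (fun i => x + i ∈ B) := by
          intro hc
          rw [Finset.mem_filter] at hc
          exact h0 hc.1
        rw [e3, Finset.card_insert_of_notMem h0_notin]
        push_cast
        ring
      · rw [if_neg hxB, add_zero]
        congr 2
        ext i
        simp only [Finset.mem_filter, Finset.mem_univ, true_and]
        constructor
        · rintro ⟨hi | hi, hq⟩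
          · subst hi
            rw [add_zero] at hq
            exact absurd hq hxB
          · exact ⟨hi, hq⟩
        · rintro ⟨hi, hq⟩
          exact ⟨Or.inr hi, hq⟩
    have hrefl := h.refl x
    rw [eA, card_not_not, hcard, card_zero_or_mem h0, cQ, cPQ]
    have hxc : x ∈ compB B ↔ x ∉ B := mem_compB
    by_cases hxB : x ∈ B
    · rw [if_pos hxB] at hrefl ⊢
      rw [if_neg (fun hc => (hxc.1 hc) hxB)]
      push_cast
      linarith
    · rw [if_neg hxB] at hrefl ⊢
      rw [if_pos (hxc.2 hxB)]
      push_cast
      linarith

end Cfsg.Agent.Helper68.Dih
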