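import Cfsg.Agent.Helper61.DihDefs

/-! (D0) of helper61's S3616 farm (#9767): from a strongly regular Cayley set on the dihedral
group to the data inside `ZMod e`. -/

set_option autoImplicit false

namespace Cfsg.Agent.Helper68.Dih

open DihedralGroup Finset Cfsg.Agent.Helper61.Dih

variable {e : ℕ} [NeZero e]

/-- counting in `T` splits into rotations and reflections -/
theorem card_filter_split (T : Finset (DihedralGroup e)) (p : DihedralGroup e → Prop)
    [DecidablePred p] :
    (T.filter p).card = ((rotPart T).filter (fun i => p (r i))).card +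
      ((refPart T).filter (fun j => p (sr j))).card := by
  have hr : Function.Injective (r : ZMod e → DihedralGroup e) := fun a b h => by
    injection h
  have hs : Function.Injective (sr : ZMod e → DihedralGroup e) := fun a b h => by
    injection h
  have h1 : T.filter p = (((rotPart T).filter (fun i => p (r i))).image r) ∪
      (((refPart T).filter (fun j => p (sr j))).image sr) := by
    ext d
    cases d with
    | r i => simp [mem_rotPart]
    | sr i => simp [mem_refPart]
  have hdisj : Disjoint (((rotPart T).filter (fun i => p (r i))).image r)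
      (((refPart T).filter (fun j => p (sr j))).image sr) := by
    rw [Finset.disjoint_left]
    intro d hd hd'
    rw [Finset.mem_image] at hd hd'
    obtain ⟨i, _, rfl⟩ := hd
    obtain ⟨j, _, hj⟩ := hd'
    exact absurd hj (by simp)
  rw [h1, Finset.card_union_of_disjoint hdisj, Finset.card_image_of_injective _ hr,
    Finset.card_image_of_injective _ hs]

/-- (D0) -/
theorem dihData_of_isSrgSet {T : Finset (DihedralGroup e)} {k lam mu : ℕ}
    (h : IsSrgSet T k lam mu) : DihData e (rotPart T) (refPart T) (k : ℤ) (lam : ℤ) (mu : ℤ) := by
  have hnegA : ∀ i, i ∈ rotPart T → -i ∈ rotPart T := by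
    intro i hi
    rw [mem_rotPart] at hi ⊢
    have := h.inv_mem _ hi
    rwa [inv_r] at this
  refine ⟨?_, hnegA, ?_, ?_, ?_⟩
  · rw [mem_rotPart, ← one_def]
    exact h.one_notMem
  · have h1 := card_filter_split T (fun _ => True)
    simp only [Finset.filter_true_of_mem, implies_true] at h1
    rw [h.card_eq] at h1
    rw [h1]
    push_cast
    rfl
  · intro x hx
    have hx1 : (r x : DihedralGroup e) ≠ 1 := by
      rw [one_def]
      intro h0
      injection h0 with h0
      exact hx h0
    have h1 := h.count (r x) hx1
    rw [card_filter_split] at h1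
    have e1 : (rotPart T).filter (fun i => (r i : DihedralGroup e)⁻¹ * r x ∈ T) =
        (rotPart T).filter (fun i => x - i ∈ rotPart T) := by
      refine Finset.filter_congr fun i _ => ?_
      rw [inv_r, r_mul_r, mem_rotPart, neg_add_eq_sub]
    have e2 : (refPart T).filter (fun j => (sr j : DihedralGroup e)⁻¹ * r x ∈ T) =
        (refPart T).filter (fun j => j + x ∈ refPart T) := by
      refine Finset.filter_congr fun j _ => ?_
      rw [inv_sr, sr_mul_r, mem_refPart]
    rw [e1, e2] at h1
    have h2 : ((((rotPart T).filter (fun i => x - i ∈ rotPart T)).card +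
        ((refPart T).filter (fun j => j + x ∈ refPart T)).card : ℕ) : ℤ) =
        ((if r x ∈ T then lam else mu : ℕ) : ℤ) := by rw [h1]
    push_cast at h2
    rw [h2]
    by_cases hxT : r x ∈ T
    · rw [if_pos hxT, if_pos (mem_rotPart.2 hxT)]
    · rw [if_neg hxT, if_neg (fun hc => hxT (mem_rotPart.1 hc))]
  · intro x
    have hx1 : (sr x : DihedralGroup e) ≠ 1 := by
      rw [one_def]
      intro h0
      cases h0
    have h1 := h.count (sr x) hx1
    rw [card_filter_split] at h1
    have e1 : (rotPart T).filter (fun i => (r i : DihedralGroup e)⁻¹ * sr x ∈ T) =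
        (rotPart T).filter (fun i => x + i ∈ refPart T) := by
      refine Finset.filter_congr fun i _ => ?_
      rw [inv_r, r_mul_sr, mem_refPart, sub_neg_eq_add]
    have e2 : (refPart T).filter (fun j => (sr j : DihedralGroup e)⁻¹ * sr x ∈ T) =
        (refPart T).filter (fun j => x - j ∈ rotPart T) := by
      refine Finset.filter_congr fun j _ => ?_
      rw [inv_sr, sr_mul_sr, mem_rotPart]
    have e3 : ((refPart T).filter (fun j => x - j ∈ rotPart T)).card =
        ((rotPart T).filter (fun i => x + i ∈ refPart T)).card := by
      refine Finset.card_bij' (fun j _ => j - x) (fun i _ => x + i) ?_ ?_ ?_ ?_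
      · intro j hj
        rw [Finset.mem_filter] at hj ⊢
        refine ⟨?_, ?_⟩
        · have := hnegA _ hj.2
          rwa [neg_sub] at this
        · rw [add_sub_cancel]
          exact hj.1
      · intro i hi
        rw [Finset.mem_filter] at hi ⊢
        refine ⟨hi.2, ?_⟩
        have := hnegA _ hi.1
        rwa [show x - (x + i) = -i by ring]
      · intro j _
        ring
      · intro i _
        ring
    rw [e1, e2, e3] at h1
    have h2 : ((((rotPart T).filter (fun i => x + i ∈ refPart T)).card +
        ((rotPart T).filter (fun i => x + i ∈ refPart T)).card : ℕ) : ℤ) =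
        ((if sr x ∈ T then lam else mu : ℕ) : ℤ) := by rw [h1]
    push_cast at h2
    rw [two_mul, h2]
    by_cases hxT : sr x ∈ T
    · rw [if_pos hxT, if_pos (mem_refPart.2 hxT)]
    · rw [if_neg hxT, if_neg (fun hc => hxT (mem_refPart.1 hc))]

end Cfsg.Agent.Helper68.Dih
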