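import Cfsg.Agent.Helper68.HallT1

/-!
# M. Hall's theorem (S4221), piece T6 (helper68 for helper61): the even case, structure of `C(u)`

`even_cen_orbits` with the signature of helper61's skeleton plus the hypothesis
`hn : 5 ≤ Fintype.card Ω` right after `hk` (the skeleton's statement fails for `card Ω = 4`).
-/

set_option autoImplicit false

namespace Cfsg.Agent.Helper68.HallT

open MulAction Cfsg.Agent.Helper61.Hall

variable {G : Type*} [Group G] {Ω : Type*} [MulAction G Ω]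

theorem mem_orbit_subgroup {M : Subgroup G} {q x : Ω} :
    x ∈ orbit M q ↔ ∃ g ∈ M, g • q = x := by
  constructor
  · rintro ⟨⟨g, hg⟩, rfl⟩
    exact ⟨g, hg, rfl⟩
  · rintro ⟨g, hg, rfl⟩
    exact ⟨⟨g, hg⟩, rfl⟩

/-- orbit-stabilizer for a subgroup, in terms of subgroups of the big group -/
theorem ncard_orbit_mul_card_inf_stabilizer (M : Subgroup G) (q : Ω) :
    (orbit M q).ncard * Nat.card (M ⊓ stabilizer G q : Subgroup G) = Nat.card M := by
  have h1 := MulAction.index_stabilizer M q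
  have h2 := (stabilizer M q).index_mul_card
  have h3 : Nat.card (stabilizer M q) = Nat.card (M ⊓ stabilizer G q : Subgroup G) :=
    Nat.card_congr
      { toFun := fun x => ⟨x.1.1, ⟨x.1.2, x.2⟩⟩
        invFun := fun x => ⟨⟨x.1, x.2.1⟩, x.2.2⟩
        left_inv := fun _ => rfl
        right_inv := fun _ => rfl }
  rw [← h1, ← h3, h2]

theorem even_cen_orbits [Fintype Ω] [Finite G] (h4 : IsMultiplyPretransitive G Ω 4)
    (hodd : OddStab4 G Ω) {k : ℕ} (hk : CenConst G Ω k) (hn : 5 ≤ Fintype.card Ω)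
    {u w : G} {d1 d2 e1 e2 : Ω}
    (hd12 : d1 ≠ d2) (hd1e1 : d1 ≠ e1) (hd1e2 : d1 ≠ e2) (hd2e1 : d2 ≠ e1) (hd2e2 : d2 ≠ e2)
    (he12 : e1 ≠ e2)
    (hu : u * u = 1) (ud1 : u • d1 = d2) (ud2 : u • d2 = d1)
    (hfix : ∀ q, u • q = q ↔ q = e1 ∨ q = e2)
    (hw : w * u = u * w) (wd1 : w • d1 = d1) (we1 : w • e1 = e2) :
    Nat.card (stab4 G d1 d2 e1 e2 ⊓ Subgroup.centralizer {u} : Subgroup G) * 2 =
      (Fintype.card Ω - 4) * k ∧
    ∀ q : Ω, q ≠ d1 → q ≠ d2 → q ≠ e1 → q ≠ e2 →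
      Nat.card (stab4 G d1 d2 e1 e2 ⊓ Subgroup.centralizer {u} ⊓ stabilizer G q : Subgroup G) = k ∧
      Nat.card (orbit (stab4 G d1 d2 e1 e2) q) * 2 = Fintype.card Ω - 4 := by
  classical
  have huu : ∀ x : Ω, u • u • x = x := fun x => by rw [← mul_smul, hu, one_smul]
  have ue1 : u • e1 = e1 := (hfix e1).mpr (Or.inl rfl)
  have ue2 : u • e2 = e2 := (hfix e2).mpr (Or.inr rfl)
  -- elements of the centralizer
  have hcs : ∀ g : G, g * u = u * g → ∀ x : Ω, g • u • x = u • g • x := fun g hg x => by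
    rw [← mul_smul, ← mul_smul, hg]
  have hfixg : ∀ g : G, g * u = u * g → ∀ x : Ω, (u • g • x = g • x ↔ u • x = x) :=
    fun g hg x => by
      rw [← hcs g hg]
      exact (MulAction.injective g).eq_iff
  -- the set `Y` of the other points
  set Y : Set Ω := {x | x ≠ d1 ∧ x ≠ d2 ∧ x ≠ e1 ∧ x ≠ e2} with hY
  have hYmoved : ∀ q ∈ Y, u • q ≠ q := fun q hq h => by
    rcases (hfix q).mp h with h | h
    · exact hq.2.2.1 h
    · exact hq.2.2.2 h
  have hYu : ∀ q ∈ Y, u • q ∈ Y := by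
    intro q hq
    refine ⟨?_, ?_, ?_, ?_⟩
    · intro h; apply hq.2.1; rw [← huu q, h, ud1]
    · intro h; apply hq.1; rw [← huu q, h, ud2]
    · intro h; apply hq.2.2.1; rw [← huu q, h, ue1]
    · intro h; apply hq.2.2.2; rw [← huu q, h, ue2]
  have hYcard : Y.ncard = Fintype.card Ω - 4 := by
    have h1 : Y = ((({d1, d2, e1, e2} : Finset Ω) : Set Ω))ᶜ := by
      ext x
      simp [hY, not_or]
    rw [h1, Set.ncard_compl, Set.ncard_coe_finset, Nat.card_eq_fintype_card]
    congr 1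
    rw [Finset.card_insert_of_notMem, Finset.card_insert_of_notMem, Finset.card_pair he12]
    · simp [hd2e1, hd2e2]
    · simp [hd12, hd1e1, hd1e2]
  have hYne : Y.Nonempty := by
    apply Set.nonempty_of_ncard_ne_zero
    rw [hYcard]
    omega
  set C : Subgroup G := Subgroup.centralizer {u} with hC
  set L : Subgroup G := C ⊓ stabilizer G d1 with hL
  set H : Subgroup G := stab4 G d1 d2 e1 e2 with hH
  have hLmem : ∀ g : G, g ∈ L ↔ g * u = u * g ∧ g • d1 = d1 := fun g => by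
    rw [hL, Subgroup.mem_inf, hC, mem_cen, mem_stabilizer_iff]
  have hLd2 : ∀ g : G, g * u = u * g → g • d1 = d1 → g • d2 = d2 := fun g hg h1 => by
    rw [← ud1, hcs g hg, h1]
  have hLY : ∀ g : G, g * u = u * g → g • d1 = d1 → ∀ q ∈ Y, g • q ∈ Y := by
    intro g hg h1 q hq
    have hm : u • g • q ≠ g • q := fun h => hYmoved q hq ((hfixg g hg q).mp h)
    refine ⟨?_, ?_, ?_, ?_⟩
    · intro h; exact hq.1 (MulAction.injective g (h.trans h1.symm))
    · intro h; exact hq.2.1 (MulAction.injective g (h.trans (hLd2 g hg h1).symm))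
    · intro h; apply hm; rw [h, ue1]
    · intro h; apply hm; rw [h, ue2]
  -- (a) point stabilizers in `L`
  have hLq : ∀ q ∈ Y,
      (L ⊓ stabilizer G q : Subgroup G) = C ⊓ stab4 G d1 (u • d1) q (u • q) := by
    intro q hq
    ext g
    rw [Subgroup.mem_inf, hLmem, mem_stabilizer_iff, Subgroup.mem_inf, hC, mem_cen, mem_stab4]
    constructor
    · rintro ⟨⟨hg, h1⟩, h2⟩
      refine ⟨hg, h1, ?_, h2, ?_⟩
      · rw [ud1]; exact hLd2 g hg h1
      · rw [hcs g hg, h2]
    · rintro ⟨hg, h1, -, h2, -⟩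
      exact ⟨⟨hg, h1⟩, h2⟩
  have hLqcard : ∀ q ∈ Y, Nat.card (L ⊓ stabilizer G q : Subgroup G) = k := by
    intro q hq
    rw [hLq q hq]
    exact hk u d1 q hu (by rw [ud1]; exact hd12.symm) (hYmoved q hq) hq.1
      (by rw [ud1]; exact hq.2.1)
  -- (b) `L` is transitive on `Y`
  have hLorb : ∀ q ∈ Y, orbit L q = Y := by
    intro q hq
    ext x
    rw [mem_orbit_subgroup]
    constructor
    · rintro ⟨g, hg, rfl⟩
      obtain ⟨hgu, h1⟩ := (hLmem g).mp hg
      exact hLY g hgu h1 q hq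
    · intro hx
      obtain ⟨g, hgu, g1, gq⟩ := exists_conj h4 hodd hu hu (a := d1) (c := q) (a' := d1)
        (c' := x) (by rw [ud1]; exact hd12.symm) (hYmoved q hq) hq.1
        (by rw [ud1]; exact hq.2.1) (by rw [ud1]; exact hd12.symm) (hYmoved x hx) hx.1
        (by rw [ud1]; exact hx.2.1)
      have hgu' : g * u = u * g := by
        calc g * u = g * u * g⁻¹ * g := by group
          _ = u * g := by rw [hgu]
      exact ⟨g, (hLmem g).mpr ⟨hgu', g1⟩, gq⟩
  have hLcard : ∀ q ∈ Y, Nat.card L = (Fintype.card Ω - 4) * k := by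
    intro q hq
    rw [← ncard_orbit_mul_card_inf_stabilizer L q, hLorb q hq, hYcard, hLqcard q hq]
  -- (e) `L` on `{e1, e2}`
  have hLe1 : orbit L e1 = {e1, e2} := by
    ext x
    rw [mem_orbit_subgroup]
    constructor
    · rintro ⟨g, hg, rfl⟩
      obtain ⟨hgu, h1⟩ := (hLmem g).mp hg
      exact (hfix _).mp ((hfixg g hgu e1).mpr ue1)
    · intro hx
      rcases hx with hx | hx
      · exact ⟨1, L.one_mem, by rw [one_smul, hx]⟩
      · exact ⟨w, (hLmem w).mpr ⟨hw, wd1⟩, by rw [we1]; exact hx.symm⟩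
  have hLe1stab : (L ⊓ stabilizer G e1 : Subgroup G) = H ⊓ C := by
    ext g
    rw [Subgroup.mem_inf, hLmem, mem_stabilizer_iff, Subgroup.mem_inf, hH, mem_stab4, hC, mem_cen]
    constructor
    · rintro ⟨⟨hg, h1⟩, h3⟩
      have h4' : g • e2 = e2 := by
        rcases (hfix _).mp ((hfixg g hg e2).mpr ue2) with h | h
        · exact absurd (MulAction.injective g (h.trans h3.symm)) he12.symm
        · exact h
      exact ⟨⟨h1, hLd2 g hg h1, h3, h4'⟩, hg⟩
    · rintro ⟨⟨h1, -, h3, -⟩, hg⟩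
      exact ⟨⟨hg, h1⟩, h3⟩
  have hLA : Nat.card L = 2 * Nat.card (H ⊓ C : Subgroup G) := by
    rw [← ncard_orbit_mul_card_inf_stabilizer L e1, hLe1, hLe1stab, Set.ncard_pair he12]
  -- (f) point stabilizers in `A = H ⊓ C`
  have hAq : ∀ q ∈ Y, (H ⊓ C ⊓ stabilizer G q : Subgroup G) = L ⊓ stabilizer G q := by
    intro q hq
    ext g
    rw [Subgroup.mem_inf, Subgroup.mem_inf, hH, mem_stab4, hC, mem_cen, mem_stabilizer_iff,
      Subgroup.mem_inf, hLmem, mem_stabilizer_iff]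
    constructor
    · rintro ⟨⟨⟨h1, -, -, -⟩, hg⟩, hq'⟩
      exact ⟨⟨hg, h1⟩, hq'⟩
    · rintro ⟨⟨hg, h1⟩, hgq⟩
      have h2 := hLd2 g hg h1
      have hguq : g • u • q = u • q := by rw [hcs g hg, hgq]
      have hmem : g ∈ stab4 G d1 d2 q (u • q) := mem_stab4.mpr ⟨h1, h2, hgq, hguq⟩
      have huq := hYu q hq
      have hgo : Odd (orderOf g) :=
        odd_orderOf_of_mem_stab4 hodd hd12 (Ne.symm hq.1) (Ne.symm huq.1) (Ne.symm hq.2.1)
          (Ne.symm huq.2.1) (Ne.symm (hYmoved q hq)) hmem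
      have he1' : g • e1 = e1 ∨ g • e1 = e2 := (hfix _).mp ((hfixg g hg e1).mpr ue1)
      have he2' : g • e2 = e1 ∨ g • e2 = e2 := (hfix _).mp ((hfixg g hg e2).mpr ue2)
      have h3 : g • e1 = e1 := by
        rcases he1' with h | h
        · exact h
        · exfalso
          have h' : g • e2 = e1 := by
            rcases he2' with h' | h'
            · exact h'
            · exact absurd (MulAction.injective g (h.trans h'.symm)) he12
          have hp := pow_odd_smul (g := g) (x := e1) (by rw [h, h']) hgo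
          rw [pow_orderOf_eq_one, one_smul, h] at hp
          exact he12 hp
      have h4' : g • e2 = e2 := by
        rcases he2' with h | h
        · exact absurd (MulAction.injective g (h.trans h3.symm)) he12.symm
        · exact h
      exact ⟨⟨⟨h1, h2, h3, h4'⟩, hg⟩, hgq⟩
  have hkpos : 0 < k := by
    obtain ⟨q, hq⟩ := hYne
    rw [← hLqcard q hq]
    exact Nat.card_pos
  have hAcard : Nat.card (H ⊓ C : Subgroup G) * 2 = (Fintype.card Ω - 4) * k := by
    obtain ⟨q, hq⟩ := hYne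
    rw [← hLcard q hq, hLA, mul_comm]
  have hAorb : ∀ q ∈ Y, (orbit (H ⊓ C : Subgroup G) q).ncard * 2 = Fintype.card Ω - 4 := by
    intro q hq
    have h1 := ncard_orbit_mul_card_inf_stabilizer (H ⊓ C) q
    rw [hAq q hq, hLqcard q hq] at h1
    have h2 : (orbit (H ⊓ C : Subgroup G) q).ncard * 2 * k = (Fintype.card Ω - 4) * k := by
      rw [← hAcard, ← h1]; ring
    exact Nat.eq_of_mul_eq_mul_right hkpos h2
  refine ⟨hAcard, ?_⟩
  intro q q1 q2 q3 q4
  have hq : q ∈ Y := ⟨q1, q2, q3, q4⟩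
  refine ⟨by rw [hAq q hq, hLqcard q hq], ?_⟩
  rw [Nat.card_coe_set_eq]
  -- the `H`-orbit of `q`
  have hHodd : Odd (Nat.card H) := hodd d1 d2 e1 e2 hd12 hd1e1 hd1e2 hd2e1 hd2e2 he12
  have hHorbodd : Odd (orbit H q).ncard :=
    Odd.of_dvd_nat hHodd (Dvd.intro _ (ncard_orbit_mul_card_inf_stabilizer H q))
  have hsub1 : orbit (H ⊓ C : Subgroup G) q ⊆ orbit H q := by
    intro x hx
    rw [mem_orbit_subgroup] at hx ⊢
    obtain ⟨g, hg, rfl⟩ := hx
    exact ⟨g, hg.1, rfl⟩
  have hHY : orbit H q ⊆ Y := by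
    intro x hx
    rw [mem_orbit_subgroup] at hx
    obtain ⟨g, hg, rfl⟩ := hx
    obtain ⟨g1, g2, g3, g4⟩ := mem_stab4.mp hg
    refine ⟨?_, ?_, ?_, ?_⟩
    · intro h; exact q1 (MulAction.injective g (h.trans g1.symm))
    · intro h; exact q2 (MulAction.injective g (h.trans g2.symm))
    · intro h; exact q3 (MulAction.injective g (h.trans g3.symm))
    · intro h; exact q4 (MulAction.injective g (h.trans g4.symm))
  by_cases heq : orbit H q = orbit (H ⊓ C : Subgroup G) q
  · rw [heq]; exact hAorb q hq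
  · exfalso
    have hex : ∃ x ∈ orbit H q, x ∉ orbit (H ⊓ C : Subgroup G) q := by
      by_contra hcon
      push_neg at hcon
      exact heq (Set.Subset.antisymm hcon hsub1)
    obtain ⟨x, hxH, hxA⟩ := hex
    have hxY := hHY hxH
    have hsub2 : orbit (H ⊓ C : Subgroup G) x ⊆ orbit H q := by
      intro y hy
      rw [mem_orbit_subgroup] at hy hxH ⊢
      obtain ⟨g, hg, rfl⟩ := hy
      obtain ⟨h, hh, rfl⟩ := hxH
      exact ⟨g * h, H.mul_mem hg.1 hh, mul_smul _ _ _⟩
    have hdisj : Disjoint (orbit (H ⊓ C : Subgroup G) q) (orbit (H ⊓ C : Subgroup G) x) := by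
      rw [Set.disjoint_left]
      intro y hy1 hy2
      apply hxA
      rw [mem_orbit_subgroup] at hy1 hy2 ⊢
      obtain ⟨g1, hg1, rfl⟩ := hy1
      obtain ⟨g2, hg2, h2⟩ := hy2
      refine ⟨g2⁻¹ * g1, Subgroup.mul_mem _ (Subgroup.inv_mem _ hg2) hg1, ?_⟩
      rw [mul_smul, ← h2, inv_smul_smul]
    have hcard2 : (orbit (H ⊓ C : Subgroup G) q ∪ orbit (H ⊓ C : Subgroup G) x).ncard =
        Fintype.card Ω - 4 := by
      rw [Set.ncard_union_eq hdisj]
      have e1 := hAorb q hq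
      have e2 := hAorb x hxY
      omega
    have hle : (orbit (H ⊓ C : Subgroup G) q ∪ orbit (H ⊓ C : Subgroup G) x).ncard ≤
        (orbit H q).ncard := Set.ncard_le_ncard (Set.union_subset hsub1 hsub2)
    have hle2 : (orbit H q).ncard ≤ Y.ncard := Set.ncard_le_ncard hHY
    have h2m : (orbit H q).ncard = 2 * (orbit (H ⊓ C : Subgroup G) q).ncard := by
      have e1 := hAorb q hq
      omega
    rw [h2m] at hHorbodd
    exact (Nat.not_odd_iff_even.mpr (even_two_mul _)) hHorbodd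

end Cfsg.Agent.Helper68.HallT
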