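import Mathlib
import Cfsg.Agent.Helper17.SylowKit
import Cfsg.Agent.Helper17.Parity
import Cfsg.Agent.Helper17.OrbitCount
import Cfsg.Agent.S1018
import Cfsg.Agent.S1019

set_option autoImplicit false
set_option linter.style.haveILetI false

/-!
# No simple group of order 5040 has 36 Sylow 5-subgroups

`n_5 = 36` forces `|N(P_5)| = 140`, which has a normal Sylow 7-subgroup, whence `n_7 = 36` and
`|N(P_7)| = 140`, `|C(P_7)| = 70`.  An involution `u` of `C(P_7)` fixes exactly `8` of the `36`
cosets of `N(P_7)`, an involution of `N(P_7)` outside `C(P_7)` at most `6`; so the conjugates of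
`u` in `N(P_7)` all lie in `C(P_7)`, and they form a single `C(P_7)`-class, of odd size.  The
fixed point formula `8 |u^G| = 36 m` makes `m` even.
-/

namespace Cfsg.Agent.Helper68.H5040B

open Subgroup MulAction

variable {G : Type*} [Group G]

/-- conjugate elements fix the same number of points -/
theorem card_fixedBy_conj {X : Type*} [MulAction G X] (c u : G) :
    Nat.card (fixedBy X (c * u * c⁻¹)) = Nat.card (fixedBy X u) := by
  symm
  refine Nat.card_congr ⟨fun x => ⟨c • x.1, ?_⟩, fun x => ⟨c⁻¹ • x.1, ?_⟩, ?_, ?_⟩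
  · have hx := x.2
    rw [mem_fixedBy] at hx ⊢
    rw [← mul_smul, inv_mul_cancel_right, mul_smul, hx]
  · have hx := x.2
    rw [mem_fixedBy] at hx ⊢
    nth_rewrite 2 [← hx]
    simp only [← mul_smul]
    congr 1
    group
  · intro x; ext; simp
  · intro x; ext; simp

/-- a simple group acts faithfully on the cosets of a proper subgroup -/
theorem eq_one_of_forall_smul_eq [IsSimpleGroup G] (N : Subgroup G) (hN : N ≠ ⊤) (u : G)
    (hu : ∀ x : G ⧸ N, u • x = x) : u = 1 := by
  have hk : u ∈ (MulAction.toPermHom G (G ⧸ N)).ker := by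
    rw [MonoidHom.mem_ker]
    exact Equiv.ext fun x => hu x
  rw [← Subgroup.normalCore_eq_ker] at hk
  rcases (Subgroup.normalCore_normal N).eq_bot_or_eq_top with h | h
  · rw [h] at hk
    exact Subgroup.mem_bot.mp hk
  · exact absurd (top_le_iff.mp (h ▸ Subgroup.normalCore_le N)) hN

/-- `n_5 = 36` forces `n_7 = 36` -/
theorem card_sylow7 [Finite G] [IsSimpleGroup G] (hcard : Nat.card G = 5040)
    (h : Nat.card (Sylow 5 G) = 36) : Nat.card (Sylow 7 G) = 36 := by
  haveI : Fact (Nat.Prime 5) := ⟨by norm_num⟩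
  haveI : Fact (Nat.Prime 7) := ⟨by norm_num⟩
  obtain ⟨P5⟩ : Nonempty (Sylow 5 G) := inferInstance
  set N5 := normalizer ((P5 : Subgroup G) : Set G) with hN5
  have hN5card : Nat.card N5 = 140 := by
    have : Nat.card N5 * Nat.card (Sylow 5 G) = Nat.card G :=
      Helper17.card_normalizer_mul_card_sylow P5
    rw [h, hcard] at this
    omega
  have hN5' : Nat.card N5 = 7 ^ 1 * 20 := by rw [hN5card]; norm_num
  -- `N5` has a unique Sylow 7-subgroup
  have h1 : Nat.card (Sylow 7 N5) ∣ 20 := Helper17.card_sylow_dvd_of_card_eq hN5' (by norm_num)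
  have h2 : Nat.card (Sylow 7 N5) ≡ 1 [MOD 7] := card_sylow_modEq_one 7 N5
  have h3 : Nat.card (Sylow 7 N5) = 1 := by
    have hle : Nat.card (Sylow 7 N5) ≤ 20 := Nat.le_of_dvd (by norm_num) h1
    unfold Nat.ModEq at h2
    obtain ⟨k, hk⟩ := h1
    generalize Nat.card (Sylow 7 N5) = n at *
    interval_cases n <;> omega
  haveI : Subsingleton (Sylow 7 N5) := (Nat.card_eq_one_iff_unique.mp h3).1
  obtain ⟨Q⟩ : Nonempty (Sylow 7 N5) := inferInstance
  haveI hQn : (Q : Subgroup N5).Normal := Sylow.normal_of_subsingleton Q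
  have hQcard : Nat.card (Q : Subgroup N5) = 7 := by
    have := Helper17.card_sylow_subgroup_of_card_eq hN5' (by norm_num) Q
    simpa using this
  set P7' : Subgroup G := (Q : Subgroup N5).map N5.subtype with hP7'
  have hP7'card : Nat.card P7' = 7 := by
    rw [hP7', Subgroup.card_map_of_injective N5.subtype_injective, hQcard]
  have hN5le : N5 ≤ normalizer (P7' : Set G) := by
    have key : ∀ m ∈ N5, ∀ y ∈ P7', m * y * m⁻¹ ∈ P7' := by
      rintro m hm _ ⟨x, hx, rfl⟩
      exact ⟨⟨m, hm⟩ * x * ⟨m, hm⟩⁻¹, hQn.conj_mem x hx _, rfl⟩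
    intro g hg
    rw [mem_normalizer_iff]
    intro x
    refine ⟨key g hg x, fun hx => ?_⟩
    have := key g⁻¹ (N5.inv_mem hg) _ hx
    have e : g⁻¹ * (g * x * g⁻¹) * g⁻¹⁻¹ = x := by group
    rwa [e] at this
  have hG : Nat.card G = 7 ^ 1 * 720 := by rw [hcard]; norm_num
  obtain ⟨P7, hP7⟩ := (IsPGroup.of_card (p := 7) (n := 1) (by rw [hP7'card, pow_one])).exists_le_sylow
  have hP7card : Nat.card (P7 : Subgroup G) = 7 := by
    have := Helper17.card_sylow_subgroup_of_card_eq hG (by norm_num) P7
    simpa using this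
  have hP7eq : P7' = (P7 : Subgroup G) :=
    Subgroup.eq_of_le_of_card_ge hP7 (by rw [hP7card, hP7'card])
  rw [hP7eq] at hN5le
  have h4 := Subgroup.card_dvd_of_le hN5le
  rw [hN5card] at h4
  have h5 := Helper17.card_normalizer_mul_card_sylow P7
  rw [hcard] at h5
  have h6 : Nat.card (Sylow 7 G) ≡ 1 [MOD 7] := card_sylow_modEq_one 7 G
  have h7 : Nat.card (Sylow 7 G) ≠ 1 :=
    Helper17.card_sylow_ne_one_of_simple hG (by norm_num) (by norm_num) (by norm_num)
  obtain ⟨a, ha⟩ := h4
  rw [ha] at h5
  unfold Nat.ModEq at h6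
  generalize Nat.card (Sylow 7 G) = n at *
  have h8 : a * n = 36 := by
    have : 140 * (a * n) = 140 * 36 := by rw [← mul_assoc]; omega
    exact Nat.eq_of_mul_eq_mul_left (by norm_num) this
  have hle : n ≤ 36 := Nat.le_of_dvd (by norm_num) ⟨a, by rw [← h8, mul_comm]⟩
  interval_cases n <;> omega

/-- **Fixed point count of a central involution.**  Let `P` be a Sylow subgroup of prime order
`p` of a simple group and `t` an involution of `C(P)`.  Then the number `F` of cosets of `N(P)`
fixed by `t` satisfies `F ≡ 1 (mod p)` and `F + 4 m = n_p` for some `m ≠ 0`. -/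
theorem fix_count [Finite G] [IsSimpleGroup G] (hG2 : 2 < Nat.card G) {p : ℕ} [hp : Fact p.Prime]
    (P : Sylow p G) (hP : Nat.card (P : Subgroup G) = p) (t : G) (ht2 : orderOf t = 2)
    (htC : t ∈ centralizer ((P : Subgroup G) : Set G))
    (hNtop : normalizer ((P : Subgroup G) : Set G) ≠ ⊤) :
    ∃ m : ℕ, Nat.card (fixedBy (G ⧸ normalizer ((P : Subgroup G) : Set G)) t) ≡ 1 [MOD p] ∧
      Nat.card (fixedBy (G ⧸ normalizer ((P : Subgroup G) : Set G)) t) + 4 * m
        = (normalizer ((P : Subgroup G) : Set G)).index ∧ m ≠ 0 := by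
  classical
  set N := normalizer ((P : Subgroup G) : Set G) with hNdef
  letI : Fintype (G ⧸ N) := Fintype.ofFinite _
  have htN : t ∈ N := Subgroup.centralizer_le_normalizer _ htC
  set Tset : Finset (G ⧸ N) := Finset.univ.filter (fun x => t • x = x) with hTset
  have hmemT : ∀ x : G ⧸ N, x ∈ Tset ↔ t • x = x := by
    intro x; rw [hTset, Finset.mem_filter]; simp
  have hFcard : Nat.card (MulAction.fixedBy (G ⧸ N) t) = Tset.card := by
    apply Nat.subtype_card
    intro x
    rw [hmemT]; rfl
  rw [hFcard]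
  -- (i) congruence mod p
  have hcong : Tset.card ≡ 1 [MOD p] := by
    have hinv : ∀ g : (P : Subgroup G), ∀ x ∈ Tset, g • x ∈ Tset := by
      intro g x hx
      rw [hmemT] at hx ⊢
      have hcomm : (g : G) * t = t * g := htC g g.2
      change t • ((g : G) • x) = (g : G) • x
      rw [← mul_smul, ← hcomm, mul_smul, hx]
    have h1 := Helper70.PCount.card_modEq_card_fixed (p := p) P.isPGroup' Tset hinv
    have h2 : (Tset.filter (fun x => ∀ g : (P : Subgroup G), g • x = x)).card = 1 := by
      rw [Finset.card_eq_one]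
      refine ⟨((1 : G) : G ⧸ N), ?_⟩
      have hPnt : Nontrivial (P : Subgroup G) := by
        rw [← Finite.one_lt_card_iff_nontrivial, hP]
        exact hp.out.one_lt
      obtain ⟨⟨y, hyP⟩, hy1⟩ := exists_ne (1 : (P : Subgroup G))
      have hy1' : y ≠ 1 := fun h => hy1 (Subtype.ext h)
      have hyo : orderOf y = p := by
        have h1 : orderOf y ∣ p := by
          have := orderOf_dvd_natCard (⟨y, hyP⟩ : (P : Subgroup G))
          rwa [hP, Subgroup.orderOf_mk] at this
        rcases (Nat.dvd_prime hp.out).mp h1 with h2 | h2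
        · exact absurd (orderOf_eq_one_iff.mp h2) hy1'
        · exact h2
      have hone := Helper17.card_fixedBy_eq_one P hP y hyo
      have hbase : ∀ g : G, g ∈ N → g • (((1 : G) : G ⧸ N)) = ((1 : G) : G ⧸ N) := by
        intro g hg
        rw [MulAction.Quotient.smul_mk, QuotientGroup.eq]
        simpa using hg
      ext x
      rw [Finset.mem_filter, Finset.mem_singleton, hmemT]
      constructor
      · rintro ⟨-, hx⟩
        have hxy : x ∈ MulAction.fixedBy (G ⧸ N) y := by
          have := hx ⟨y, hyP⟩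
          exact this
        have hby : ((1 : G) : G ⧸ N) ∈ MulAction.fixedBy (G ⧸ N) y :=
          hbase y (Subgroup.le_normalizer hyP)
        have hss : Subsingleton (MulAction.fixedBy (G ⧸ N) y) :=
          (Nat.card_eq_one_iff_unique.mp hone).1
        have := hss.elim ⟨x, hxy⟩ ⟨_, hby⟩
        exact congrArg Subtype.val this
      · rintro rfl
        refine ⟨hbase t htN, fun g => ?_⟩
        exact hbase g (Subgroup.le_normalizer g.2)
    rw [h2] at h1
    exact h1
  -- (ii) the sign
  set σ : Equiv.Perm (G ⧸ N) := MulAction.toPermHom G (G ⧸ N) t with hσ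
  have hσ2 : σ ^ 2 = 1 := by
    rw [hσ, ← map_pow, ← ht2, pow_orderOf_eq_one, map_one]
  have hsupp : σ.support = Finset.univ \ Tset := by
    ext x
    rw [Equiv.Perm.mem_support, Finset.mem_sdiff, hmemT]
    simp [hσ]
  have hcardΩ : Fintype.card (G ⧸ N) = N.index := by
    rw [← Nat.card_eq_fintype_card]; rfl
  have hsuppcard : σ.support.card + Tset.card = N.index := by
    rw [hsupp, Finset.card_sdiff_of_subset (Finset.subset_univ _), Finset.card_univ, hcardΩ]
    have : Tset.card ≤ N.index := by
      rw [← hcardΩ]; exact Finset.card_le_univ _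
    omega
  have hσ1 : σ ≠ 1 := by
    intro h1
    have ht1 : t = 1 := by
      apply eq_one_of_forall_smul_eq N hNtop t
      intro x
      have : σ x = x := by rw [h1]; rfl
      exact this
    rw [ht1, orderOf_one] at ht2
    omega
  have hσord : orderOf σ = 2 := orderOf_eq_prime hσ2 hσ1
  obtain ⟨m', hm'⟩ := Equiv.Perm.two_dvd_card_support hσ2
  have hsign := Helper17.sign_of_involution' σ hσord m' hm'
  have hone := Helper17.sign_toPerm_eq_one' hG2 (Ω := G ⧸ N) t
  rw [← hσ, hsign] at hone
  have hev : Even m' := by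
    by_contra hodd
    rw [Nat.not_even_iff_odd] at hodd
    rw [hodd.neg_one_pow] at hone
    exact absurd hone (by decide)
  obtain ⟨m, hm⟩ := hev
  have hsne : σ.support.card ≠ 0 := by
    rw [Ne, Finset.card_eq_zero, Equiv.Perm.support_eq_empty_iff]
    exact hσ1
  refine ⟨m, hcong, ?_, ?_⟩ <;> omega

/-- In a subgroup `C` of order `2k`, `k` odd, the `G`-conjugates of an involution `u ∈ C` lying
in `C` form a single `C`-class, of odd size. -/
theorem card_conj_inter_odd [Finite G] (C : Subgroup G) (k : ℕ) (hk : ¬ 2 ∣ k)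
    (hC : Nat.card C = 2 ^ 1 * k) (u : G) (huC : u ∈ C) (hu2 : orderOf u = 2) :
    ¬ 2 ∣ Nat.card {g : G // IsConj u g ∧ g ∈ C} := by
  haveI : Fact (Nat.Prime 2) := ⟨by norm_num⟩
  letI : MulAction C G := MulAction.compHom G ((MulAut.conj : G →* MulAut G).comp C.subtype)
  have hsmul : ∀ (c : C) (g : G), c • g = (c : G) * g * (c : G)⁻¹ := fun c g => rfl
  have hsyl : ∀ Q : Sylow 2 C, Nat.card (Q : Subgroup C) = 2 := by
    intro Q
    have := Helper17.card_sylow_subgroup_of_card_eq hC hk Q
    simpa using this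
  -- the set is the orbit of `u`
  have hset : ∀ g : G, (IsConj u g ∧ g ∈ C) ↔ g ∈ orbit C u := by
    intro g
    constructor
    · rintro ⟨hconj, hgC⟩
      obtain ⟨c0, rfl⟩ := isConj_iff.mp hconj
      have hg2 : orderOf (c0 * u * c0⁻¹) = 2 := by
        have := (MulAut.conj c0).orderOf_eq u
        rw [MulAut.conj_apply] at this
        rw [this, hu2]
      set g := c0 * u * c0⁻¹ with hg
      set u' : C := ⟨u, huC⟩ with hu'
      set g' : C := ⟨g, hgC⟩ with hg'
      have hu'2 : orderOf u' = 2 := by rw [hu', Subgroup.orderOf_mk, hu2]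
      have hg'2 : orderOf g' = 2 := by rw [hg', Subgroup.orderOf_mk, hg2]
      obtain ⟨Pu, hPu⟩ := (IsPGroup.of_card (p := 2) (n := 1)
        (by rw [Nat.card_zpowers, hu'2, pow_one] : Nat.card (zpowers u') = 2 ^ 1)).exists_le_sylow
      obtain ⟨Pg, hPg⟩ := (IsPGroup.of_card (p := 2) (n := 1)
        (by rw [Nat.card_zpowers, hg'2, pow_one] : Nat.card (zpowers g') = 2 ^ 1)).exists_le_sylow
      obtain ⟨c, hc⟩ := MulAction.exists_smul_eq C Pu Pg
      have h1 : c * u' * c⁻¹ ∈ (Pg : Subgroup C) := by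
        rw [← hc, Helper17.mem_smul_sylow_iff]
        have e : c⁻¹ * (c * u' * c⁻¹) * c = u' := by group
        rw [e]
        exact hPu (mem_zpowers u')
      have h2 : g' ∈ (Pg : Subgroup C) := hPg (mem_zpowers g')
      obtain ⟨y, -, hy⟩ := (Nat.card_eq_two_iff' (1 : (Pg : Subgroup C))).mp (hsyl Pg)
      have hu'1 : u' ≠ 1 := by
        intro h; rw [h, orderOf_one] at hu'2; omega
      have hg'1 : g' ≠ 1 := by
        intro h; rw [h, orderOf_one] at hg'2; omega
      have e1 : (⟨c * u' * c⁻¹, h1⟩ : (Pg : Subgroup C)) = y := by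
        apply hy
        intro h
        have h' : c * u' * c⁻¹ = 1 := congrArg Subtype.val h
        apply hu'1
        have : u' = c⁻¹ * (c * u' * c⁻¹) * c := by group
        rw [this, h']; group
      have e2 : (⟨g', h2⟩ : (Pg : Subgroup C)) = y := by
        apply hy
        intro h
        exact hg'1 (congrArg Subtype.val h)
      have e3 : c * u' * c⁻¹ = g' := congrArg Subtype.val (e1.trans e2.symm)
      refine ⟨c, ?_⟩
      change c • u = g
      rw [hsmul]
      have := congrArg Subtype.val e3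
      simpa using this
    · rintro ⟨c, rfl⟩
      change IsConj u (c • u) ∧ c • u ∈ C
      rw [hsmul]
      exact ⟨isConj_iff.mpr ⟨c, rfl⟩, C.mul_mem (C.mul_mem c.2 huC) (C.inv_mem c.2)⟩
  have hcard : Nat.card {g : G // IsConj u g ∧ g ∈ C} = (stabilizer C u).index := by
    rw [MulAction.index_stabilizer, ← Nat.card_coe_set_eq]
    exact Nat.card_congr (Equiv.subtypeEquivRight hset)
  rw [hcard]
  intro h2
  have hmem : (⟨u, huC⟩ : C) ∈ stabilizer C u := by
    rw [mem_stabilizer_iff, hsmul]
    simp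
  have h3 : 2 ∣ Nat.card (stabilizer C u) := by
    have := orderOf_dvd_natCard (⟨⟨u, huC⟩, hmem⟩ : stabilizer C u)
    rwa [Subgroup.orderOf_mk, Subgroup.orderOf_mk, hu2] at this
  have h4 := Subgroup.card_mul_index (stabilizer C u)
  have h5 : 2 * 2 ∣ 2 ^ 1 * k := by
    rw [← hC, ← h4]
    exact Nat.mul_dvd_mul h3 h2
  rw [pow_one] at h5
  exact hk ((Nat.mul_dvd_mul_iff_left (by norm_num)).mp h5)

/-- no simple group of order `5040` has `36` Sylow 7-subgroups -/
theorem false_of_card_sylow7 [Finite G] [IsSimpleGroup G] (hcard : Nat.card G = 5040)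
    (h7 : Nat.card (Sylow 7 G) = 36) : False := by
  classical
  haveI : Fact (Nat.Prime 7) := ⟨by norm_num⟩
  haveI : Fact (Nat.Prime 2) := ⟨by norm_num⟩
  obtain ⟨P⟩ : Nonempty (Sylow 7 G) := inferInstance
  have hG : Nat.card G = 7 ^ 1 * 720 := by rw [hcard]; norm_num
  have hP : Nat.card (P : Subgroup G) = 7 := by
    have := Helper17.card_sylow_subgroup_of_card_eq hG (by norm_num) P
    simpa using this
  set N := normalizer ((P : Subgroup G) : Set G) with hN
  set C := centralizer ((P : Subgroup G) : Set G) with hC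
  have hCN : C ≤ N := Subgroup.centralizer_le_normalizer _
  have hNcard : Nat.card N = 140 := by
    have : Nat.card N * Nat.card (Sylow 7 G) = Nat.card G :=
      Helper17.card_normalizer_mul_card_sylow P
    rw [h7, hcard] at this
    omega
  have hidx : N.index = 36 := by
    have := Subgroup.card_mul_index N
    rw [hNcard, hcard] at this
    omega
  have hNtop : N ≠ ⊤ := by
    intro h
    rw [h, Subgroup.index_top] at hidx
    omega
  -- `|C| = 70`
  have hCcard : Nat.card C = 70 := by
    obtain ⟨hd6, hd140⟩ := Helper17.relIndex_dvd_of_card_sylow_prime P hP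
    have hne := Helper17.not_normalizer_le_centralizer_of_simple P (by rw [hP]; norm_num)
      (by rw [hP, hcard]; norm_num)
    have hmul : Nat.card C * C.relIndex N = Nat.card N :=
      Helper17.card_centralizer_mul_relIndex (P : Subgroup G)
    have hd1 : C.relIndex N ≠ 1 := fun h => hne (Subgroup.relIndex_eq_one.mp h)
    change C.relIndex N ∣ 7 - 1 at hd6
    change 7 * C.relIndex N ∣ Nat.card N at hd140
    rw [hNcard] at hd140 hmul
    generalize C.relIndex N = d at *
    have hle : d ≤ 6 := Nat.le_of_dvd (by norm_num) hd6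
    obtain ⟨a, ha⟩ := hd6
    obtain ⟨b, hb⟩ := hd140
    interval_cases d <;> omega
  -- an involution of `C`
  obtain ⟨u', hu'⟩ := exists_prime_orderOf_dvd_card' (G := C) 2 (by rw [hCcard]; norm_num)
  set u : G := (u' : G) with hu
  have hu2 : orderOf u = 2 := by rw [hu, Subgroup.orderOf_coe]; exact hu'
  have huC : u ∈ C := u'.2
  have huN : u ∈ N := hCN huC
  -- it fixes `8` cosets
  have hF : Nat.card (fixedBy (G ⧸ N) u) = 8 := by
    obtain ⟨m, h1, h2, h3⟩ := fix_count (by rw [hcard]; norm_num) P hP u hu2 huC hNtop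
    rw [← hN, hidx] at h2
    rw [← hN] at h1
    unfold Nat.ModEq at h1
    omega
  -- `P` has `6` orbits
  have horb : Nat.card (orbitRel.Quotient ↥(P : Subgroup G) (G ⧸ N)) = 6 := by
    have := Helper17.card_orbits_mul_prime P hP
    rw [h7] at this
    rw [← hN] at this
    omega
  -- conjugates of `u` in `N` lie in `C`
  have hconjC : ∀ g : G, IsConj u g → g ∈ N → g ∈ C := by
    intro g hconj hgN
    by_contra hgC
    obtain ⟨c, rfl⟩ := isConj_iff.mp hconj
    have h1 := (Cfsg.Agent.S1018.result 7 P hP).2 _ hgN hgC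
    rw [← hN, card_fixedBy_conj, hF, horb] at h1
    omega
  have h19 := Cfsg.Agent.S1019.result N u huN
  rw [hF, hidx] at h19
  have hodd := card_conj_inter_odd C 35 (by norm_num) (by rw [hCcard]; norm_num) u huC hu2
  have hcongr : Nat.card {g : G // IsConj u g ∧ g ∈ N} = Nat.card {g : G // IsConj u g ∧ g ∈ C} :=
    Nat.card_congr (Equiv.subtypeEquivRight fun g =>
      ⟨fun h => ⟨h.1, hconjC g h.1 h.2⟩, fun h => ⟨h.1, hCN h.2⟩⟩)
  rw [hcongr] at h19
  omega

/-- **5040-B**: a simple group of order `5040` does not have `36` Sylow 5-subgroups. -/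
theorem not_n5_36 {G : Type*} [Group G] [Finite G] [IsSimpleGroup G]
    (hcard : Nat.card G = 5040) (h : Nat.card (Sylow 5 G) = 36) : False :=
  false_of_card_sylow7 hcard (card_sylow7 hcard h)

end Cfsg.Agent.Helper68.H5040B
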