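import Mathlib
import Cfsg.Agent.Helper68.H5040B
import Cfsg.Agent.Helper43.ClassCount
import Cfsg.Agent.Helper39.SimpOrd.KitC
import Cfsg.Agent.Helper17.Invol

set_option autoImplicit false
set_option linter.style.haveILetI false

/-!
# Parity pieces for S4274 (helper61's board posts #3711/#3718): (PAR), (L9), (L10)
-/

namespace Cfsg.Agent.Helper68.J1Par

open Subgroup MulAction

/-- **(PAR)** general parity lemma for an involution centralizing a Sylow subgroup of prime
order of a simple group. -/
theorem parity_fixed {K : Type*} [Group K] [Finite K] [IsSimpleGroup K] (hK : 2 < Nat.card K) {p : ℕ} [Fact p.Prime] (P : Sylow p K) (hP : Nat.card (P : Subgroup K) = p) (z : K) (hz : orderOf z = 2) (hzC : z ∈ Subgroup.centralizer ((P : Subgroup K) : Set K)) : ∃ F m j : ℕ, 0 < m ∧ F % p = 1 ∧ F + 4 * m = (Subgroup.normalizer ((P : Subgroup K) : Set K)).index ∧ F * Nat.card (Subgroup.normalizer ((P : Subgroup K) : Set K)) = Nat.card (Subgroup.centralizer ({z} : Set K)) * j ∧ j = Nat.card {y : K // IsConj z y ∧ y ∈ Subgroup.normalizer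 ((P : Subgroup K) : Set K)} ∧ (F = 1 → ∀ g : K, g * z * g⁻¹ ∈ Subgroup.normalizer ((P : Subgroup K) : Set K) → g ∈ Subgroup.normalizer ((P : Subgroup K) : Set K)) := by
  classical
  have hp : p.Prime := Fact.out
  set N := Subgroup.normalizer ((P : Subgroup K) : Set K) with hN
  have hzN : z ∈ N := Subgroup.centralizer_le_normalizer _ hzC
  -- `N ≠ ⊤`
  have hNtop : N ≠ ⊤ := by
    intro htop
    have hn : (P : Subgroup K).Normal := Subgroup.normalizer_eq_top_iff.mp htop
    rcases hn.eq_bot_or_eq_top with h | h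
    · rw [h, Subgroup.card_bot] at hP
      exact hp.one_lt.ne hP
    · rw [h, Subgroup.card_top] at hP
      have h2 : orderOf z ∣ Nat.card K := orderOf_dvd_natCard z
      rw [hz, hP] at h2
      have := (Nat.prime_dvd_prime_iff_eq Nat.prime_two hp).mp h2
      omega
  obtain ⟨m, h1, h2, h3⟩ := Cfsg.Agent.Helper68.H5040B.fix_count hK P hP z hz hzC hNtop
  rw [← hN] at h1 h2
  set F := Nat.card (fixedBy (K ⧸ N) z) with hF
  refine ⟨F, m, Nat.card {y : K // IsConj z y ∧ y ∈ N}, Nat.pos_of_ne_zero h3, ?_, h2, ?_, rfl, ?_⟩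
  · have := h1
    unfold Nat.ModEq at this
    rw [this]
    exact Nat.mod_eq_of_lt hp.one_lt
  · have h19 := Cfsg.Agent.S1019.result N z hzN
    have hcl := Cfsg.Agent.Helper43.card_class_mul_card_centralizer z
    have h3' : Nat.card {x : K // ConjClasses.mk x = ConjClasses.mk z}
        = Nat.card {g : K // IsConj z g} := by
      apply Nat.card_congr
      refine Equiv.subtypeEquivRight ?_
      intro x
      rw [ConjClasses.mk_eq_mk_iff_isConj, isConj_comm]
    rw [h3'] at hcl
    have h4 := Subgroup.card_mul_index N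
    rw [← hF] at h19
    -- F * cl = idx * j, cl * C = |K|, |N| * idx = |K|
    have hpos : 0 < Nat.card {g : K // IsConj z g} := by
      have : Nat.card {g : K // IsConj z g} ≠ 0 := by
        intro h0
        rw [h0, zero_mul] at hcl
        exact (Nat.card_pos (α := K)).ne hcl
      omega
    apply Nat.eq_of_mul_eq_mul_right hpos
    calc F * Nat.card N * Nat.card {g : K // IsConj z g}
        = (F * Nat.card {g : K // IsConj z g}) * Nat.card N := by ring
      _ = (N.index * Nat.card {g : K // IsConj z g ∧ g ∈ N}) * Nat.card N := by rw [h19]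
      _ = (Nat.card N * N.index) * Nat.card {g : K // IsConj z g ∧ g ∈ N} := by ring
      _ = (Nat.card {g : K // IsConj z g} * Nat.card (Subgroup.centralizer ({z} : Set K))) *
            Nat.card {g : K // IsConj z g ∧ g ∈ N} := by rw [h4, hcl]
      _ = Nat.card (Subgroup.centralizer ({z} : Set K)) *
            Nat.card {g : K // IsConj z g ∧ g ∈ N} * Nat.card {g : K // IsConj z g} := by ring
  · intro hF1 g hg
    have hss : Subsingleton (fixedBy (K ⧸ N) z) :=
      (Nat.card_eq_one_iff_unique.mp (hF ▸ hF1)).1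
    have hb1 : ((1 : K) : K ⧸ N) ∈ fixedBy (K ⧸ N) z := by
      rw [mem_fixedBy, MulAction.Quotient.smul_mk, QuotientGroup.eq]
      simpa using hzN
    have hb2 : ((g⁻¹ : K) : K ⧸ N) ∈ fixedBy (K ⧸ N) z := by
      rw [mem_fixedBy, MulAction.Quotient.smul_mk, QuotientGroup.eq]
      have := N.inv_mem hg
      have e : (z • g⁻¹)⁻¹ * g⁻¹ = (g * z * g⁻¹)⁻¹ := by
        simp only [smul_eq_mul]; group
      rw [e]
      exact this
    have heq := congrArg Subtype.val (hss.elim ⟨_, hb2⟩ ⟨_, hb1⟩)
    have := QuotientGroup.eq.mp heq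
    simpa using this

end Cfsg.Agent.Helper68.J1Par
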