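import Mathlib
import Cfsg.Agent.Helper68.J1Par
import Cfsg.Agent.Helper39.SimpOrd.H5040A
import Cfsg.Agent.S0992
import Cfsg.Agent.S0202
import Cfsg.Agent.S0203

set_option autoImplicit false
set_option linter.style.haveILetI false

/-!
# (L10) of helper61's S4274 pieces (#3718): no simple group of order 87780 with `n₁₉ = 77`
-/

namespace Cfsg.Agent.Helper68.J1L10

open Subgroup MulAction

variable {K : Type*} [Group K] [Finite K]

/-- in a simple group with Klein four Sylow 2-subgroups all involutions are conjugate -/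
theorem isConj_of_involutions [IsSimpleGroup K] (T : Sylow 2 K) (hT : IsKleinFour (T : Subgroup K))
    (hK4 : Nat.card K ≠ 4) {u z : K} (hu : orderOf u = 2) (hz : orderOf z = 2) : IsConj z u := by
  have h1 := Cfsg.Agent.S0202.result T hT
  have h2 := Cfsg.Agent.S0203.result T hT
  have hno : ¬ ∃ N : Subgroup K, N.Normal ∧ Subgroup.IsComplement' N (T : Subgroup K) := by
    rintro ⟨N, hN, hc⟩
    have hcard := hc.card_mul_card
    have hT4 : Nat.card (T : Subgroup K) = 4 := hT.card_four
    rw [hT4] at hcard
    have hpos : 0 < Nat.card K := Nat.card_pos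
    rcases hN.eq_bot_or_eq_top with h | h
    · rw [h, Subgroup.card_bot] at hcard
      omega
    · rw [h, Subgroup.card_top] at hcard
      omega
  have h3 : Nat.card {C : ConjClasses K // ∃ t : K, orderOf t = 2 ∧ ConjClasses.mk t = C} = 1 := by
    rcases h1 with h | h
    · exact h
    · exact absurd (h2.mp h) hno
  have hss := (Nat.card_eq_one_iff_unique.mp h3).1
  have := congrArg Subtype.val (hss.elim ⟨ConjClasses.mk z, z, hz, rfl⟩ ⟨ConjClasses.mk u, u, hu, rfl⟩)
  exact ConjClasses.mk_eq_mk_iff_isConj.mp this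

/-- if `H ⊴ L` has a unique Sylow `p`-subgroup `Q`, then `L` normalizes (the image of) `Q` -/
theorem le_normalizer_map_of_subsingleton_sylow {p : ℕ} [Fact p.Prime] (H L : Subgroup K)
    (hL : L ≤ normalizer (H : Set K)) [Subsingleton (Sylow p H)] (Q : Sylow p H) :
    L ≤ normalizer (((Q : Subgroup H).map H.subtype : Subgroup K) : Set K) := by
  have key : ∀ n ∈ L, ∀ y ∈ (Q : Subgroup H).map H.subtype,
      n * y * n⁻¹ ∈ (Q : Subgroup H).map H.subtype := by
    intro n hn y hy
    set R : Subgroup K := ((Q : Subgroup H).map H.subtype).map (MulAut.conj n).toMonoidHom with hR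
    have hRp : IsPGroup p R := (Q.isPGroup'.map _).map _
    have hRH : R ≤ H := by
      rintro _ ⟨_, ⟨x, hx, rfl⟩, rfl⟩
      have := (Subgroup.mem_normalizer_iff.mp (hL hn) (x : K)).mp x.2
      simpa using this
    have h1 := Cfsg.Agent.Helper39.SimpOrd.le_map_of_subsingleton_sylow H Q R hRH hRp
    apply h1
    exact ⟨y, hy, by simp [MulAut.conj_apply]⟩
  intro g hg
  rw [mem_normalizer_iff]
  intro x
  refine ⟨key g hg x, fun hx => ?_⟩
  have := key g⁻¹ (L.inv_mem hg) _ hx
  have e : g⁻¹ * (g * x * g⁻¹) * g⁻¹⁻¹ = x := by group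
  rwa [e] at this

theorem not_simple_87780_77 [IsSimpleGroup K]
    (hcard : Nat.card K = 87780) (h19 : Nat.card (Sylow 19 K) = 77) : False := by
  classical
  haveI : Fact (Nat.Prime 19) := ⟨by norm_num⟩
  haveI : Fact (Nat.Prime 2) := ⟨by norm_num⟩
  haveI : Fact (Nat.Prime 5) := ⟨by norm_num⟩
  obtain ⟨P⟩ : Nonempty (Sylow 19 K) := inferInstance
  have hG : Nat.card K = 19 ^ 1 * 4620 := by rw [hcard]; norm_num
  have hP : Nat.card (P : Subgroup K) = 19 := by
    have := Helper17.card_sylow_subgroup_of_card_eq hG (by norm_num) P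
    simpa using this
  set N := normalizer ((P : Subgroup K) : Set K) with hN
  set C := centralizer ((P : Subgroup K) : Set K) with hC
  have hCN : C ≤ N := Subgroup.centralizer_le_normalizer _
  have hNcard : Nat.card N = 1140 := by
    have : Nat.card N * Nat.card (Sylow 19 K) = Nat.card K :=
      Helper17.card_normalizer_mul_card_sylow P
    rw [h19, hcard] at this
    omega
  have hidx : N.index = 77 := by
    have := Subgroup.card_mul_index N
    rw [hNcard, hcard] at this
    omega
  -- `|C| ∈ {570, 380, 190}`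
  have hCcard : Nat.card C = 570 ∨ Nat.card C = 380 ∨ Nat.card C = 190 := by
    obtain ⟨hd18, hd⟩ := Helper17.relIndex_dvd_of_card_sylow_prime P hP
    have hne := Helper17.not_normalizer_le_centralizer_of_simple P (by rw [hP]; norm_num)
      (by rw [hP, hcard]; norm_num)
    have hmul : Nat.card C * C.relIndex N = Nat.card N :=
      Helper17.card_centralizer_mul_relIndex (P : Subgroup K)
    have hd1 : C.relIndex N ≠ 1 := fun h => hne (Subgroup.relIndex_eq_one.mp h)
    change C.relIndex N ∣ 19 - 1 at hd18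
    change 19 * C.relIndex N ∣ Nat.card N at hd
    rw [hNcard] at hd hmul
    generalize C.relIndex N = d at *
    have hle : d ≤ 18 := Nat.le_of_dvd (by norm_num) hd18
    obtain ⟨a, ha⟩ := hd18
    obtain ⟨b, hb⟩ := hd
    interval_cases d <;> omega
  -- an involution `z` of `C`
  have h2C : 2 ∣ Nat.card C := by rcases hCcard with h | h | h <;> rw [h] <;> norm_num
  obtain ⟨z', hz'⟩ := exists_prime_orderOf_dvd_card' (G := C) 2 h2C
  set z : K := (z' : K) with hzdef
  have hz2 : orderOf z = 2 := by rw [hzdef, Subgroup.orderOf_coe]; exact hz'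
  have hzC : z ∈ C := z'.2
  -- `F = 1`
  obtain ⟨F, m, j, hm, hF19, hFm, -, -, hstar⟩ :=
    Cfsg.Agent.Helper68.J1Par.parity_fixed (by rw [hcard]; norm_num) P hP z hz2 hzC
  rw [← hN] at hFm hstar
  rw [hidx] at hFm
  have hF1 : F = 1 := by omega
  have hstar' := hstar hF1
  -- a Sylow 2-subgroup `T` of `K` inside `N`
  have hNc2 : Nat.card N = 2 ^ 2 * 285 := by rw [hNcard]; norm_num
  obtain ⟨S0⟩ : Nonempty (Sylow 2 N) := inferInstance
  have hS0 : Nat.card (S0 : Subgroup N) = 4 := by
    have := Helper17.card_sylow_subgroup_of_card_eq hNc2 (by norm_num) S0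
    simpa using this
  set S : Subgroup K := (S0 : Subgroup N).map N.subtype with hS
  have hScard : Nat.card S = 4 := by
    rw [hS, Subgroup.card_map_of_injective N.subtype_injective, hS0]
  have hSN : S ≤ N := Subgroup.map_subtype_le _
  obtain ⟨T, hST⟩ := (IsPGroup.of_card (p := 2) (n := 2) (by rw [hScard]; norm_num)
    : IsPGroup 2 S).exists_le_sylow
  have hK2 : Nat.card K = 2 ^ 2 * 21945 := by rw [hcard]; norm_num
  have hTcard : Nat.card (T : Subgroup K) = 4 := by
    have := Helper17.card_sylow_subgroup_of_card_eq hK2 (by norm_num) T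
    simpa using this
  have hSeq : S = (T : Subgroup K) :=
    Subgroup.eq_of_le_of_card_ge hST (by rw [hTcard, hScard])
  have hTN : (T : Subgroup K) ≤ N := hSeq ▸ hSN
  have hnc : ¬ IsMulCommutative K :=
    Helper17.not_comm_of_simple_of_not_prime (by rw [hcard]; norm_num)
  have hT4 : IsKleinFour (T : Subgroup K) :=
    (Cfsg.Agent.S0992.result hnc (by rw [hcard]; decide) (by rw [hcard]; norm_num) T).1
  -- `T ≤ C`
  have hTC : (T : Subgroup K) ≤ C := by
    intro u hu
    by_cases hu1 : u = 1
    · rw [hu1]; exact C.one_mem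
    have hu2 : orderOf u = 2 := by
      have h1 : (⟨u, hu⟩ : (T : Subgroup K)) ^ 2 = 1 := by
        have := Monoid.pow_exponent_eq_one (⟨u, hu⟩ : (T : Subgroup K))
        rwa [hT4.exponent_two] at this
      have h2 : u ^ 2 = 1 := by
        have := congrArg Subtype.val h1
        simpa using this
      exact orderOf_eq_prime h2 hu1
    obtain ⟨g, hg⟩ := isConj_iff.mp
      (isConj_of_involutions T hT4 (by rw [hcard]; norm_num) hu2 hz2)
    have hgN : g ∈ N := hstar' g (by rw [hg]; exact hTN hu)
    rw [← hg]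
    exact Cfsg.Agent.Helper39.SimpOrd.conj_mem_centralizer_of_mem_normalizer _ hgN hzC
  have hC380 : Nat.card C = 380 := by
    have := Subgroup.card_dvd_of_le hTC
    rw [hTcard] at this
    rcases hCcard with h | h | h
    · rw [h] at this; omega
    · exact h
    · rw [h] at this; omega
  -- `C` has a unique Sylow 5-subgroup
  have hCc5 : Nat.card C = 5 ^ 1 * 76 := by rw [hC380]; norm_num
  obtain ⟨Q⟩ : Nonempty (Sylow 5 C) := inferInstance
  have hQcard : Nat.card (Q : Subgroup C) = 5 := by
    have := Helper17.card_sylow_subgroup_of_card_eq hCc5 (by norm_num) Q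
    simpa using this
  have hPC : (P : Subgroup K) ≤ C := by
    intro x hx
    rw [hC, Subgroup.mem_centralizer_iff]
    intro y hy
    -- `P` is abelian
    have hcyc : IsCyclic (P : Subgroup K) := isCyclic_of_prime_card hP
    have := hcyc.commGroup.mul_comm (⟨y, hy⟩ : (P : Subgroup K)) ⟨x, hx⟩
    exact congrArg Subtype.val this
  have hn5 : Nat.card (Sylow 5 C) = 1 := by
    set NQ := normalizer ((Q : Subgroup C) : Set C) with hNQ
    have h5 : 5 ∣ Nat.card NQ := by
      rw [← hQcard]; exact Subgroup.card_dvd_of_le Subgroup.le_normalizer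
    have h19' : 19 ∣ Nat.card NQ := by
      have hle : (P : Subgroup K).subgroupOf C ≤ NQ := by
        intro x hx
        have hxc : ∀ y : C, x * y = y * x := by
          intro y
          apply Subtype.ext
          have := (Subgroup.mem_centralizer_iff.mp y.2) (x : K) (Subgroup.mem_subgroupOf.mp hx)
          exact this
        rw [hNQ, Subgroup.mem_normalizer_iff]
        intro y
        have e : x * y * x⁻¹ = y := by rw [hxc y, mul_inv_cancel_right]
        rw [e]
      have hc : Nat.card ((P : Subgroup K).subgroupOf C) = 19 := by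
        rw [Nat.card_congr (Subgroup.subgroupOfEquivOfLe hPC).toEquiv, hP]
      rw [← hc]; exact Subgroup.card_dvd_of_le hle
    have h95 : 95 ∣ Nat.card NQ :=
      Nat.Coprime.mul_dvd_of_dvd_of_dvd (by norm_num : Nat.Coprime 5 19) h5 h19'
    have hidxQ := Subgroup.card_mul_index NQ
    rw [hC380] at hidxQ
    have hmod : Nat.card (Sylow 5 C) ≡ 1 [MOD 5] := card_sylow_modEq_one 5 C
    have hidxeq : Nat.card (Sylow 5 C) = NQ.index := Q.card_eq_index_normalizer
    rw [hidxeq] at hmod ⊢
    obtain ⟨a, ha⟩ := h95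
    rw [ha] at hidxQ
    have h4 : a * NQ.index = 4 := by
      have : 95 * (a * NQ.index) = 95 * 4 := by rw [← mul_assoc]; omega
      exact Nat.eq_of_mul_eq_mul_left (by norm_num) this
    have hle : NQ.index ≤ 4 := Nat.le_of_dvd (by norm_num) ⟨a, by rw [← h4, mul_comm]⟩
    unfold Nat.ModEq at hmod
    generalize NQ.index = n at *
    interval_cases n <;> omega
  haveI : Subsingleton (Sylow 5 C) := (Nat.card_eq_one_iff_unique.mp hn5).1
  -- `N` normalizes it
  have hNC : N ≤ normalizer (C : Set K) := by
    intro n hn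
    rw [Subgroup.mem_normalizer_iff]
    intro c
    constructor
    · intro hc
      exact Cfsg.Agent.Helper39.SimpOrd.conj_mem_centralizer_of_mem_normalizer _ hn hc
    · intro hc
      have := Cfsg.Agent.Helper39.SimpOrd.conj_mem_centralizer_of_mem_normalizer
        (P : Subgroup K) (N.inv_mem hn) hc
      have e : n⁻¹ * (n * c * n⁻¹) * n⁻¹⁻¹ = c := by group
      rwa [e] at this
  have hNQ' := le_normalizer_map_of_subsingleton_sylow C N hNC Q
  set Q' : Subgroup K := (Q : Subgroup C).map C.subtype with hQ'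
  have hQ'card : Nat.card Q' = 5 := by
    rw [hQ', Subgroup.card_map_of_injective C.subtype_injective, hQcard]
  have hK5 : Nat.card K = 5 ^ 1 * 17556 := by rw [hcard]; norm_num
  obtain ⟨Q5, hQ5⟩ := (IsPGroup.of_card (p := 5) (n := 1) (by rw [hQ'card, pow_one])
    : IsPGroup 5 Q').exists_le_sylow
  have hQ5card : Nat.card (Q5 : Subgroup K) = 5 := by
    have := Helper17.card_sylow_subgroup_of_card_eq hK5 (by norm_num) Q5
    simpa using this
  have hQ5eq : Q' = (Q5 : Subgroup K) :=
    Subgroup.eq_of_le_of_card_ge hQ5 (by rw [hQ5card, hQ'card])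
  rw [hQ5eq] at hNQ'
  have h1140 := Subgroup.card_dvd_of_le hNQ'
  rw [hNcard] at h1140
  have hn5K := Helper17.card_normalizer_mul_card_sylow Q5
  rw [hcard] at hn5K
  have hmod5 : Nat.card (Sylow 5 K) ≡ 1 [MOD 5] := card_sylow_modEq_one 5 K
  have hne1 : Nat.card (Sylow 5 K) ≠ 1 :=
    Helper17.card_sylow_ne_one_of_simple hK5 (by norm_num) (by norm_num) (by norm_num)
  -- `n₅ = 11`
  have hn11 : Nat.card (Sylow 5 K) = 11 := by
    obtain ⟨a, ha⟩ := h1140
    rw [ha] at hn5K
    unfold Nat.ModEq at hmod5
    generalize Nat.card (Sylow 5 K) = n at *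
    have h8 : a * n = 77 := by
      have : 1140 * (a * n) = 1140 * 77 := by rw [← mul_assoc]; omega
      exact Nat.eq_of_mul_eq_mul_left (by norm_num) this
    have hle : n ≤ 77 := Nat.le_of_dvd (by norm_num) ⟨a, by rw [← h8, mul_comm]⟩
    interval_cases n <;> omega
  -- index 11 is impossible
  have hidx11 : (normalizer ((Q5 : Subgroup K) : Set K)).index = 11 := by
    have hthis : Nat.card (Sylow 5 K) =
        (normalizer ((Q5 : Subgroup K) : Set K)).index := Q5.card_eq_index_normalizer
    rw [← hthis, hn11]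
  have htop : normalizer ((Q5 : Subgroup K) : Set K) ≠ ⊤ := by
    intro h
    rw [h, Subgroup.index_top] at hidx11
    omega
  have := Helper17.two_mul_card_dvd_factorial_index hnc _ htop
  rw [hidx11, hcard] at this
  revert this
  decide

end Cfsg.Agent.Helper68.J1L10
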