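import Mathlib
import Cfsg.Agent.Helper68.J1Par

set_option autoImplicit false
set_option linter.style.haveILetI false

/-!
# (L9) of helper61's S4274 pieces (#3718): no simple group of order 15960 with `n₁₉ = 210`
-/

namespace Cfsg.Agent.Helper68.J1L9

open Subgroup MulAction

/-- a subgroup `H ≥ P` with a unique Sylow `p`-subgroup normalizes the Sylow `p`-subgroup `P` -/
theorem le_normalizer_of_card_sylow_eq_one {K : Type*} [Group K] [Finite K] {p : ℕ}
    [Fact p.Prime] (P : Sylow p K) (H : Subgroup K) (hPH : (P : Subgroup K) ≤ H)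
    (h1 : Nat.card (Sylow p H) = 1) : H ≤ normalizer ((P : Subgroup K) : Set K) := by
  haveI : Subsingleton (Sylow p H) := (Nat.card_eq_one_iff_unique.mp h1).1
  have hPp : IsPGroup p ((P : Subgroup K).subgroupOf H) := P.isPGroup'.comap_subtype
  obtain ⟨Q, hQ⟩ := hPp.exists_le_sylow
  haveI hQn : (Q : Subgroup H).Normal := Sylow.normal_of_subsingleton Q
  have hle : (P : Subgroup K) ≤ (Q : Subgroup H).map H.subtype := by
    intro x hx
    exact ⟨⟨x, hPH hx⟩, hQ (Subgroup.mem_subgroupOf.mpr hx), rfl⟩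
  have heq : (Q : Subgroup H).map H.subtype = (P : Subgroup K) :=
    P.is_maximal' (Q.isPGroup'.map _) hle
  rw [← heq]
  have key : ∀ m ∈ H, ∀ y ∈ (Q : Subgroup H).map H.subtype,
      m * y * m⁻¹ ∈ (Q : Subgroup H).map H.subtype := by
    rintro m hm _ ⟨x, hx, rfl⟩
    exact ⟨⟨m, hm⟩ * x * ⟨m, hm⟩⁻¹, hQn.conj_mem x hx _, rfl⟩
  intro g hg
  rw [mem_normalizer_iff]
  intro x
  refine ⟨key g hg x, fun hx => ?_⟩
  have := key g⁻¹ (H.inv_mem hg) _ hx
  have e : g⁻¹ * (g * x * g⁻¹) * g⁻¹⁻¹ = x := by group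
  rwa [e] at this

theorem not_simple_15960_210 {K : Type*} [Group K] [Finite K] [IsSimpleGroup K]
    (hcard : Nat.card K = 15960) (h19 : Nat.card (Sylow 19 K) = 210) : False := by
  classical
  haveI : Fact (Nat.Prime 19) := ⟨by norm_num⟩
  obtain ⟨P⟩ : Nonempty (Sylow 19 K) := inferInstance
  have hG : Nat.card K = 19 ^ 1 * 840 := by rw [hcard]; norm_num
  have hP : Nat.card (P : Subgroup K) = 19 := by
    have := Helper17.card_sylow_subgroup_of_card_eq hG (by norm_num) P
    simpa using this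
  set N := normalizer ((P : Subgroup K) : Set K) with hN
  set C := centralizer ((P : Subgroup K) : Set K) with hC
  have hNcard : Nat.card N = 76 := by
    have : Nat.card N * Nat.card (Sylow 19 K) = Nat.card K :=
      Helper17.card_normalizer_mul_card_sylow P
    rw [h19, hcard] at this
    omega
  have hidx : N.index = 210 := by
    have := Subgroup.card_mul_index N
    rw [hNcard, hcard] at this
    omega
  -- `|C| = 38`
  have hCcard : Nat.card C = 2 * 19 := by
    obtain ⟨hd18, hd76⟩ := Helper17.relIndex_dvd_of_card_sylow_prime P hP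
    have hne := Helper17.not_normalizer_le_centralizer_of_simple P (by rw [hP]; norm_num)
      (by rw [hP, hcard]; norm_num)
    have hmul : Nat.card C * C.relIndex N = Nat.card N :=
      Helper17.card_centralizer_mul_relIndex (P : Subgroup K)
    have hd1 : C.relIndex N ≠ 1 := fun h => hne (Subgroup.relIndex_eq_one.mp h)
    change C.relIndex N ∣ 19 - 1 at hd18
    change 19 * C.relIndex N ∣ Nat.card N at hd76
    rw [hNcard] at hd76 hmul
    generalize C.relIndex N = d at *
    have hle : d ≤ 18 := Nat.le_of_dvd (by norm_num) hd18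
    obtain ⟨a, ha⟩ := hd18
    obtain ⟨b, hb⟩ := hd76
    interval_cases d <;> omega
  obtain ⟨t, ht2, htC, huniq, hNt⟩ :=
    Helper39.SimpOrd.unique_involution_centralizer (by norm_num) P hP hCcard
  have htN : t ∈ N := Subgroup.centralizer_le_normalizer _ htC
  obtain ⟨F, m, j, hm, hF19, hFm, hFj, hj, -⟩ :=
    Cfsg.Agent.Helper68.J1Par.parity_fixed (by rw [hcard]; norm_num) P hP t ht2 htC
  rw [← hN] at hFm hFj hj
  rw [hidx] at hFm
  rw [hNcard] at hFj
  -- `1 ≤ j ≤ 39`
  have hj39 : j ≤ 39 := by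
    have := Helper17.card_conj_inter_normalizer_le P hP t ht2 huniq
    rw [← hN, ← hj, ← hC, hCcard] at this
    omega
  have hj1 : 1 ≤ j := by
    rw [hj]
    haveI : Nonempty {y : K // IsConj t y ∧ y ∈ N} := ⟨⟨t, IsConj.refl t, htN⟩⟩
    exact Nat.card_pos
  -- `76 ∣ |C(t)| ∣ 15960`
  have h76 : 76 ∣ Nat.card (centralizer ({t} : Set K)) := by
    rw [← hNcard]; exact Subgroup.card_dvd_of_le hNt
  have hdvd : Nat.card (centralizer ({t} : Set K)) ∣ 15960 := by
    rw [← hcard]; exact Subgroup.card_subgroup_dvd_card _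
  obtain ⟨a, ha⟩ := h76
  rw [ha] at hFj hdvd
  have ha210 : a ∣ 210 := by
    have : 76 * a ∣ 76 * 210 := by norm_num at hdvd ⊢; exact hdvd
    exact (Nat.mul_dvd_mul_iff_left (by norm_num)).mp this
  have hFaj : F = a * j := by
    have : 76 * F = 76 * (a * j) := by rw [← mul_assoc, ← hFj]; ring
    exact Nat.eq_of_mul_eq_mul_left (by norm_num) this
  have hF : F = 58 ∨ F = 134 := by omega
  have ha_le : a ≤ 210 := Nat.le_of_dvd (by norm_num) ha210
  -- the only possibility: `a = 2`, `j = 29`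
  have ha2 : a = 2 := by
    rcases hF with hF | hF
    · rw [hF] at hFaj
      have h1 : a ∣ 58 := ⟨j, hFaj⟩
      have h2 : a ≤ 58 := Nat.le_of_dvd (by norm_num) h1
      obtain ⟨c, hc⟩ := ha210
      interval_cases a <;> omega
    · rw [hF] at hFaj
      have h1 : a ∣ 134 := ⟨j, hFaj⟩
      have h2 : a ≤ 134 := Nat.le_of_dvd (by norm_num) h1
      obtain ⟨c, hc⟩ := ha210
      interval_cases a <;> omega
  -- `|C(t)| = 152` has a unique Sylow 19-subgroup
  set H := centralizer ({t} : Set K) with hH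
  have hHcard : Nat.card H = 19 ^ 1 * 8 := by rw [ha, ha2]; norm_num
  have hPH : (P : Subgroup K) ≤ H := by
    intro x hx
    rw [hH, Subgroup.mem_centralizer_iff]
    intro y hy
    rw [Set.mem_singleton_iff] at hy
    subst hy
    exact ((Subgroup.mem_centralizer_iff.mp htC) x hx).symm
  have hn1 : Nat.card (Sylow 19 H) ∣ 8 := Helper17.card_sylow_dvd_of_card_eq hHcard (by norm_num)
  have hn2 : Nat.card (Sylow 19 H) ≡ 1 [MOD 19] := card_sylow_modEq_one 19 H
  have hn3 : Nat.card (Sylow 19 H) = 1 := by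
    have hle : Nat.card (Sylow 19 H) ≤ 8 := Nat.le_of_dvd (by norm_num) hn1
    unfold Nat.ModEq at hn2
    omega
  have hHN : H ≤ N := le_normalizer_of_card_sylow_eq_one P H hPH hn3
  have := Subgroup.card_dvd_of_le hHN
  rw [hNcard, hHcard] at this
  omega

end Cfsg.Agent.Helper68.J1L9
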