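import Mathlib
import Cfsg.Agent.Helper62.D8.Defs

/-!
# (K1ab) for helper62's S3716 farm (#9979): the common core of `w₁` and `w₃`.
-/

set_option autoImplicit false
open Cfsg Finset

namespace Cfsg.Agent.Helper68.D8K1ab

open Cfsg.Agent.Helper62.D8

section
variable {ι : Type*} [Fintype ι] [DecidableEq ι]

theorem entries_of_norm4 (o : ι) (w : ι → ℤ) (ho : w o = 1) (hw : ∑ i, w i ^ 2 = 4) (i : ι)
    (hi : i ≠ o) : w i = 0 ∨ w i = 1 ∨ w i = -1 := by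
  have h1 : ∑ j ∈ ({i, o} : Finset ι), w j ^ 2 ≤ ∑ j, w j ^ 2 :=
    Finset.sum_le_sum_of_subset_of_nonneg (Finset.subset_univ _) (fun _ _ _ => sq_nonneg _)
  rw [Finset.sum_pair hi, ho, hw] at h1
  have h2 : w i ^ 2 ≤ 3 := by linarith
  have h3 : -1 ≤ w i := by nlinarith
  have h4 : w i ≤ 1 := by nlinarith
  omega

/-- (K1ab) the common core of `w₁` and `w₃`. -/
theorem core13_of_lat (o : ι) (d : ι → ℕ) (w₁ w₂ w₃ w₄ : ι → ℤ) (h : Lat o d w₁ w₂ w₃ w₄) :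
    ∃ θ α₁ α₂ β₁ β₂ : ι, ∃ ε a₁ a₂ b₁ b₂ : ℤ, Core o w₁ w₃ θ α₁ α₂ β₁ β₂ ε a₁ a₂ b₁ b₂ := by
  classical
  set E : Finset ι := Finset.univ.erase o with hE
  have hEo : ∀ i ∈ E, i ≠ o := fun i hi => Finset.ne_of_mem_erase hi
  have hEmem : ∀ i, i ≠ o → i ∈ E := fun i hi => Finset.mem_erase.2 ⟨hi, Finset.mem_univ _⟩
  have hf : ∀ i ∈ E, w₁ i = 0 ∨ w₁ i = 1 ∨ w₁ i = -1 := fun i hi =>
    entries_of_norm4 o w₁ h.o1 h.g11 i (hEo i hi)
  have hg : ∀ i ∈ E, w₃ i = 0 ∨ w₃ i = 1 ∨ w₃ i = -1 := fun i hi =>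
    entries_of_norm4 o w₃ h.o3 h.g33 i (hEo i hi)
  have sE : ∀ F : ι → ℤ, F o + ∑ i ∈ E, F i = ∑ i, F i := fun F =>
    Finset.add_sum_erase _ F (Finset.mem_univ o)
  have hf3 : ∑ i ∈ E, w₁ i ^ 2 = 3 := by
    have := sE (fun i => w₁ i ^ 2)
    simp only [h.o1, h.g11] at this
    linarith
  have hg3 : ∑ i ∈ E, w₃ i ^ 2 = 3 := by
    have := sE (fun i => w₃ i ^ 2)
    simp only [h.o3, h.g33] at this
    linarith
  have hfg : ∑ i ∈ E, w₁ i * w₃ i = 1 := by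
    have := sE (fun i => w₁ i * w₃ i)
    simp only [h.o1, h.o3, h.g13] at this
    linarith
  have hd : ∑ i ∈ E, (d i : ℤ) * (w₁ i - w₃ i) = 0 := by
    have h1 := sE (fun i => (d i : ℤ) * (w₁ i - w₃ i))
    simp only [h.o1, h.o3, sub_self, mul_zero, zero_add] at h1
    rw [h1]
    simp only [mul_sub, Finset.sum_sub_distrib, h.d1, h.d3, sub_zero]
  -- the four sets
  set A : Finset ι := E.filter (fun i => w₁ i ≠ 0 ∧ w₃ i = 0) with hA
  set B : Finset ι := E.filter (fun i => w₁ i = 0 ∧ w₃ i ≠ 0) with hB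
  set Tp : Finset ι := E.filter (fun i => w₁ i ≠ 0 ∧ w₁ i = w₃ i) with hTp
  set Tm : Finset ι := E.filter (fun i => w₁ i ≠ 0 ∧ w₃ i ≠ 0 ∧ w₁ i ≠ w₃ i) with hTm
  have cA : (A.card : ℤ) = ∑ i ∈ E, if (w₁ i ≠ 0 ∧ w₃ i = 0) then 1 else 0 :=
    Finset.natCast_card_filter _ _
  have cB : (B.card : ℤ) = ∑ i ∈ E, if (w₁ i = 0 ∧ w₃ i ≠ 0) then 1 else 0 :=
    Finset.natCast_card_filter _ _
  have cTp : (Tp.card : ℤ) = ∑ i ∈ E, if (w₁ i ≠ 0 ∧ w₁ i = w₃ i) then 1 else 0 :=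
    Finset.natCast_card_filter _ _
  have cTm : (Tm.card : ℤ) = ∑ i ∈ E, if (w₁ i ≠ 0 ∧ w₃ i ≠ 0 ∧ w₁ i ≠ w₃ i) then 1 else 0 :=
    Finset.natCast_card_filter _ _
  have e1 : (A.card : ℤ) + Tp.card + Tm.card = 3 := by
    rw [cA, cTp, cTm, ← Finset.sum_add_distrib, ← Finset.sum_add_distrib, ← hf3]
    apply Finset.sum_congr rfl
    intro i hi
    rcases hf i hi with h1 | h1 | h1 <;> rcases hg i hi with h3 | h3 | h3 <;> simp [h1, h3]
  have e2 : (B.card : ℤ) + Tp.card + Tm.card = 3 := by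
    rw [cB, cTp, cTm, ← Finset.sum_add_distrib, ← Finset.sum_add_distrib, ← hg3]
    apply Finset.sum_congr rfl
    intro i hi
    rcases hf i hi with h1 | h1 | h1 <;> rcases hg i hi with h3 | h3 | h3 <;> simp [h1, h3]
  have e3 : (Tp.card : ℤ) - Tm.card = 1 := by
    rw [cTp, cTm, ← Finset.sum_sub_distrib]
    refine Eq.trans ?_ hfg
    apply Finset.sum_congr rfl
    intro i hi
    rcases hf i hi with h1 | h1 | h1 <;> rcases hg i hi with h3 | h3 | h3 <;> simp [h1, h3]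
  -- membership helpers
  have mA : ∀ i, i ∈ A ↔ i ∈ E ∧ (w₁ i ≠ 0 ∧ w₃ i = 0) := fun i => Finset.mem_filter
  have mB : ∀ i, i ∈ B ↔ i ∈ E ∧ (w₁ i = 0 ∧ w₃ i ≠ 0) := fun i => Finset.mem_filter
  have mTp : ∀ i, i ∈ Tp ↔ i ∈ E ∧ (w₁ i ≠ 0 ∧ w₁ i = w₃ i) := fun i => Finset.mem_filter
  have mTm : ∀ i, i ∈ Tm ↔ i ∈ E ∧ (w₁ i ≠ 0 ∧ w₃ i ≠ 0 ∧ w₁ i ≠ w₃ i) := fun i =>
    Finset.mem_filter
  -- the case split
  have hcases : (A.card = 2 ∧ B.card = 2 ∧ Tp.card = 1 ∧ Tm.card = 0) ∨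
      (A.card = 0 ∧ B.card = 0 ∧ Tp.card = 2 ∧ Tm.card = 1) := by omega
  rcases hcases with ⟨hA2, hB2, hTp1, hTm0⟩ | ⟨hA0, hB0, hTp2, hTm1⟩
  · obtain ⟨θ, hθ⟩ := Finset.card_eq_one.1 hTp1
    obtain ⟨α₁, α₂, hα, hAe⟩ := Finset.card_eq_two.1 hA2
    obtain ⟨β₁, β₂, hβ, hBe⟩ := Finset.card_eq_two.1 hB2
    have hTm_empty : Tm = ∅ := Finset.card_eq_zero.1 hTm0
    have hθm : θ ∈ Tp := by rw [hθ]; exact Finset.mem_singleton_self _
    have hα₁m : α₁ ∈ A := by rw [hAe]; simp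
    have hα₂m : α₂ ∈ A := by rw [hAe]; simp
    have hβ₁m : β₁ ∈ B := by rw [hBe]; simp
    have hβ₂m : β₂ ∈ B := by rw [hBe]; simp
    obtain ⟨hθE, hθ1, hθ13⟩ := (mTp θ).1 hθm
    obtain ⟨hα₁E, hα₁1, hα₁3⟩ := (mA α₁).1 hα₁m
    obtain ⟨hα₂E, hα₂1, hα₂3⟩ := (mA α₂).1 hα₂m
    obtain ⟨hβ₁E, hβ₁1, hβ₁3⟩ := (mB β₁).1 hβ₁m
    obtain ⟨hβ₂E, hβ₂1, hβ₂3⟩ := (mB β₂).1 hβ₂m
    have sgn : ∀ x : ℤ, (x = 0 ∨ x = 1 ∨ x = -1) → x ≠ 0 → IsSign x := by
      intro x hx hx0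
      rcases hx with hx | hx | hx
      · exact absurd hx hx0
      · exact Or.inl hx
      · exact Or.inr hx
    -- classification of the points of E
    have hcl : ∀ i ∈ E, i ≠ θ → i ≠ α₁ → i ≠ α₂ → w₁ i = 0 := by
      intro i hi h1 h2 h3
      by_contra hne
      by_cases hg0 : w₃ i = 0
      · have : i ∈ A := (mA i).2 ⟨hi, hne, hg0⟩
        rw [hAe] at this
        simp at this
        rcases this with rfl | rfl
        · exact h2 rfl
        · exact h3 rfl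
      · by_cases heq : w₁ i = w₃ i
        · have : i ∈ Tp := (mTp i).2 ⟨hi, hne, heq⟩
          rw [hθ] at this
          exact h1 (Finset.mem_singleton.1 this)
        · have : i ∈ Tm := (mTm i).2 ⟨hi, hne, hg0, heq⟩
          rw [hTm_empty] at this
          simp at this
    have hcl3 : ∀ i ∈ E, i ≠ θ → i ≠ β₁ → i ≠ β₂ → w₃ i = 0 := by
      intro i hi h1 h2 h3
      by_contra hne
      by_cases hf0 : w₁ i = 0
      · have : i ∈ B := (mB i).2 ⟨hi, hf0, hne⟩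
        rw [hBe] at this
        simp at this
        rcases this with rfl | rfl
        · exact h2 rfl
        · exact h3 rfl
      · by_cases heq : w₁ i = w₃ i
        · have : i ∈ Tp := (mTp i).2 ⟨hi, hf0, heq⟩
          rw [hθ] at this
          exact h1 (Finset.mem_singleton.1 this)
        · have : i ∈ Tm := (mTm i).2 ⟨hi, hf0, hne, heq⟩
          rw [hTm_empty] at this
          simp at this
    have hoθ : o ≠ θ := fun e => hEo θ hθE e.symm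
    have hoα₁ : o ≠ α₁ := fun e => hEo α₁ hα₁E e.symm
    have hoα₂ : o ≠ α₂ := fun e => hEo α₂ hα₂E e.symm
    have hoβ₁ : o ≠ β₁ := fun e => hEo β₁ hβ₁E e.symm
    have hoβ₂ : o ≠ β₂ := fun e => hEo β₂ hβ₂E e.symm
    have hθα₁ : θ ≠ α₁ := by
      intro e; rw [e] at hθ13 hθ1; exact hθ1 (hθ13.trans hα₁3)
    have hθα₂ : θ ≠ α₂ := by
      intro e; rw [e] at hθ13 hθ1; exact hθ1 (hθ13.trans hα₂3)
    have hθβ₁ : θ ≠ β₁ := by
      intro e; rw [e] at hθ1; exact hθ1 hβ₁1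
    have hθβ₂ : θ ≠ β₂ := by
      intro e; rw [e] at hθ1; exact hθ1 hβ₂1
    have hα₁β₁ : α₁ ≠ β₁ := by
      intro e; rw [e] at hα₁1; exact hα₁1 hβ₁1
    have hα₁β₂ : α₁ ≠ β₂ := by
      intro e; rw [e] at hα₁1; exact hα₁1 hβ₂1
    have hα₂β₁ : α₂ ≠ β₁ := by
      intro e; rw [e] at hα₂1; exact hα₂1 hβ₁1
    have hα₂β₂ : α₂ ≠ β₂ := by
      intro e; rw [e] at hα₂1; exact hα₂1 hβ₂1
    refine ⟨θ, α₁, α₂, β₁, β₂, w₁ θ, w₁ α₁, w₁ α₂, w₃ β₁, w₃ β₂, ?_, sgn _ (hf θ hθE) hθ1,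
      sgn _ (hf α₁ hα₁E) hα₁1, sgn _ (hf α₂ hα₂E) hα₂1, sgn _ (hg β₁ hβ₁E) hβ₁3,
      sgn _ (hg β₂ hβ₂E) hβ₂3, ?_, ?_⟩
    · simp only [List.nodup_cons, List.mem_cons, List.not_mem_nil, or_false, not_or,
        List.nodup_nil, and_true, not_false_eq_true]
      exact ⟨⟨hoθ, hoα₁, hoα₂, hoβ₁, hoβ₂⟩, ⟨hθα₁, hθα₂, hθβ₁, hθβ₂⟩, ⟨hα, hα₁β₁, hα₁β₂⟩,
        ⟨hα₂β₁, hα₂β₂⟩, hβ⟩
    · intro i
      unfold ind
      by_cases hio : i = o
      · subst hio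
        rw [if_pos rfl, if_neg hoθ, if_neg hoα₁, if_neg hoα₂, h.o1]; ring
      · rw [if_neg hio]
        by_cases h1 : i = θ
        · subst h1
          rw [if_pos rfl, if_neg hθα₁, if_neg hθα₂]; ring
        · rw [if_neg h1]
          by_cases h2 : i = α₁
          · subst h2
            rw [if_pos rfl, if_neg hα]; ring
          · rw [if_neg h2]
            by_cases h3 : i = α₂
            · subst h3
              rw [if_pos rfl]; ring
            · rw [if_neg h3, hcl i (hEmem i hio) h1 h2 h3]; ring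
    · intro i
      unfold ind
      by_cases hio : i = o
      · subst hio
        rw [if_pos rfl, if_neg hoθ, if_neg hoβ₁, if_neg hoβ₂, h.o3]; ring
      · rw [if_neg hio]
        by_cases h1 : i = θ
        · subst h1
          rw [if_pos rfl, if_neg hθβ₁, if_neg hθβ₂, hθ13]; ring
        · rw [if_neg h1]
          by_cases h2 : i = β₁
          · subst h2
            rw [if_pos rfl, if_neg hβ]; ring
          · rw [if_neg h2]
            by_cases h3 : i = β₂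
            · subst h3
              rw [if_pos rfl]; ring
            · rw [if_neg h3, hcl3 i (hEmem i hio) h1 h2 h3]; ring
  · exfalso
    obtain ⟨j, hj⟩ := Finset.card_eq_one.1 hTm1
    have hA_empty : A = ∅ := Finset.card_eq_zero.1 hA0
    have hB_empty : B = ∅ := Finset.card_eq_zero.1 hB0
    have hjm : j ∈ Tm := by rw [hj]; exact Finset.mem_singleton_self _
    obtain ⟨hjE, hj1, hj3, hj13⟩ := (mTm j).1 hjm
    have hz : ∀ i ∈ E, i ≠ j → (d i : ℤ) * (w₁ i - w₃ i) = 0 := by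
      intro i hi hij
      have : w₁ i = w₃ i := by
        by_contra hne
        by_cases hf0 : w₁ i = 0
        · have hg0 : w₃ i ≠ 0 := fun e => hne (hf0.trans e.symm)
          have : i ∈ B := (mB i).2 ⟨hi, hf0, hg0⟩
          rw [hB_empty] at this; simp at this
        · by_cases hg0 : w₃ i = 0
          · have : i ∈ A := (mA i).2 ⟨hi, hf0, hg0⟩
            rw [hA_empty] at this; simp at this
          · have : i ∈ Tm := (mTm i).2 ⟨hi, hf0, hg0, hne⟩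
            rw [hj] at this
            exact hij (Finset.mem_singleton.1 this)
      rw [this, sub_self, mul_zero]
    rw [Finset.sum_eq_single_of_mem j hjE hz] at hd
    have hdj : (d j : ℤ) ≠ 0 := by
      have := h.dpos j
      exact_mod_cast this.ne'
    rcases mul_eq_zero.1 hd with h0 | h0
    · exact hdj h0
    · exact hj13 (sub_eq_zero.1 h0)

end

end Cfsg.Agent.Helper68.D8K1ab
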