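import Mathlib

/-!
# A Brauer–Wielandt type inequality for commuting automorphisms of an abelian group (helper68)

`V` a finite abelian group of order prime to `p`, `α β : MulAut V` commuting, `β ^ p = 1`.  Then
`∏_{j<p} |Fix (α β^j)| · |Fix β| ≤ |Fix α ∩ Fix β|^p · |V|`.
-/

set_option autoImplicit false
set_option linter.unusedSectionVars false

namespace Cfsg.Agent.Helper68

open Finset

section abelian

variable {V : Type*} [CommGroup V]

/-- `v ↦ v⁻¹ γ(v)` -/
def deltaHom (γ : MulAut V) : V →* V where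
  toFun v := v⁻¹ * γ v
  map_one' := by simp
  map_mul' a b := by
    rw [map_mul, mul_inv, mul_mul_mul_comm]

@[simp] theorem deltaHom_apply (γ : MulAut V) (v : V) : deltaHom γ v = v⁻¹ * γ v := rfl

theorem deltaHom_eq_one_iff (γ : MulAut V) (v : V) : deltaHom γ v = 1 ↔ γ v = v := by
  rw [deltaHom_apply, inv_mul_eq_one, eq_comm]

/-- fixed points of an automorphism, as a subgroup -/
def fixS (γ : MulAut V) : Subgroup V where
  carrier := {v | γ v = v}
  one_mem' := map_one γ
  mul_mem' := by
    intro a b ha hb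
    simp only [Set.mem_ofPred_eq] at ha hb ⊢
    rw [map_mul, ha, hb]
  inv_mem' := by
    intro a ha
    simp only [Set.mem_ofPred_eq] at ha ⊢
    rw [map_inv, ha]

theorem mem_fixS {γ : MulAut V} {v : V} : v ∈ fixS γ ↔ γ v = v := Iff.rfl

theorem commute_apply {γ γ' : MulAut V} (h : Commute γ γ') (v : V) : γ (γ' v) = γ' (γ v) := by
  have := congrArg (fun δ : MulAut V => δ v) h.eq
  simpa using this

theorem pow_apply_of_fixed {γ : MulAut V} {v : V} (h : γ v = v) (n : ℕ) : (γ ^ n) v = v := by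
  induction n with
  | zero => simp
  | succ n ih => rw [pow_succ, MulAut.mul_apply, h, ih]

theorem mem_fixS_of_commute {γ γ' : MulAut V} (h : Commute γ γ') {v : V} (hv : v ∈ fixS γ) :
    γ' v ∈ fixS γ := by
  rw [mem_fixS] at hv ⊢
  rw [commute_apply h, hv]

theorem deltaHom_commute {γ γ' : MulAut V} (h : Commute γ γ') (v : V) :
    γ' (deltaHom γ v) = deltaHom γ (γ' v) := by
  simp only [deltaHom_apply, map_mul, map_inv]
  rw [commute_apply h.symm]

variable [Finite V] {p : ℕ} [hp : Fact p.Prime]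

/-- `[V, β] ∩ C_V(β) = 1` when `β ^ p = 1` and `|V|` is prime to `p` -/
theorem eq_one_of_mem_range_of_fixed (hV : (Nat.card V).Coprime p) {β : MulAut V} (hβ : β ^ p = 1)
    {v : V} (hv : v ∈ (deltaHom β).range) (hfix : β v = v) : v = 1 := by
  obtain ⟨w, rfl⟩ := hv
  have h1 : ∀ i : ℕ, (β ^ i) w = w * (deltaHom β w) ^ i := by
    intro i
    induction i with
    | zero => simp
    | succ i ih =>
      have hd : β w = w * deltaHom β w := by simp
      rw [pow_succ', MulAut.mul_apply, ih, map_mul, map_pow, hfix, hd, pow_succ', mul_assoc]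
  have h2 := h1 p
  rw [hβ, MulAut.one_apply] at h2
  have h3 : (deltaHom β w) ^ p = 1 := by
    have := mul_left_cancel (a := w) (b := 1) (c := (deltaHom β w) ^ p) (by rw [mul_one]; exact h2)
    exact this.symm
  have h4 : orderOf (deltaHom β w) ∣ p := orderOf_dvd_of_pow_eq_one h3
  have h5 : orderOf (deltaHom β w) ∣ Nat.card V := orderOf_dvd_natCard _
  have h6 : orderOf (deltaHom β w) = 1 := Nat.eq_one_of_dvd_coprimes hV h5 h4
  exact orderOf_eq_one_iff.mp h6

omit [Finite V] in
/-- a vector fixed by two different `α β^i`, `α β^j` (`i, j < p`) is fixed by `β` -/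
theorem fixed_of_fixed_two {α β : MulAut V} (hβ : β ^ p = 1) {i j : ℕ} (hj : j < p)
    (hij : i < j) {v : V} (h1 : (α * β ^ i) v = v) (h2 : (α * β ^ j) v = v) : β v = v := by
  have h3 : (β ^ i) v = (β ^ j) v := by
    apply α.injective
    rw [← MulAut.mul_apply, ← MulAut.mul_apply, h1, h2]
  have h4 : (β ^ (j - i)) v = v := by
    have : β ^ j = β ^ i * β ^ (j - i) := by rw [← pow_add]; congr 1; omega
    rw [this, MulAut.mul_apply] at h3
    exact ((β ^ i).injective h3).symm
  have hd : (j - i).Coprime p := by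
    apply Nat.Coprime.symm
    rw [Nat.Prime.coprime_iff_not_dvd hp.out]
    intro hdvd
    have := Nat.le_of_dvd (by omega) hdvd
    omega
  obtain ⟨m, -, hm⟩ := Nat.exists_mul_mod_eq_one_of_coprime hd hp.out.one_lt
  have h5 : (β ^ ((j - i) * m)) v = v := by
    rw [pow_mul]
    exact pow_apply_of_fixed h4 m
  have h6 : β ^ ((j - i) * m) = β := by
    conv_lhs => rw [← Nat.div_add_mod ((j - i) * m) p, hm, pow_add, pow_mul, hβ, one_pow, one_mul,
      pow_one]
  rw [h6] at h5
  exact h5


/-- `C_V(α β^j) ∩ [V, β]` -/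
def EW (α β : MulAut V) (j : ℕ) : Subgroup V := fixS (α * β ^ j) ⊓ (deltaHom β).range

theorem deltaHom_mem_EW {α β : MulAut V} (hc : Commute α β) (j j₀ : ℕ) {v : V}
    (hv : v ∈ EW α β j) : deltaHom (α * β ^ j₀) v ∈ EW α β j := by
  have hcomm : Commute (α * β ^ j) (α * β ^ j₀) := by
    apply Commute.mul_left
    · exact (Commute.refl α).mul_right (hc.pow_right _)
    · exact (hc.symm.pow_left j).mul_right ((Commute.refl β).pow_pow j j₀)
  have hcommβ : Commute β (α * β ^ j₀) :=
    hc.symm.mul_right ((Commute.refl β).pow_right _)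
  rw [deltaHom_apply]
  refine Subgroup.mul_mem _ (Subgroup.inv_mem _ hv) ?_
  refine Subgroup.mem_inf.mpr ⟨mem_fixS_of_commute hcomm hv.1, ?_⟩
  obtain ⟨u, hu⟩ := hv.2
  refine ⟨(α * β ^ j₀) u, ?_⟩
  rw [← hu, deltaHom_commute hcommβ]

theorem indep_EW (hV : (Nat.card V).Coprime p) {α β : MulAut V} (hc : Commute α β)
    (hβ : β ^ p = 1) (J : Finset ℕ) :
    (∀ j ∈ J, j < p) → ∀ w : ℕ → V, (∀ j ∈ J, w j ∈ EW α β j) → ∏ j ∈ J, w j = 1 →
      ∀ j ∈ J, w j = 1 := by
  classical
  induction J using Finset.induction_on with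
  | empty => intro _ _ _ _ j hj; simp at hj
  | insert j₀ J' hj₀ ih =>
    intro hlt w hw hprod
    have h0 : deltaHom (α * β ^ j₀) (w j₀) = 1 := by
      rw [deltaHom_eq_one_iff]
      exact (hw j₀ (Finset.mem_insert_self _ _)).1
    have h1 : ∏ j ∈ J', deltaHom (α * β ^ j₀) (w j) = 1 := by
      have := congrArg (deltaHom (α * β ^ j₀)) hprod
      rw [map_prod, Finset.prod_insert hj₀, h0, one_mul, map_one] at this
      exact this
    have h2 := ih (fun j hj => hlt j (Finset.mem_insert_of_mem hj))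
      (fun j => deltaHom (α * β ^ j₀) (w j))
      (fun j hj => deltaHom_mem_EW hc j j₀ (hw j (Finset.mem_insert_of_mem hj))) h1
    have h3 : ∀ j ∈ J', w j = 1 := by
      intro j hj
      have hne : j ≠ j₀ := fun h => hj₀ (h ▸ hj)
      have hfj := (hw j (Finset.mem_insert_of_mem hj)).1
      have hfj0 : (α * β ^ j₀) (w j) = w j := (deltaHom_eq_one_iff _ _).mp (h2 j hj)
      have hβfix : β (w j) = w j := by
        rcases lt_or_gt_of_ne hne with h | h
        · exact fixed_of_fixed_two hβ (hlt j₀ (Finset.mem_insert_self _ _)) h hfj hfj0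
        · exact fixed_of_fixed_two hβ (hlt j (Finset.mem_insert_of_mem hj)) h hfj0 hfj
      exact eq_one_of_mem_range_of_fixed hV hβ (hw j (Finset.mem_insert_of_mem hj)).2 hβfix
    intro j hj
    rw [Finset.mem_insert] at hj
    rcases hj with rfl | hj
    · rw [Finset.prod_insert hj₀, Finset.prod_eq_one h3, mul_one] at hprod
      exact hprod
    · exact h3 j hj

theorem card_eq_card_fixS_mul_card_range (β : MulAut V) :
    Nat.card V = Nat.card (fixS β) * Nat.card (deltaHom β).range := by
  have hker : (deltaHom β).ker = fixS β := by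
    ext v
    rw [MonoidHom.mem_ker, deltaHom_eq_one_iff, mem_fixS]
  rw [← hker, ← Subgroup.index_ker, Subgroup.card_mul_index]

theorem card_fixS_le {α β : MulAut V} (hc : Commute α β) (j : ℕ) :
    Nat.card (fixS (α * β ^ j)) ≤
      Nat.card (fixS α ⊓ fixS β : Subgroup V) * Nat.card (EW α β j) := by
  set E := fixS (α * β ^ j) with hE
  set f : ↥E →* V := (deltaHom β).comp E.subtype with hf
  have h1 : Nat.card ↥E = Nat.card f.ker * Nat.card f.range := by
    rw [← Subgroup.index_ker, Subgroup.card_mul_index]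
  have h2 : Nat.card f.range ≤ Nat.card (EW α β j) := by
    apply Subgroup.card_le_of_le
    rintro _ ⟨x, rfl⟩
    refine Subgroup.mem_inf.mpr ⟨?_, ⟨x.1, rfl⟩⟩
    simp only [hf, MonoidHom.comp_apply, Subgroup.subtype_apply, deltaHom_apply]
    have hcomm : Commute (α * β ^ j) β :=
      Commute.mul_left hc ((Commute.refl β).pow_left j)
    exact Subgroup.mul_mem _ (Subgroup.inv_mem _ x.2) (mem_fixS_of_commute hcomm x.2)
  have h3 : Nat.card f.ker ≤ Nat.card (fixS α ⊓ fixS β : Subgroup V) := by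
    refine Nat.card_le_card_of_injective
      (fun x => (⟨x.1.1, ?_⟩ : (fixS α ⊓ fixS β : Subgroup V))) ?_
    · have hx : f x.1 = 1 := x.2
      simp only [hf, MonoidHom.comp_apply, Subgroup.subtype_apply] at hx
      rw [deltaHom_eq_one_iff] at hx
      have hx2 : (α * β ^ j) x.1.1 = x.1.1 := x.1.2
      rw [MulAut.mul_apply, pow_apply_of_fixed hx] at hx2
      exact Subgroup.mem_inf.mpr ⟨hx2, hx⟩
    · intro x y hxy
      simp only [Subtype.mk.injEq] at hxy
      exact Subtype.ext (Subtype.ext hxy)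
  rw [h1]
  exact Nat.mul_le_mul h3 h2


theorem prod_card_EW_le (hV : (Nat.card V).Coprime p) {α β : MulAut V} (hc : Commute α β)
    (hβ : β ^ p = 1) :
    ∏ j ∈ Finset.range p, Nat.card (EW α β j) ≤ Nat.card (deltaHom β).range := by
  classical
  have hcard : Nat.card ((j : Fin p) → ↥(EW α β j)) = ∏ j ∈ Finset.range p, Nat.card (EW α β j) := by
    rw [Nat.card_pi, Fin.prod_univ_eq_prod_range (fun j => Nat.card (EW α β j))]
  rw [← hcard]
  refine Nat.card_le_card_of_injective
    (fun w => (⟨∏ j : Fin p, (w j).1, Subgroup.prod_mem _ (fun j _ => (w j).2.2)⟩ :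
      (deltaHom β).range)) ?_
  intro w w' hww'
  simp only [Subtype.mk.injEq] at hww'
  -- the quotient family
  set u : ℕ → V := fun j => if h : j < p then (w ⟨j, h⟩).1 * ((w' ⟨j, h⟩).1)⁻¹ else 1 with hu
  have hu_mem : ∀ j ∈ Finset.range p, u j ∈ EW α β j := by
    intro j hj
    have hjp : j < p := Finset.mem_range.mp hj
    simp only [hu, hjp, dif_pos]
    exact Subgroup.mul_mem _ (w ⟨j, hjp⟩).2 (Subgroup.inv_mem _ (w' ⟨j, hjp⟩).2)
  have hu_prod : ∏ j ∈ Finset.range p, u j = 1 := by
    rw [← Fin.prod_univ_eq_prod_range u p]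
    have : ∀ j : Fin p, u j = (w j).1 * ((w' j).1)⁻¹ := by
      intro j
      simp only [hu, j.2, dif_pos]
    rw [Finset.prod_congr rfl (fun j _ => this j), Finset.prod_mul_distrib, Finset.prod_inv_distrib,
      hww', mul_inv_cancel]
  have h1 := indep_EW hV hc hβ (Finset.range p) (fun j hj => Finset.mem_range.mp hj) u hu_mem hu_prod
  funext j
  apply Subtype.ext
  have h2 := h1 j (Finset.mem_range.mpr j.2)
  simp only [hu, j.2, dif_pos] at h2
  exact mul_inv_eq_one.mp h2

/-- the main inequality -/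
theorem card_fix_prod_le (hV : (Nat.card V).Coprime p) {α β : MulAut V} (hc : Commute α β)
    (hβ : β ^ p = 1) :
    (∏ j ∈ Finset.range p, Nat.card (fixS (α * β ^ j))) * Nat.card (fixS β) ≤
      Nat.card (fixS α ⊓ fixS β : Subgroup V) ^ p * Nat.card V := by
  have h1 : ∏ j ∈ Finset.range p, Nat.card (fixS (α * β ^ j)) ≤
      ∏ j ∈ Finset.range p, (Nat.card (fixS α ⊓ fixS β : Subgroup V) * Nat.card (EW α β j)) :=
    Finset.prod_le_prod' (fun j _ => card_fixS_le hc j)
  rw [Finset.prod_mul_distrib, Finset.prod_const, Finset.card_range] at h1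
  have h2 := prod_card_EW_le hV hc hβ
  rw [card_eq_card_fixS_mul_card_range β]
  calc (∏ j ∈ Finset.range p, Nat.card (fixS (α * β ^ j))) * Nat.card (fixS β)
      ≤ (Nat.card (fixS α ⊓ fixS β : Subgroup V) ^ p * ∏ j ∈ Finset.range p, Nat.card (EW α β j)) *
          Nat.card (fixS β) := Nat.mul_le_mul_right _ h1
    _ ≤ (Nat.card (fixS α ⊓ fixS β : Subgroup V) ^ p * Nat.card (deltaHom β).range) *
          Nat.card (fixS β) := Nat.mul_le_mul_right _ (Nat.mul_le_mul_left _ h2)
    _ = Nat.card (fixS α ⊓ fixS β : Subgroup V) ^ p *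
          (Nat.card (fixS β) * Nat.card (deltaHom β).range) := by ring

end abelian

end Cfsg.Agent.Helper68
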