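import Mathlib
import Cfsg.Agent.Helper35.Asch.Setup
import Cfsg.Agent.Helper68.AschS8

/-!
Pieces (S8), (S9) of helper35's plan for S3401 (board #8405), stated about helper35's structure
`Cfsg.Agent.Helper35.Asch.Setup` (now on main); proofs from the core forms of `AschS8`.
-/

set_option autoImplicit false
set_option linter.unusedSectionVars false
set_option linter.unusedVariables false

namespace Cfsg.Agent.Helper68.AschB

open MulAction Cfsg.Agent.Helper35.Asch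

variable {G : Type*} [Group G] [Finite G] {Ω : Type*} [Fintype Ω] [MulAction G Ω]

/-- (S8) `N_G(Q)` is 2-transitive on `fix Q`, given that `Q` is Sylow in `N_γ'δ'`. -/
theorem normalizer_twoTrans_of (D : Cfsg.Agent.Helper35.Asch.Setup G Ω) {γ δ γ' δ' : Ω}
    (hγ : γ ∈ fix D.Q Ω) (hδ : δ ∈ fix D.Q Ω)
    (hγ' : γ' ∈ fix D.Q Ω) (hδ' : δ' ∈ fix D.Q Ω) (h : γ ≠ δ) (h' : γ' ≠ δ')
    (h6 : ¬ 2 ∣ D.Q.relIndex (stabIn D.N γ' ⊓ stabilizer G δ')) :
    ∃ b ∈ Subgroup.normalizer (D.Q : Set G), b • γ = γ' ∧ b • δ = δ' :=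
  Cfsg.Agent.Helper68.Asch.normalizer_twoTrans_core D.N D.Q D.normal D.twoTrans
    (D.hQle.trans inf_le_left) D.hQ hγ hδ hγ' hδ' h h' h6

/-- (S9) `N_N(Q)` is transitive on `fix Q`, given that `Q` is Sylow in `N_γ'`. -/
theorem normalizer_trans_of (D : Cfsg.Agent.Helper35.Asch.Setup G Ω) {γ γ' : Ω}
    (hγ : γ ∈ fix D.Q Ω) (hγ' : γ' ∈ fix D.Q Ω)
    (h6 : ¬ 2 ∣ D.Q.relIndex (stabIn D.N γ')) :
    ∃ x ∈ D.N ⊓ Subgroup.normalizer (D.Q : Set G), x • γ = γ' :=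
  Cfsg.Agent.Helper68.Asch.normalizer_trans_core D.N D.Q D.trans
    (D.hQle.trans inf_le_left) D.hQ hγ hγ' h6

end Cfsg.Agent.Helper68.AschB
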