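import Mathlib
import Cfsg.Agent.Helper29.BG10G
import Cfsg.Agent.Helper31.CoprimeHypRel
import Cfsg.Agent.S1451

set_option autoImplicit false
open Cfsg

/-!
# `M_σ ≠ 1` for a maximal subgroup of a minimal simple group of odd order (B-G 10.2(e))  (helper68)
-/

namespace Cfsg.Agent.Helper68.BG11

open Cfsg.Agent.Helper29.BG10

variable {G : Type*} [Group G] [Finite G]

theorem coatom_ne_bot (hG : Cfsg.IsMinSimpleOddOrder G) {M : Subgroup G} (hM : IsCoatom M) :
    M ≠ ⊥ := by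
  rintro rfl
  apply hG.2.2.1
  haveI : IsSimpleGroup G := hG.2.1
  haveI : Nontrivial G := inferInstance
  obtain ⟨g, hg⟩ := exists_ne (1 : G)
  have h1 : Subgroup.zpowers g ≠ ⊥ := by
    intro h
    apply hg
    have : g ∈ Subgroup.zpowers g := Subgroup.mem_zpowers g
    rw [h] at this
    exact Subgroup.mem_bot.1 this
  have h2 : Subgroup.zpowers g = ⊤ := by
    by_contra hne
    exact hM.2 (Subgroup.zpowers g) (bot_lt_iff_ne_bot.2 h1) |> hne
  refine ⟨⟨fun a b => ?_⟩⟩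
  have ha : a ∈ Subgroup.zpowers g := by rw [h2]; trivial
  have hb : b ∈ Subgroup.zpowers g := by rw [h2]; trivial
  obtain ⟨m, rfl⟩ := Subgroup.mem_zpowers_iff.1 ha
  obtain ⟨n, rfl⟩ := Subgroup.mem_zpowers_iff.1 hb
  rw [← zpow_add, ← zpow_add, add_comm]

/-- `σ(M)` is not empty -/
theorem exists_mem_sigma (hG : Cfsg.IsMinSimpleOddOrder G) (hU : UniquenessThm G)
    {M : Subgroup G} (hM : IsCoatom M) : ∃ q, q ∈ Cfsg.sigma M := by
  classical
  by_cases hα : ∃ q, q ∈ Cfsg.alpha M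
  · obtain ⟨q, hq⟩ := hα
    exact ⟨q, alpha_subset_sigma hG hU hM hq⟩
  push Not at hα
  haveI : IsSimpleGroup G := hG.2.1
  haveI : Group.IsSolvable ↥M := hG.2.2.2 M hM.1
  have hodd : Odd (Nat.card ↥M) := Odd.of_dvd_nat hG.1 (Subgroup.card_subgroup_dvd_card M)
  have hrk : Cfsg.RankLE 2 ↥M := by
    intro q hq
    by_contra hcon
    exact hα q ⟨hq, hcon⟩
  have hM1 : Nat.card ↥M ≠ 1 := by
    intro h
    exact coatom_ne_bot hG hM (Subgroup.card_eq_one.1 h)
  -- the largest prime divisor of `|M|`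
  set ℓ := (Nat.card ↥M).primeFactors.max' (Nat.nonempty_primeFactors.2 (by
    have : 0 < Nat.card ↥M := Nat.card_pos
    omega)) with hℓ
  have hℓmem : ℓ ∈ (Nat.card ↥M).primeFactors := Finset.max'_mem _ _
  have hℓp : ℓ.Prime := Nat.prime_of_mem_primeFactors hℓmem
  have hℓd : ℓ ∣ Nat.card ↥M := Nat.dvd_of_mem_primeFactors hℓmem
  haveI : Fact ℓ.Prime := ⟨hℓp⟩
  obtain ⟨N, hNchar, hNpi, hNidx⟩ := (Cfsg.Agent.S1451.result (G := ↥M) hodd (Or.inl hrk)).2.2 (ℓ - 1)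
  haveI : N.Normal := inferInstance
  -- `N` is an `ℓ`-group
  have hNℓ : IsPGroup ℓ N := by
    apply IsPGroup.of_card (n := (Nat.card N).primeFactorsList.length)
    apply Nat.eq_prime_pow_of_unique_prime_dvd (Nat.card_pos.ne')
    intro d hd hdd
    have h1 := hNpi d hd hdd
    have h2 : d ∣ Nat.card ↥M := hdd.trans (Subgroup.card_subgroup_dvd_card N)
    have h3 : d ∈ (Nat.card ↥M).primeFactors :=
      Nat.mem_primeFactors.2 ⟨hd, h2, Nat.card_pos.ne'⟩
    have h4 : d ≤ ℓ := Finset.le_max' _ _ h3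
    have h5 : ℓ - 1 < d := h1.2
    omega
  have hNidx' : ¬ ℓ ∣ N.index := hNidx ℓ hℓp ⟨hℓp, by have := hℓp.pos; omega⟩
  -- the corresponding Sylow subgroup
  set P : Sylow ℓ ↥M := hNℓ.toSylow hNidx' with hP
  have hPN : (P : Subgroup ↥M) = N := IsPGroup.toSylow_coe hNℓ hNidx'
  set S : Subgroup G := (P : Subgroup ↥M).map M.subtype with hS
  have hSM : S ≤ M := Subgroup.map_subtype_le _
  have hS1 : S ≠ ⊥ := by
    intro h
    have h1 : Nat.card S = 1 := by rw [h, Subgroup.card_bot]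
    rw [hS, Subgroup.card_map_of_injective M.subtype_injective, hPN] at h1
    apply hNidx'
    have h2 := N.card_mul_index
    rw [h1, one_mul] at h2
    rw [h2]; exact hℓd
  have hSp : IsPGroup ℓ S := P.isPGroup'.map _
  have hnorm : M ≤ Subgroup.normalizer (S : Set G) := by
    intro m hm
    rw [Subgroup.mem_normalizer_iff]
    intro x
    have key : ∀ (m : G) (hm : m ∈ M) (x : G), x ∈ S → m * x * m⁻¹ ∈ S := by
      rintro m hm _ ⟨y, hy, rfl⟩
      refine ⟨⟨m, hm⟩ * y * ⟨m, hm⟩⁻¹, ?_, rfl⟩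
      have hy' : y ∈ N := by rw [← hPN]; exact hy
      have : ⟨m, hm⟩ * y * ⟨m, hm⟩⁻¹ ∈ N := ‹N.Normal›.conj_mem y hy' _
      rw [← hPN] at this
      exact this
    constructor
    · exact key m hm x
    · intro hx
      have := key m⁻¹ (M.inv_mem hm) _ hx
      have e : m⁻¹ * (m * x * m⁻¹) * m⁻¹⁻¹ = x := by group
      rwa [e] at this
  have hNtop : Subgroup.normalizer (S : Set G) ≠ ⊤ :=
    Cfsg.Agent.Helper31.bgt_normalizer_ne_top_of_simple hS1 (isPGroup_ne_top hG hSp)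
  have hNM : Subgroup.normalizer (S : Set G) = M := by
    by_contra hne
    exact hNtop (hM.2 _ (lt_of_le_of_ne hnorm (Ne.symm hne)))
  exact ⟨ℓ, hℓp, hℓd, P, hNM.le⟩

/-- `M_σ ≠ 1` (B-G 10.2(e)) -/
theorem sigmaCore_ne_bot (hG : Cfsg.IsMinSimpleOddOrder G) (hU : UniquenessThm G)
    {M : Subgroup G} (hM : IsCoatom M) : Cfsg.sigmaCore M ≠ ⊥ := by
  obtain ⟨q, hq⟩ := exists_mem_sigma hG hU hM
  obtain ⟨h1, h2, h3⟩ := (thm_10_2_sigma hG hU M hM).1
  intro hbot
  have h4 := Cfsg.Agent.Helper31.relIndex_mul_card'' h1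
  rw [hbot, Subgroup.card_bot, mul_one] at h4
  apply h3 q hq.1 hq
  rw [hbot, h4]
  exact hq.2.1

end Cfsg.Agent.Helper68.BG11
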