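import Mathlib
import Cfsg.Agent.Helper34.BGSigmaS2
import Cfsg.Agent.Helper29.BG11A

set_option autoImplicit false

/-!
# Lemma H' of helper70's Theorem N3 (board #3620), step 3.5

`H` solvable, `D`, `D'` nontrivial subgroups of `H` of coprime orders such that the `t`-subgroups
of `H` are cyclic for every prime `t ∣ |D| |D'|`; `N_H(X) ≤ N` for every `X ≤ D` of prime order,
`N_H(X') ≤ N'` for every `X' ≤ D'` of prime order, and every element of `N'` of order prime to
`|D'|` centralizes `D'`.  Then some prime divisor of `|D'|` divides `|N|`.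
-/

namespace Cfsg.Agent.Helper68.BG14H

open Cfsg Cfsg.Agent.Helper29 Cfsg.Agent.Helper29.BG10

variable {G : Type*} [Group G] [Finite G]

/-- a nontrivial subgroup has a subgroup of prime order `minFac |D|` -/
theorem exists_le_card_minFac {D : Subgroup G} (hD1 : D ≠ ⊥) :
    ∃ X : Subgroup G, X ≤ D ∧ Nat.card X = (Nat.card D).minFac ∧ (Nat.card D).minFac.Prime := by
  have hc1 : Nat.card D ≠ 1 := fun h => hD1 (Subgroup.card_eq_one.mp h)
  have ht : (Nat.card D).minFac.Prime := Nat.minFac_prime hc1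
  haveI : Fact (Nat.card D).minFac.Prime := ⟨ht⟩
  obtain ⟨x, hx⟩ := exists_prime_orderOf_dvd_card' (G := ↥D) (Nat.card D).minFac
    (Nat.minFac_dvd _)
  refine ⟨Subgroup.zpowers (x : G), ?_, ?_, ht⟩
  · rw [Subgroup.zpowers_le]; exact x.2
  · rw [Nat.card_zpowers, Subgroup.orderOf_coe, hx]

theorem lemma_H' {H D D' N N' : Subgroup G} (hsolv : Group.IsSolvable ↥H) (hDH : D ≤ H)
    (hD'H : D' ≤ H) (hD1 : D ≠ ⊥) (hD'1 : D' ≠ ⊥)
    (hcop : (Nat.card D).Coprime (Nat.card D'))
    (hcyc : ∀ t : ℕ, t.Prime → t ∣ Nat.card D * Nat.card D' →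
      ∀ Q : Subgroup G, Q ≤ H → IsPGroup t Q → IsCyclic Q)
    (hN : ∀ X : Subgroup G, X ≤ D → (Nat.card X).Prime →
      H ⊓ Subgroup.normalizer (X : Set G) ≤ N)
    (hN' : ∀ X : Subgroup G, X ≤ D' → (Nat.card X).Prime →
      H ⊓ Subgroup.normalizer (X : Set G) ≤ N')
    (hcent : ∀ x ∈ N', (orderOf x).Coprime (Nat.card D') →
      x ∈ Subgroup.centralizer (D' : Set G)) :
    ∃ t' : ℕ, t'.Prime ∧ t' ∣ Nat.card D' ∧ t' ∣ Nat.card N := by
  obtain ⟨X, hXD, hXc, ht⟩ := exists_le_card_minFac hD1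
  obtain ⟨X', hX'D, hX'c, ht'⟩ := exists_le_card_minFac hD'1
  set t := (Nat.card D).minFac with htdef
  set t' := (Nat.card D').minFac with ht'def
  have htD : t ∣ Nat.card D := Nat.minFac_dvd _
  have ht'D : t' ∣ Nat.card D' := Nat.minFac_dvd _
  have htt' : t ≠ t' := by
    intro h
    have h1 : t ∣ Nat.gcd (Nat.card D) (Nat.card D') := Nat.dvd_gcd htD (h ▸ ht'D)
    rw [hcop] at h1
    exact ht.one_lt.ne' (Nat.dvd_one.mp h1)
  have hXH : X ≤ H := hXD.trans hDH
  have hX'H : X' ≤ H := hX'D.trans hD'H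
  refine ⟨t', ht', ht'D, ?_⟩
  obtain ⟨c, hcH, hc⟩ := Cfsg.Agent.Helper34.BGSigmaS2.exists_cj_le_normalizer ht ht' htt' hsolv
    hXH hX'H hXc hX'c (hcyc t ht (Dvd.dvd.mul_right htD _)) (hcyc t' ht' (Dvd.dvd.mul_left ht'D _))
  have hNX := hN X hXD (by rw [hXc]; exact ht)
  have hNX' := hN' X' hX'D (by rw [hX'c]; exact ht')
  rcases hc with hc | hc
  · -- `cj c X' ≤ N_H(X) ≤ N`
    have h1 : cj c X' ≤ H := by
      have := cj_mono (g := c) hX'H
      rwa [cj_eq_self_of_mem hcH] at this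
    have h2 : cj c X' ≤ N := (le_inf h1 hc).trans hNX
    have h3 := Subgroup.card_dvd_of_le h2
    rwa [card_cj, hX'c] at h3
  · -- `cj c X ≤ N_H(X') ≤ N'` centralizes `D'`
    have h1 : cj c X ≤ H := by
      have := cj_mono (g := c) hXH
      rwa [cj_eq_self_of_mem hcH] at this
    have h2 : cj c X ≤ N' := (le_inf h1 hc).trans hNX'
    have h3 : cj c X ≤ Subgroup.centralizer (D' : Set G) := by
      intro y hy
      apply hcent y (h2 hy)
      have hord : orderOf y ∣ t := by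
        have := orderOf_dvd_natCard (⟨y, hy⟩ : cj c X)
        rwa [Subgroup.orderOf_mk, card_cj, hXc] at this
      exact Nat.Coprime.coprime_dvd_left (hord.trans htD) hcop
    have h4 : cj c X ≤ Subgroup.centralizer (X' : Set G) :=
      h3.trans (Subgroup.centralizer_le (by exact_mod_cast hX'D))
    have h5 : X' ≤ cj c (Subgroup.centralizer (X : Set G)) := by
      rw [← BG11.centralizer_cj]
      exact Subgroup.le_centralizer_iff.mp h4
    have h6 : cj c⁻¹ X' ≤ Subgroup.centralizer (X : Set G) := by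
      rw [cj_le_iff, inv_inv]
      exact h5
    have h7 : cj c⁻¹ X' ≤ H := by
      have := cj_mono (g := c⁻¹) hX'H
      rwa [cj_eq_self_of_mem (H.inv_mem hcH)] at this
    have h8 : cj c⁻¹ X' ≤ N :=
      (le_inf h7 (h6.trans (Subgroup.centralizer_le_normalizer _))).trans hNX
    have h9 := Subgroup.card_dvd_of_le h8
    rwa [card_cj, hX'c] at h9

end Cfsg.Agent.Helper68.BG14H
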