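import Mathlib
import Cfsg.Agent.Helper34.BGSigmaS2
import Cfsg.Agent.Helper29.BG11A
import Cfsg.Agent.Helper68.BG14P5

set_option autoImplicit false

/-!
# The two pure group lemmas (J) and (F) of helper70's board post #3647, exact signatures

(J) from helper34's `exists_cj_le_normalizer`; (F) is `BG14P5.centralizes_of_frobenius_fpf`.
-/

namespace Cfsg.Agent.Helper68.BG14JF

open Cfsg Cfsg.Agent.Helper29 Cfsg.Agent.Helper29.BG10

theorem lemma_J {X : Type*} [Group X] [Finite X] (K : Subgroup X) [Group.IsSolvable K] {t t' : ℕ} (ht : t.Prime) (ht' : t'.Prime) (hne : t ≠ t') (hcyc : ∀ S : Subgroup X, S ≤ K → IsPGroup t S → IsCyclic S) (hcyc' : ∀ S : Subgroup X, S ≤ K → IsPGroup t' S → IsCyclic S) (Xt X' D' N N' : Subgroup X) (hXtK : Xt ≤ K) (hXt : Nat.card Xt = t) (hX'D : X' ≤ D') (hD'K : D' ≤ K) (hX' : Nat.card X' = t') (hN : K ⊓ Subgroup.normalizer (Xt : Set X) ≤ N) (hN' : K ⊓ Subgroup.normalizer (X' : Set X) ≤ N') (hcent : ∀ g ∈ N', orderOf g = t → g ∈ Subgroup.centralizer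 (D' : Set X)) : ∃ X'' : Subgroup X, X'' ≤ N ∧ Nat.card X'' = t' := by
  have hX'K : X' ≤ K := hX'D.trans hD'K
  obtain ⟨c, hcK, hc⟩ := Cfsg.Agent.Helper34.BGSigmaS2.exists_cj_le_normalizer ht ht' hne
    (inferInstance : Group.IsSolvable ↥K) hXtK hX'K hXt hX' hcyc hcyc'
  rcases hc with hc | hc
  · have h1 : cj c X' ≤ K := by
      have := cj_mono (g := c) hX'K
      rwa [cj_eq_self_of_mem hcK] at this
    exact ⟨cj c X', (le_inf h1 hc).trans hN, by rw [card_cj, hX']⟩
  · have h1 : cj c Xt ≤ K := by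
      have := cj_mono (g := c) hXtK
      rwa [cj_eq_self_of_mem hcK] at this
    have h2 : cj c Xt ≤ N' := (le_inf h1 hc).trans hN'
    have h3 : cj c Xt ≤ Subgroup.centralizer (D' : Set X) := by
      intro y hy
      have hord : orderOf y ∣ t := by
        have := orderOf_dvd_natCard (⟨y, hy⟩ : cj c Xt)
        rwa [Subgroup.orderOf_mk, card_cj, hXt] at this
      rcases (Nat.dvd_prime ht).mp hord with h | h
      · rw [orderOf_eq_one_iff.mp h]
        exact Subgroup.one_mem _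
      · exact hcent y (h2 hy) h
    have h4 : cj c Xt ≤ Subgroup.centralizer (X' : Set X) :=
      h3.trans (Subgroup.centralizer_le (by exact_mod_cast hX'D))
    have h5 : X' ≤ cj c (Subgroup.centralizer (Xt : Set X)) := by
      rw [← BG11.centralizer_cj]
      exact Subgroup.le_centralizer_iff.mp h4
    have h6 : cj c⁻¹ X' ≤ Subgroup.centralizer (Xt : Set X) := by
      rw [cj_le_iff, inv_inv]
      exact h5
    have h7 : cj c⁻¹ X' ≤ K := by
      have := cj_mono (g := c⁻¹) hX'K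
      rwa [cj_eq_self_of_mem (K.inv_mem hcK)] at this
    exact ⟨cj c⁻¹ X', (le_inf h7 (h6.trans (Subgroup.centralizer_le_normalizer _))).trans hN,
      by rw [card_cj, hX']⟩

theorem frob_fpf {X : Type*} [Group X] [Finite X] (hodd : Odd (Nat.card X)) {p s : ℕ} (hp : p.Prime) (hs : s.Prime) (K Y P : Subgroup X) (hP : Nat.card P = p) (hY : Nat.card Y = s) (hPY : P ≤ Subgroup.normalizer (Y : Set X)) (hnc : ¬ P ≤ Subgroup.centralizer (Y : Set X)) (hYK : Y ≤ Subgroup.normalizer (K : Set X)) (hPK : P ≤ Subgroup.normalizer (K : Set X)) (hcop : (Nat.card K).Coprime (s * p)) (hfpf : K ⊓ Subgroup.centralizer (P : Set X) = ⊥) : K ≤ Subgroup.centralizer (Y : Set X) :=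
  Subgroup.le_centralizer_iff.mp
    (Cfsg.Agent.Helper68.BG14P5.centralizes_of_frobenius_fpf K Y P hs hp hY hP hPY hnc hYK hPK hodd
      hcop hfpf)

end Cfsg.Agent.Helper68.BG14JF
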