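import Mathlib
import Cfsg.Prelude.Def_OddOrderLocal
import Cfsg.Agent.Helper55.BGThmBf
import Cfsg.Agent.Helper25.PF8
import Cfsg.Agent.Helper23.Sup

set_option autoImplicit false
set_option linter.unusedSectionVars false
set_option linter.unusedVariables false

/-!
# Pieces (C) and (D) of B-G Theorem II for `A(M)` and `A₀(M)` (helper68, for helper75's #3330)

Notation: `(K, U)` a `σ`-decomposition of the maximal subgroup `M`, `M_σ = sigmaCore M`,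
`K* = M_σ ∩ C(K)`, `Z = K K*`, `Ẑ = Z \ (K ∪ K*)`.

* `centralizer_le_of_mem_sigmaA_diff`: `C_G(a) ≤ M` for `a ∈ A(M) \ M_σ` (from Theorem B (e));
* `centralizer_le_of_mem_typeA0` (C): `C_G(y) ≤ M` for `y ∈ A₀(M) \ M_σ`;
* `fusion_typeA0` (D): `M` controls `G`-fusion in `A₀(M)`.

The membership facts (B1), (B2) and the black boxes are hypotheses in statement shape.
-/

namespace Cfsg.Agent.Helper68.BGIICD

open Cfsg Cfsg.Agent.Helper29.BG10 Cfsg.Agent.Helper55.BGThmB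

universe u

variable {G : Type u} [Group G] [Finite G]

/-- `C_G(a) ≤ C_G(a ^ n)` -/
theorem centralizer_le_centralizer_pow (a : G) (n : ℕ) :
    Subgroup.centralizer ({a} : Set G) ≤ Subgroup.centralizer ({a ^ n} : Set G) := by
  intro c hc
  rw [Subgroup.mem_centralizer_iff] at hc ⊢
  intro z hz
  rw [Set.mem_singleton_iff] at hz
  subst hz
  have h1 : Commute a c := hc a rfl
  exact (h1.pow_left n).eq

/-- `C_G(a) ≤ M` for `a ∈ A(M) \ M_σ` -/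
theorem centralizer_le_of_mem_sigmaA_diff (hG : Cfsg.IsMinSimpleOddOrder G) (hU : UniquenessThm G)
    (h125 : H125 G) (h126a : Cfsg.Agent.Helper54.BG128.H126a G)
    {M K U : Subgroup G} (hM : IsCoatom M) (hKU : Cfsg.IsSigmaDecomposition M K U) {a : G}
    (ha : a ∈ Cfsg.sigmaA M U \ (Cfsg.sigmaCore M : Set G)) :
    Subgroup.centralizer ({a} : Set G) ≤ M := by
  set n := Nat.card (Cfsg.sigmaCore M) with hn
  obtain ⟨⟨⟨haM, y, hy, hy1, hay⟩, haUS⟩, haS⟩ := ha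
  have hzM : a ^ n ∈ M := M.pow_mem haM n
  have hz1 : a ^ n ≠ 1 := fun h => haS (mem_sigmaCore_of_pow_card hG hU hM haM h)
  have hzU : (a ^ n) ^ Nat.card U = 1 := by
    have h1 : (⟨a, haUS⟩ : ↥(U ⊔ Cfsg.sigmaCore M)) ^ Nat.card ↥(U ⊔ Cfsg.sigmaCore M) = 1 :=
      pow_card_eq_one'
    have h2 : a ^ Nat.card ↥(U ⊔ Cfsg.sigmaCore M) = 1 := by
      have := congrArg Subtype.val h1
      rw [Subgroup.coe_pow] at this
      exact this
    rw [← pow_mul, mul_comm, ← card_U_sup_sigmaCore hKU]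
    exact h2
  have hzc : Cfsg.sigmaCore M ⊓ Subgroup.centralizer ({a ^ n} : Set G) ≠ ⊥ := by
    intro h
    apply hy1
    have hc : y ∈ Subgroup.centralizer ({a ^ n} : Set G) := by
      rw [Subgroup.mem_centralizer_iff]
      intro z hz
      rw [Set.mem_singleton_iff] at hz
      subst hz
      have h1 : Commute a y := hay
      exact (h1.pow_left n).eq
    have h2 : y ∈ Cfsg.sigmaCore M ⊓ Subgroup.centralizer ({a ^ n} : Set G) := ⟨hy, hc⟩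
    rwa [h, Subgroup.mem_bot] at h2
  obtain ⟨hCz, -⟩ := unique_of_pow_card_U hG hU h125 h126a hM hKU hzM hz1 hzU hzc
  exact (centralizer_le_centralizer_pow a n).trans hCz

/-- `(|K|, |U| |M_σ|) = 1` -/
theorem coprime_card_K {M K U : Subgroup G} (hKU : Cfsg.IsSigmaDecomposition M K U) :
    (Nat.card K).Coprime (Nat.card U * Nat.card (Cfsg.sigmaCore M)) := by
  apply Nat.Coprime.mul_right
  · exact Nat.coprime_of_dvd fun q hq hqK hqU =>
      not_kappa_of_dvd_card_U hKU hq hqU (hKU.hall.2.1 q hq hqK)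
  · exact Nat.coprime_of_dvd fun q hq hqK hqS =>
      (hKU.hall.2.1 q hq hqK).2.2.1 (Cfsg.Agent.Helper29.BG11.primes_sigmaCore M q hq hqS)

/-- a non-identity element of `K` does not have order dividing `|U| |M_σ|` -/
theorem pow_ne_one_of_mem_K {M K U : Subgroup G} (hKU : Cfsg.IsSigmaDecomposition M K U) {k : G}
    (hk : k ∈ K) (hk1 : k ≠ 1) : k ^ (Nat.card U * Nat.card (Cfsg.sigmaCore M)) ≠ 1 := by
  intro h
  apply hk1
  have h1 : orderOf k ∣ Nat.card U * Nat.card (Cfsg.sigmaCore M) := orderOf_dvd_of_pow_eq_one h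
  have h2 : orderOf k ∣ Nat.card K := by
    have := orderOf_dvd_natCard (⟨k, hk⟩ : K)
    rwa [Subgroup.orderOf_mk] at this
  have h3 : orderOf k = 1 := Nat.eq_one_of_dvd_coprimes (coprime_card_K hKU) h2 h1
  exact orderOf_eq_one_iff.mp h3

/-- the elements of `Ẑ` are the products `k s` with `1 ≠ k ∈ K`, `1 ≠ s ∈ K*` -/
theorem exists_mul_of_mem_Zhat {M K : Subgroup G} {w : G}
    (hw : w ∈ ((↑(K ⊔ (Cfsg.sigmaCore M ⊓ Subgroup.centralizer (K : Set G))) : Set G) \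
      ((K : Set G) ∪ ↑(Cfsg.sigmaCore M ⊓ Subgroup.centralizer (K : Set G))))) :
    ∃ k ∈ K, k ≠ 1 ∧ ∃ s ∈ Cfsg.sigmaCore M ⊓ Subgroup.centralizer (K : Set G), s ≠ 1 ∧
      w = k * s := by
  obtain ⟨hwZ, hwn⟩ := hw
  have hcomm : ∀ a ∈ K, ∀ b ∈ Cfsg.sigmaCore M ⊓ Subgroup.centralizer (K : Set G),
      a * b = b * a := fun a ha b hb => (Subgroup.mem_centralizer_iff.mp hb.2) a ha
  obtain ⟨k, hk, s, hs, rfl⟩ := (Cfsg.Agent.Helper23.mem_sup_iff_of_commute hcomm).mp hwZ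
  refine ⟨k, hk, ?_, s, hs, ?_, rfl⟩
  · rintro rfl
    apply hwn
    right
    rw [one_mul]
    exact hs
  · rintro rfl
    apply hwn
    left
    rw [mul_one]
    exact hk

/-- `C_G(m w m⁻¹) ≤ M` if `C_G(w) ≤ M` and `m ∈ M` -/
theorem centralizer_conj_le {M : Subgroup G} {m w : G} (hm : m ∈ M)
    (hw : Subgroup.centralizer ({w} : Set G) ≤ M) :
    Subgroup.centralizer ({m * w * m⁻¹} : Set G) ≤ M := by
  intro c hc
  have h1 : m⁻¹ * c * m ∈ Subgroup.centralizer ({w} : Set G) := by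
    rw [Subgroup.mem_centralizer_iff] at hc ⊢
    intro z hz
    rw [Set.mem_singleton_iff] at hz
    subst hz
    have h := hc (m * z * m⁻¹) rfl
    have e1 : z * (m⁻¹ * c * m) = m⁻¹ * (m * z * m⁻¹ * c) * m := by group
    have e2 : m⁻¹ * c * m * z = m⁻¹ * (c * (m * z * m⁻¹)) * m := by group
    rw [e1, e2, h]
  have h2 := M.mul_mem (M.mul_mem hm (hw h1)) (M.inv_mem hm)
  have e : m * (m⁻¹ * c * m) * m⁻¹ = c := by group
  rwa [e] at h2

/-- **(C)**: `C_G(y) ≤ M` for `y ∈ A₀(M) \ M_σ`. -/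
theorem centralizer_le_of_mem_typeA0 (hG : Cfsg.IsMinSimpleOddOrder G) (hU : UniquenessThm G)
    (h125 : H125 G) (h126a : Cfsg.Agent.Helper54.BG128.H126a G)
    {M K U : Subgroup G} (hM : IsCoatom M) (hKU : Cfsg.IsSigmaDecomposition M K U)
    (hZ : K ≠ ⊥ → ∀ x ∈ K, x ≠ 1 →
      ∀ y ∈ Cfsg.sigmaCore M ⊓ Subgroup.centralizer (K : Set G), y ≠ 1 →
        Subgroup.centralizer ({x * y} : Set G) ≤ M)
    (hB1 : ∀ y ∈ Cfsg.typeA M, y ∈ U ⊔ Cfsg.sigmaCore M ∧ y ≠ 1 ∧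
      ∃ z ∈ Cfsg.sigmaCore M, z ≠ 1 ∧ y * z = z * y)
    (hB2 : ∀ y ∈ Cfsg.typeA0 M, y ∈ Cfsg.typeA M ∨ (K ≠ ⊥ ∧ ∃ m ∈ M,
      ∃ w ∈ ((↑(K ⊔ (Cfsg.sigmaCore M ⊓ Subgroup.centralizer (K : Set G))) : Set G) \
        ((K : Set G) ∪ ↑(Cfsg.sigmaCore M ⊓ Subgroup.centralizer (K : Set G)))),
      y = m * w * m⁻¹))
    {y : G} (hy : y ∈ Cfsg.typeA0 M) (hyS : y ∉ Cfsg.sigmaCore M) :
    Subgroup.centralizer ({y} : Set G) ≤ M := by
  rcases hB2 y hy with hA | ⟨hK1, m, hm, w, hw, rfl⟩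
  · obtain ⟨hyUS, hy1, z, hz, hz1, hyz⟩ := hB1 y hA
    have hUSM : U ⊔ Cfsg.sigmaCore M ≤ M :=
      sup_le (Cfsg.Agent.Helper55.BGU.U_le hKU) (Cfsg.Agent.Helper29.BG11.sigmaCore_le M)
    exact centralizer_le_of_mem_sigmaA_diff hG hU h125 h126a hM hKU
      ⟨⟨⟨hUSM hyUS, z, hz, hz1, hyz⟩, hyUS⟩, hyS⟩
  · obtain ⟨k, hk, hk1, s, hs, hs1, rfl⟩ := exists_mul_of_mem_Zhat hw
    exact centralizer_conj_le hm (hZ hK1 k hk hk1 s hs hs1)

/-- an element of a subgroup is killed by any multiple of the order of the subgroup -/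
theorem pow_eq_one_of_mem {H : Subgroup G} {a : G} (ha : a ∈ H) {N : ℕ} (hN : Nat.card H ∣ N) :
    a ^ N = 1 := by
  obtain ⟨c, rfl⟩ := hN
  have h1 : (⟨a, ha⟩ : H) ^ Nat.card H = 1 := pow_card_eq_one'
  have h2 : a ^ Nat.card H = 1 := by
    have := congrArg Subtype.val h1
    rw [Subgroup.coe_pow] at this
    exact this
  rw [pow_mul, h2, one_pow]

theorem conj_pow_eq_one_iff (g x : G) (N : ℕ) : (g * x * g⁻¹) ^ N = 1 ↔ x ^ N = 1 := by
  rw [conj_pow]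
  constructor
  · intro h
    have : x ^ N = g⁻¹ * (g * x ^ N * g⁻¹) * g := by group
    rw [this, h]; group
  · intro h
    rw [h]; group

/-- **(D)**: `M` controls `G`-fusion in `A₀(M)`. -/
theorem fusion_typeA0 (hG : Cfsg.IsMinSimpleOddOrder G) (hU : UniquenessThm G)
    {M K U : Subgroup G} (hM : IsCoatom M) (hKU : Cfsg.IsSigmaDecomposition M K U)
    (hTI1 : Cfsg.IsTISubset (Cfsg.sigmaA M U \ (Cfsg.sigmaCore M : Set G)))
    (h1371 : K ≠ ⊥ → {a : G | ∃ m ∈ M,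
      ∃ z ∈ ((↑(K ⊔ (Cfsg.sigmaCore M ⊓ Subgroup.centralizer (K : Set G))) : Set G) \
        ((K : Set G) ∪ ↑(Cfsg.sigmaCore M ⊓ Subgroup.centralizer (K : Set G)))),
        a = m * z * m⁻¹} = Cfsg.sigmaA0 M K \ Cfsg.sigmaA M U ∧
      Cfsg.IsTISubset (Cfsg.sigmaA0 M K \ Cfsg.sigmaA M U))
    (hfus : ∀ x ∈ Cfsg.sigmaCore M, ∀ g : G, g * x * g⁻¹ ∈ Cfsg.sigmaCore M →
      ∃ n ∈ M, n * x * n⁻¹ = g * x * g⁻¹)
    (hB1 : ∀ y ∈ Cfsg.typeA M, y ∈ U ⊔ Cfsg.sigmaCore M ∧ y ≠ 1 ∧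
      ∃ z ∈ Cfsg.sigmaCore M, z ≠ 1 ∧ y * z = z * y)
    (hB2 : ∀ y ∈ Cfsg.typeA0 M, y ∈ Cfsg.typeA M ∨ (K ≠ ⊥ ∧ ∃ m ∈ M,
      ∃ w ∈ ((↑(K ⊔ (Cfsg.sigmaCore M ⊓ Subgroup.centralizer (K : Set G))) : Set G) \
        ((K : Set G) ∪ ↑(Cfsg.sigmaCore M ⊓ Subgroup.centralizer (K : Set G)))),
      y = m * w * m⁻¹))
    {x g : G} (hx : x ∈ Cfsg.typeA0 M) (hgx : g * x * g⁻¹ ∈ Cfsg.typeA0 M) :
    ∃ m ∈ M, m * x * m⁻¹ = g * x * g⁻¹ := by
  haveI : IsSimpleGroup G := hG.2.1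
  set n := Nat.card (Cfsg.sigmaCore M) with hn
  set N := Nat.card U * Nat.card (Cfsg.sigmaCore M) with hN
  have hSM : Cfsg.sigmaCore M ≤ M := Cfsg.Agent.Helper29.BG11.sigmaCore_le M
  have hKM : K ≤ M := hKU.hall.1
  have hUSM : U ⊔ Cfsg.sigmaCore M ≤ M := sup_le (Cfsg.Agent.Helper55.BGU.U_le hKU) hSM
  have hxM : x ∈ M := Cfsg.Agent.Helper25.PF8.typeA0_subset M hx
  have hyM : g * x * g⁻¹ ∈ M := Cfsg.Agent.Helper25.PF8.typeA0_subset M hgx
  by_cases hxS : x ∈ Cfsg.sigmaCore M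
  · have hyS : g * x * g⁻¹ ∈ Cfsg.sigmaCore M := by
      apply mem_sigmaCore_of_pow_card hG hU hM hyM
      rw [conj_pow_eq_one_iff]
      exact pow_eq_one_of_mem hxS dvd_rfl
    exact hfus x hxS g hyS
  · have hyS : g * x * g⁻¹ ∉ Cfsg.sigmaCore M := by
      intro h
      apply hxS
      apply mem_sigmaCore_of_pow_card hG hU hM hxM
      rw [← conj_pow_eq_one_iff g]
      exact pow_eq_one_of_mem h dvd_rfl
    have hx1 : x ≠ 1 := by
      rintro rfl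
      exact hxS (Subgroup.one_mem _)
    -- the two kinds of elements
    have hT1 : ∀ a ∈ Cfsg.typeA M, a ∉ Cfsg.sigmaCore M →
        a ∈ Cfsg.sigmaA M U \ (Cfsg.sigmaCore M : Set G) ∧ a ^ N = 1 := by
      intro a ha haS
      obtain ⟨haUS, ha1, z, hz, hz1, haz⟩ := hB1 a ha
      refine ⟨⟨⟨⟨hUSM haUS, z, hz, hz1, haz⟩, haUS⟩, haS⟩, ?_⟩
      exact pow_eq_one_of_mem haUS (by rw [card_U_sup_sigmaCore hKU])
    have hT2 : ∀ a : G, (∃ m ∈ M,
        ∃ w ∈ ((↑(K ⊔ (Cfsg.sigmaCore M ⊓ Subgroup.centralizer (K : Set G))) : Set G) \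
          ((K : Set G) ∪ ↑(Cfsg.sigmaCore M ⊓ Subgroup.centralizer (K : Set G)))),
        a = m * w * m⁻¹) → a ^ N ≠ 1 := by
      rintro a ⟨m, hm, w, hw, rfl⟩
      obtain ⟨k, hk, hk1, s, hs, hs1, rfl⟩ := exists_mul_of_mem_Zhat hw
      rw [Ne, conj_pow_eq_one_iff]
      have hc : Commute k s := (Subgroup.mem_centralizer_iff.mp hs.2) k hk
      rw [hc.mul_pow, pow_eq_one_of_mem hs.1 (Dvd.intro_left _ rfl), mul_one]
      exact pow_ne_one_of_mem_K hKU hk hk1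
    suffices hg : g ∈ M from ⟨g, hg, rfl⟩
    by_contra hgM
    rcases hB2 x hx with hxA | ⟨hK1, hxZ⟩
    · obtain ⟨hxT, hxN⟩ := hT1 x hxA hxS
      rcases hB2 _ hgx with hyA | ⟨-, hyZ⟩
      · obtain ⟨hyT, -⟩ := hT1 _ hyA hyS
        have hNT : Subgroup.normalizer (Cfsg.sigmaA M U \ (Cfsg.sigmaCore M : Set G)) = M :=
          Cfsg.Agent.Helper25.PF8.normalizer_eq_of_invariant hM ⟨x, hxT, hx1⟩
            (fun a ha => ha.1.1.1) (fun m hm a ha => conj_mem_sigmaA_diff hKU hm ha)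
        exact hx1 (hTI1 g (by rw [hNT]; exact hgM) x hxT hyT)
      · apply hT2 _ hyZ
        rw [conj_pow_eq_one_iff]
        exact hxN
    · rcases hB2 _ hgx with hyA | ⟨-, hyZ⟩
      · obtain ⟨-, hyN⟩ := hT1 _ hyA hyS
        apply hT2 x hxZ
        rw [← conj_pow_eq_one_iff g]
        exact hyN
      · obtain ⟨hEq, hTI2⟩ := h1371 hK1
        rw [← hEq] at hTI2
        have hZM : K ⊔ (Cfsg.sigmaCore M ⊓ Subgroup.centralizer (K : Set G)) ≤ M :=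
          sup_le hKM (inf_le_left.trans hSM)
        have hNT : Subgroup.normalizer {a : G | ∃ m ∈ M,
            ∃ z ∈ ((↑(K ⊔ (Cfsg.sigmaCore M ⊓ Subgroup.centralizer (K : Set G))) : Set G) \
              ((K : Set G) ∪ ↑(Cfsg.sigmaCore M ⊓ Subgroup.centralizer (K : Set G)))),
            a = m * z * m⁻¹} = M := by
          refine Cfsg.Agent.Helper25.PF8.normalizer_eq_of_invariant hM ⟨x, hxZ, hx1⟩ ?_ ?_
          · rintro a ⟨m, hm, z, hz, rfl⟩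
            exact M.mul_mem (M.mul_mem hm (hZM hz.1)) (M.inv_mem hm)
          · rintro m' hm' a ⟨m, hm, z, hz, rfl⟩
            refine ⟨m' * m, M.mul_mem hm' hm, z, hz, ?_⟩
            group
        exact hx1 (hTI2 g (by rw [hNT]; exact hgM) x hxZ hyZ)

/-- the hypothesis `hZ` of (C) from S1366 and clause 3 of S1434 -/
theorem hZ_of {M K : Subgroup G} (hKM : K ≤ M)
    (h1366 : ∃ Mstar : Subgroup G, IsCoatom Mstar ∧
      K = Cfsg.sigmaCore Mstar ⊓ Subgroup.centralizer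
        ((Cfsg.sigmaCore M ⊓ Subgroup.centralizer (K : Set G)) : Set G) ∧
      Cfsg.IsPiHallOf (Cfsg.kappa Mstar)
        (Cfsg.sigmaCore M ⊓ Subgroup.centralizer (K : Set G)) Mstar)
    (h1434 : ∀ Mstar : Subgroup G, IsCoatom Mstar →
      K = Cfsg.sigmaCore Mstar ⊓ Subgroup.centralizer
        ((Cfsg.sigmaCore M ⊓ Subgroup.centralizer (K : Set G)) : Set G) →
      Cfsg.IsPiHallOf (Cfsg.kappa Mstar)
        (Cfsg.sigmaCore M ⊓ Subgroup.centralizer (K : Set G)) Mstar →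
      ∀ x ∈ K, x ≠ 1 → ∀ y ∈ Cfsg.sigmaCore M ⊓ Subgroup.centralizer (K : Set G), y ≠ 1 →
        Subgroup.centralizer ({x * y} : Set G) =
          K ⊔ (Cfsg.sigmaCore M ⊓ Subgroup.centralizer (K : Set G))) :
    ∀ x ∈ K, x ≠ 1 → ∀ y ∈ Cfsg.sigmaCore M ⊓ Subgroup.centralizer (K : Set G), y ≠ 1 →
      Subgroup.centralizer ({x * y} : Set G) ≤ M := by
  obtain ⟨Mstar, h1, h2, h3⟩ := h1366
  intro x hx hx1 y hy hy1
  rw [h1434 Mstar h1 h2 h3 x hx hx1 y hy hy1]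
  exact sup_le hKM (inf_le_left.trans (Cfsg.Agent.Helper29.BG11.sigmaCore_le M))

/-- the hypothesis `hfus` of (D) from the second part of S1438 at `H := M_σ` -/
theorem hfus_of {M : Subgroup G}
    (h1438 : ∀ x ∈ Cfsg.sigmaCore M, ∀ g : G, g * x * g⁻¹ ∈ Cfsg.sigmaCore M →
      ∃ n ∈ M ⊓ Subgroup.normalizer ((Cfsg.sigmaCore M : Subgroup G) : Set G),
        n * x * n⁻¹ = g * x * g⁻¹) :
    ∀ x ∈ Cfsg.sigmaCore M, ∀ g : G, g * x * g⁻¹ ∈ Cfsg.sigmaCore M →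
      ∃ n ∈ M, n * x * n⁻¹ = g * x * g⁻¹ := by
  intro x hx g hg
  obtain ⟨n, hn, h⟩ := h1438 x hx g hg
  exact ⟨n, hn.1, h⟩

end Cfsg.Agent.Helper68.BGIICD
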