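import Mathlib
import Cfsg.Agent.Helper77.Blk.Defs
import Cfsg.Agent.S4143

/-!
helper68 for helper77 (S3888 Blackburn, board #13307): piece (MC) `maxclass_of_outside` of
`tools/helper77_blk/Skel.lean.txt`: reduction to the landed `Cfsg.Agent.S4143.result`.
-/

set_option autoImplicit false

universe u

namespace Cfsg.Agent.Helper68.Blk

open Subgroup Cfsg.Agent.Helper77.Blk

section setup
variable {G : Type u} [Group G] [Finite G] {p : ℕ} [hp : Fact p.Prime]

/-- (MC) maximal class from a small self-centralizing subgroup. -/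
theorem maxclass_of_outside (n : ℕ) (hG : Nat.card G = p ^ n) (E : Subgroup G) [E.Normal]
    (hEcard : Nat.card E = p ^ 2) (hEexp : ∀ e ∈ E, e ^ p = 1) (b1 : G)
    (hb1 : b1 ∉ centralizer (E : Set G)) (hb1p : b1 ^ p ∈ E)
    (hcent : ∀ w ∈ centralizer (E : Set G), b1⁻¹ * w * b1 = w → w ∈ E) :
    Group.nilpotencyClass G = n - 1 := by
  -- `E` is abelian, so `b1 ∉ E`
  have hEcomm : IsMulCommutative E := IsPGroup.isMulCommutative_of_card_eq_prime_sq hEcard
  have hb1E : b1 ∉ E := by
    intro hb
    apply hb1
    rw [Subgroup.mem_centralizer_iff]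
    intro e he
    have h := hEcomm.is_comm.comm (⟨e, he⟩ : E) ⟨b1, hb⟩
    exact congrArg Subtype.val h
  -- the subgroup `B = E ⊔ ⟨b1⟩`
  set B : Subgroup G := E ⊔ Subgroup.zpowers b1 with hB
  have hEB : E ≤ B := le_sup_left
  have hbB : b1 ∈ B := (le_sup_right : Subgroup.zpowers b1 ≤ B) (Subgroup.mem_zpowers b1)
  -- its order
  have hBcard : Nat.card B = p ^ 3 := by
    have h1 : Nat.card B = Nat.card E * E.relIndex B := by
      have h := Subgroup.relIndex_mul_relIndex ⊥ E B bot_le hEB
      rw [Subgroup.relIndex_bot_left, Subgroup.relIndex_bot_left] at h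
      exact h.symm
    have h2 : E.relIndex B = Nat.card (B.map (QuotientGroup.mk' E)) := by
      rw [← Subgroup.relIndex_ker, QuotientGroup.ker_mk']
    have h3 : B.map (QuotientGroup.mk' E) = Subgroup.zpowers (QuotientGroup.mk' E b1) := by
      rw [hB, Subgroup.map_sup, QuotientGroup.map_mk'_self, bot_sup_eq, MonoidHom.map_zpowers]
    have h4 : orderOf (QuotientGroup.mk' E b1) = p := by
      apply orderOf_eq_prime
      · rw [← map_pow]
        exact (QuotientGroup.eq_one_iff _).mpr hb1p
      · intro h
        exact hb1E ((QuotientGroup.eq_one_iff _).mp h)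
    rw [h1, h2, h3, Nat.card_zpowers, h4, hEcard]
    ring
  -- it is not abelian
  have hBna : ¬ IsMulCommutative B := by
    intro hc
    apply hb1
    rw [Subgroup.mem_centralizer_iff]
    intro e he
    have h := hc.is_comm.comm (⟨e, hEB he⟩ : B) ⟨b1, hbB⟩
    exact congrArg Subtype.val h
  -- it contains its centralizer
  have hC : Subgroup.centralizer (B : Set G) ≤ B := by
    intro w hw
    rw [Subgroup.mem_centralizer_iff] at hw
    apply hEB
    apply hcent w
    · rw [Subgroup.mem_centralizer_iff]
      intro e he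
      exact hw e (hEB he)
    · have h := hw b1 hbB
      rw [mul_assoc, ← h, ← mul_assoc, inv_mul_cancel, one_mul]
  exact Cfsg.Agent.S4143.result n hG B hBcard hBna hC

end setup

end Cfsg.Agent.Helper68.Blk
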