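import Mathlib
import Cfsg.Agent.Helper77.Blk.Defs

/-!
helper68 for helper77 (S3888 Blackburn, board #13307): piece (MCA) `alpha_cent` of
`tools/helper77_blk/Skel.lean.txt`.
-/

set_option autoImplicit false

universe u

namespace Cfsg.Agent.Helper68.Blk

open Subgroup Cfsg.Agent.Helper77.Blk

section alpha
variable {G : Type u} [Group G] [Finite G] {p : ℕ} [hp : Fact p.Prime]

/-- (MCA) in case alpha, for `b1 ∉ C` with `b1^p ∈ E`: every `w ∈ C` commuting with `b1` lies in `E`. -/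
theorem alpha_cent (hG : IsPGroup p G) (E : Subgroup G) [E.Normal] (hEcard : Nat.card E = p ^ 2)
    (hEexp : ∀ e ∈ E, e ^ p = 1) (hall : ∀ g : G, g ^ p = 1 → g ∈ E) (b1 : G) (hACT : TransvAct E b1)
    (hb1 : b1 ∉ centralizer (E : Set G)) (hb1p : b1 ^ p ∈ E) :
    ∀ w ∈ centralizer (E : Set G), b1⁻¹ * w * b1 = w → w ∈ E := by
  have hEn : E.Normal := inferInstance
  -- `E` is abelian, so `E ≤ C`
  have hEcomm : IsMulCommutative E := IsPGroup.isMulCommutative_of_card_eq_prime_sq hEcard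
  have hEC : ∀ e ∈ E, e ∈ centralizer (E : Set G) := by
    intro e he
    rw [Subgroup.mem_centralizer_iff]
    intro e' he'
    have h := hEcomm.is_comm.comm (⟨e', he'⟩ : E) ⟨e, he⟩
    exact congrArg Subtype.val h
  -- an element of `E` moved by `b1`
  obtain ⟨e2, he2, hne⟩ : ∃ e2 ∈ E, b1⁻¹ * e2 * b1 ≠ e2 := by
    by_contra hcon
    push Not at hcon
    apply hb1
    rw [Subgroup.mem_centralizer_iff]
    intro e he
    have h := hcon e he
    calc e * b1 = b1 * (b1⁻¹ * e * b1) := by group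
      _ = b1 * e := by rw [h]
  obtain ⟨-, hfixall, -⟩ := hACT e2 he2 hne
  set e1 : G := e2⁻¹ * (b1⁻¹ * e2 * b1) with he1
  have he1E : e1 ∈ E := by
    apply E.mul_mem (E.inv_mem he2)
    have h := hEn.conj_mem e2 he2 b1⁻¹
    rwa [inv_inv] at h
  have he1ne : e1 ≠ 1 := by
    intro h
    apply hne
    rw [he1, inv_mul_eq_one] at h
    exact h.symm
  have hcard : Nat.card (Subgroup.zpowers e1) = p := by
    rw [Nat.card_zpowers]
    exact orderOf_eq_prime (hEexp e1 he1E) he1ne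
  -- `b1 ^ p` generates the fixed points
  have hb1pz : b1 ^ p ∈ Subgroup.zpowers e1 := by
    apply hfixall _ hb1p
    rw [mul_assoc, ← pow_succ, pow_succ', ← mul_assoc, inv_mul_cancel, one_mul]
  have hb1pne : b1 ^ p ≠ 1 := by
    intro h
    exact hb1 (hEC b1 (hall b1 h))
  have htop : Subgroup.zpowers (⟨b1 ^ p, hb1pz⟩ : Subgroup.zpowers e1) = ⊤ := by
    apply zpowers_eq_top_of_prime_card hcard
    intro h
    exact hb1pne (congrArg Subtype.val h)
  have hfix : ∀ e ∈ E, b1⁻¹ * e * b1 = e → ∃ j : ℤ, (b1 ^ p) ^ j = e := by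
    intro e he hfe
    have h1 := hfixall e he hfe
    have h2 : (⟨e, h1⟩ : Subgroup.zpowers e1) ∈ Subgroup.zpowers (⟨b1 ^ p, hb1pz⟩ : Subgroup.zpowers e1) := by
      rw [htop]
      trivial
    obtain ⟨j, hj⟩ := Subgroup.mem_zpowers_iff.mp h2
    refine ⟨j, ?_⟩
    have h3 := congrArg Subtype.val hj
    rwa [Subgroup.coe_zpow] at h3
  -- the main argument
  intro w hwC hwb
  by_contra hwE
  have hex : ∃ i : ℕ, w ^ p ^ i ∈ E := by
    obtain ⟨k, hk⟩ := hG w
    exact ⟨k, by rw [hk]; exact E.one_mem⟩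
  classical
  have hi0 : Nat.find hex ≠ 0 := by
    intro h0
    have h := Nat.find_spec hex
    rw [h0, pow_zero, pow_one] at h
    exact hwE h
  obtain ⟨i, hi⟩ : ∃ i, Nat.find hex = i + 1 := Nat.exists_eq_succ_of_ne_zero hi0
  set w' : G := w ^ p ^ i with hw'
  have hw'E : w' ∉ E := Nat.find_min hex (by omega : i < Nat.find hex)
  have hw'p : w' ^ p ∈ E := by
    have h := Nat.find_spec hex
    rwa [hi, pow_succ, pow_mul] at h
  have hw'C : w' ∈ centralizer (E : Set G) := Subgroup.pow_mem _ hwC _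
  have hcomm : Commute b1 w := by
    show b1 * w = w * b1
    calc b1 * w = b1 * (b1⁻¹ * w * b1) := by rw [hwb]
      _ = w * b1 := by group
  have hcomm' : Commute b1 w' := hcomm.pow_right _
  have hfixw : b1⁻¹ * w' ^ p * b1 = w' ^ p := by
    have h : Commute b1 (w' ^ p) := hcomm'.pow_right _
    rw [mul_assoc, ← h.eq, ← mul_assoc, inv_mul_cancel, one_mul]
  obtain ⟨j, hj⟩ := hfix _ hw'p hfixw
  -- `x = b1 ^ j * w'⁻¹` has order dividing `p`
  have hx : (b1 ^ j * w'⁻¹) ^ p = 1 := by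
    have hc : Commute (b1 ^ j) w'⁻¹ := (hcomm'.zpow_left j).inv_right
    rw [hc.mul_pow, inv_pow, ← hj, ← zpow_natCast (b1 ^ j) p, ← zpow_mul, mul_comm, zpow_mul, zpow_natCast,
      mul_inv_cancel]
  have hxE : b1 ^ j * w'⁻¹ ∈ E := hall _ hx
  have hbjC : b1 ^ j ∈ centralizer (E : Set G) := by
    have h := Subgroup.mul_mem _ (hEC _ hxE) hw'C
    rwa [inv_mul_cancel_right] at h
  -- `p ∤ j`
  have hpj : ¬ (p : ℤ) ∣ j := by
    rintro ⟨j', rfl⟩
    apply hw'E
    apply hall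
    rw [← hj, zpow_mul, zpow_natCast, hEexp _ hb1p, one_zpow]
  have hcop : Int.gcd (p : ℤ) j = 1 := by
    have h1 : ¬ p ∣ j.natAbs := by
      intro h
      exact hpj (Int.natCast_dvd.mpr h)
    have h2 : Nat.Coprime p j.natAbs := (Nat.Prime.coprime_iff_not_dvd hp.out).mpr h1
    rw [Int.gcd, Int.natAbs_natCast]
    exact h2
  have hbez := Int.gcd_eq_gcd_ab (p : ℤ) j
  rw [hcop] at hbez
  apply hb1
  have h1 : b1 = (b1 ^ p) ^ (Int.gcdA (p : ℤ) j) * (b1 ^ j) ^ (Int.gcdB (p : ℤ) j) := by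
    rw [← zpow_natCast b1 p, ← zpow_mul, ← zpow_mul, ← zpow_add, ← hbez]
    simp
  rw [h1]
  exact Subgroup.mul_mem _ (Subgroup.zpow_mem _ (hEC _ hb1p) _) (Subgroup.zpow_mem _ hbjC _)

end alpha

end Cfsg.Agent.Helper68.Blk
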