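import Mathlib
import Cfsg.Agent.Helper2.CS2Defs
import Cfsg.Agent.Helper2.CS2Basic
import Cfsg.Agent.Helper51.CS2P0b

/-! (A34) of helper2's S4284: for every prime `s ∣ m` the centralizer `M = C(x)` has a noncentral
central `s`-element, and some `s`-element outside `M` normalizes `M`. -/

set_option autoImplicit false
set_option linter.unusedVariables false
set_option linter.unusedSectionVars false

namespace Cfsg.Agent.Helper68.CS2
open Cfsg.Agent.Helper2.CS2 Subgroup

variable {G : Type*} [Group G] [Finite G] {m n : ℕ}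

/-- conjugation by an element normalizing `R` preserves `M = R * C(R)` -/
theorem conj_mem_of_decomp (M R : Subgroup G) (hRM : R ≤ M)
    (hU1 : ∀ b ∈ M, ∃ r ∈ R, ∃ c ∈ centralizer (R : Set G), b = r * c)
    (hU3 : centralizer (R : Set G) ≤ M) {g : G} (hg : g ∈ normalizer (R : Set G)) {b : G}
    (hb : b ∈ M) : g * b * g⁻¹ ∈ M := by
  obtain ⟨r, hr, c, hc, rfl⟩ := hU1 b hb
  have h1 : g * (r * c) * g⁻¹ = (g * r * g⁻¹) * (g * c * g⁻¹) := by group
  rw [h1]
  refine M.mul_mem (hRM ((mem_normalizer_iff.1 hg r).1 hr)) (hU3 ?_)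
  rw [mem_centralizer_iff]
  intro z hz
  -- `z = g z' g⁻¹` with `z' ∈ R`
  have hz' : g⁻¹ * z * g ∈ R := by
    have := (mem_normalizer_iff.1 (inv_mem hg) z).1 hz
    simpa using this
  have h2 := (mem_centralizer_iff.1 hc) _ hz'
  have h3 : z = g * (g⁻¹ * z * g) * g⁻¹ := by group
  rw [h3]
  calc g * (g⁻¹ * z * g) * g⁻¹ * (g * c * g⁻¹) = g * ((g⁻¹ * z * g) * c) * g⁻¹ := by group
    _ = g * (c * (g⁻¹ * z * g)) * g⁻¹ := by rw [h2]
    _ = g * c * g⁻¹ * (g * (g⁻¹ * z * g) * g⁻¹) := by group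

/-- normalizers grow: an `s`-element outside `M` normalizing `M` -/
theorem exists_normalizer_elt {s : ℕ} [hsF : Fact s.Prime] (M R : Subgroup G)
    (hRM : R ≤ M) (hR : IsPGroup s R) (hall : ∀ a ∈ M, IsPElt s a → a ∈ R)
    (hU1 : ∀ b ∈ M, ∃ r ∈ R, ∃ c ∈ centralizer (R : Set G), b = r * c)
    (hU3 : centralizer (R : Set G) ≤ M) (hs : s ∣ M.index) :
    ∃ g ∈ normalizer (M : Set G), IsPElt s g ∧ g ∉ M := by
  classical
  have hsp : s.Prime := hsF.out
  obtain ⟨k, hk⟩ := IsPGroup.iff_card.1 hR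
  have hdvd : s ^ (k + 1) ∣ Nat.card G := by
    rw [← Subgroup.card_mul_index M, pow_succ]
    exact mul_dvd_mul (hk ▸ Subgroup.card_dvd_of_le hRM) hs
  have h1 : s ∣ Nat.card (normalizer (R : Set G) ⧸ R.subgroupOf (normalizer (R : Set G))) :=
    Sylow.prime_dvd_card_quotient_normalizer hdvd hk
  obtain ⟨q, hq⟩ := exists_prime_orderOf_dvd_card' s h1
  obtain ⟨g, rfl⟩ := QuotientGroup.mk_surjective q
  have hgR : (g : G) ∉ R := by
    intro hgR
    have : (QuotientGroup.mk g : normalizer (R : Set G) ⧸ R.subgroupOf (normalizer (R : Set G)))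
        = 1 := by
      rw [QuotientGroup.eq_one_iff, mem_subgroupOf]; exact hgR
    rw [this, orderOf_one] at hq
    exact hsp.one_lt.ne hq
  have hgs : (g : G) ^ s ∈ R := by
    have h2 : (QuotientGroup.mk g : normalizer (R : Set G) ⧸
        R.subgroupOf (normalizer (R : Set G))) ^ s = 1 := by
      rw [← hq]; exact pow_orderOf_eq_one _
    rw [← QuotientGroup.mk_pow, QuotientGroup.eq_one_iff, mem_subgroupOf] at h2
    exact h2
  have hgp : IsPElt s (g : G) := by
    obtain ⟨j, hj⟩ := hR ⟨(g : G) ^ s, hgs⟩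
    have h3 : ((g : G) ^ s) ^ (s ^ j) = 1 := by
      have := congrArg Subtype.val hj
      simpa using this
    rw [← pow_mul, ← pow_succ'] at h3
    obtain ⟨i, _, hi⟩ := (Nat.dvd_prime_pow hsp).1 (orderOf_dvd_of_pow_eq_one h3)
    exact ⟨i, hi⟩
  have hgM : (g : G) ∉ M := fun h => hgR (hall _ h hgp)
  refine ⟨g, ?_, hgp, hgM⟩
  rw [mem_normalizer_iff]
  intro b
  constructor
  · intro hb
    exact conj_mem_of_decomp M R hRM hU1 hU3 g.2 hb
  · intro hb
    have := conj_mem_of_decomp M R hRM hU1 hU3 (inv_mem g.2) hb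
    simpa [mul_assoc] using this

/-- primary decomposition of an element: `b = r * c`, `r` a `t`-element, `c` of order prime to
`t`, both powers of `b` -/
theorem exists_primary_decomp {t : ℕ} (ht : t.Prime) (b : G) :
    ∃ r c : G, r ∈ zpowers b ∧ c ∈ zpowers b ∧ IsPElt t r ∧ (orderOf c).Coprime t ∧ b = r * c := by
  have ho : orderOf b ≠ 0 := (orderOf_pos b).ne'
  obtain ⟨e, o', ho', hoe⟩ := Nat.exists_eq_pow_mul_and_not_dvd ho t ht.ne_one
  have hcop : Nat.Coprime (t ^ e) o' :=
    Nat.Coprime.pow_left e ((Nat.Prime.coprime_iff_not_dvd ht).2 ho')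
  have hbez := Nat.gcd_eq_gcd_ab (t ^ e) o'
  rw [hcop] at hbez
  set α := Nat.gcdA (t ^ e) o'
  set β := Nat.gcdB (t ^ e) o'
  refine ⟨(b ^ o') ^ β, (b ^ (t ^ e)) ^ α, ?_, ?_, ?_, ?_, ?_⟩
  · exact zpow_mem (pow_mem (mem_zpowers b) _) _
  · exact zpow_mem (pow_mem (mem_zpowers b) _) _
  · have h1 : ((b ^ o') ^ β) ^ (t ^ e) = 1 := by
      rw [← zpow_natCast, ← zpow_mul, mul_comm, zpow_mul, zpow_natCast, ← pow_mul,
        mul_comm, ← hoe, pow_orderOf_eq_one, one_zpow]
    obtain ⟨i, _, hi⟩ := (Nat.dvd_prime_pow ht).1 (orderOf_dvd_of_pow_eq_one h1)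
    exact ⟨i, hi⟩
  · have h1 : ((b ^ (t ^ e)) ^ α) ^ o' = 1 := by
      rw [← zpow_natCast, ← zpow_mul, mul_comm, zpow_mul, zpow_natCast, ← pow_mul,
        ← hoe, pow_orderOf_eq_one, one_zpow]
    have h2 : orderOf ((b ^ (t ^ e)) ^ α) ∣ o' := orderOf_dvd_of_pow_eq_one h1
    exact Nat.Coprime.coprime_dvd_left h2 ((Nat.Prime.coprime_iff_not_dvd ht).2 ho').symm
  · have h1 : b = b ^ ((1 : ℕ) : ℤ) := by simp
    rw [← zpow_natCast b o', ← zpow_natCast b (t ^ e), ← zpow_mul, ← zpow_mul, ← zpow_add]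
    conv_lhs => rw [h1, hbez]
    congr 1
    push_cast
    ring

/-- (A34) -/
theorem caseA_normalizer_elt (h : Hyp G m n) {t : ℕ} (ht : t.Prime) (htm : t ∣ m) {x : G}
    (hx : IsPElt t x) (hxm : idx x = m)
    (hQ : ∃ Q : Subgroup G, Q ≤ Cn x ∧ IsPGroup t Q ∧ (∀ a ∈ Cn x, IsPElt t a → a ∈ Q) ∧
      (∀ a ∈ Q, ∀ b ∈ Cn x, (orderOf b).Coprime t → Commute a b) ∧
      (∀ s : ℕ, s.Prime → s ∣ m → s ≠ t → ∀ a ∈ Cn x, IsPElt s a → ∀ b ∈ Cn x, Commute a b))
    {s : ℕ} (hs : s.Prime) (hsm : s ∣ m) :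
    (∃ d ∈ Cn x, (∀ b ∈ Cn x, Commute d b) ∧ IsPElt s d ∧ d ∉ center G) ∧
    (∃ g ∈ normalizer (Cn x : Set G), IsPElt s g ∧ g ∉ Cn x) := by
  classical
  have : Fact s.Prime := ⟨hs⟩
  obtain ⟨Q, hQM, hQp, hQall, hQcomm, hQs⟩ := hQ
  have hxZ : x ∉ center G := by
    intro hc
    have := (idx_eq_one_iff x).2 hc
    have := h.one_lt_m
    omega
  have hsidx : s ∣ (Cn x).index := by
    show s ∣ idx x
    rw [hxm]; exact hsm
  by_cases hst : s = t
  · subst hst
    refine ⟨⟨x, self_mem_Cn x, ?_, hx, hxZ⟩, ?_⟩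
    · intro b hb
      exact (mem_Cn_iff'.1 hb).symm
    · have hxQ : x ∈ Q := hQall x (self_mem_Cn x) hx
      refine exists_normalizer_elt (Cn x) Q hQM hQp hQall ?_ ?_ hsidx
      · intro b hb
        obtain ⟨r, c, hr, hc, hrp, hcc, hbrc⟩ := exists_primary_decomp hs b
        have hrM : r ∈ Cn x := Cn_le_Cn_of_mem_zpowers hr |> fun hle => by
          have : zpowers b ≤ Cn x := by
            rw [zpowers_le]; exact hb
          exact this hr
        have hcM : c ∈ Cn x := by
          have : zpowers b ≤ Cn x := by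
            rw [zpowers_le]; exact hb
          exact this hc
        refine ⟨r, hQall r hrM hrp, c, ?_, hbrc⟩
        rw [mem_centralizer_iff]
        intro z hz
        exact (hQcomm z hz c hcM hcc).eq
      · intro c hc
        rw [mem_Cn_iff]
        exact ((mem_centralizer_iff.1 hc) x hxQ).symm
  · -- `s ≠ t`: the `s`-elements of `C(x)` are central in `C(x)`
    have hcen := hQs s hs hsm hst
    -- a noncentral `s`-element of `G`
    have hy : ∃ y : G, IsPElt s y ∧ y ∉ center G := by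
      by_contra hcon
      push Not at hcon
      have T : Sylow s G := default
      have hTZ : (T : Subgroup G) ≤ center G := by
        intro z hz
        apply hcon
        obtain ⟨k, hk⟩ := (IsPGroup.iff_orderOf.mp T.isPGroup') ⟨z, hz⟩
        refine ⟨k, ?_⟩
        rw [← hk, Subgroup.orderOf_mk]
      exact Cfsg.Agent.Helper51.CS2.not_dvd_index_of_sylow_le T (center G) hTZ
        (dvd_trans hsm (Cfsg.Agent.Helper51.CS2.Hyp.m_dvd_index_center h))
    obtain ⟨y, hys, hyZ⟩ := hy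
    obtain ⟨Qy, T, hyQ, hQT⟩ :=
      Cfsg.Agent.Helper51.CS2.exists_sylow_ge (Cn y) (self_mem_Cn y) hys
    -- `|T ⊓ Z| < |Qy|`
    have hlt : Nat.card ((T : Subgroup G) ⊓ center G : Subgroup G) < Nat.card Qy := by
      set N : Subgroup (Cn y) := ((T : Subgroup G) ⊓ center G).subgroupOf (Cn y) with hN
      have hNn : N.Normal := by
        refine ⟨fun z hz g => ?_⟩
        rw [hN, mem_subgroupOf] at hz ⊢
        have hzc : (z : G) ∈ center G := hz.2
        have : ((g * z * g⁻¹ : Cn y) : G) = (z : G) := by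
          have := Subgroup.mem_center_iff.mp hzc (g : G)
          push_cast
          rw [this, mul_inv_cancel_right]
        rw [this]; exact hz
      have hNp : IsPGroup s N := (T.isPGroup'.to_le inf_le_left).comap_subtype
      have hNQ : N ≤ (Qy : Subgroup (Cn y)) := IsPGroup.le_sylow_of_normal hNp Qy
      have hle : (T : Subgroup G) ⊓ center G ≤ Cn y :=
        inf_le_right.trans (center_le_Cn y)
      have hNcard : Nat.card N = Nat.card ((T : Subgroup G) ⊓ center G : Subgroup G) :=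
        Nat.card_congr (Subgroup.subgroupOfEquivOfLe hle).toEquiv
      rw [← hNcard]
      have hdvd : Nat.card N ∣ Nat.card (Qy : Subgroup (Cn y)) := Subgroup.card_dvd_of_le hNQ
      have hne : Nat.card N ≠ Nat.card (Qy : Subgroup (Cn y)) := by
        intro heq
        have hEq : N = (Qy : Subgroup (Cn y)) :=
          Subgroup.eq_of_le_of_card_ge hNQ (le_of_eq heq.symm)
        obtain ⟨y', hy'Q, hy'⟩ := hyQ
        have hy'N : y' ∈ N := by rw [hEq]; exact hy'Q
        rw [hN, mem_subgroupOf] at hy'N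
        apply hyZ
        have : (y' : G) = y := hy'
        rw [← this]; exact hy'N.2
      exact lt_of_le_of_ne (Nat.le_of_dvd Nat.card_pos hdvd) hne
    -- compare with a Sylow `s`-subgroup of `C(x)`
    have Qx : Sylow s (Cn x) := default
    have h1 := Cfsg.Agent.Helper51.CS2.card_sylow_Cn x Qx T
    have h2 := Cfsg.Agent.Helper51.CS2.card_sylow_Cn y Qy T
    have hsn : ¬ s ∣ n := by
      intro hd
      have := Nat.Coprime.eq_one_of_dvd
        (Nat.Coprime.coprime_dvd_left hsm h.cop) hd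
      exact hs.one_lt.ne' this
    have hfy : (idx y).factorization s = (idx x).factorization s := by
      rcases h.idx_of_not_mem_center hyZ with h3 | h3
      · rw [h3, hxm]
      · rw [h3, hxm, Nat.factorization_mul h.m_pos.ne' h.n_pos.ne']
        simp only [Finsupp.coe_add, Pi.add_apply]
        rw [Nat.factorization_eq_zero_of_not_dvd hsn, add_zero]
    rw [hfy] at h2
    have hQeq : Nat.card Qx = Nat.card Qy := by
      have hpos : 0 < s ^ (idx x).factorization s := pow_pos hs.pos _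
      exact Nat.eq_of_mul_eq_mul_right hpos (h1.trans h2.symm)
    obtain ⟨d, hdM, hds, hdZ⟩ :=
      Cfsg.Agent.Helper51.CS2.exists_pElt_of_card_lt (Cn x) Qx T (hQeq ▸ hlt)
    refine ⟨⟨d, hdM, hcen d hdM hds, hds, hdZ⟩, ?_⟩
    -- the Sylow `s`-subgroup of `C(x)`
    set R : Subgroup G := (Qx : Subgroup (Cn x)).map (Cn x).subtype with hR
    have hRM : R ≤ Cn x := by
      rintro _ ⟨a, _, rfl⟩
      exact a.2
    have hRp : IsPGroup s R := Qx.2.map _
    have hRall : ∀ a ∈ Cn x, IsPElt s a → a ∈ R := by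
      intro a ha hap
      have hzn : (zpowers (⟨a, ha⟩ : Cn x)).Normal := by
        refine ⟨fun z hz g => ?_⟩
        have hzc : ∀ b : Cn x, b * z = z * b := by
          obtain ⟨k, rfl⟩ := mem_zpowers_iff.1 hz
          intro b
          have hab : Commute (⟨a, ha⟩ : Cn x) b := by
            have := hcen a ha hap b b.2
            exact Subtype.ext this.eq
          exact ((hab.zpow_left k).eq).symm
        rw [hzc g, mul_inv_cancel_right]
        exact hz
      have hzp : IsPGroup s (zpowers (⟨a, ha⟩ : Cn x)) := by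
        obtain ⟨k, hk⟩ := hap
        rw [IsPGroup.iff_card, Nat.card_zpowers, Subgroup.orderOf_mk, hk]
        exact ⟨k, rfl⟩
      have hle : zpowers (⟨a, ha⟩ : Cn x) ≤ (Qx : Subgroup (Cn x)) :=
        IsPGroup.le_sylow_of_normal hzp Qx
      exact ⟨⟨a, ha⟩, hle (mem_zpowers _), rfl⟩
    have hRcen : ∀ r ∈ R, ∀ b ∈ Cn x, Commute r b := by
      rintro _ ⟨a, haQ, rfl⟩ b hb
      have hap : IsPElt s (a : G) := by
        obtain ⟨k, hk⟩ := (IsPGroup.iff_orderOf.mp Qx.2) ⟨a, haQ⟩
        refine ⟨k, ?_⟩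
        rw [← hk, Subgroup.orderOf_mk]
        exact (Subgroup.orderOf_coe a).symm ▸ rfl
      exact hcen a a.2 hap b hb
    have hdR : d ∈ R := hRall d hdM hds
    have hCd : Cn x = Cn d := by
      apply Cn_eq_of_le_of_idx_le
      · intro b hb
        rw [mem_Cn_iff']
        exact (hcen d hdM hds b hb).symm
      · rw [hxm]
        rcases h.idx_of_not_mem_center hdZ with h3 | h3
        · rw [h3]
        · rw [h3]; exact Nat.le_mul_of_pos_right m h.n_pos
    refine exists_normalizer_elt (Cn x) R hRM hRp hRall ?_ ?_ hsidx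
    · intro b hb
      refine ⟨1, R.one_mem, b, ?_, (one_mul b).symm⟩
      rw [mem_centralizer_iff]
      intro z hz
      exact (hRcen z hz b hb).eq
    · intro c hc
      rw [hCd, mem_Cn_iff]
      exact ((mem_centralizer_iff.1 hc) d hdR).symm

end Cfsg.Agent.Helper68.CS2
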