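import Mathlib
import Cfsg.Agent.Helper2.CS2Defs
import Cfsg.Agent.S4153

/-! (Afin3) of helper2's S4284: the derived group of a Sylow `m`-subgroup has order `m`. -/

set_option autoImplicit false
set_option linter.unusedVariables false
set_option linter.unusedSectionVars false

namespace Cfsg.Agent.Helper68.CS2
open Cfsg.Agent.Helper2.CS2 Subgroup

/-- a subgroup containing a subgroup of prime index and an element outside it is everything -/
theorem eq_top_of_index_prime {H : Type*} [Group H] (A : Subgroup H) {p : ℕ} (hp : p.Prime)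
    (hidx : A.index = p) {g : H} (hg : g ∉ A) (K : Subgroup H) (hAK : A ≤ K) (hgK : g ∈ K) :
    K = ⊤ := by
  have h1 := Subgroup.relIndex_mul_index hAK
  rw [hidx] at h1
  have h2 : A.relIndex K ≠ 1 := by
    intro h
    rw [Subgroup.relIndex_eq_one] at h
    exact hg (h hgK)
  have h3 : A.relIndex K ∣ p := ⟨_, h1.symm⟩
  rcases (Nat.dvd_prime hp).1 h3 with h | h
  · exact absurd h h2
  · rw [h] at h1
    have h4 : K.index = 1 := by
      have hp0 : 0 < p := hp.pos
      nlinarith [Nat.eq_of_mul_eq_mul_left hp0 (show p * K.index = p * 1 by rw [h1, mul_one])]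
    exact Subgroup.index_eq_one.1 h4

/-- `A` abelian normal of prime index, `g ∉ A`: `|H'| * |C_A(g)| = |A|`. -/
theorem card_commutator_mul_card_centralizer {H : Type*} [Group H] [Finite H] (A : Subgroup H)
    [hAn : A.Normal] (hAab : ∀ u ∈ A, ∀ v ∈ A, u * v = v * u) {p : ℕ} (hp : p.Prime)
    (hidx : A.index = p) (g : H) (hg : g ∉ A) :
    Nat.card (commutator H) * Nat.card (A ⊓ Subgroup.centralizer {g} : Subgroup H) =
      Nat.card A := by
  classical
  have hconj : ∀ c : H, ∀ a ∈ A, c * a * c⁻¹ ∈ A := fun c a ha => hAn.conj_mem a ha c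
  have htop := eq_top_of_index_prime A hp hidx hg
  -- the homomorphism `a ↦ [a, g]`
  let φ : A →* H :=
    { toFun := fun a => (a : H) * (g * (a : H)⁻¹ * g⁻¹)
      map_one' := by simp
      map_mul' := by
        intro a b
        have hx : g * (a : H)⁻¹ * g⁻¹ ∈ A := hconj g _ (A.inv_mem a.2)
        have hy : g * (b : H)⁻¹ * g⁻¹ ∈ A := hconj g _ (A.inv_mem b.2)
        have e1 : g * ((a * b : A) : H)⁻¹ * g⁻¹ =
            (g * (b : H)⁻¹ * g⁻¹) * (g * (a : H)⁻¹ * g⁻¹) := by
          simp [mul_assoc]
        rw [e1]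
        have c1 := hAab _ b.2 _ hx
        have c2 := hAab _ hy _ hx
        have c3 := hAab _ b.2 _ hy
        show ((a : H) * (b : H)) * ((g * (b : H)⁻¹ * g⁻¹) * (g * (a : H)⁻¹ * g⁻¹)) =
          (a : H) * (g * (a : H)⁻¹ * g⁻¹) * ((b : H) * (g * (b : H)⁻¹ * g⁻¹))
        calc ((a : H) * (b : H)) * ((g * (b : H)⁻¹ * g⁻¹) * (g * (a : H)⁻¹ * g⁻¹))
            = (a : H) * ((b : H) * ((g * (b : H)⁻¹ * g⁻¹) * (g * (a : H)⁻¹ * g⁻¹))) := by
              simp only [mul_assoc]
          _ = (a : H) * ((b : H) * ((g * (a : H)⁻¹ * g⁻¹) * (g * (b : H)⁻¹ * g⁻¹))) := by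
              rw [c2]
          _ = (a : H) * (((b : H) * (g * (a : H)⁻¹ * g⁻¹)) * (g * (b : H)⁻¹ * g⁻¹)) := by
              simp only [mul_assoc]
          _ = (a : H) * (((g * (a : H)⁻¹ * g⁻¹) * (b : H)) * (g * (b : H)⁻¹ * g⁻¹)) := by
              rw [c1]
          _ = _ := by simp only [mul_assoc] }
  have hφ : ∀ a : A, φ a = (a : H) * (g * (a : H)⁻¹ * g⁻¹) := fun a => rfl
  have hφA : ∀ a : A, φ a ∈ A := fun a => by
    rw [hφ]; exact A.mul_mem a.2 (hconj g _ (A.inv_mem a.2))
  set D : Subgroup H := φ.range with hD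
  have hDA : D ≤ A := by
    rintro _ ⟨a, rfl⟩
    exact hφA a
  -- conjugation by `c` commuting with `g` preserves `D`
  have hDc : ∀ c : H, c * g = g * c → ∀ d ∈ D, c * d * c⁻¹ ∈ D := by
    rintro c hc _ ⟨a, rfl⟩
    refine ⟨⟨c * a * c⁻¹, hconj c _ a.2⟩, ?_⟩
    rw [hφ, hφ]
    have hc' : c⁻¹ * g = g * c⁻¹ := by
      have : c⁻¹ * (c * g) * c⁻¹ = c⁻¹ * (g * c) * c⁻¹ := by rw [hc]
      simpa [mul_assoc] using this.symm
    show c * (a : H) * c⁻¹ * (g * (c * (a : H) * c⁻¹)⁻¹ * g⁻¹) = c * ((a : H) * (g * (a : H)⁻¹ * g⁻¹)) * c⁻¹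
    have hg' : g⁻¹ * c⁻¹ = c⁻¹ * g⁻¹ := by
      have : (c * g)⁻¹ = (g * c)⁻¹ := by rw [hc]
      simpa using this
    calc c * (a : H) * c⁻¹ * (g * (c * (a : H) * c⁻¹)⁻¹ * g⁻¹)
        = c * (a : H) * ((c⁻¹ * g) * c) * (a : H)⁻¹ * (c⁻¹ * g⁻¹) := by
          simp only [mul_inv_rev, inv_inv, mul_assoc]
      _ = c * (a : H) * ((g * c⁻¹) * c) * (a : H)⁻¹ * (g⁻¹ * c⁻¹) := by rw [hc', hg']
      _ = c * ((a : H) * (g * (a : H)⁻¹ * g⁻¹)) * c⁻¹ := by
          simp only [mul_assoc, inv_mul_cancel_left, inv_mul_cancel, mul_one]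
  -- `D` is normal
  have hDn : D.Normal := by
    have hN : Subgroup.normalizer (D : Set H) = ⊤ := by
      apply htop
      · intro a ha
        rw [Subgroup.mem_normalizer_iff]
        intro d
        constructor
        · intro hd
          have : a * d * a⁻¹ = d := by
            rw [hAab a ha d (hDA hd)]; simp
          rw [this]; exact hd
        · intro hd
          have hdA : d ∈ A := by
            have h1 := hconj a⁻¹ _ (hDA hd)
            simpa [mul_assoc] using h1
          have : a * d * a⁻¹ = d := by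
            rw [hAab a ha d hdA]; simp
          rw [this] at hd; exact hd
      · rw [Subgroup.mem_normalizer_iff]
        intro d
        constructor
        · exact hDc g rfl d
        · intro hd
          have := hDc g⁻¹ (by simp) _ hd
          simpa [mul_assoc] using this
    exact Subgroup.normalizer_eq_top_iff.1 hN
  -- `[a, g] ∈ D`
  have hag : ∀ a ∈ A, (QuotientGroup.mk (a * g) : H ⧸ D) = QuotientGroup.mk (g * a) := by
    intro a ha
    rw [QuotientGroup.eq_iff_div_mem]
    refine ⟨⟨a, ha⟩, ?_⟩
    rw [hφ]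
    show a * (g * a⁻¹ * g⁻¹) = a * g / (g * a)
    simp [div_eq_mul_inv, mul_assoc]
  -- the image of `g` is central
  have hgc : ∀ y : H, (QuotientGroup.mk g : H ⧸ D) * QuotientGroup.mk y =
      QuotientGroup.mk y * QuotientGroup.mk g := by
    have hK : (Subgroup.centralizer {(QuotientGroup.mk g : H ⧸ D)}).comap (QuotientGroup.mk' D)
        = ⊤ := by
      apply htop
      · intro a ha
        rw [Subgroup.mem_comap, Subgroup.mem_centralizer_iff]
        intro z hz
        rw [Set.mem_singleton_iff] at hz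
        subst hz
        show (QuotientGroup.mk g : H ⧸ D) * QuotientGroup.mk a = QuotientGroup.mk a * QuotientGroup.mk g
        rw [← QuotientGroup.mk_mul, ← QuotientGroup.mk_mul, hag a ha]
      · rw [Subgroup.mem_comap, Subgroup.mem_centralizer_iff]
        intro z hz
        rw [Set.mem_singleton_iff] at hz
        subst hz
        rfl
    intro y
    have hy : y ∈ (Subgroup.centralizer {(QuotientGroup.mk g : H ⧸ D)}).comap
        (QuotientGroup.mk' D) := by rw [hK]; trivial
    rw [Subgroup.mem_comap, Subgroup.mem_centralizer_iff] at hy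
    exact hy _ rfl
  -- the image of `A` is central
  have hac : ∀ a ∈ A, ∀ y : H, (QuotientGroup.mk a : H ⧸ D) * QuotientGroup.mk y =
      QuotientGroup.mk y * QuotientGroup.mk a := by
    intro a ha
    have hK : (Subgroup.centralizer {(QuotientGroup.mk a : H ⧸ D)}).comap (QuotientGroup.mk' D)
        = ⊤ := by
      apply htop
      · intro b hb
        rw [Subgroup.mem_comap, Subgroup.mem_centralizer_iff]
        intro z hz
        rw [Set.mem_singleton_iff] at hz
        subst hz
        show (QuotientGroup.mk a : H ⧸ D) * QuotientGroup.mk b = QuotientGroup.mk b * QuotientGroup.mk a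
        rw [← QuotientGroup.mk_mul, ← QuotientGroup.mk_mul, hAab a ha b hb]
      · rw [Subgroup.mem_comap, Subgroup.mem_centralizer_iff]
        intro z hz
        rw [Set.mem_singleton_iff] at hz
        subst hz
        exact (hgc a).symm
    intro y
    have hy : y ∈ (Subgroup.centralizer {(QuotientGroup.mk a : H ⧸ D)}).comap
        (QuotientGroup.mk' D) := by rw [hK]; trivial
    rw [Subgroup.mem_comap, Subgroup.mem_centralizer_iff] at hy
    exact hy _ rfl
  -- the quotient is commutative
  have hcomm : ∀ x y : H, (QuotientGroup.mk x : H ⧸ D) * QuotientGroup.mk y =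
      QuotientGroup.mk y * QuotientGroup.mk x := by
    have hK : (Subgroup.center (H ⧸ D)).comap (QuotientGroup.mk' D) = ⊤ := by
      apply htop
      · intro a ha
        rw [Subgroup.mem_comap, Subgroup.mem_center_iff]
        intro z
        obtain ⟨y, rfl⟩ := QuotientGroup.mk_surjective z
        exact (hac a ha y).symm
      · rw [Subgroup.mem_comap, Subgroup.mem_center_iff]
        intro z
        obtain ⟨y, rfl⟩ := QuotientGroup.mk_surjective z
        exact (hgc y).symm
    intro x y
    have hx : x ∈ (Subgroup.center (H ⧸ D)).comap (QuotientGroup.mk' D) := by rw [hK]; trivial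
    rw [Subgroup.mem_comap, Subgroup.mem_center_iff] at hx
    exact (hx _).symm
  -- `D = H'`
  have hDeq : commutator H = D := by
    apply le_antisymm
    · rw [commutator_def, Subgroup.commutator_le]
      intro x _ y _
      rw [← QuotientGroup.eq_one_iff, commutatorElement_def]
      rw [QuotientGroup.mk_mul, QuotientGroup.mk_mul, QuotientGroup.mk_mul, hcomm x y,
        QuotientGroup.mk_inv, QuotientGroup.mk_inv]
      group
    · rintro _ ⟨a, rfl⟩
      rw [hφ, commutator_def]
      have := Subgroup.commutator_mem_commutator (Subgroup.mem_top (a : H)) (Subgroup.mem_top g)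
      rw [commutatorElement_def] at this
      simpa [mul_assoc] using this
  -- counting
  rw [hDeq]
  have h1 := Subgroup.card_eq_card_quotient_mul_card_subgroup φ.ker
  have h2 : Nat.card (A ⧸ φ.ker) = Nat.card D :=
    Nat.card_congr (QuotientGroup.quotientKerEquivRange φ).toEquiv
  have h3 : Nat.card φ.ker = Nat.card (A ⊓ Subgroup.centralizer {g} : Subgroup H) := by
    have e : φ.ker = (A ⊓ Subgroup.centralizer {g}).subgroupOf A := by
      ext a
      rw [MonoidHom.mem_ker, Subgroup.mem_subgroupOf, Subgroup.mem_inf,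
        Subgroup.mem_centralizer_iff, hφ]
      constructor
      · intro h
        refine ⟨a.2, ?_⟩
        intro z hz
        rw [Set.mem_singleton_iff] at hz
        subst hz
        have : (a : H) * z = z * (a : H) := by
          have h' : (a : H) * (z * (a : H)⁻¹ * z⁻¹) * (z * (a : H)) = 1 * (z * (a : H)) := by rw [h]
          simpa [mul_assoc] using h'
        exact this.symm
      · rintro ⟨_, h⟩
        have := h g rfl
        rw [← mul_assoc, ← mul_assoc, ← this]
        simp [mul_assoc]
    rw [e]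
    exact Nat.card_congr (Subgroup.subgroupOfEquivOfLe inf_le_left).toEquiv
  rw [h1, h2, h3]

variable {G : Type*} [Group G] [Finite G] {m n : ℕ}

/-- (Afin3) -/
theorem caseA_final3 (h : Hyp G m n) (hmp : m.Prime) (M : Subgroup G) [M.Normal]
    (hMab : ∀ u ∈ M, ∀ v ∈ M, u * v = v * u) (hMidx : M.index = m) (hZM : center G ≤ M)
    (hsr : ∀ g : G, g ∉ M → ∀ v ∈ M, g * v = v * g → v ∈ center G)
    (hcard : Nat.card G = m ^ 2 * n * Nat.card (center G)) (P : Sylow m G) :
    Nat.card (commutator (P : Subgroup G)) = m := by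
  haveI : Fact m.Prime := ⟨hmp⟩
  have hPM : ¬ (P : Subgroup G) ≤ M := by
    intro hle
    have h1 : M.index ∣ (P : Subgroup G).index := Subgroup.index_dvd_of_le hle
    rw [hMidx] at h1
    exact P.not_dvd_index h1
  obtain ⟨g, hgP, hgM⟩ := SetLike.not_le_iff_exists.1 hPM
  set A : Subgroup (P : Subgroup G) := M.subgroupOf P with hA
  haveI : A.Normal := Subgroup.normal_subgroupOf
  have hAab : ∀ u ∈ A, ∀ v ∈ A, u * v = v * u := by
    intro u hu v hv
    apply Subtype.ext
    exact hMab _ hu _ hv
  have hAidx : A.index = m := by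
    show M.relIndex P = m
    have h1 : M.relIndex P ∣ M.index := Subgroup.relIndex_dvd_index_of_normal M P
    rw [hMidx] at h1
    rcases (Nat.dvd_prime hmp).1 h1 with h2 | h2
    · exfalso; exact hPM (Subgroup.relIndex_eq_one.1 h2)
    · exact h2
  have hgA : (⟨g, hgP⟩ : (P : Subgroup G)) ∉ A := by
    rw [hA, Subgroup.mem_subgroupOf]; exact hgM
  have key := card_commutator_mul_card_centralizer A hAab hmp hAidx ⟨g, hgP⟩ hgA
  have hcA : Nat.card A = Nat.card ((P : Subgroup G) ⊓ M : Subgroup G) := by
    rw [hA, ← Subgroup.inf_subgroupOf_left]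
    exact Nat.card_congr (Subgroup.subgroupOfEquivOfLe inf_le_left).toEquiv
  have hcC : Nat.card (A ⊓ Subgroup.centralizer {(⟨g, hgP⟩ : (P : Subgroup G))} :
      Subgroup (P : Subgroup G)) = Nat.card ((P : Subgroup G) ⊓ center G : Subgroup G) := by
    have e : A ⊓ Subgroup.centralizer {(⟨g, hgP⟩ : (P : Subgroup G))} =
        (center G).subgroupOf P := by
      ext a
      rw [Subgroup.mem_inf, hA, Subgroup.mem_subgroupOf, Subgroup.mem_subgroupOf,
        Subgroup.mem_centralizer_iff]
      constructor
      · rintro ⟨haM, hc⟩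
        have h1 := hc _ rfl
        have h2 : g * (a : G) = (a : G) * g := congrArg Subtype.val h1
        exact hsr g hgM _ haM h2
      · intro haZ
        refine ⟨hZM haZ, ?_⟩
        intro z hz
        rw [Set.mem_singleton_iff] at hz
        subst hz
        apply Subtype.ext
        exact (Subgroup.mem_center_iff.1 haZ g)
    rw [e, ← Subgroup.inf_subgroupOf_left]
    exact Nat.card_congr (Subgroup.subgroupOfEquivOfLe inf_le_left).toEquiv
  rw [hcA, hcC, Cfsg.Agent.S4153.card_sylow_inf_normal, Cfsg.Agent.S4153.card_sylow_inf_normal]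
    at key
  -- arithmetic
  have hm0 : 0 < m := hmp.pos
  have hZ0 : Nat.card (center G) ≠ 0 := Nat.card_pos.ne'
  have hn0 : n ≠ 0 := by have := h.one_lt_n; omega
  have hM : Nat.card M = m * n * Nat.card (center G) := by
    have h1 := Subgroup.card_mul_index M
    rw [hMidx, hcard] at h1
    have h2 : Nat.card M * m = (m * n * Nat.card (center G)) * m := by rw [h1]; ring
    exact Nat.eq_of_mul_eq_mul_right hm0 h2
  have hmn : ¬ m ∣ n := by
    intro hd
    have := Nat.Coprime.eq_one_of_dvd h.cop hd
    exact hmp.one_lt.ne' this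
  have hfac : (Nat.card M).factorization m = 1 + (Nat.card (center G)).factorization m := by
    rw [hM, Nat.factorization_mul (Nat.mul_ne_zero hm0.ne' hn0) hZ0,
      Nat.factorization_mul hm0.ne' hn0]
    simp only [Finsupp.coe_add, Pi.add_apply]
    rw [hmp.factorization_self, Nat.factorization_eq_zero_of_not_dvd hmn]
  rw [hfac, pow_add, pow_one] at key
  have hpos : 0 < m ^ (Nat.card (center G)).factorization m := pow_pos hm0 _
  exact Nat.eq_of_mul_eq_mul_right hpos key

end Cfsg.Agent.Helper68.CS2
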