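import Mathlib

/-!
# Alternating sums over the chains of a finite poset (helper68)

`chainsOf s` is the finset of all chains (totally ordered subsets, the empty one included) of a
finset `s` of a partial order.  If `s` has a least element then `∑ τ ∈ chainsOf s, (-1)^|τ| = 0`
(the order complex is a cone); if `s = ∅` the sum is `1`.
-/

set_option autoImplicit false

namespace Cfsg.Agent.Helper68

open Finset

variable {α : Type*} [PartialOrder α]

/-- the chains (as finsets) inside a finset -/
noncomputable def chainsOf (s : Finset α) : Finset (Finset α) := by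
  classical exact s.powerset.filter (fun τ => IsChain (· ≤ ·) (τ : Set α))

theorem mem_chainsOf {s τ : Finset α} :
    τ ∈ chainsOf s ↔ τ ⊆ s ∧ IsChain (· ≤ ·) (τ : Set α) := by
  classical
  simp [chainsOf]

theorem empty_mem_chainsOf (s : Finset α) : (∅ : Finset α) ∈ chainsOf s := by
  rw [mem_chainsOf]
  exact ⟨Finset.empty_subset _, by simp⟩

theorem sum_chainsOf_empty : ∑ τ ∈ chainsOf (∅ : Finset α), (-1 : ℤ) ^ τ.card = 1 := by
  classical
  have : chainsOf (∅ : Finset α) = {∅} := by
    ext τ
    rw [mem_chainsOf, Finset.subset_empty, Finset.mem_singleton]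
    constructor
    · exact fun h => h.1
    · rintro rfl; exact ⟨rfl, by simp⟩
  rw [this]; simp

theorem sum_chainsOf_of_least [DecidableEq α] {s : Finset α} {m : α} (hm : m ∈ s)
    (hle : ∀ x ∈ s, m ≤ x) : ∑ τ ∈ chainsOf s, (-1 : ℤ) ^ τ.card = 0 := by
  refine Finset.sum_involution (fun τ _ => if m ∈ τ then τ.erase m else insert m τ) ?_ ?_ ?_ ?_
  · intro τ _
    by_cases h : m ∈ τ
    · simp only [h, if_true]
      have := Finset.card_erase_add_one h
      rw [← this, pow_succ]; ring
    · simp only [h, if_false]
      rw [Finset.card_insert_of_notMem h, pow_succ]; ring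
  · intro τ _ _
    by_cases h : m ∈ τ
    · simp only [h, if_true]
      intro he
      have : m ∈ τ.erase m := by rw [he]; exact h
      simp at this
    · simp only [h, if_false]
      intro he
      exact h (he ▸ Finset.mem_insert_self m τ)
  · intro τ hτ
    rw [mem_chainsOf] at hτ ⊢
    by_cases h : m ∈ τ
    · simp only [h, if_true]
      refine ⟨(Finset.erase_subset _ _).trans hτ.1, hτ.2.mono ?_⟩
      simp
    · simp only [h, if_false]
      refine ⟨Finset.insert_subset hm hτ.1, ?_⟩
      rw [Finset.coe_insert]
      exact hτ.2.insert (fun b hb _ => Or.inl (hle b (hτ.1 hb)))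
  · intro τ _
    by_cases h : m ∈ τ
    · simp [h]
    · simp [h]

/-- a nonempty finite chain has a greatest element -/
theorem exists_greatest_of_chain {τ : Finset α} (hne : τ.Nonempty)
    (hc : IsChain (· ≤ ·) (τ : Set α)) : ∃ E ∈ τ, ∀ U ∈ τ, U ≤ E := by
  obtain ⟨E, hE⟩ := Finset.exists_maximal hne
  refine ⟨E, hE.1, fun U hU => ?_⟩
  by_cases hUE : U = E
  · exact hUE.le
  · rcases hc hU hE.1 hUE with h | h
    · exact h
    · exact hE.2 hU h

end Cfsg.Agent.Helper68
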