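import Mathlib
import Cfsg.Agent.S4089
import Cfsg.Agent.Helper68.Chains

/-!
# Casolo's count of the subnormalizer of a `p`-subgroup, part 1 (helper68)

`|S_G(H)|` as an alternating sum over flags `(E, τ)`: `E` a `p`-subgroup containing `H`,
`τ` a chain of subgroups between `H` and `E`, proper and normal in `E`.
-/

set_option autoImplicit false
set_option linter.style.haveILetI false

namespace Cfsg.Agent.Helper68

open Subgroup Finset

variable {G : Type*} [Group G]

/-- a set of subgroups stable under conjugation by `k⁻¹` has its infimum normalized by `k` -/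
theorem mem_normalizer_sInf_of_forall_map_mem [Finite G] {F : Set (Subgroup G)} {k : G}
    (h : ∀ M ∈ F, M.map (MulAut.conj k⁻¹).toMonoidHom ∈ F) :
    k ∈ normalizer ((sInf F : Subgroup G) : Set G) := by
  rw [mem_normalizer_iff_map_conj_eq]
  apply Subgroup.eq_of_le_of_card_ge
  · apply le_sInf
    intro M hM
    rw [Subgroup.map_le_iff_le_comap]
    have h1 : M.comap ((MulAut.conj k : G ≃* G) : G →* G) = M.map (MulAut.conj k⁻¹).toMonoidHom := by
      ext x
      rw [Subgroup.mem_comap, Subgroup.mem_map_equiv]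
      simp
    rw [h1]
    exact sInf_le (h M hM)
  · rw [Subgroup.card_map_of_injective]
    exact (MulAut.conj k).injective

theorem mem_normalizer_sInf {F : Set (Subgroup G)} {k : G}
    (h : ∀ M ∈ F, k ∈ normalizer (M : Set G)) :
    k ∈ normalizer ((sInf F : Subgroup G) : Set G) := by
  rw [mem_normalizer_iff]
  intro x
  simp only [Subgroup.mem_sInf]
  constructor
  · intro hx M hM
    exact (mem_normalizer_iff.mp (h M hM) x).mp (hx M hM)
  · intro hx M hM
    exact (mem_normalizer_iff.mp (h M hM) x).mpr (hx M hM)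

theorem map_conj_eq_of_mem_normalizer {E : Subgroup G} {k : G} (hk : k ∈ normalizer (E : Set G)) :
    E.map (MulAut.conj k).toMonoidHom = E :=
  mem_normalizer_iff_map_conj_eq.mp hk

/-- a proper subgroup of a finite `p`-group lies in a proper normal subgroup -/
theorem exists_normal_proper [Finite G] {p : ℕ} [Fact p.Prime] {V E : Subgroup G}
    (hE : IsPGroup p E) (hVE : V < E) :
    ∃ M : Subgroup G, V ≤ M ∧ M < E ∧ E ≤ normalizer (M : Set G) := by
  haveI : Group.IsNilpotent ↥E := hE.isNilpotent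
  have hnc : NormalizerCondition ↥E := Group.normalizerCondition_of_isNilpotent
  have hne : V.subgroupOf E ≠ ⊤ := by
    intro h
    rw [Subgroup.subgroupOf_eq_top] at h
    exact (not_le_of_gt hVE) h
  rcases eq_top_or_exists_le_coatom (V.subgroupOf E) with h | ⟨M', hM', hVM'⟩
  · exact absurd h hne
  · haveI hn : M'.Normal := hnc.normal_of_coatom _ hM'
    refine ⟨M'.map E.subtype, ?_, ?_, S4089.le_normalizer_map_subtype E M'⟩
    · rw [← Subgroup.map_subgroupOf_eq_of_le hVE.le]
      exact Subgroup.map_mono hVM'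
    · refine lt_of_le_of_ne (Subgroup.map_subtype_le _) ?_
      intro h
      apply hM'.1
      rw [eq_top_iff]
      intro x _
      have hx : (x : G) ∈ M'.map E.subtype := by rw [h]; exact x.2
      obtain ⟨y, hy, hyx⟩ := hx
      have : y = x := Subtype.ext hyx
      exact this ▸ hy

theorem exists_invariant_normal_proper [Finite G] {p : ℕ} [Fact p.Prime] {V E : Subgroup G}
    (hE : IsPGroup p E) (hVE : V < E) {g : G} (hgV : g ∈ normalizer (V : Set G))
    (hgE : g ∈ normalizer (E : Set G)) :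
    ∃ D : Subgroup G, V ≤ D ∧ D < E ∧ E ≤ normalizer (D : Set G) ∧
      g ∈ normalizer (D : Set G) := by
  obtain ⟨M0, hM0⟩ := exists_normal_proper hE hVE
  refine ⟨sInf {M : Subgroup G | V ≤ M ∧ M < E ∧ E ≤ normalizer (M : Set G)}, ?_, ?_, ?_, ?_⟩
  · exact le_sInf (fun M hM => hM.1)
  · exact lt_of_le_of_lt (sInf_le hM0) hM0.2.1
  · intro e he
    exact mem_normalizer_sInf (fun M hM => hM.2.2 he)
  · apply mem_normalizer_sInf_of_forall_map_mem
    rintro M ⟨h1, h2, h3⟩
    have hgV' : g⁻¹ ∈ normalizer (V : Set G) := inv_mem hgV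
    have hgE' : g⁻¹ ∈ normalizer (E : Set G) := inv_mem hgE
    refine ⟨?_, ?_, ?_⟩
    · rw [← map_conj_eq_of_mem_normalizer hgV']
      exact Subgroup.map_mono h1
    · rw [← map_conj_eq_of_mem_normalizer hgE']
      exact (Subgroup.map_lt_map_iff_of_injective (MulAut.conj g⁻¹).injective).mpr h2
    · have := Subgroup.map_mono (f := (MulAut.conj g⁻¹).toMonoidHom) h3
      rw [map_conj_eq_of_mem_normalizer hgE', Subgroup.map_equiv_normalizer_eq] at this
      exact this

section defs

variable [Finite G] (p : ℕ) (H : Subgroup G)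

/-- `p`-subgroups containing `H` -/
noncomputable def UU : Finset (Subgroup G) :=
  (Set.toFinite {U : Subgroup G | IsPGroup p U ∧ H ≤ U}).toFinset

theorem mem_UU {U : Subgroup G} : U ∈ UU p H ↔ IsPGroup p U ∧ H ≤ U := by simp [UU]

/-- subgroups between `H` and `E`, proper in `E` and normal in `E` -/
noncomputable def NN (E : Subgroup G) : Finset (Subgroup G) :=
  (Set.toFinite {U : Subgroup G | H ≤ U ∧ U < E ∧ E ≤ normalizer (U : Set G)}).toFinset

theorem mem_NN {E U : Subgroup G} :
    U ∈ NN H E ↔ H ≤ U ∧ U < E ∧ E ≤ normalizer (U : Set G) := by simp [NN]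

/-- the `g`-invariant members of `NN H E` -/
noncomputable def NNg (g : G) (E : Subgroup G) : Finset (Subgroup G) :=
  (Set.toFinite {U : Subgroup G | H ≤ U ∧ U < E ∧ E ≤ normalizer (U : Set G) ∧
    g ∈ normalizer (U : Set G)}).toFinset

theorem mem_NNg {g : G} {E U : Subgroup G} :
    U ∈ NNg H g E ↔ H ≤ U ∧ U < E ∧ E ≤ normalizer (U : Set G) ∧
      g ∈ normalizer (U : Set G) := by simp [NNg]

omit [Finite G] in
/-- the stabilizer of the flag `(E, τ)` -/
def KK (E : Subgroup G) (τ : Finset (Subgroup G)) : Subgroup G :=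
  normalizer (E : Set G) ⊓ ⨅ U ∈ τ, normalizer (U : Set G)

omit [Finite G] in
theorem mem_KK {g : G} {E : Subgroup G} {τ : Finset (Subgroup G)} :
    g ∈ KK E τ ↔ g ∈ normalizer (E : Set G) ∧ ∀ U ∈ τ, g ∈ normalizer (U : Set G) := by
  simp [KK, Subgroup.mem_iInf]

end defs

variable [Finite G] (p : ℕ) [Fact p.Prime] (H : Subgroup G)

open scoped Classical

theorem sum_chainsOf_NNg (g : G) (E : Subgroup G) :
    ∑ τ ∈ chainsOf (NNg H g E), (-1 : ℤ) ^ τ.card = if NNg H g E = ∅ then 1 else 0 := by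
  classical
  by_cases h : NNg H g E = ∅
  · rw [if_pos h, h, sum_chainsOf_empty]
  · rw [if_neg h]
    obtain ⟨U0, hU0⟩ := Finset.nonempty_iff_ne_empty.mpr h
    have hm : sInf ((NNg H g E : Finset (Subgroup G)) : Set (Subgroup G)) ∈ NNg H g E := by
      rw [mem_NNg]
      refine ⟨le_sInf (fun U hU => (mem_NNg H |>.mp hU).1), ?_, ?_, ?_⟩
      · exact lt_of_le_of_lt (sInf_le hU0) (mem_NNg H |>.mp hU0).2.1
      · intro e he
        exact mem_normalizer_sInf (fun U hU => (mem_NNg H |>.mp hU).2.2.1 he)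
      · exact mem_normalizer_sInf (fun U hU => (mem_NNg H |>.mp hU).2.2.2)
    exact sum_chainsOf_of_least hm (fun U hU => sInf_le hU)

theorem sum_flags_ite (g : G) :
    ∑ E ∈ UU p H, ∑ τ ∈ chainsOf (NN H E),
        (-1 : ℤ) ^ τ.card * (if g ∈ KK E τ then 1 else 0) =
      if ∃ U : Subgroup G, IsPGroup p U ∧ H ≤ U ∧ g ∈ normalizer (U : Set G) then 1 else 0 := by
  classical
  -- step 1: rewrite the inner sums
  have h1 : ∀ E ∈ UU p H, ∑ τ ∈ chainsOf (NN H E),
        (-1 : ℤ) ^ τ.card * (if g ∈ KK E τ then 1 else 0) =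
      if g ∈ normalizer (E : Set G) then (if NNg H g E = ∅ then (1 : ℤ) else 0) else 0 := by
    intro E _
    by_cases hgE : g ∈ normalizer (E : Set G)
    · rw [if_pos hgE, ← sum_chainsOf_NNg]
      have hf : chainsOf (NNg H g E) =
          (chainsOf (NN H E)).filter (fun τ => g ∈ KK E τ) := by
        ext τ
        simp only [mem_chainsOf, Finset.mem_filter, mem_KK]
        constructor
        · rintro ⟨h1, h2⟩
          refine ⟨⟨fun U hU => ?_, h2⟩, hgE, fun U hU => ?_⟩
          · have := (mem_NNg H).mp (h1 hU)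
            exact (mem_NN H).mpr ⟨this.1, this.2.1, this.2.2.1⟩
          · exact ((mem_NNg H).mp (h1 hU)).2.2.2
        · rintro ⟨⟨h1, h2⟩, _, h3⟩
          refine ⟨fun U hU => ?_, h2⟩
          have := (mem_NN H).mp (h1 hU)
          exact (mem_NNg H).mpr ⟨this.1, this.2.1, this.2.2, h3 U hU⟩
      rw [hf, Finset.sum_filter]
      apply Finset.sum_congr rfl
      intro τ _
      split_ifs <;> simp
    · rw [if_neg hgE]
      apply Finset.sum_eq_zero
      intro τ _
      have : g ∉ KK E τ := fun h => hgE ((mem_KK).mp h).1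
      rw [if_neg this, mul_zero]
  rw [Finset.sum_congr rfl h1]
  by_cases hex : ∃ U : Subgroup G, IsPGroup p U ∧ H ≤ U ∧ g ∈ normalizer (U : Set G)
  · rw [if_pos hex]
    obtain ⟨U0, hU0⟩ := hex
    obtain ⟨W, hW⟩ : ∃ W, W = sInf {U : Subgroup G | IsPGroup p U ∧ H ≤ U ∧
      g ∈ normalizer (U : Set G)} := ⟨_, rfl⟩
    have hWle : ∀ U : Subgroup G, IsPGroup p U → H ≤ U → g ∈ normalizer (U : Set G) → W ≤ U :=
      fun U h1 h2 h3 => hW ▸ sInf_le ⟨h1, h2, h3⟩
    have hWp : IsPGroup p W := hU0.1.to_le (hWle U0 hU0.1 hU0.2.1 hU0.2.2)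
    have hHW : H ≤ W := hW ▸ le_sInf (fun U hU => hU.2.1)
    have hgW : g ∈ normalizer (W : Set G) := hW ▸ mem_normalizer_sInf (fun U hU => hU.2.2)
    have h2 : ∀ E ∈ UU p H,
        (if g ∈ normalizer (E : Set G) then (if NNg H g E = ∅ then (1 : ℤ) else 0) else 0) =
        if E = W then 1 else 0 := by
      intro E hE
      rw [mem_UU] at hE
      by_cases hEW : E = W
      · rw [if_pos hEW, hEW, if_pos hgW, if_pos]
        rw [Finset.eq_empty_iff_forall_notMem]
        intro U hU
        rw [mem_NNg] at hU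
        have := hWle U (hWp.to_le hU.2.1.le) hU.1 hU.2.2.2
        exact (not_le_of_gt hU.2.1) this
      · rw [if_neg hEW]
        by_cases hgE : g ∈ normalizer (E : Set G)
        · rw [if_pos hgE, if_neg]
          have hlt : W < E := lt_of_le_of_ne (hWle E hE.1 hE.2 hgE) (Ne.symm hEW)
          obtain ⟨D, hD1, hD2, hD3, hD4⟩ := exists_invariant_normal_proper hE.1 hlt hgW hgE
          intro he
          have : D ∈ NNg H g E := (mem_NNg H).mpr ⟨hHW.trans hD1, hD2, hD3, hD4⟩
          rw [he] at this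
          simp at this
        · rw [if_neg hgE]
    rw [Finset.sum_congr rfl h2, Finset.sum_ite_eq', if_pos ((mem_UU p H).mpr ⟨hWp, hHW⟩)]
  · rw [if_neg hex]
    apply Finset.sum_eq_zero
    intro E hE
    rw [mem_UU] at hE
    rw [if_neg]
    intro hgE
    exact hex ⟨E, hE.1, hE.2, hgE⟩

theorem isSubnormal_iff_exists (hH : IsPGroup p H) (g : G) :
    (H.subgroupOf (H ⊔ zpowers g)).IsSubnormal ↔
      ∃ U : Subgroup G, IsPGroup p U ∧ H ≤ U ∧ g ∈ normalizer (U : Set G) := by
  constructor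
  · intro h
    obtain ⟨R, h1, h2, h3⟩ := S4089.lemmaB p H hH g h
    exact ⟨R, h2 ▸ S4089.isPGroup_radOf p R, h1, h3⟩
  · rintro ⟨R, hRp, hHR, hg⟩
    obtain ⟨K, hK⟩ : ∃ K, K = H ⊔ zpowers g := ⟨_, rfl⟩
    rw [← hK]
    have hKN : K ≤ normalizer (R : Set G) := by
      rw [hK]
      exact sup_le (hHR.trans le_normalizer) (by rw [zpowers_le]; exact hg)
    have hRn : (R.subgroupOf K).Normal := by
      refine ⟨fun n hn k => ?_⟩
      rw [mem_subgroupOf] at hn ⊢
      have := (mem_normalizer_iff.mp (hKN k.2) n).mp hn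
      simpa using this
    have hle : H.subgroupOf K ≤ R.subgroupOf K := fun x hx => hHR hx
    have hRp' : IsPGroup p (R.subgroupOf K) := hRp.comap_subtype
    have h1 : ((H.subgroupOf K).subgroupOf (R.subgroupOf K)).IsSubnormal :=
      S4089.isSubnormal_of_isPGroup hRp' _ _ rfl
    exact IsSubnormal.trans hle h1 hRn.isSubnormal

theorem card_subnormalizer_eq_sum (hH : IsPGroup p H) :
    (Nat.card {g : G // (H.subgroupOf (H ⊔ zpowers g)).IsSubnormal} : ℤ) =
      ∑ E ∈ UU p H, ∑ τ ∈ chainsOf (NN H E), (-1 : ℤ) ^ τ.card * (Nat.card (KK E τ) : ℤ) := by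
  cases nonempty_fintype G
  have h0 : (Nat.card {g : G // (H.subgroupOf (H ⊔ zpowers g)).IsSubnormal} : ℤ) =
      ∑ g : G, (if ∃ U : Subgroup G, IsPGroup p U ∧ H ≤ U ∧ g ∈ normalizer (U : Set G)
        then (1 : ℤ) else 0) := by
    rw [Nat.card_eq_fintype_card, Fintype.card_subtype, Finset.sum_boole]
    congr 2
    ext g
    simp only [Finset.mem_filter, Finset.mem_univ, true_and]
    exact isSubnormal_iff_exists p H hH g
  rw [h0]
  have h1 : ∀ g : G, (if ∃ U : Subgroup G, IsPGroup p U ∧ H ≤ U ∧ g ∈ normalizer (U : Set G)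
        then (1 : ℤ) else 0) = ∑ E ∈ UU p H, ∑ τ ∈ chainsOf (NN H E),
        (-1 : ℤ) ^ τ.card * (if g ∈ KK E τ then 1 else 0) := by
    intro g
    convert (sum_flags_ite p H g).symm
  rw [Finset.sum_congr rfl (fun g _ => h1 g), Finset.sum_comm]
  apply Finset.sum_congr rfl
  intro E _
  rw [Finset.sum_comm]
  apply Finset.sum_congr rfl
  intro τ _
  rw [← Finset.mul_sum, Finset.sum_boole, Nat.card_eq_fintype_card, Fintype.card_subtype]

end Cfsg.Agent.Helper68
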