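import Mathlib
import Cfsg.Agent.Helper68.Casolo1

/-!
# Casolo's count of the subnormalizer of a `p`-subgroup, part 2 (helper68)

The Sylow cancellation: the alternating sum over flags collapses to the sum of `|N_G(Q)|` over
the Sylow `p`-subgroups `Q` containing `H`.
-/

set_option autoImplicit false
set_option linter.style.haveILetI false

namespace Cfsg.Agent.Helper68

open Subgroup Finset

variable {G : Type*} [Group G] [Finite G] (p : ℕ)

/-- the maximal `p`-subgroups of `K` (the Sylow `p`-subgroups of `K`, as subgroups of `G`) -/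
noncomputable def SylIn (K : Subgroup G) : Finset (Subgroup G) :=
  (Set.toFinite {T : Subgroup G | IsPGroup p T ∧ T ≤ K ∧
    ∀ T' : Subgroup G, IsPGroup p T' → T ≤ T' → T' ≤ K → T' = T}).toFinset

theorem mem_SylIn {K T : Subgroup G} : T ∈ SylIn p K ↔ IsPGroup p T ∧ T ≤ K ∧
    ∀ T' : Subgroup G, IsPGroup p T' → T ≤ T' → T' ≤ K → T' = T := by simp [SylIn]

variable [Fact p.Prime]

open scoped Classical in
omit [Fact p.Prime] in
theorem SylIn_eq_image (K : Subgroup G) [Fintype (Sylow p ↥K)] :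
    SylIn p K = Finset.univ.image (fun P : Sylow p ↥K => (P : Subgroup ↥K).map K.subtype) := by
  ext T
  simp only [mem_SylIn, Finset.mem_image, Finset.mem_univ, true_and]
  constructor
  · rintro ⟨hT, hTK, hmax⟩
    have hT' : IsPGroup p (T.subgroupOf K) := hT.comap_subtype
    obtain ⟨P, hP⟩ := hT'.exists_le_sylow
    refine ⟨P, ?_⟩
    apply hmax _ (P.2.map _) _ (Subgroup.map_subtype_le _)
    rw [← Subgroup.map_subgroupOf_eq_of_le hTK]
    exact Subgroup.map_mono hP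
  · rintro ⟨P, rfl⟩
    refine ⟨P.2.map _, Subgroup.map_subtype_le _, ?_⟩
    intro T' hT' hle hT'K
    have h1 : (P : Subgroup ↥K) ≤ T'.subgroupOf K := by
      intro x hx
      rw [mem_subgroupOf]
      exact hle ⟨x, hx, rfl⟩
    have hT'' : IsPGroup p (T'.subgroupOf K) := hT'.comap_subtype
    have h2 := P.is_maximal' hT'' h1
    rw [← h2, Subgroup.map_subgroupOf_eq_of_le hT'K]

omit [Finite G] in
theorem card_normalizer_inf_eq (K : Subgroup G) (P : Subgroup ↥K) :
    Nat.card ↥(normalizer ((P.map K.subtype : Subgroup G) : Set G) ⊓ K) =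
      Nat.card ↥(normalizer (P : Set ↥K)) := by
  have h1 : P.map K.subtype ≤ K := Subgroup.map_subtype_le _
  have h2 := Subgroup.subgroupOf_normalizer_eq h1
  have h3 : (P.map K.subtype).subgroupOf K = P := by
    ext x
    rw [mem_subgroupOf]
    constructor
    · rintro ⟨y, hy, hyx⟩
      have : y = x := Subtype.ext hyx
      exact this ▸ hy
    · intro hx
      exact ⟨x, hx, rfl⟩
  rw [h3] at h2
  rw [← h2, ← Subgroup.inf_subgroupOf_right]
  exact Nat.card_congr (Subgroup.subgroupOfEquivOfLe inf_le_right).toEquiv.symm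

theorem sum_SylIn_card (K : Subgroup G) :
    ∑ T ∈ SylIn p K, Nat.card ↥(normalizer (T : Set G) ⊓ K) = Nat.card K := by
  classical
  haveI : Fintype (Sylow p ↥K) := Fintype.ofFinite _
  rw [SylIn_eq_image, Finset.sum_image]
  · have h1 : ∀ P : Sylow p ↥K,
        Nat.card ↥(normalizer (((P : Subgroup ↥K).map K.subtype : Subgroup G) : Set G) ⊓ K) *
          Nat.card (Sylow p ↥K) = Nat.card K := by
      intro P
      rw [card_normalizer_inf_eq, Sylow.card_eq_index_normalizer P]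
      exact Subgroup.card_mul_index _
    have hpos : 0 < Nat.card (Sylow p ↥K) := Nat.card_pos
    apply Nat.eq_of_mul_eq_mul_right hpos
    rw [Finset.sum_mul, Finset.sum_congr rfl (fun P _ => h1 P), Finset.sum_const, Finset.card_univ,
      smul_eq_mul, ← Nat.card_eq_fintype_card, mul_comm]
  · intro P _ Q _ h
    apply Sylow.ext
    exact Subgroup.map_injective K.subtype_injective h

omit [Fact p.Prime] in
/-- a normal `p`-subgroup of `K` lies in every maximal `p`-subgroup of `K` -/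
theorem le_of_mem_SylIn {K T E : Subgroup G} (hT : T ∈ SylIn p K) (hE : IsPGroup p E)
    (hEK : E ≤ K) (hKE : K ≤ normalizer (E : Set G)) : E ≤ T := by
  rw [mem_SylIn] at hT
  have h1 : IsPGroup p (E ⊔ T : Subgroup G) :=
    hE.to_sup_of_normal_left' hT.1 (hT.2.1.trans hKE)
  have h2 := hT.2.2 _ h1 le_sup_right (sup_le hEK hT.2.1)
  exact h2 ▸ le_sup_left

/-- a `p`-subgroup which is a maximal `p`-subgroup of its normalizer in `K` is a maximal
`p`-subgroup of `K` -/
theorem mem_SylIn_of_mem_SylIn_normalizer {K T : Subgroup G} (hTK : T ≤ K)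
    (hT : T ∈ SylIn p (normalizer (T : Set G) ⊓ K)) : T ∈ SylIn p K := by
  rw [mem_SylIn] at hT ⊢
  refine ⟨hT.1, hTK, ?_⟩
  intro T' hT' hle hT'K
  by_contra hne
  have hlt : T < T' := lt_of_le_of_ne hle (Ne.symm hne)
  obtain ⟨x, hxT', hxN, hxT⟩ := Helper17.exists_mem_normalizer_not_mem hT' hlt
  have h1 : T ⊔ zpowers x ≤ T' := sup_le hle (by rw [zpowers_le]; exact hxT')
  have h2 : T ⊔ zpowers x ≤ normalizer (T : Set G) ⊓ K :=
    le_inf (sup_le le_normalizer (by rw [zpowers_le]; exact hxN)) (h1.trans hT'K)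
  have h3 := hT.2.2 _ (hT'.to_le h1) le_sup_left h2
  apply hxT
  rw [← h3]
  exact (le_sup_right : zpowers x ≤ T ⊔ zpowers x) (mem_zpowers x)

section flags

omit [Finite G] in
theorem KK_insert [DecidableEq (Subgroup G)] (T E : Subgroup G) (τ : Finset (Subgroup G)) :
    KK T (insert E τ) = normalizer (T : Set G) ⊓ KK E τ := by
  unfold KK
  rw [Finset.iInf_insert]

omit [Finite G] in
theorem KK_le_left (E : Subgroup G) (τ : Finset (Subgroup G)) :
    KK E τ ≤ normalizer (E : Set G) := inf_le_left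

omit [Finite G] in
theorem KK_le_of_mem {E U : Subgroup G} {τ : Finset (Subgroup G)} (hU : U ∈ τ) :
    KK E τ ≤ normalizer (U : Set G) := fun _ hg => (mem_KK.mp hg).2 U hU

omit [Finite G] in
theorem le_KK {T E : Subgroup G} {τ : Finset (Subgroup G)} (h1 : T ≤ normalizer (E : Set G))
    (h2 : ∀ U ∈ τ, T ≤ normalizer (U : Set G)) : T ≤ KK E τ :=
  fun _ hg => mem_KK.mpr ⟨h1 hg, fun U hU => h2 U hU hg⟩

variable (H : Subgroup G)

/-- the flags `(E, τ)` -/
noncomputable def flags : Finset (Σ _ : Subgroup G, Finset (Subgroup G)) :=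
  (UU p H).sigma (fun E => chainsOf (NN H E))

omit [Fact p.Prime] in
theorem mem_flags {x : Σ _ : Subgroup G, Finset (Subgroup G)} :
    x ∈ flags p H ↔ x.1 ∈ UU p H ∧ x.2 ∈ chainsOf (NN H x.1) := Finset.mem_sigma

/-- a flag is good when its top is a maximal `p`-subgroup of its stabilizer -/
def good (x : Σ _ : Subgroup G, Finset (Subgroup G)) : Prop := x.1 ∈ SylIn p (KK x.1 x.2)

/-- the weight of a flag -/
noncomputable def wt (x : Σ _ : Subgroup G, Finset (Subgroup G)) : ℤ :=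
  (-1) ^ x.2.card * (Nat.card (KK x.1 x.2) : ℤ)

open scoped Classical

omit [Fact p.Prime] in
theorem ext_flag {E T : Subgroup G} {τ : Finset (Subgroup G)}
    (hx : (⟨E, τ⟩ : Σ _ : Subgroup G, Finset (Subgroup G)) ∈ flags p H)
    (hbad : ¬ good p (⟨E, τ⟩ : Σ _ : Subgroup G, Finset (Subgroup G)))
    (hT : T ∈ SylIn p (KK E τ)) :
    (⟨T, insert E τ⟩ : Σ _ : Subgroup G, Finset (Subgroup G)) ∈ flags p H ∧
      good p (⟨T, insert E τ⟩ : Σ _ : Subgroup G, Finset (Subgroup G)) ∧ E ∉ τ ∧ E < T := by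
  rw [mem_flags] at hx
  obtain ⟨hE, hτ⟩ := hx
  simp only at hE hτ
  rw [mem_UU] at hE
  rw [mem_chainsOf] at hτ
  have hτN : ∀ U ∈ τ, H ≤ U ∧ U < E ∧ E ≤ normalizer (U : Set G) :=
    fun U hU => (mem_NN H).mp (hτ.1 hU)
  have hEK : E ≤ KK E τ := le_KK le_normalizer (fun U hU => (hτN U hU).2.2)
  have hTm := (mem_SylIn p).mp hT
  have hET : E ≤ T := le_of_mem_SylIn p hT hE.1 hEK (KK_le_left _ _)
  have hne : E ≠ T := by
    rintro rfl
    exact hbad hT
  have hlt : E < T := lt_of_le_of_ne hET hne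
  have hEτ : E ∉ τ := fun h => lt_irrefl _ (hτN E h).2.1
  refine ⟨?_, ?_, hEτ, hlt⟩
  · rw [mem_flags]
    refine ⟨(mem_UU p H).mpr ⟨hTm.1, hE.2.trans hET⟩, ?_⟩
    rw [mem_chainsOf]
    constructor
    · intro U hU
      rw [Finset.mem_insert] at hU
      rw [mem_NN]
      rcases hU with rfl | hU
      · exact ⟨hE.2, hlt, hTm.2.1.trans (KK_le_left _ _)⟩
      · exact ⟨(hτN U hU).1, lt_of_lt_of_le (hτN U hU).2.1 hET,
          hTm.2.1.trans (KK_le_of_mem hU)⟩
    · rw [Finset.coe_insert]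
      exact hτ.2.insert (fun U hU _ => Or.inr (hτN U hU).2.1.le)
  · show T ∈ SylIn p (KK T (insert E τ))
    rw [KK_insert, mem_SylIn]
    exact ⟨hTm.1, le_inf le_normalizer hTm.2.1,
      fun T' hT' hle hT'K => hTm.2.2 T' hT' hle (hT'K.trans inf_le_right)⟩

theorem parent_flag {E T : Subgroup G} {τ' : Finset (Subgroup G)}
    (hz : (⟨T, τ'⟩ : Σ _ : Subgroup G, Finset (Subgroup G)) ∈ flags p H)
    (hgood : good p (⟨T, τ'⟩ : Σ _ : Subgroup G, Finset (Subgroup G)))
    (hE : E ∈ τ') (hmax : ∀ U ∈ τ', U ≤ E) :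
    (⟨E, τ'.erase E⟩ : Σ _ : Subgroup G, Finset (Subgroup G)) ∈ flags p H ∧
      ¬ good p (⟨E, τ'.erase E⟩ : Σ _ : Subgroup G, Finset (Subgroup G)) ∧
      T ∈ SylIn p (KK E (τ'.erase E)) := by
  rw [mem_flags] at hz
  obtain ⟨hT, hτ'⟩ := hz
  simp only at hT hτ'
  rw [mem_UU] at hT
  rw [mem_chainsOf] at hτ'
  have hN : ∀ U ∈ τ', H ≤ U ∧ U < T ∧ T ≤ normalizer (U : Set G) :=
    fun U hU => (mem_NN H).mp (hτ'.1 hU)
  have hEN := hN E hE
  have hτ : ∀ U ∈ τ'.erase E, U ∈ τ' ∧ U < E := by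
    intro U hU
    rw [Finset.mem_erase] at hU
    exact ⟨hU.2, lt_of_le_of_ne (hmax U hU.2) hU.1⟩
  have hTK : T ≤ KK E (τ'.erase E) :=
    le_KK hEN.2.2 (fun U hU => (hN U (hτ U hU).1).2.2)
  refine ⟨?_, ?_, ?_⟩
  · rw [mem_flags]
    refine ⟨(mem_UU p H).mpr ⟨hT.1.to_le hEN.2.1.le, hEN.1⟩, ?_⟩
    rw [mem_chainsOf]
    constructor
    · intro U hU
      rw [mem_NN]
      exact ⟨(hN U (hτ U hU).1).1, (hτ U hU).2, hEN.2.1.le.trans (hN U (hτ U hU).1).2.2⟩
    · refine hτ'.2.mono ?_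
      rw [Finset.coe_erase]
      exact Set.sdiff_subset
  · intro hg
    have := (mem_SylIn p).mp hg
    have h1 := this.2.2 T hT.1 hEN.2.1.le hTK
    exact (ne_of_gt hEN.2.1) h1
  · apply mem_SylIn_of_mem_SylIn_normalizer p hTK
    have h1 : KK T τ' = normalizer (T : Set G) ⊓ KK E (τ'.erase E) := by
      rw [← KK_insert, Finset.insert_erase hE]
    rw [← h1]
    exact hgood

theorem sum_bad :
    ∑ x ∈ (flags p H).filter (fun x => ¬ good p x), wt x =
      - ∑ x ∈ ((flags p H).filter (fun x => good p x)).filter (fun x => ¬ x.2 = ∅), wt x := by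
  have h1 : ∀ x ∈ (flags p H).filter (fun x => ¬ good p x), wt x =
      ∑ T ∈ SylIn p (KK x.1 x.2),
        (-1 : ℤ) ^ x.2.card * (Nat.card (KK T (insert x.1 x.2)) : ℤ) := by
    intro x _
    unfold wt
    rw [← Finset.mul_sum]
    congr 1
    rw [← sum_SylIn_card p (KK x.1 x.2), Nat.cast_sum]
    apply Finset.sum_congr rfl
    intro T _
    rw [KK_insert]
  rw [Finset.sum_congr rfl h1, Finset.sum_sigma', ← Finset.sum_neg_distrib]
  refine Finset.sum_bij (fun y _ => ⟨y.2, insert y.1.1 y.1.2⟩) ?_ ?_ ?_ ?_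
  · rintro ⟨⟨E, τ⟩, T⟩ hy
    rw [Finset.mem_sigma, Finset.mem_filter] at hy
    obtain ⟨⟨hx, hbad⟩, hT⟩ := hy
    simp only at hx hbad hT
    obtain ⟨h1, h2, _, _⟩ := ext_flag p H hx hbad hT
    rw [Finset.mem_filter, Finset.mem_filter]
    exact ⟨⟨h1, h2⟩, Finset.insert_ne_empty _ _⟩
  · rintro ⟨⟨E, τ⟩, T⟩ hy ⟨⟨E₂, τ₂⟩, T₂⟩ hy₂ heq
    rw [Finset.mem_sigma, Finset.mem_filter] at hy hy₂
    obtain ⟨⟨hx, hbad⟩, hT⟩ := hy
    obtain ⟨⟨hx₂, hbad₂⟩, hT₂⟩ := hy₂
    simp only at hx hbad hT hx₂ hbad₂ hT₂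
    obtain ⟨_, _, hEτ, _⟩ := ext_flag p H hx hbad hT
    obtain ⟨_, _, hEτ₂, _⟩ := ext_flag p H hx₂ hbad₂ hT₂
    simp only [Sigma.mk.injEq, heq_eq_eq] at heq
    obtain ⟨hTT, hins⟩ := heq
    have hτN : ∀ U ∈ τ, U < E := fun U hU =>
      ((mem_NN H).mp ((mem_chainsOf.mp ((mem_flags p H).mp hx).2).1 hU)).2.1
    have hτN₂ : ∀ U ∈ τ₂, U < E₂ := fun U hU =>
      ((mem_NN H).mp ((mem_chainsOf.mp ((mem_flags p H).mp hx₂).2).1 hU)).2.1
    have hEE : E = E₂ := by
      have h1 : E ∈ insert E₂ τ₂ := hins ▸ Finset.mem_insert_self E τ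
      have h2 : E₂ ∈ insert E τ := hins ▸ Finset.mem_insert_self E₂ τ₂
      rw [Finset.mem_insert] at h1 h2
      rcases h1 with h1 | h1
      · exact h1
      · rcases h2 with h2 | h2
        · exact h2.symm
        · exact absurd (hτN₂ E h1) (not_lt_of_gt (hτN E₂ h2))
    subst hEE
    subst hTT
    have : τ = τ₂ := by
      rw [← Finset.erase_insert hEτ, hins, Finset.erase_insert hEτ₂]
    subst this
    rfl
  · rintro ⟨T, τ'⟩ hz
    rw [Finset.mem_filter, Finset.mem_filter] at hz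
    obtain ⟨⟨hz, hgood⟩, hne⟩ := hz
    simp only at hne
    have hc := (mem_chainsOf.mp ((mem_flags p H).mp hz).2).2
    obtain ⟨E, hE, hmax⟩ := exists_greatest_of_chain (Finset.nonempty_iff_ne_empty.mpr hne) hc
    obtain ⟨h1, h2, h3⟩ := parent_flag p H hz hgood hE hmax
    refine ⟨⟨⟨E, τ'.erase E⟩, T⟩, ?_, ?_⟩
    · rw [Finset.mem_sigma, Finset.mem_filter]
      exact ⟨⟨h1, h2⟩, h3⟩
    · simp only [Finset.insert_erase hE]
  · rintro ⟨⟨E, τ⟩, T⟩ hy
    rw [Finset.mem_sigma, Finset.mem_filter] at hy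
    obtain ⟨⟨hx, hbad⟩, hT⟩ := hy
    simp only at hx hbad hT
    obtain ⟨_, _, hEτ, _⟩ := ext_flag p H hx hbad hT
    simp only [wt]
    rw [Finset.card_insert_of_notMem hEτ, pow_succ]
    ring

theorem sum_flags_eq :
    ∑ x ∈ flags p H, wt x =
      ∑ x ∈ ((flags p H).filter (fun x => good p x)).filter (fun x => x.2 = ∅), wt x := by
  have h1 := Finset.sum_filter_add_sum_filter_not (flags p H) (fun x => good p x) wt
  have h2 := Finset.sum_filter_add_sum_filter_not ((flags p H).filter (fun x => good p x))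
    (fun x => x.2 = ∅) wt
  have h3 := sum_bad p H
  linarith

omit [Finite G] in
theorem KK_empty (Q : Subgroup G) : KK Q ∅ = normalizer (Q : Set G) ⊓ ⊤ := by
  simp [KK]

theorem card_normalizer_sylow_eq (P Q : Sylow p G) :
    Nat.card (normalizer ((Q : Subgroup G) : Set G)) =
      Nat.card (normalizer ((P : Subgroup G) : Set G)) := by
  have h1 := Subgroup.card_mul_index (normalizer ((Q : Subgroup G) : Set G))
  have h2 := Subgroup.card_mul_index (normalizer ((P : Subgroup G) : Set G))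
  have h3 : (normalizer ((Q : Subgroup G) : Set G)).index =
      (normalizer ((P : Subgroup G) : Set G)).index :=
    (Sylow.card_eq_index_normalizer Q).symm.trans (Sylow.card_eq_index_normalizer P)
  have hpos : 0 < (normalizer ((P : Subgroup G) : Set G)).index :=
    Nat.pos_of_ne_zero (Subgroup.index_ne_zero_of_finite)
  rw [h3, ← h2] at h1
  exact Nat.eq_of_mul_eq_mul_right hpos h1

theorem sum_good_empty (P : Sylow p G) :
    ∑ x ∈ ((flags p H).filter (fun x => good p x)).filter (fun x => x.2 = ∅), wt x =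
      (Nat.card {Q : Sylow p G // H ≤ (Q : Subgroup G)} : ℤ) *
        (Nat.card (normalizer ((P : Subgroup G) : Set G)) : ℤ) := by
  haveI : Fintype {Q : Sylow p G // H ≤ (Q : Subgroup G)} := Fintype.ofFinite _
  have h1 : ∑ _Q : {Q : Sylow p G // H ≤ (Q : Subgroup G)},
      (Nat.card (normalizer ((P : Subgroup G) : Set G)) : ℤ) =
      (Nat.card {Q : Sylow p G // H ≤ (Q : Subgroup G)} : ℤ) *
        (Nat.card (normalizer ((P : Subgroup G) : Set G)) : ℤ) := by
    rw [Finset.sum_const, Finset.card_univ, nsmul_eq_mul, ← Nat.card_eq_fintype_card]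
  rw [← h1]
  symm
  refine Finset.sum_bij (fun Q _ => ⟨(Q.1 : Subgroup G), ∅⟩) ?_ ?_ ?_ ?_
  · rintro ⟨Q, hQ⟩ _
    rw [Finset.mem_filter, Finset.mem_filter, mem_flags]
    refine ⟨⟨⟨(mem_UU p H).mpr ⟨Q.2, hQ⟩, empty_mem_chainsOf _⟩, ?_⟩, rfl⟩
    show (Q : Subgroup G) ∈ SylIn p (KK (Q : Subgroup G) ∅)
    rw [mem_SylIn]
    refine ⟨Q.2, le_KK le_normalizer (by simp), fun T' hT' hle _ => Q.is_maximal' hT' hle⟩
  · rintro ⟨Q, hQ⟩ _ ⟨Q₂, hQ₂⟩ _ heq
    simp only [Sigma.mk.injEq, heq_eq_eq, and_true] at heq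
    exact Subtype.ext (Sylow.ext heq)
  · rintro ⟨Q, τ⟩ hx
    rw [Finset.mem_filter, Finset.mem_filter, mem_flags] at hx
    obtain ⟨⟨⟨hQ, _⟩, hgood⟩, hτ⟩ := hx
    simp only at hQ hτ
    subst hτ
    rw [mem_UU] at hQ
    have hg : Q ∈ SylIn p (KK Q ∅) := hgood
    rw [KK_empty] at hg
    have hm := (mem_SylIn p).mp (mem_SylIn_of_mem_SylIn_normalizer p le_top hg)
    exact ⟨⟨⟨Q, hQ.1, fun {T'} hT' hle => hm.2.2 T' hT' hle le_top⟩, hQ.2⟩, Finset.mem_univ _, rfl⟩
  · rintro ⟨Q, hQ⟩ _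
    simp only [wt, Finset.card_empty, pow_zero, one_mul]
    rw [KK_empty, inf_top_eq, card_normalizer_sylow_eq p P Q]

end flags

end Cfsg.Agent.Helper68
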