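import Mathlib
import Cfsg.Agent.Helper68.Casolo2

/-!
# Casolo's count of the subnormalizer of a `p`-subgroup, part 3 (helper68)

Fibre counting: `#{g | g H g⁻¹ ≤ P}` equals both `(number of Sylow p-subgroups containing H)·|N(P)|`
and `(number of conjugates of H inside P)·|N(H)|`.
-/

set_option autoImplicit false
set_option linter.style.haveILetI false

namespace Cfsg.Agent.Helper68

open Subgroup Finset

variable {G : Type*} [Group G]

/-- fibre counting for a map whose fibres are left cosets of `S` -/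
theorem card_preimage_eq {X : Type*} (f : G → X) (S : Subgroup G)
    (hf : ∀ g g' : G, f g = f g' ↔ g'⁻¹ * g ∈ S) (Y : Set X) (hY : Y ⊆ Set.range f) :
    Nat.card {g : G // f g ∈ Y} = Nat.card Y * Nat.card S := by
  choose sel hsel using fun y : Y => hY y.2
  rw [← Nat.card_prod]
  refine Nat.card_congr
    { toFun := fun g => (⟨f g.1, g.2⟩, ⟨(sel ⟨f g.1, g.2⟩)⁻¹ * g.1, ?_⟩)
      invFun := fun ys => ⟨sel ys.1 * ys.2.1, ?_⟩
      left_inv := ?_
      right_inv := ?_ }
  · exact (hf _ _).mp (hsel ⟨f g.1, g.2⟩).symm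
  · have : f (sel ys.1 * ys.2.1) = f (sel ys.1) := by
      rw [hf]
      simp
    rw [this, hsel]
    exact ys.1.2
  · rintro ⟨g, hg⟩
    simp
  · rintro ⟨y, s⟩
    have h1 : f (sel y * s.1) = y.1 := by
      have : f (sel y * s.1) = f (sel y) := by
        rw [hf]
        simp
      rw [this, hsel]
    have h2 : (⟨f (sel y * s.1), by rw [h1]; exact y.2⟩ : Y) = y := Subtype.ext h1
    simp only [Prod.mk.injEq]
    refine ⟨h2, ?_⟩
    apply Subtype.ext
    simp only
    rw [h2]
    simp


theorem comap_conj_eq_map (M : Subgroup G) (k : G) :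
    M.comap ((MulAut.conj k : G ≃* G) : G →* G) = M.map (MulAut.conj k⁻¹).toMonoidHom := by
  ext x
  rw [Subgroup.mem_comap, Subgroup.mem_map_equiv]
  simp

theorem map_conj_mul (M : Subgroup G) (a b : G) :
    M.map (MulAut.conj (a * b)).toMonoidHom =
      (M.map (MulAut.conj b).toMonoidHom).map (MulAut.conj a).toMonoidHom := by
  rw [Subgroup.map_map]
  congr 1
  ext x
  simp [mul_assoc]

theorem map_conj_eq_iff (H : Subgroup G) (g g' : G) :
    H.map (MulAut.conj g).toMonoidHom = H.map (MulAut.conj g').toMonoidHom ↔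
      g'⁻¹ * g ∈ normalizer (H : Set G) := by
  rw [mem_normalizer_iff_map_conj_eq]
  have h := map_conj_mul H g'⁻¹ g
  have h2 : H.map ((MulAut.conj (g'⁻¹ * g) : G ≃* G) : G →* G) =
      H.map (MulAut.conj (g'⁻¹ * g)).toMonoidHom := rfl
  rw [h2]
  constructor
  · intro h1
    rw [h, h1, ← map_conj_mul]
    have : (MulAut.conj (g'⁻¹ * g')).toMonoidHom = MonoidHom.id G := by
      ext x; simp
    rw [this, Subgroup.map_id]
  · intro h1
    have h3 : g = g' * (g'⁻¹ * g) := by group
    rw [h3, map_conj_mul, h1]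

variable [Finite G] (p : ℕ) [Fact p.Prime]

omit [Finite G] [Fact p.Prime] in
theorem le_smul_sylow_of_map_le (P : Sylow p G) (g : G) (H : Subgroup G)
    (h : H.map (MulAut.conj g).toMonoidHom ≤ (P : Subgroup G)) :
    H ≤ ((g⁻¹ • P : Sylow p G) : Subgroup G) := by
  intro x hx
  rw [Sylow.smul_def, Sylow.pointwise_smul_def, Subgroup.mem_pointwise_smul_iff_inv_smul_mem]
  simp only [map_inv, inv_inv, MulAut.smul_def, MulAut.conj_apply]
  exact h ⟨x, hx, by simp⟩

omit [Finite G] [Fact p.Prime] in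
theorem map_le_of_le_smul_sylow (P : Sylow p G) (g : G) (H : Subgroup G)
    (h : H ≤ ((g • P : Sylow p G) : Subgroup G)) :
    H.map (MulAut.conj g⁻¹).toMonoidHom ≤ (P : Subgroup G) := by
  rintro _ ⟨x, hx, rfl⟩
  have := h hx
  rw [Sylow.smul_def, Sylow.pointwise_smul_def, Subgroup.mem_pointwise_smul_iff_inv_smul_mem] at this
  simpa using this

theorem card_conj_le_eq_left (H : Subgroup G) (P : Sylow p G) :
    Nat.card {g : G // H.map (MulAut.conj g).toMonoidHom ≤ (P : Subgroup G)} =
      Nat.card {Q : Sylow p G // H ≤ (Q : Subgroup G)} *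
        Nat.card (normalizer ((P : Subgroup G) : Set G)) := by
  have h1 := card_preimage_eq (fun g : G => g • P) (normalizer ((P : Subgroup G) : Set G))
    (fun g g' => by
      have : g'⁻¹ * g ∈ normalizer ((P : Subgroup G) : Set G) ↔ (g'⁻¹ * g) • P = P :=
        Sylow.smul_eq_iff_mem_normalizer.symm
      rw [this, mul_smul, inv_smul_eq_iff])
    {Q : Sylow p G | H ≤ (Q : Subgroup G)}
    (fun Q _ => MulAction.exists_smul_eq G P Q)
  have h2 : Nat.card {g : G // H.map (MulAut.conj g).toMonoidHom ≤ (P : Subgroup G)} =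
      Nat.card {g : G // (fun g : G => g • P) g ∈ {Q : Sylow p G | H ≤ (Q : Subgroup G)}} := by
    refine Nat.card_congr
      { toFun := fun g => ⟨g.1⁻¹, le_smul_sylow_of_map_le p P g.1 H g.2⟩
        invFun := fun g => ⟨g.1⁻¹, map_le_of_le_smul_sylow p P g.1 H g.2⟩
        left_inv := fun g => Subtype.ext (inv_inv _)
        right_inv := fun g => Subtype.ext (inv_inv _) }
  rw [h2, h1]
  rfl

omit [Finite G] in
theorem card_conj_le_eq_right (H : Subgroup G) (P : Subgroup G) :
    Nat.card {g : G // H.map (MulAut.conj g).toMonoidHom ≤ P} =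
      Nat.card {K : Subgroup G // K ≤ P ∧ ∃ g : G, K = H.map (MulAut.conj g).toMonoidHom} *
        Nat.card (normalizer (H : Set G)) := by
  have h1 := card_preimage_eq (fun g : G => H.map (MulAut.conj g).toMonoidHom)
    (normalizer (H : Set G)) (fun g g' => map_conj_eq_iff H g g')
    {K : Subgroup G | K ≤ P ∧ ∃ g : G, K = H.map (MulAut.conj g).toMonoidHom}
    (fun K hK => by
      obtain ⟨g, hg⟩ := hK.2
      exact ⟨g, hg.symm⟩)
  have h2 : Nat.card {g : G // H.map (MulAut.conj g).toMonoidHom ≤ P} =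
      Nat.card {g : G // (fun g : G => H.map (MulAut.conj g).toMonoidHom) g ∈
        {K : Subgroup G | K ≤ P ∧ ∃ g : G, K = H.map (MulAut.conj g).toMonoidHom}} := by
    refine Nat.card_congr (Equiv.subtypeEquivRight ?_)
    intro g
    simp only [Set.mem_ofPred_eq]
    exact ⟨fun h => ⟨h, g, rfl⟩, fun h => h.1⟩
  rw [h2, h1]
  rfl

end Cfsg.Agent.Helper68
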