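import Mathlib
import Cfsg.Agent.Helper68.Casolo3

/-!
# Subnormalizers in `p`-solvable groups (helper68)

Counting `#{g | g H g⁻¹ ≤ P ⊔ A}` along a normal series with `p`- and `p'`-factors.
-/

set_option autoImplicit false
set_option linter.style.haveILetI false

namespace Cfsg.Agent.Helper68

open Subgroup Finset

/-- telescoping a chain of proportionalities -/
theorem telescope_fin : ∀ (n : ℕ) (x y : Fin (n + 1) → ℕ) (t : Fin n → ℕ),
    (∀ i : Fin n, x i.castSucc * y i.succ = x i.succ * y i.castSucc * t i) → (∀ i, 0 < y i) →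
    x 0 * y (Fin.last n) = x (Fin.last n) * y 0 * ∏ i, t i := by
  intro n
  induction n with
  | zero =>
    intro x y t _ _
    simp
  | succ n ih =>
    intro x y t h hy
    have ih' := ih (fun i => x i.castSucc) (fun i => y i.castSucc) (fun i => t i.castSucc)
      (fun i => by
        have := h i.castSucc
        rw [Fin.succ_castSucc] at this
        exact this)
      (fun i => hy _)
    have hl := h (Fin.last n)
    rw [Fin.succ_last] at hl
    rw [Fin.prod_univ_castSucc]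
    simp only [Fin.castSucc_zero] at ih'
    apply Nat.eq_of_mul_eq_mul_right (hy (Fin.last n).castSucc)
    calc x 0 * y (Fin.last (n + 1)) * y (Fin.last n).castSucc
        = (x 0 * y (Fin.last n).castSucc) * y (Fin.last (n + 1)) := by ring
      _ = (x (Fin.last n).castSucc * y 0 * ∏ i : Fin n, t i.castSucc) * y (Fin.last (n + 1)) := by
          rw [ih']
      _ = (x (Fin.last n).castSucc * y (Fin.last (n + 1))) * y 0 * ∏ i : Fin n, t i.castSucc := by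
          ring
      _ = (x (Fin.last (n + 1)) * y (Fin.last n).castSucc * t (Fin.last n)) * y 0 *
            ∏ i : Fin n, t i.castSucc := by rw [hl]
      _ = x (Fin.last (n + 1)) * y 0 * ((∏ i : Fin n, t i.castSucc) * t (Fin.last n)) *
            y (Fin.last n).castSucc := by ring

variable {G : Type*} [Group G]

/-- the preimage in `B` of the centralizer of `H` in `B/A` -/
def centMod (H A B : Subgroup G) [hA : A.Normal] : Subgroup G where
  carrier := {u | u ∈ B ∧ ∀ h ∈ H, h * u * h⁻¹ * u⁻¹ ∈ A}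
  one_mem' := ⟨B.one_mem, fun h _ => by simp⟩
  mul_mem' := by
    rintro u v ⟨hu, hu'⟩ ⟨hv, hv'⟩
    refine ⟨B.mul_mem hu hv, fun h hh => ?_⟩
    have e : h * (u * v) * h⁻¹ * (u * v)⁻¹ =
        (h * u * h⁻¹ * u⁻¹) * (u * (h * v * h⁻¹ * v⁻¹) * u⁻¹) := by group
    rw [e]
    exact A.mul_mem (hu' h hh) (hA.conj_mem _ (hv' h hh) u)
  inv_mem' := by
    rintro u ⟨hu, hu'⟩
    refine ⟨B.inv_mem hu, fun h hh => ?_⟩
    have e : h * u⁻¹ * h⁻¹ * u⁻¹⁻¹ = u⁻¹ * (h * u * h⁻¹ * u⁻¹)⁻¹ * u⁻¹⁻¹ := by group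
    rw [e]
    exact hA.conj_mem _ (A.inv_mem (hu' h hh)) u⁻¹

theorem le_centMod (H A B : Subgroup G) [hA : A.Normal] (hAB : A ≤ B) : A ≤ centMod H A B := by
  intro a ha
  refine ⟨hAB ha, fun h _ => ?_⟩
  have e : h * a * h⁻¹ * a⁻¹ = (h * a * h⁻¹) * a⁻¹ := by group
  rw [e]
  exact A.mul_mem (hA.conj_mem a ha h) (A.inv_mem ha)

theorem card_dvd_card_centMod (H A B : Subgroup G) [hA : A.Normal] (hAB : A ≤ B) :
    Nat.card A ∣ Nat.card {u : G // u ∈ B ∧ ∀ h ∈ H, h * u * h⁻¹ * u⁻¹ ∈ A} :=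
  Subgroup.card_dvd_of_le (le_centMod H A B hAB)

theorem map_conj_le_iff (H X : Subgroup G) (g : G) :
    H.map (MulAut.conj g).toMonoidHom ≤ X ↔ ∀ h ∈ H, g * h * g⁻¹ ∈ X := by
  rw [Subgroup.map_le_iff_le_comap]
  constructor
  · intro h x hx
    have := h hx
    simpa using this
  · intro h x hx
    rw [Subgroup.mem_comap]
    simpa using h x hx

theorem card_mul_relIndex_of_le {A B : Subgroup G} (h : A ≤ B) :
    Nat.card A * A.relIndex B = Nat.card B := by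
  have := Subgroup.relIndex_mul_relIndex (⊥ : Subgroup G) A B bot_le h
  rwa [Subgroup.relIndex_bot_left, Subgroup.relIndex_bot_left] at this

variable [Finite G] (p : ℕ) [Fact p.Prime]

/-- a `p`-factor is absorbed by a Sylow `p`-subgroup -/
theorem sup_eq_of_relIndex_pow (P : Sylow p G) {A B : Subgroup G} [hA : A.Normal] [hB : B.Normal]
    (hAB : A ≤ B) {m : ℕ} (h : A.relIndex B = p ^ m) :
    (P : Subgroup G) ⊔ B = (P : Subgroup G) ⊔ A := by
  refine le_antisymm (sup_le le_sup_left ?_) (sup_le_sup_left hAB _)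
  have hπ : Function.Surjective (QuotientGroup.mk' A) := QuotientGroup.mk'_surjective A
  have hcard : Nat.card (B.map (QuotientGroup.mk' A)) = p ^ m := by
    rw [← Subgroup.relIndex_ker, QuotientGroup.ker_mk', h]
  have hp : IsPGroup p (B.map (QuotientGroup.mk' A)) := IsPGroup.of_card hcard
  haveI : (B.map (QuotientGroup.mk' A)).Normal := hB.map _ hπ
  have h1 := hp.le_sylow_of_normal (P.mapSurjective hπ)
  rw [Sylow.coe_mapSurjective] at h1
  have h2 := Subgroup.comap_mono (f := QuotientGroup.mk' A) h1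
  rw [Subgroup.comap_map_eq, Subgroup.comap_map_eq, QuotientGroup.ker_mk'] at h2
  exact le_sup_left.trans h2

omit [Finite G] in
/-- for a `p'`-factor `B/A`, a Sylow `p`-subgroup meets `B` inside `A` -/
theorem sup_inf_eq_of_relIndex_coprime (P : Sylow p G) {A B : Subgroup G} [hA : A.Normal]
    (hAB : A ≤ B) (h : (A.relIndex B).Coprime p) :
    ((P : Subgroup G) ⊔ A) ⊓ B = A := by
  refine le_antisymm ?_ (le_inf le_sup_right hAB)
  intro x hx
  obtain ⟨hx1, hx2⟩ := Subgroup.mem_inf.mp hx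
  obtain ⟨y, hy, a, ha, rfl⟩ := Subgroup.mem_sup_of_normal_right.mp hx1
  have hyB : y ∈ B := by
    have : y = y * a * a⁻¹ := by group
    rw [this]
    exact B.mul_mem hx2 (B.inv_mem (hAB ha))
  suffices hyA : y ∈ A from A.mul_mem hyA ha
  have hcard : Nat.card (B.map (QuotientGroup.mk' A)) = A.relIndex B := by
    rw [← Subgroup.relIndex_ker, QuotientGroup.ker_mk']
  have h1 : orderOf (QuotientGroup.mk' A y) ∣ A.relIndex B := by
    rw [← hcard]
    have hmem : QuotientGroup.mk' A y ∈ B.map (QuotientGroup.mk' A) := ⟨y, hyB, rfl⟩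
    have := orderOf_dvd_natCard (⟨_, hmem⟩ : B.map (QuotientGroup.mk' A))
    rwa [← Subgroup.orderOf_coe] at this
  obtain ⟨k, hk⟩ := (IsPGroup.iff_orderOf.mp P.2) ⟨y, hy⟩
  have h2 : orderOf (QuotientGroup.mk' A y) ∣ p ^ k := by
    rw [← hk, Subgroup.orderOf_mk]
    exact orderOf_map_dvd _ _
  have h3 : orderOf (QuotientGroup.mk' A y) = 1 :=
    Nat.eq_one_of_dvd_coprimes (Nat.Coprime.pow_right k h) h1 h2
  rw [orderOf_eq_one_iff] at h3
  exact (QuotientGroup.eq_one_iff y).mp h3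

/-- Sylow's theorem inside `P ⊔ B`: a `p`-subgroup of `PB` is `B`-conjugate into `P` -/
theorem exists_conj_le_of_le_sup (P : Sylow p G) (B : Subgroup G) [B.Normal] (H' : Subgroup G)
    (hH' : IsPGroup p H') (hle : H' ≤ (P : Subgroup G) ⊔ B) :
    ∃ m ∈ B, ∀ h ∈ H', m * h * m⁻¹ ∈ (P : Subgroup G) := by
  obtain ⟨Y, hY⟩ : ∃ Y, Y = (P : Subgroup G) ⊔ B := ⟨_, rfl⟩
  have hPY : (P : Subgroup G) ≤ Y := hY ▸ le_sup_left
  have hH'Y : H' ≤ Y := hY ▸ hle
  have hp' : IsPGroup p (H'.subgroupOf Y) := hH'.comap_subtype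
  obtain ⟨Q, hQ⟩ := hp'.exists_le_sylow
  obtain ⟨x, hx⟩ := MulAction.exists_smul_eq ↥Y (P.subtype hPY) Q
  have hxinv : (x⁻¹ : ↥Y).1 ∈ (P : Subgroup G) ⊔ B := hY ▸ (x⁻¹).2
  obtain ⟨y, hy, b, hb, hyb⟩ := Subgroup.mem_sup_of_normal_right.mp hxinv
  refine ⟨b, hb, fun h hh => ?_⟩
  have h1 : (⟨h, hH'Y hh⟩ : ↥Y) ∈ (Q : Subgroup ↥Y) := hQ (mem_subgroupOf.mpr hh)
  rw [← hx, Sylow.smul_def, Sylow.pointwise_smul_def,
    Subgroup.mem_pointwise_smul_iff_inv_smul_mem] at h1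
  simp only [MulAut.smul_def, MulAut.conj_inv_apply] at h1
  rw [Sylow.coe_subtype, mem_subgroupOf] at h1
  simp only [Subgroup.coe_mul, Subgroup.coe_inv] at h1
  have h2 : (x⁻¹ : ↥Y).1 = (x.1)⁻¹ := rfl
  rw [h2] at hyb
  have h3 : b * h * b⁻¹ = y⁻¹ * ((x.1)⁻¹ * h * x.1) * y := by
    have : b = y⁻¹ * (x.1)⁻¹ := by rw [← hyb]; group
    rw [this]; group
  rw [h3]
  exact (P : Subgroup G).mul_mem ((P : Subgroup G).mul_mem ((P : Subgroup G).inv_mem hy) h1) hy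

omit [Finite G] in
theorem key_iff (P : Sylow p G) {A B : Subgroup G} [hA : A.Normal] [hB : B.Normal]
    (hAB : A ≤ B) (hcop : (A.relIndex B).Coprime p) (H : Subgroup G) (g₀ : G)
    (hg₀ : ∀ h ∈ H, g₀ * h * g₀⁻¹ ∈ (P : Subgroup G)) (c : G) (hc : c ∈ B) :
    (∀ h ∈ H, (g₀ * c) * h * (g₀ * c)⁻¹ ∈ (P : Subgroup G) ⊔ A) ↔
      ∀ h ∈ H, h * c * h⁻¹ * c⁻¹ ∈ A := by
  have hid : ∀ h : G, (g₀ * c) * h * (g₀ * c)⁻¹ =
      (g₀ * (h * c * h⁻¹ * c⁻¹)⁻¹ * g₀⁻¹) * (g₀ * h * g₀⁻¹) := by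
    intro h; group
  constructor
  · intro hall h hh
    have h1 := hall h hh
    rw [hid] at h1
    have h2 : g₀ * (h * c * h⁻¹ * c⁻¹)⁻¹ * g₀⁻¹ ∈ (P : Subgroup G) ⊔ A := by
      have e2 : g₀ * (h * c * h⁻¹ * c⁻¹)⁻¹ * g₀⁻¹ =
          ((g₀ * (h * c * h⁻¹ * c⁻¹)⁻¹ * g₀⁻¹) * (g₀ * h * g₀⁻¹)) * (g₀ * h * g₀⁻¹)⁻¹ := by group
      rw [e2]
      exact Subgroup.mul_mem _ h1 (Subgroup.inv_mem _
        ((le_sup_left : (P : Subgroup G) ≤ (P : Subgroup G) ⊔ A) (hg₀ h hh)))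
    have h3 : g₀ * (h * c * h⁻¹ * c⁻¹)⁻¹ * g₀⁻¹ ∈ B := by
      apply hB.conj_mem
      apply B.inv_mem
      have : h * c * h⁻¹ * c⁻¹ = (h * c * h⁻¹) * c⁻¹ := by group
      rw [this]
      exact B.mul_mem (hB.conj_mem c hc h) (B.inv_mem hc)
    have h4 : g₀ * (h * c * h⁻¹ * c⁻¹)⁻¹ * g₀⁻¹ ∈ A := by
      rw [← sup_inf_eq_of_relIndex_coprime p P hAB hcop]
      exact Subgroup.mem_inf.mpr ⟨h2, h3⟩
    have h5 := hA.conj_mem _ h4 g₀⁻¹
    have h6 : g₀⁻¹ * (g₀ * (h * c * h⁻¹ * c⁻¹)⁻¹ * g₀⁻¹) * g₀⁻¹⁻¹ = (h * c * h⁻¹ * c⁻¹)⁻¹ := by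
      group
    rw [h6] at h5
    exact (A.inv_mem_iff).mp h5
  · intro hall h hh
    rw [hid]
    refine Subgroup.mul_mem _ ?_ ((le_sup_left : (P : Subgroup G) ≤ _) (hg₀ h hh))
    exact (le_sup_right : A ≤ (P : Subgroup G) ⊔ A)
      (hA.conj_mem _ (A.inv_mem (hall h hh)) g₀)

/-- counting step for a `p'`-factor -/
theorem card_step_coprime (P : Sylow p G) {A B : Subgroup G} [hA : A.Normal] [hB : B.Normal]
    (hAB : A ≤ B) (hcop : (A.relIndex B).Coprime p) (H : Subgroup G) (hH : IsPGroup p H) :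
    Nat.card {g : G // H.map (MulAut.conj g).toMonoidHom ≤ (P : Subgroup G) ⊔ A} * Nat.card B =
      Nat.card {g : G // H.map (MulAut.conj g).toMonoidHom ≤ (P : Subgroup G) ⊔ B} *
        Nat.card {u : G // u ∈ B ∧ ∀ h ∈ H, h * u * h⁻¹ * u⁻¹ ∈ A} := by
  -- choice of a representative conjugating `H` into `P`
  have hsel : ∀ g : {g : G // H.map (MulAut.conj g).toMonoidHom ≤ (P : Subgroup G) ⊔ B},
      ∃ m ∈ B, ∀ h ∈ H, (m * g.1) * h * (m * g.1)⁻¹ ∈ (P : Subgroup G) := by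
    intro g
    obtain ⟨m, hm, hmH⟩ := exists_conj_le_of_le_sup p P B (H.map (MulAut.conj g.1).toMonoidHom)
      (hH.map _) g.2
    refine ⟨m, hm, fun h hh => ?_⟩
    have := hmH (g.1 * h * g.1⁻¹) ⟨h, hh, by simp⟩
    have e : (m * g.1) * h * (m * g.1)⁻¹ = m * (g.1 * h * g.1⁻¹) * m⁻¹ := by group
    rw [e]; exact this
  choose msel hmB hmP using hsel
  have hBB : ∀ y : {g : G // H.map (MulAut.conj g).toMonoidHom ≤ (P : Subgroup G) ⊔ A} × ↥B,
      H.map (MulAut.conj (y.2.1⁻¹ * y.1.1)).toMonoidHom ≤ (P : Subgroup G) ⊔ B := by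
    intro y
    rw [map_conj_le_iff]
    intro h hh
    have h1 := (map_conj_le_iff H _ y.1.1).mp y.1.2 h hh
    have h2 : y.1.1 * h * y.1.1⁻¹ ∈ (P : Subgroup G) ⊔ B := (sup_le_sup_left hAB _) h1
    have h3 : y.2.1⁻¹ ∈ (P : Subgroup G) ⊔ B := (le_sup_right : B ≤ _) (B.inv_mem y.2.2)
    have e : y.2.1⁻¹ * y.1.1 * h * (y.2.1⁻¹ * y.1.1)⁻¹ =
        y.2.1⁻¹ * (y.1.1 * h * y.1.1⁻¹) * (y.2.1⁻¹)⁻¹ := by group
    rw [e]
    exact Subgroup.mul_mem _ (Subgroup.mul_mem _ h3 h2) (Subgroup.inv_mem _ h3)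
  rw [← Nat.card_prod, ← Nat.card_prod]
  symm
  refine Nat.card_congr
    { toFun := fun x => (⟨msel x.1 * x.1.1 * x.2.1, ?_⟩, ⟨msel x.1 * x.1.1 * x.2.1 * x.1.1⁻¹, ?_⟩)
      invFun := fun y => (⟨y.2.1⁻¹ * y.1.1, hBB y⟩,
        ⟨(msel ⟨y.2.1⁻¹ * y.1.1, hBB y⟩ * (y.2.1⁻¹ * y.1.1))⁻¹ * y.1.1, ?_⟩)
      left_inv := ?_
      right_inv := ?_ }
  · -- σ(g) c ∈ B_A
    rw [map_conj_le_iff]
    exact (key_iff p P hAB hcop H (msel x.1 * x.1.1) (hmP x.1) x.2.1 x.2.2.1).mpr x.2.2.2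
  · -- σ(g) c g⁻¹ ∈ B
    have e : msel x.1 * x.1.1 * x.2.1 * x.1.1⁻¹ = msel x.1 * (x.1.1 * x.2.1 * x.1.1⁻¹) := by group
    rw [e]
    exact B.mul_mem (hmB x.1) (hB.conj_mem _ x.2.2.1 _)
  · -- c' ∈ CC
    obtain ⟨g, hg⟩ : ∃ g : {g : G // H.map (MulAut.conj g).toMonoidHom ≤ (P : Subgroup G) ⊔ B},
        g = ⟨y.2.1⁻¹ * y.1.1, hBB y⟩ := ⟨_, rfl⟩
    rw [← hg]
    have hg1 : g.1 = y.2.1⁻¹ * y.1.1 := by rw [hg]
    have hcB : (msel g * (y.2.1⁻¹ * y.1.1))⁻¹ * y.1.1 ∈ B := by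
      have e : (msel g * (y.2.1⁻¹ * y.1.1))⁻¹ * y.1.1 =
          y.1.1⁻¹ * (y.2.1 * (msel g)⁻¹) * y.1.1⁻¹⁻¹ := by group
      rw [e]
      exact hB.conj_mem _ (B.mul_mem y.2.2 (B.inv_mem (hmB g))) _
    refine ⟨hcB, ?_⟩
    have hk := (key_iff p P hAB hcop H (msel g * g.1) (hmP g)
      ((msel g * (y.2.1⁻¹ * y.1.1))⁻¹ * y.1.1) hcB).mp
    apply hk
    have e : msel g * g.1 * ((msel g * (y.2.1⁻¹ * y.1.1))⁻¹ * y.1.1) = y.1.1 := by
      rw [hg1]; group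
    rw [e]
    exact (map_conj_le_iff H _ y.1.1).mp y.1.2
  · rintro ⟨g, c⟩
    have hfst : (⟨(msel g * g.1 * c.1 * g.1⁻¹)⁻¹ * (msel g * g.1 * c.1), hBB
        (⟨msel g * g.1 * c.1, by
          rw [map_conj_le_iff]
          exact (key_iff p P hAB hcop H (msel g * g.1) (hmP g) c.1 c.2.1).mpr c.2.2⟩,
         ⟨msel g * g.1 * c.1 * g.1⁻¹, by
          have e : msel g * g.1 * c.1 * g.1⁻¹ = msel g * (g.1 * c.1 * g.1⁻¹) := by group
          rw [e]
          exact B.mul_mem (hmB g) (hB.conj_mem _ c.2.1 _)⟩)⟩ :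
        {g : G // H.map (MulAut.conj g).toMonoidHom ≤ (P : Subgroup G) ⊔ B}) = g := by
      apply Subtype.ext
      simp only
      group
    apply Prod.ext
    · exact hfst
    · apply Subtype.ext
      simp only
      rw [hfst]
      group
  · rintro ⟨g', m⟩
    apply Prod.ext
    · apply Subtype.ext
      simp only
      group
    · apply Subtype.ext
      simp only
      group

/-- one step along the series -/
theorem card_step (P : Sylow p G) {A B : Subgroup G} [hA : A.Normal] [hB : B.Normal]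
    (hAB : A ≤ B) (hfac : (∃ m : ℕ, A.relIndex B = p ^ m) ∨ (A.relIndex B).Coprime p)
    (H : Subgroup G) (hH : IsPGroup p H) :
    Nat.card {g : G // H.map (MulAut.conj g).toMonoidHom ≤ (P : Subgroup G) ⊔ A} * Nat.card B =
      Nat.card {g : G // H.map (MulAut.conj g).toMonoidHom ≤ (P : Subgroup G) ⊔ B} * Nat.card A *
        (if (A.relIndex B).Coprime p then
          Nat.card {u : G // u ∈ B ∧ ∀ h ∈ H, h * u * h⁻¹ * u⁻¹ ∈ A} / Nat.card A
        else A.relIndex B) := by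
  by_cases hcop : (A.relIndex B).Coprime p
  · rw [if_pos hcop, card_step_coprime p P hAB hcop H hH, mul_assoc,
      Nat.mul_div_cancel' (card_dvd_card_centMod H A B hAB)]
  · rw [if_neg hcop]
    obtain ⟨m, hm⟩ := hfac.resolve_right hcop
    rw [sup_eq_of_relIndex_pow p P hAB hm, mul_assoc, card_mul_relIndex_of_le hAB]

end Cfsg.Agent.Helper68
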