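import Mathlib
import Cfsg.Agent.Helper68.AbelianFix
import Cfsg.Agent.Helper1.CoprimeAction

/-!
# Automorphisms induced on a section `N/K` by conjugation, and their fixed points under coprime
action (helper68)
-/

set_option autoImplicit false
set_option linter.unusedSectionVars false
set_option linter.style.haveILetI false

namespace Cfsg.Agent.Helper68

open Subgroup

variable {G : Type*} [Group G]

/-- conjugation by a normalizing element, as an automorphism of `N` -/
def conjAut (N : Subgroup G) (g : G) (hg : g ∈ normalizer (N : Set G)) : MulAut ↥N where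
  toFun n := ⟨g * n * g⁻¹, (mem_normalizer_iff.mp hg n).mp n.2⟩
  invFun n := ⟨g⁻¹ * n * g, by
    have := (mem_normalizer_iff.mp (inv_mem hg) n).mp n.2
    simpa using this⟩
  left_inv n := by ext; simp [mul_assoc]
  right_inv n := by ext; simp [mul_assoc]
  map_mul' m n := by ext; simp [mul_assoc]

@[simp] theorem conjAut_apply_coe (N : Subgroup G) (g : G) (hg : g ∈ normalizer (N : Set G))
    (n : ↥N) : ((conjAut N g hg n : ↥N) : G) = g * n * g⁻¹ := rfl

theorem map_conjAut_subgroupOf (K N : Subgroup G) (g : G) (hgN : g ∈ normalizer (N : Set G))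
    (hgK : g ∈ normalizer (K : Set G)) :
    (K.subgroupOf N).map ((conjAut N g hgN : ↥N ≃* ↥N) : ↥N →* ↥N) = K.subgroupOf N := by
  ext x
  constructor
  · rintro ⟨y, hy, rfl⟩
    rw [SetLike.mem_coe, mem_subgroupOf] at hy
    rw [mem_subgroupOf]
    exact (mem_normalizer_iff.mp hgK y).mp hy
  · intro hx
    rw [mem_subgroupOf] at hx
    refine ⟨(conjAut N g hgN).symm x, ?_, by simp⟩
    rw [SetLike.mem_coe, mem_subgroupOf]
    have := (mem_normalizer_iff.mp (inv_mem hgK) x).mp hx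
    simpa [conjAut] using this

/-- the automorphism of `N/K` induced by conjugation by `g` -/
noncomputable def quotAut (K N : Subgroup G) [hKN : (K.subgroupOf N).Normal] (g : G)
    (hgN : g ∈ normalizer (N : Set G)) (hgK : g ∈ normalizer (K : Set G)) :
    MulAut (↥N ⧸ K.subgroupOf N) :=
  QuotientGroup.congr (K.subgroupOf N) (K.subgroupOf N) (conjAut N g hgN)
    (map_conjAut_subgroupOf K N g hgN hgK)

theorem quotAut_mk (K N : Subgroup G) [hKN : (K.subgroupOf N).Normal] (g : G)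
    (hgN : g ∈ normalizer (N : Set G)) (hgK : g ∈ normalizer (K : Set G)) (n : ↥N) :
    quotAut K N g hgN hgK (QuotientGroup.mk n) = QuotientGroup.mk (conjAut N g hgN n) :=
  QuotientGroup.congr_mk _ _ _ _ n

/-- `mk n` is fixed by the automorphism induced by `g` iff `[g, n] ∈ K` -/
theorem quotAut_mk_eq_iff (K N : Subgroup G) [hKN : (K.subgroupOf N).Normal] (g : G)
    (hgN : g ∈ normalizer (N : Set G)) (hgK : g ∈ normalizer (K : Set G)) (n : ↥N) :
    quotAut K N g hgN hgK (QuotientGroup.mk n) = QuotientGroup.mk n ↔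
      g * n * g⁻¹ * (n : G)⁻¹ ∈ K := by
  rw [quotAut_mk, QuotientGroup.eq, mem_subgroupOf]
  simp only [Subgroup.coe_mul, Subgroup.coe_inv, conjAut_apply_coe]
  constructor
  · intro h
    have h1 : (⟨(g * n * g⁻¹)⁻¹ * n, by
        exact N.mul_mem (N.inv_mem ((mem_normalizer_iff.mp hgN n).mp n.2)) n.2⟩ : ↥N) ∈
        K.subgroupOf N := mem_subgroupOf.mpr h
    have h2 := hKN.conj_mem _ (inv_mem h1) n
    rw [mem_subgroupOf] at h2
    have e : ((n * (⟨(g * n * g⁻¹)⁻¹ * n, by
        exact N.mul_mem (N.inv_mem ((mem_normalizer_iff.mp hgN n).mp n.2)) n.2⟩ : ↥N)⁻¹ * n⁻¹ : ↥N) : G)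
        = g * n * g⁻¹ * (n : G)⁻¹ := by
      simp only [Subgroup.coe_mul, Subgroup.coe_inv]
      group
    rw [e] at h2
    exact h2
  · intro h
    have h1 : (⟨g * n * g⁻¹ * (n : G)⁻¹, by
        exact N.mul_mem ((mem_normalizer_iff.mp hgN n).mp n.2) (N.inv_mem n.2)⟩ : ↥N) ∈
        K.subgroupOf N := mem_subgroupOf.mpr h
    have h2 := hKN.conj_mem _ (inv_mem h1) n⁻¹
    rw [mem_subgroupOf] at h2
    have e : ((n⁻¹ * (⟨g * n * g⁻¹ * (n : G)⁻¹, by
        exact N.mul_mem ((mem_normalizer_iff.mp hgN n).mp n.2) (N.inv_mem n.2)⟩ : ↥N)⁻¹ * n⁻¹⁻¹ : ↥N) : G)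
        = (g * n * g⁻¹)⁻¹ * n := by
      simp only [Subgroup.coe_mul, Subgroup.coe_inv]
      group
    rw [e] at h2
    exact h2

/-- stabilizer of the coset `K n` under conjugation -/
def cosetStab (K : Subgroup G) (n : G) : Subgroup G where
  carrier := {x | x ∈ normalizer (K : Set G) ∧ x * n * x⁻¹ * n⁻¹ ∈ K}
  one_mem' := ⟨one_mem _, by simp⟩
  mul_mem' := by
    rintro x y ⟨hx, hx'⟩ ⟨hy, hy'⟩
    refine ⟨mul_mem hx hy, ?_⟩
    have e : x * y * n * (x * y)⁻¹ * n⁻¹ =
        (x * (y * n * y⁻¹ * n⁻¹) * x⁻¹) * (x * n * x⁻¹ * n⁻¹) := by group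
    rw [e]
    exact K.mul_mem ((mem_normalizer_iff.mp hx _).mp hy') hx'
  inv_mem' := by
    rintro x ⟨hx, hx'⟩
    refine ⟨inv_mem hx, ?_⟩
    have e : x⁻¹ * n * x⁻¹⁻¹ * n⁻¹ = x⁻¹ * (x * n * x⁻¹ * n⁻¹)⁻¹ * x⁻¹⁻¹ := by group
    rw [e]
    exact (mem_normalizer_iff.mp (inv_mem hx) _).mp (K.inv_mem hx')

theorem mem_cosetStab {K : Subgroup G} {n x : G} :
    x ∈ cosetStab K n ↔ x ∈ normalizer (K : Set G) ∧ x * n * x⁻¹ * n⁻¹ ∈ K := Iff.rfl

theorem card_subgroupOf_eq_of_le {A L : Subgroup G} (h : A ≤ L) :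
    Nat.card (A.subgroupOf L) = Nat.card A :=
  Nat.card_congr (Subgroup.subgroupOfEquivOfLe h).toEquiv

variable [Finite G] (p : ℕ) [hp : Fact p.Prime]

theorem isSolvable_of_isPGroup {A : Subgroup G} (hA : IsPGroup p A) : Group.IsSolvable A := by
  haveI : Group.IsNilpotent A := hA.isNilpotent
  infer_instance

theorem coprime_card_of_isPGroup {A K : Subgroup G} (hA : IsPGroup p A)
    (hK : (Nat.card K).Coprime p) : (Nat.card A).Coprime (Nat.card K) := by
  obtain ⟨k, hk⟩ := IsPGroup.iff_card.mp hA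
  rw [hk]
  exact (Nat.Coprime.pow_right k hK).symm

/-- fixed points on `N/K` of a `p`-group generated by `X`, `K` a `p'`-group: they are the images
of the fixed points in `N` -/
theorem card_fixed_mul_card (K N : Subgroup G) (hKN : K ≤ N) [hn : (K.subgroupOf N).Normal]
    (X : Set G) (hXN : ∀ x ∈ X, x ∈ normalizer (N : Set G))
    (hXK : ∀ x ∈ X, x ∈ normalizer (K : Set G))
    (hX : IsPGroup p (closure X)) (hK : (Nat.card K).Coprime p) :
    Nat.card {v : ↥N ⧸ K.subgroupOf N //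
        ∀ x (hx : x ∈ X), quotAut K N x (hXN x hx) (hXK x hx) v = v} *
      Nat.card (K ⊓ centralizer X : Subgroup G) = Nat.card (N ⊓ centralizer X : Subgroup G) := by
  set C : Subgroup G := N ⊓ centralizer X with hC
  set f : ↥C →* ↥N ⧸ K.subgroupOf N :=
    (QuotientGroup.mk' (K.subgroupOf N)).comp (Subgroup.inclusion inf_le_left) with hf
  have h1 : Nat.card ↥C = Nat.card f.ker * Nat.card f.range := by
    rw [← Subgroup.index_ker, Subgroup.card_mul_index]
  have hle : K ⊓ centralizer X ≤ C := inf_le_inf_right _ hKN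
  have h2 : Nat.card f.ker = Nat.card (K ⊓ centralizer X : Subgroup G) := by
    have : f.ker = (K ⊓ centralizer X).subgroupOf C := by
      ext x
      rw [MonoidHom.mem_ker, mem_subgroupOf, hf, MonoidHom.comp_apply, QuotientGroup.mk'_apply,
        QuotientGroup.eq_one_iff, mem_subgroupOf, Subgroup.coe_inclusion, Subgroup.mem_inf]
      exact ⟨fun h => ⟨h, x.2.2⟩, fun h => h.1⟩
    rw [this, card_subgroupOf_eq_of_le hle]
  have h3 : Nat.card f.range = Nat.card {v : ↥N ⧸ K.subgroupOf N //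
        ∀ x (hx : x ∈ X), quotAut K N x (hXN x hx) (hXK x hx) v = v} := by
    refine Nat.card_congr (Equiv.subtypeEquivRight (fun v => ?_))
    constructor
    · rintro ⟨c, rfl⟩ x hx
      rw [hf, MonoidHom.comp_apply, QuotientGroup.mk'_apply, quotAut_mk_eq_iff,
        Subgroup.coe_inclusion]
      have hcx : c.1 ∈ centralizer X := c.2.2
      have := hcx x hx
      -- x * c = c * x
      have e : x * c.1 * x⁻¹ * (c.1)⁻¹ = 1 := by
        rw [this]; group
      rw [e]
      exact K.one_mem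
    · intro hv
      obtain ⟨n, rfl⟩ := QuotientGroup.mk_surjective v
      have hstab : closure X ≤ cosetStab K (n : G) := by
        rw [closure_le]
        intro x hx
        exact ⟨hXK x hx, (quotAut_mk_eq_iff K N x (hXN x hx) (hXK x hx) n).mp (hv x hx)⟩
      obtain ⟨d, hd, hdn⟩ := Helper1.exists_mem_coset_centralizer (closure X) K
        (fun x hx => (hstab hx).1) (coprime_card_of_isPGroup p hX hK)
        (Or.inl (isSolvable_of_isPGroup p hX)) (n : G)
        (fun a ha => ⟨a * n * a⁻¹ * (n : G)⁻¹, (hstab ha).2, by group⟩)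
      rw [Subgroup.centralizer_closure] at hdn
      have hdnN : d * (n : G) ∈ N := N.mul_mem (hKN hd) n.2
      refine ⟨⟨d * n, Subgroup.mem_inf.mpr ⟨hdnN, hdn⟩⟩, ?_⟩
      rw [hf, MonoidHom.comp_apply, QuotientGroup.mk'_apply]
      have e : (Subgroup.inclusion (inf_le_left : C ≤ N) ⟨d * n, Subgroup.mem_inf.mpr ⟨hdnN, hdn⟩⟩ : ↥N)
          = (⟨d, hKN hd⟩ : ↥N) * n := by
        apply Subtype.ext
        simp
      rw [e, QuotientGroup.mk_mul]
      have : ((⟨d, hKN hd⟩ : ↥N) : ↥N ⧸ K.subgroupOf N) = 1 := by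
        rw [QuotientGroup.eq_one_iff, mem_subgroupOf]
        exact hd
      rw [this, one_mul]
  rw [← h3, ← h2, mul_comm, ← h1]

end Cfsg.Agent.Helper68
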