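import Mathlib
import Cfsg.Agent.Helper68.QuotAut

/-!
# A Brauer–Wielandt type inequality for a pair of `p`-elements acting on a `p'`-group (helper68)

`∏_{j<p} |C_N(a b^j)| · |C_N(b)| ≤ |C_N(a) ∩ C_N(b)|^p · |N|` when `⟨a, b⟩` is a `p`-group
normalizing the `p'`-group `N` and `[a, b]`, `b^p` centralize `N`.
-/

set_option autoImplicit false
set_option linter.unusedSectionVars false
set_option linter.style.haveILetI false

namespace Cfsg.Agent.Helper68

open Subgroup

section wrapper

/-- `card_fix_prod_le` for a group known to be commutative, with subtypes -/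
theorem card_fix_prod_le' {V : Type*} [hV0 : Group V] [Finite V] {p : ℕ} [hp : Fact p.Prime]
    (hcomm : ∀ x y : V, x * y = y * x) (hV : (Nat.card V).Coprime p) {α β : MulAut V}
    (hc : Commute α β) (hβ : β ^ p = 1) :
    (∏ j ∈ Finset.range p, Nat.card {v : V // (α * β ^ j) v = v}) * Nat.card {v : V // β v = v} ≤
      Nat.card {v : V // α v = v ∧ β v = v} ^ p * Nat.card V := by
  letI : CommGroup V := { hV0 with mul_comm := hcomm }
  have h := card_fix_prod_le (V := V) hV (α := α) (β := β) hc hβ
  have e1 : ∀ γ : MulAut V, Nat.card (fixS γ) = Nat.card {v : V // γ v = v} := fun γ => rfl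
  have e2 : Nat.card (fixS α ⊓ fixS β : Subgroup V) = Nat.card {v : V // α v = v ∧ β v = v} := by
    refine Nat.card_congr (Equiv.subtypeEquivRight (fun v => ?_))
    rw [Subgroup.mem_inf]
    rfl
  simp only [e1, e2] at h
  exact h

end wrapper

variable {G : Type*} [Group G]

theorem quotAut_mul (K N : Subgroup G) [hKN : (K.subgroupOf N).Normal] (g h : G)
    (hgN : g ∈ normalizer (N : Set G)) (hgK : g ∈ normalizer (K : Set G))
    (hhN : h ∈ normalizer (N : Set G)) (hhK : h ∈ normalizer (K : Set G)) :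
    quotAut K N (g * h) (mul_mem hgN hhN) (mul_mem hgK hhK) =
      quotAut K N g hgN hgK * quotAut K N h hhN hhK := by
  ext v
  obtain ⟨n, rfl⟩ := QuotientGroup.mk_surjective v
  rw [MulAut.mul_apply, quotAut_mk, quotAut_mk, quotAut_mk]
  congr 1
  apply Subtype.ext
  simp only [conjAut_apply_coe]
  group

theorem quotAut_eq_one (K N : Subgroup G) [hKN : (K.subgroupOf N).Normal] (g : G)
    (hgN : g ∈ normalizer (N : Set G)) (hgK : g ∈ normalizer (K : Set G))
    (hg : g ∈ centralizer (N : Set G)) : quotAut K N g hgN hgK = 1 := by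
  ext v
  obtain ⟨n, rfl⟩ := QuotientGroup.mk_surjective v
  rw [MulAut.one_apply, quotAut_mk]
  congr 1
  apply Subtype.ext
  simp only [conjAut_apply_coe]
  have := hg n n.2
  rw [← this]
  group

theorem quotAut_congr (K N : Subgroup G) [hKN : (K.subgroupOf N).Normal] {g g' : G} (h : g = g')
    (hgN : g ∈ normalizer (N : Set G)) (hgK : g ∈ normalizer (K : Set G))
    (hgN' : g' ∈ normalizer (N : Set G)) (hgK' : g' ∈ normalizer (K : Set G)) :
    quotAut K N g hgN hgK = quotAut K N g' hgN' hgK' := by
  subst h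
  rfl

theorem quotAut_pow (K N : Subgroup G) [hKN : (K.subgroupOf N).Normal] (g : G)
    (hgN : g ∈ normalizer (N : Set G)) (hgK : g ∈ normalizer (K : Set G)) (k : ℕ) :
    quotAut K N (g ^ k) (pow_mem hgN k) (pow_mem hgK k) = (quotAut K N g hgN hgK) ^ k := by
  induction k with
  | zero =>
    have h1 : (quotAut K N g hgN hgK) ^ 0 = 1 := pow_zero _
    rw [h1]
    apply quotAut_eq_one
    rw [pow_zero]
    exact one_mem _
  | succ k ih =>
    calc quotAut K N (g ^ (k + 1)) (pow_mem hgN (k + 1)) (pow_mem hgK (k + 1))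
        = quotAut K N (g ^ k * g) (mul_mem (pow_mem hgN k) hgN) (mul_mem (pow_mem hgK k) hgK) :=
          quotAut_congr K N (pow_succ g k) _ _ _ _
      _ = quotAut K N (g ^ k) (pow_mem hgN k) (pow_mem hgK k) * quotAut K N g hgN hgK :=
          quotAut_mul K N (g ^ k) g _ _ _ _
      _ = (quotAut K N g hgN hgK) ^ k * quotAut K N g hgN hgK := by rw [ih]
      _ = (quotAut K N g hgN hgK) ^ (k + 1) := (pow_succ _ _).symm

variable [Finite G] (p : ℕ) [hp : Fact p.Prime]

theorem card_fixed_singleton (K N : Subgroup G) (hKN : K ≤ N) [hn : (K.subgroupOf N).Normal]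
    (g : G) (hgN : g ∈ normalizer (N : Set G)) (hgK : g ∈ normalizer (K : Set G))
    (hg : IsPGroup p (closure {g})) (hK : (Nat.card K).Coprime p) :
    Nat.card {v : ↥N ⧸ K.subgroupOf N // quotAut K N g hgN hgK v = v} *
      Nat.card (K ⊓ centralizer {g} : Subgroup G) =
      Nat.card (N ⊓ centralizer {g} : Subgroup G) := by
  rw [← card_fixed_mul_card p K N hKN {g}
    (fun x hx => by rw [Set.mem_singleton_iff] at hx; rw [hx]; exact hgN)
    (fun x hx => by rw [Set.mem_singleton_iff] at hx; rw [hx]; exact hgK) hg hK]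
  congr 1
  refine Nat.card_congr (Equiv.subtypeEquivRight (fun v => ?_))
  constructor
  · intro h x hx
    rw [Set.mem_singleton_iff] at hx
    subst hx
    exact h
  · intro h
    exact h g rfl

theorem card_fixed_pair (K N : Subgroup G) (hKN : K ≤ N) [hn : (K.subgroupOf N).Normal]
    (a b : G) (haN : a ∈ normalizer (N : Set G)) (haK : a ∈ normalizer (K : Set G))
    (hbN : b ∈ normalizer (N : Set G)) (hbK : b ∈ normalizer (K : Set G))
    (hg : IsPGroup p (closure {a, b})) (hK : (Nat.card K).Coprime p) :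
    Nat.card {v : ↥N ⧸ K.subgroupOf N //
        quotAut K N a haN haK v = v ∧ quotAut K N b hbN hbK v = v} *
      Nat.card (K ⊓ centralizer {a, b} : Subgroup G) =
      Nat.card (N ⊓ centralizer {a, b} : Subgroup G) := by
  rw [← card_fixed_mul_card p K N hKN {a, b}
    (fun x hx => by
      rw [Set.mem_insert_iff, Set.mem_singleton_iff] at hx
      rcases hx with rfl | rfl
      · exact haN
      · exact hbN)
    (fun x hx => by
      rw [Set.mem_insert_iff, Set.mem_singleton_iff] at hx
      rcases hx with rfl | rfl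
      · exact haK
      · exact hbK) hg hK]
  congr 1
  refine Nat.card_congr (Equiv.subtypeEquivRight (fun v => ?_))
  constructor
  · intro h x hx
    rw [Set.mem_insert_iff, Set.mem_singleton_iff] at hx
    rcases hx with rfl | rfl
    · exact h.1
    · exact h.2
  · intro h
    exact ⟨h a (by simp), h b (by simp)⟩

/-- the inequality passes from `K` to `N` when `N/K` is abelian -/
theorem wprime_step (K N : Subgroup G) (hKN : K ≤ N) [hn : (K.subgroupOf N).Normal]
    (hab : ∀ x ∈ N, ∀ y ∈ N, x * y * x⁻¹ * y⁻¹ ∈ K)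
    (a b : G) (haN : a ∈ normalizer (N : Set G)) (hbN : b ∈ normalizer (N : Set G))
    (haK : a ∈ normalizer (K : Set G)) (hbK : b ∈ normalizer (K : Set G))
    (hA : IsPGroup p (closure {a, b})) (hN : (Nat.card N).Coprime p)
    (hc : a * b * a⁻¹ * b⁻¹ ∈ centralizer (N : Set G)) (hbp : b ^ p ∈ centralizer (N : Set G))
    (hKW : (∏ j ∈ Finset.range p, Nat.card (K ⊓ centralizer {a * b ^ j} : Subgroup G)) *
        Nat.card (K ⊓ centralizer {b} : Subgroup G) ≤
      Nat.card (K ⊓ centralizer {a, b} : Subgroup G) ^ p * Nat.card K) :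
    (∏ j ∈ Finset.range p, Nat.card (N ⊓ centralizer {a * b ^ j} : Subgroup G)) *
        Nat.card (N ⊓ centralizer {b} : Subgroup G) ≤
      Nat.card (N ⊓ centralizer {a, b} : Subgroup G) ^ p * Nat.card N := by
  have hKcop : (Nat.card K).Coprime p :=
    Nat.Coprime.coprime_dvd_left (Subgroup.card_dvd_of_le hKN) hN
  have hVcomm : ∀ x y : ↥N ⧸ K.subgroupOf N, x * y = y * x := by
    intro x y
    obtain ⟨x, rfl⟩ := QuotientGroup.mk_surjective x
    obtain ⟨y, rfl⟩ := QuotientGroup.mk_surjective y
    rw [← QuotientGroup.mk_mul, ← QuotientGroup.mk_mul, QuotientGroup.eq, mem_subgroupOf]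
    have := hab _ (N.inv_mem y.2) _ (N.inv_mem x.2)
    have e : (((x * y)⁻¹ * (y * x) : ↥N) : G) = (y : G)⁻¹ * (x : G)⁻¹ * ((y : G)⁻¹)⁻¹ * ((x : G)⁻¹)⁻¹ := by
      simp only [Subgroup.coe_mul, Subgroup.coe_inv]
      group
    rw [e]
    exact this
  have hVcop : (Nat.card (↥N ⧸ K.subgroupOf N)).Coprime p :=
    Nat.Coprime.coprime_dvd_left (Subgroup.card_quotient_dvd_card _) hN
  set α := quotAut K N a haN haK with hα
  set β := quotAut K N b hbN hbK with hβ
  have hcomm : Commute α β := by
    have h1 : quotAut K N (a * b) (mul_mem haN hbN) (mul_mem haK hbK) =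
        quotAut K N (b * a) (mul_mem hbN haN) (mul_mem hbK haK) := by
      ext v
      obtain ⟨n, rfl⟩ := QuotientGroup.mk_surjective v
      rw [quotAut_mk, quotAut_mk]
      congr 1
      apply Subtype.ext
      simp only [conjAut_apply_coe]
      -- a b n b⁻¹ a⁻¹ = b a n a⁻¹ b⁻¹
      have hm : b * a * n * (b * a)⁻¹ ∈ N :=
        (mem_normalizer_iff.mp (mul_mem hbN haN) n).mp n.2
      have := hc _ hm
      -- (b a n (b a)⁻¹) * c = c * (b a n (b a)⁻¹)
      have e : a * b * ↑n * (a * b)⁻¹ =
          (a * b * a⁻¹ * b⁻¹) * (b * a * ↑n * (b * a)⁻¹) * (a * b * a⁻¹ * b⁻¹)⁻¹ := by group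
      rw [e, ← this]
      group
    rw [quotAut_mul K N a b haN haK hbN hbK, quotAut_mul K N b a hbN hbK haN haK] at h1
    exact h1
  have hβp : β ^ p = 1 := by
    rw [hβ, ← quotAut_pow]
    exact quotAut_eq_one K N _ _ _ hbp
  have hmain := card_fix_prod_le' (p := p) hVcomm hVcop hcomm hβp
  -- translate the fixed point counts
  have hsub : ∀ j : ℕ, closure ({a * b ^ j} : Set G) ≤ closure {a, b} := by
    intro j
    rw [closure_le]
    intro x hx
    rw [Set.mem_singleton_iff] at hx
    rw [hx]
    exact mul_mem (subset_closure (by simp)) (pow_mem (subset_closure (by simp)) j)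
  have hsubb : closure ({b} : Set G) ≤ closure {a, b} := by
    apply Subgroup.closure_mono
    intro x hx
    rw [Set.mem_singleton_iff] at hx
    rw [hx]; simp
  have hj : ∀ j : ℕ, Nat.card {v : ↥N ⧸ K.subgroupOf N // (α * β ^ j) v = v} *
      Nat.card (K ⊓ centralizer {a * b ^ j} : Subgroup G) =
      Nat.card (N ⊓ centralizer {a * b ^ j} : Subgroup G) := by
    intro j
    have := card_fixed_singleton p K N hKN (a * b ^ j) (mul_mem haN (pow_mem hbN j))
      (mul_mem haK (pow_mem hbK j)) (hA.to_le (hsub j)) hKcop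
    rw [quotAut_mul K N a (b ^ j) haN haK (pow_mem hbN j) (pow_mem hbK j), quotAut_pow] at this
    exact this
  have hb' := card_fixed_singleton p K N hKN b hbN hbK (hA.to_le hsubb) hKcop
  have hab' := card_fixed_pair p K N hKN a b haN haK hbN hbK hA hKcop
  have hcardN : Nat.card (↥N ⧸ K.subgroupOf N) * Nat.card K = Nat.card N := by
    rw [← card_subgroupOf_eq_of_le hKN, mul_comm]
    exact (Subgroup.card_eq_card_quotient_mul_card_subgroup (K.subgroupOf N)).symm ▸ (mul_comm _ _)
  rw [← hab', ← hcardN, ← hb']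
  rw [Finset.prod_congr rfl (fun j _ => (hj j).symm), Finset.prod_mul_distrib]
  calc (∏ j ∈ Finset.range p, Nat.card {v : ↥N ⧸ K.subgroupOf N // (α * β ^ j) v = v}) *
        (∏ j ∈ Finset.range p, Nat.card (K ⊓ centralizer {a * b ^ j} : Subgroup G)) *
        (Nat.card {v : ↥N ⧸ K.subgroupOf N // β v = v} *
          Nat.card (K ⊓ centralizer {b} : Subgroup G))
      = ((∏ j ∈ Finset.range p, Nat.card {v : ↥N ⧸ K.subgroupOf N // (α * β ^ j) v = v}) *
          Nat.card {v : ↥N ⧸ K.subgroupOf N // β v = v}) *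
        ((∏ j ∈ Finset.range p, Nat.card (K ⊓ centralizer {a * b ^ j} : Subgroup G)) *
          Nat.card (K ⊓ centralizer {b} : Subgroup G)) := by ring
    _ ≤ (Nat.card {v : ↥N ⧸ K.subgroupOf N // α v = v ∧ β v = v} ^ p *
          Nat.card (↥N ⧸ K.subgroupOf N)) *
        (Nat.card (K ⊓ centralizer {a, b} : Subgroup G) ^ p * Nat.card K) :=
        Nat.mul_le_mul hmain hKW
    _ = (Nat.card {v : ↥N ⧸ K.subgroupOf N // α v = v ∧ β v = v} *
          Nat.card (K ⊓ centralizer {a, b} : Subgroup G)) ^ p *
        (Nat.card (↥N ⧸ K.subgroupOf N) * Nat.card K) := by ring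

omit [Finite G] hp in
theorem mem_normalizer_commutator {N : Subgroup G} {g : G} (hg : g ∈ normalizer (N : Set G)) :
    g ∈ normalizer ((⁅N, N⁆ : Subgroup G) : Set G) := by
  rw [mem_normalizer_iff_map_conj_eq, Subgroup.map_commutator,
    mem_normalizer_iff_map_conj_eq.mp hg]

/-- the inequality for solvable `N` -/
theorem wprime_solvable : ∀ (k : ℕ) (N : Subgroup G), Nat.card N ≤ k → Group.IsSolvable N →
    ∀ (a b : G), a ∈ normalizer (N : Set G) → b ∈ normalizer (N : Set G) →
    IsPGroup p (closure {a, b}) → (Nat.card N).Coprime p →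
    a * b * a⁻¹ * b⁻¹ ∈ centralizer (N : Set G) → b ^ p ∈ centralizer (N : Set G) →
    (∏ j ∈ Finset.range p, Nat.card (N ⊓ centralizer {a * b ^ j} : Subgroup G)) *
        Nat.card (N ⊓ centralizer {b} : Subgroup G) ≤
      Nat.card (N ⊓ centralizer {a, b} : Subgroup G) ^ p * Nat.card N := by
  intro k
  induction k with
  | zero =>
    intro N hN
    exact absurd hN (by have := Nat.card_pos (α := N); omega)
  | succ k ih =>
    intro N hNk hsolv a b haN hbN hA hcop hc hbp
    by_cases hbot : N = ⊥
    · subst hbot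
      simp
    haveI : Nontrivial ↥N := (Subgroup.nontrivial_iff_ne_bot N).mpr hbot
    set K : Subgroup G := ⁅N, N⁆ with hK
    have hKN : K ≤ N := Subgroup.commutator_le_self N
    have hKeq : K.subgroupOf N = _root_.commutator ↥N := by
      rw [hK, ← Subgroup.map_subtype_commutator, Subgroup.subgroupOf,
        Subgroup.comap_map_eq_self_of_injective (Subgroup.subtype_injective N)]
    haveI hn : (K.subgroupOf N).Normal := by rw [hKeq]; infer_instance
    have hlt : Nat.card K < Nat.card N := by
      have h1 : _root_.commutator ↥N < ⊤ := Group.IsSolvable.commutator_lt_top_of_nontrivial ↥N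
      have h2 : (K.subgroupOf N).index ≠ 1 := by
        rw [hKeq]
        intro h
        exact h1.ne (Subgroup.index_eq_one.mp h)
      have h3 : (K.subgroupOf N).index ≠ 0 := Subgroup.index_ne_zero_of_finite
      have h4 := Subgroup.card_mul_index (K.subgroupOf N)
      rw [card_subgroupOf_eq_of_le hKN] at h4
      have h5 : 2 ≤ (K.subgroupOf N).index := by omega
      have h6 : 0 < Nat.card K := Nat.card_pos
      nlinarith
    have hKsolv : Group.IsSolvable K :=
      Group.isSolvable_of_isSolvable_injective (Subgroup.inclusion_injective hKN)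
    have hKcop : (Nat.card K).Coprime p :=
      Nat.Coprime.coprime_dvd_left (Subgroup.card_dvd_of_le hKN) hcop
    have hcent : centralizer (N : Set G) ≤ centralizer (K : Set G) :=
      Subgroup.centralizer_le hKN
    have haK : a ∈ normalizer (K : Set G) := mem_normalizer_commutator haN
    have hbK : b ∈ normalizer (K : Set G) := mem_normalizer_commutator hbN
    have hKW := ih K (by omega) hKsolv a b haK hbK hA hKcop (hcent hc) (hcent hbp)
    refine wprime_step p K N hKN ?_ a b haN hbN haK hbK hA hcop hc hbp hKW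
    intro x hx y hy
    exact Subgroup.commutator_mem_commutator hx hy

end Cfsg.Agent.Helper68
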