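import Mathlib
import Cfsg.Agent.Helper68.WPrime
import Cfsg.Agent.Helper1.CoprimeSylow
import Cfsg.Agent.Helper29.CoprimeCount

/-!
# Sylow reduction for the pair inequality (helper68)

`card_sylow_inf_centralizer`, `card_eq_prod_primeFactors`, `wprime` (the inequality
`∏_{j<p} |C_N(a b^j)| · |C_N(b)| ≤ |C_N(a,b)|^p · |N|` for an arbitrary `p'`-group `N`).
-/

set_option autoImplicit false
set_option linter.unusedSectionVars false
set_option linter.style.haveILetI false

namespace Cfsg.Agent.Helper68

open Subgroup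

universe u

variable {G : Type u} [Group G] [Finite G] (p : ℕ) [hp : Fact p.Prime]

/-- an invariant Sylow `q`-subgroup `Q` of `N` meets `C_N(B)` in a Sylow `q`-subgroup of
`C_N(B)` -/
theorem card_sylow_inf_centralizer (q : ℕ) [hq : Fact q.Prime] (N B Q : Subgroup G)
    (hB : IsPGroup p B) (hBN : B ≤ normalizer (N : Set G)) (hN : (Nat.card N).Coprime p)
    (hQN : Q ≤ N) (hQcard : Nat.card Q = q ^ (Nat.card N).factorization q)
    (hBQ : B ≤ normalizer (Q : Set G)) :
    Nat.card (Q ⊓ centralizer (B : Set G) : Subgroup G) =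
      q ^ (Nat.card (N ⊓ centralizer (B : Set G) : Subgroup G)).factorization q := by
  set C : Subgroup G := N ⊓ centralizer (B : Set G) with hC
  obtain ⟨R₀⟩ : Nonempty (Sylow q ↥C) := inferInstance
  set R : Subgroup G := (R₀ : Subgroup ↥C).map C.subtype with hR
  have hRC : R ≤ C := Subgroup.map_subtype_le _
  have hRq : IsPGroup q R := R₀.2.map _
  have hRcard : Nat.card R = q ^ (Nat.card C).factorization q := by
    rw [hR, Subgroup.card_map_of_injective (Subgroup.subtype_injective C)]
    exact R₀.card_eq_multiplicity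
  have hBR : B ≤ normalizer (R : Set G) := by
    have h1 : R ≤ centralizer (B : Set G) := hRC.trans inf_le_right
    exact (Subgroup.le_centralizer_iff.mp h1).trans (Subgroup.centralizer_le_normalizer _)
  have hcop : (Nat.card B).Coprime (Nat.card N) := coprime_card_of_isPGroup p hB hN
  obtain ⟨Q', hRQ', hQ'N, hQ'q, hBQ', hQ'card⟩ :=
    Helper29.exists_invariant_sylow_ge hB hBN hcop (hRC.trans inf_le_left) hRq hBR
  -- the two Sylow subgroups of `N`
  have hS1 : Nat.card (Q.subgroupOf N) = q ^ (Nat.card ↥N).factorization q := by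
    rw [card_subgroupOf_eq_of_le hQN, hQcard]
  have hS2 : Nat.card (Q'.subgroupOf N) = q ^ (Nat.card ↥N).factorization q := by
    rw [card_subgroupOf_eq_of_le hQ'N, hQ'card]
  have e1 : ((Sylow.ofCard _ hS1 : Sylow q ↥N) : Subgroup ↥N).map N.subtype = Q := by
    rw [Sylow.coe_ofCard, Subgroup.subgroupOf_map_subtype, inf_eq_left.mpr hQN]
  have e2 : ((Sylow.ofCard _ hS2 : Sylow q ↥N) : Subgroup ↥N).map N.subtype = Q' := by
    rw [Sylow.coe_ofCard, Subgroup.subgroupOf_map_subtype, inf_eq_left.mpr hQ'N]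
  obtain ⟨c, hc, hcQ⟩ := Helper1.invariant_sylow_conj B N hBN hcop
    (Or.inl (isSolvable_of_isPGroup p hB)) q (Sylow.ofCard _ hS1) (Sylow.ofCard _ hS2)
    (by rw [e1]; exact hBQ) (by rw [e2]; exact hBQ')
  rw [e1, e2] at hcQ
  have hcB : c ∈ centralizer (B : Set G) := hc.2
  -- conjugation by `c` maps `Q ⊓ C(B)` onto `Q' ⊓ C(B)`
  have hconj : ∀ x : G, x ∈ Q ⊓ centralizer (B : Set G) ↔
      c * x * c⁻¹ ∈ Q' ⊓ centralizer (B : Set G) := by
    intro x
    rw [Subgroup.mem_inf, Subgroup.mem_inf, ← hcQ, Helper1.mem_conj_smul]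
    have e : c⁻¹ * (c * x * c⁻¹) * c = x := by group
    rw [e]
    constructor
    · rintro ⟨h1, h2⟩
      exact ⟨h1, Subgroup.mul_mem _ (Subgroup.mul_mem _ hcB h2) (Subgroup.inv_mem _ hcB)⟩
    · rintro ⟨h1, h2⟩
      refine ⟨h1, ?_⟩
      have := Subgroup.mul_mem _ (Subgroup.mul_mem _ (Subgroup.inv_mem _ hcB) h2) hcB
      rwa [e] at this
  have hcardeq : Nat.card (Q ⊓ centralizer (B : Set G) : Subgroup G) =
      Nat.card (Q' ⊓ centralizer (B : Set G) : Subgroup G) := by
    refine Nat.card_congr
      { toFun := fun x => ⟨c * x.1 * c⁻¹, (hconj x.1).mp x.2⟩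
        invFun := fun y => ⟨c⁻¹ * y.1 * c, by
          rw [hconj]
          have e : c * (c⁻¹ * y.1 * c) * c⁻¹ = y.1 := by group
          rw [e]; exact y.2⟩
        left_inv := fun x => by apply Subtype.ext; simp only; group
        right_inv := fun y => by apply Subtype.ext; simp only; group }
  rw [hcardeq]
  -- `R ≤ Q' ⊓ C(B) ≤ C`, a `q`-group
  have hle1 : R ≤ Q' ⊓ centralizer (B : Set G) := le_inf hRQ' (hRC.trans inf_le_right)
  have hle2 : Q' ⊓ centralizer (B : Set G) ≤ C := inf_le_inf_right _ hQ'N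
  have hq' : IsPGroup q (Q' ⊓ centralizer (B : Set G) : Subgroup G) := hQ'q.to_le inf_le_left
  obtain ⟨m, hm⟩ := IsPGroup.iff_card.mp hq'
  have hdvd : q ^ m ∣ Nat.card C := hm ▸ Subgroup.card_dvd_of_le hle2
  have hm_le : m ≤ (Nat.card C).factorization q :=
    (hq.out.pow_dvd_iff_le_factorization Nat.card_pos.ne').mp hdvd
  have hge : q ^ (Nat.card C).factorization q ≤ q ^ m := by
    rw [← hRcard, ← hm]
    exact Subgroup.card_le_of_le hle1
  have := Nat.pow_le_pow_right hq.out.pos hm_le
  rw [hm]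
  exact le_antisymm this hge

/-- the order of a subgroup of `N` as a product over the primes dividing `|N|` -/
theorem card_eq_prod_primeFactors {N C : Subgroup G} (hCN : C ≤ N) :
    Nat.card C = ∏ q ∈ (Nat.card N).primeFactors, q ^ (Nat.card C).factorization q := by
  have h1 : (Nat.card C).primeFactors ⊆ (Nat.card N).primeFactors :=
    Nat.primeFactors_mono (Subgroup.card_dvd_of_le hCN) Nat.card_pos.ne'
  conv_lhs => rw [← Nat.prod_factorization_pow_eq_self (Nat.card_pos (α := C)).ne']
  rw [Finsupp.prod, Nat.support_factorization]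
  apply Finset.prod_subset h1
  intro q _ hq
  have : (Nat.card C).factorization q = 0 := by
    rw [← Finsupp.notMem_support_iff, Nat.support_factorization]
    exact hq
  rw [this, pow_zero]

/-- the inequality for an arbitrary `p'`-group `N` -/
theorem wprime (N : Subgroup G) (a b : G) (haN : a ∈ normalizer (N : Set G))
    (hbN : b ∈ normalizer (N : Set G)) (hA : IsPGroup p (closure {a, b}))
    (hN : (Nat.card N).Coprime p) (hc : a * b * a⁻¹ * b⁻¹ ∈ centralizer (N : Set G))
    (hbp : b ^ p ∈ centralizer (N : Set G)) :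
    (∏ j ∈ Finset.range p, Nat.card (N ⊓ centralizer {a * b ^ j} : Subgroup G)) *
        Nat.card (N ⊓ centralizer {b} : Subgroup G) ≤
      Nat.card (N ⊓ centralizer {a, b} : Subgroup G) ^ p * Nat.card N := by
  set A : Subgroup G := closure {a, b} with hAdef
  have haA : a ∈ A := subset_closure (by simp)
  have hbA : b ∈ A := subset_closure (by simp)
  have hAN : A ≤ normalizer (N : Set G) := by
    rw [hAdef, closure_le]
    intro x hx
    rw [Set.mem_insert_iff, Set.mem_singleton_iff] at hx
    rcases hx with rfl | rfl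
    · exact haN
    · exact hbN
  have hcop : (Nat.card A).Coprime (Nat.card N) := coprime_card_of_isPGroup p hA hN
  have hex : ∀ q : ℕ, ∃ Q : Subgroup G, q.Prime → (Q ≤ N ∧ IsPGroup q Q ∧
      Nat.card Q = q ^ (Nat.card N).factorization q ∧ A ≤ normalizer (Q : Set G)) := by
    intro q
    by_cases hq : q.Prime
    · haveI : Fact q.Prime := ⟨hq⟩
      obtain ⟨P, hP⟩ := Helper1.exists_invariant_sylow A N hAN hcop
        (Or.inl (isSolvable_of_isPGroup p hA)) q
      refine ⟨(P : Subgroup ↥N).map N.subtype, fun _ => ⟨Subgroup.map_subtype_le _, P.2.map _, ?_, hP⟩⟩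
      rw [Subgroup.card_map_of_injective (Subgroup.subtype_injective N)]
      exact P.card_eq_multiplicity
    · exact ⟨⊥, fun h => absurd h hq⟩
  choose Qf hQf using hex
  set pf := (Nat.card N).primeFactors with hpf
  have hprime : ∀ q ∈ pf, q.Prime := fun q hq => Nat.prime_of_mem_primeFactors hq
  -- the key product formula
  have hkey : ∀ X : Set G, closure X ≤ A → Nat.card (N ⊓ centralizer X : Subgroup G) =
      ∏ q ∈ pf, Nat.card (Qf q ⊓ centralizer X : Subgroup G) := by
    intro X hX
    rw [card_eq_prod_primeFactors (inf_le_left : N ⊓ centralizer X ≤ N)]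
    apply Finset.prod_congr rfl
    intro q hq
    haveI : Fact q.Prime := ⟨hprime q hq⟩
    obtain ⟨h1, h2, h3, h4⟩ := hQf q (hprime q hq)
    have := card_sylow_inf_centralizer p q N (closure X) (Qf q) (hA.to_le hX) (hX.trans hAN) hN
      h1 h3 (hX.trans h4)
    rw [Subgroup.centralizer_closure] at this
    exact this.symm
  have hcardN : Nat.card N = ∏ q ∈ pf, Nat.card (Qf q) := by
    rw [card_eq_prod_primeFactors (le_refl N)]
    apply Finset.prod_congr rfl
    intro q hq
    exact (hQf q (hprime q hq)).2.2.1.symm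
  have hsub : ∀ j : ℕ, closure ({a * b ^ j} : Set G) ≤ A := by
    intro j
    rw [closure_le]
    intro x hx
    rw [Set.mem_singleton_iff] at hx
    rw [hx]
    exact mul_mem haA (pow_mem hbA j)
  have hsubb : closure ({b} : Set G) ≤ A := by
    rw [closure_le]
    intro x hx
    rw [Set.mem_singleton_iff] at hx
    rw [hx]; exact hbA
  -- the inequality for each `Qf q`
  have hq_ineq : ∀ q ∈ pf,
      (∏ j ∈ Finset.range p, Nat.card (Qf q ⊓ centralizer {a * b ^ j} : Subgroup G)) *
        Nat.card (Qf q ⊓ centralizer {b} : Subgroup G) ≤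
      Nat.card (Qf q ⊓ centralizer {a, b} : Subgroup G) ^ p * Nat.card (Qf q) := by
    intro q hq
    haveI : Fact q.Prime := ⟨hprime q hq⟩
    obtain ⟨h1, h2, h3, h4⟩ := hQf q (hprime q hq)
    have hsolv : Group.IsSolvable (Qf q) := isSolvable_of_isPGroup q h2
    have hcent : centralizer (N : Set G) ≤ centralizer (Qf q : Set G) :=
      Subgroup.centralizer_le h1
    exact wprime_solvable p (Nat.card (Qf q)) (Qf q) le_rfl hsolv a b (h4 haA) (h4 hbA) hA
      (Nat.Coprime.coprime_dvd_left (Subgroup.card_dvd_of_le h1) hN) (hcent hc) (hcent hbp)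
  rw [Finset.prod_congr rfl (fun j _ => hkey {a * b ^ j} (hsub j)), hkey {b} hsubb,
    hkey {a, b} le_rfl, hcardN, Finset.prod_comm, ← Finset.prod_mul_distrib,
    ← Finset.prod_pow, ← Finset.prod_mul_distrib]
  exact Finset.prod_le_prod' hq_ineq

end Cfsg.Agent.Helper68
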