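import Mathlib
import Cfsg.Agent.Helper68.WPrime2

/-!
# Core inequality (helper68)

A finite `p`-group `Pt` acting via `φ : Pt →* G` on a `p'`-subgroup `N`:
`∏_x |C_N(φ x)|^p ≤ |N|^{|Pt|} |C_N(φ Pt)|^{(p-1)|Pt|}` (`core_ineq`).
-/

set_option autoImplicit false
set_option linter.unusedSectionVars false
set_option linter.style.haveILetI false

namespace Cfsg.Agent.Helper68

open Subgroup

universe u

variable {G : Type u} [Group G]

theorem card_lt_card_of_lt' [Finite G] {H K : Subgroup G} (h : H < K) : Nat.card H < Nat.card K :=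
  Set.Finite.card_lt_card (Set.toFinite _) (SetLike.coe_ssubset_coe.mpr h)

theorem centralizer_pair (a b : G) :
    centralizer ({a, b} : Set G) = centralizer {a} ⊓ centralizer {b} := by
  ext x
  simp only [Subgroup.mem_inf, Subgroup.mem_centralizer_iff, Set.mem_insert_iff,
    Set.mem_singleton_iff]
  constructor
  · intro h
    exact ⟨fun g hg => h g (Or.inl hg), fun g hg => h g (Or.inr hg)⟩
  · rintro ⟨h1, h2⟩ g (hg | hg)
    · exact h1 g hg
    · exact h2 g hg

theorem mem_centralizer_singleton {a x : G} : x ∈ centralizer ({a} : Set G) ↔ a * x = x * a := by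
  simp [Subgroup.mem_centralizer_iff]

theorem le_normalizer_of_conj_mem {S H : Subgroup G}
    (h : ∀ g ∈ S, ∀ x ∈ H, g * x * g⁻¹ ∈ H) : S ≤ normalizer (H : Set G) := by
  intro g hg
  rw [mem_normalizer_iff]
  intro x
  constructor
  · exact h g hg x
  · intro hx
    have := h g⁻¹ (S.inv_mem hg) _ hx
    have e : g⁻¹ * (g * x * g⁻¹) * g⁻¹⁻¹ = x := by group
    rwa [e] at this

/-- a finite `p`-group with a proper normal subgroup `Y` has an element `z ∉ Y` with `z^p ∈ Y`
which is central modulo `Y` -/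
theorem exists_central_mod {Pt : Type*} [Group Pt] [Finite Pt] (p : ℕ) [hp : Fact p.Prime]
    (hPt : IsPGroup p Pt) (Y : Subgroup Pt) [hY : Y.Normal] (hne : Y ≠ ⊤) :
    ∃ z : Pt, z ∉ Y ∧ z ^ p ∈ Y ∧ ∀ x : Pt, x * z * x⁻¹ * z⁻¹ ∈ Y := by
  have hQ : IsPGroup p (Pt ⧸ Y) := hPt.to_quotient Y
  haveI : Nontrivial (Pt ⧸ Y) := by
    obtain ⟨x, hx⟩ : ∃ x : Pt, x ∉ Y := by
      by_contra hcon
      simp only [not_exists, not_not] at hcon
      exact hne (eq_top_iff.mpr (fun x _ => hcon x))
    refine ⟨⟨(x : Pt ⧸ Y), 1, ?_⟩⟩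
    intro h
    exact hx ((QuotientGroup.eq_one_iff x).mp h)
  haveI : Nontrivial (Subgroup.center (Pt ⧸ Y)) := hQ.center_nontrivial
  have hZ : IsPGroup p (Subgroup.center (Pt ⧸ Y)) := hQ.to_subgroup _
  obtain ⟨m, hm⟩ := IsPGroup.iff_card.mp hZ
  have hdvd : p ∣ Nat.card (Subgroup.center (Pt ⧸ Y)) := by
    rw [hm]
    have h1 : 1 < Nat.card (Subgroup.center (Pt ⧸ Y)) := Finite.one_lt_card
    rw [hm] at h1
    have hm0 : m ≠ 0 := by
      rintro rfl
      simp at h1
    exact dvd_pow_self p hm0
  obtain ⟨c, hc⟩ := exists_prime_orderOf_dvd_card' p hdvd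
  obtain ⟨z, hz⟩ := QuotientGroup.mk_surjective (c : Pt ⧸ Y)
  have hcord : orderOf (c : Pt ⧸ Y) = p := by rw [Subgroup.orderOf_coe]; exact hc
  refine ⟨z, ?_, ?_, ?_⟩
  · intro hzY
    have : (c : Pt ⧸ Y) = 1 := by rw [← hz]; exact (QuotientGroup.eq_one_iff z).mpr hzY
    rw [this, orderOf_one] at hcord
    exact hp.out.one_lt.ne hcord
  · rw [← QuotientGroup.eq_one_iff, QuotientGroup.mk_pow, hz, ← hcord]
    exact pow_orderOf_eq_one _
  · intro x
    rw [← QuotientGroup.eq_one_iff]
    simp only [QuotientGroup.mk_mul, QuotientGroup.mk_inv, hz]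
    have := Subgroup.mem_center_iff.mp c.2 (x : Pt ⧸ Y)
    -- this : ↑x * ↑c = ↑c * ↑x
    rw [this]
    group

variable [Finite G]

/-- **Core inequality.**  A finite `p`-group `Pt` acting (via `φ`) on a `p'`-subgroup `N`:
`∏_x |C_N(x)|^p ≤ |N|^{|Pt|} |C_N(Pt)|^{(p-1)|Pt|}`. -/
theorem core_ineq {Pt : Type*} [Group Pt] [Fintype Pt] (p : ℕ) [hp : Fact p.Prime]
    (hPt : IsPGroup p Pt) (φ : Pt →* G) :
    ∀ (k : ℕ) (N : Subgroup G), Nat.card N ≤ k → (Nat.card N).Coprime p →
      (∀ x, φ x ∈ normalizer (N : Set G)) →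
      ∏ x : Pt, Nat.card (N ⊓ centralizer {φ x} : Subgroup G) ^ p ≤
        Nat.card N ^ (Fintype.card Pt) *
          Nat.card (N ⊓ centralizer (Set.range φ) : Subgroup G) ^ ((p - 1) * Fintype.card Pt) := by
  intro k
  induction k with
  | zero =>
    intro N hN
    exact absurd hN (by have := Nat.card_pos (α := N); omega)
  | succ k ih =>
    intro N hNk hN hφN
    have hp1 : 1 ≤ p := hp.out.one_lt.le
    set Y : Subgroup Pt := (centralizer (N : Set G)).comap φ with hYdef
    have hYmem : ∀ y : Pt, y ∈ Y ↔ φ y ∈ centralizer (N : Set G) := fun y => Iff.rfl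
    haveI hYn : Y.Normal := by
      constructor
      intro y hy x
      rw [hYmem] at hy ⊢
      rw [Subgroup.mem_centralizer_iff] at hy ⊢
      intro n hn
      have h1 : φ x⁻¹ * n * (φ x⁻¹)⁻¹ ∈ N := (mem_normalizer_iff.mp (hφN x⁻¹) n).mp hn
      have h2 := hy _ h1
      simp only [map_mul, map_inv] at h1 h2 ⊢
      -- n * (φx φy φx⁻¹) = (φx φy φx⁻¹) * n
      have e1 : n * (φ x * φ y * (φ x)⁻¹) =
          φ x * (((φ x)⁻¹ * n * (φ x)⁻¹⁻¹) * φ y) * (φ x)⁻¹ := by group
      have e2 : φ x * φ y * (φ x)⁻¹ * n =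
          φ x * (φ y * ((φ x)⁻¹ * n * (φ x)⁻¹⁻¹)) * (φ x)⁻¹ := by group
      rw [e1, e2, h2]
    by_cases hYtop : Y = ⊤
    · -- trivial action
      have hall : ∀ x : Pt, φ x ∈ centralizer (N : Set G) := fun x => by
        rw [← hYmem, hYtop]; exact Subgroup.mem_top x
      have h1 : ∀ x : Pt, N ⊓ centralizer {φ x} = N := by
        intro x
        rw [inf_eq_left]
        intro n hn
        rw [mem_centralizer_singleton]
        exact ((Subgroup.mem_centralizer_iff.mp (hall x)) n hn).symm
      have h2 : N ⊓ centralizer (Set.range φ) = N := by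
        rw [inf_eq_left]
        intro n hn
        rw [Subgroup.mem_centralizer_iff]
        rintro _ ⟨x, rfl⟩
        exact ((Subgroup.mem_centralizer_iff.mp (hall x)) n hn).symm
      simp only [h1, h2, Finset.prod_const, Finset.card_univ]
      rw [← pow_mul, ← pow_add]
      apply le_of_eq
      congr 1
      have : p = (p - 1) + 1 := by omega
      conv_lhs => rw [this]
      ring
    · obtain ⟨z, hzY, hzp, hzc⟩ := exists_central_mod p hPt Y hYtop
      set N₁ : Subgroup G := N ⊓ centralizer {φ z} with hN₁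
      have hN₁le : N₁ ≤ N := inf_le_left
      have hN₁lt : N₁ < N := by
        refine lt_of_le_of_ne hN₁le ?_
        intro heq
        apply hzY
        rw [hYmem, Subgroup.mem_centralizer_iff]
        intro n hn
        have : n ∈ N₁ := heq ▸ hn
        exact (mem_centralizer_singleton.mp this.2).symm
      have hcardlt : Nat.card N₁ < Nat.card N := card_lt_card_of_lt' hN₁lt
      have hN₁cop : (Nat.card N₁).Coprime p :=
        Nat.Coprime.coprime_dvd_left (Subgroup.card_dvd_of_le hN₁le) hN
      -- `φ x` normalizes `N₁`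
      have hφN₁ : ∀ x, φ x ∈ normalizer (N₁ : Set G) := by
        have : φ.range ≤ normalizer (N₁ : Set G) := by
          apply le_normalizer_of_conj_mem
          rintro _ ⟨x, rfl⟩ n hn
          have hnN : φ x * n * (φ x)⁻¹ ∈ N := (mem_normalizer_iff.mp (hφN x) n).mp hn.1
          refine Subgroup.mem_inf.mpr ⟨hnN, ?_⟩
          rw [mem_centralizer_singleton]
          have hnz : φ z * n = n * φ z := mem_centralizer_singleton.mp hn.2
          -- y' = x⁻¹ z x z⁻¹ ∈ Y
          have hy' := hzc x⁻¹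
          rw [hYmem, Subgroup.mem_centralizer_iff] at hy'
          have hy'n := hy' n hn.1
          simp only [map_mul, map_inv, inv_inv] at hy'n
          -- hy'n : n * (φx⁻¹ φz φx φz⁻¹) = (φx⁻¹ φz φx φz⁻¹) * n
          have e1 : φ z * (φ x * n * (φ x)⁻¹) =
              φ x * (((φ x)⁻¹ * φ z * φ x * (φ z)⁻¹) * (φ z * n)) * (φ x)⁻¹ := by group
          have e2 : φ x * n * (φ x)⁻¹ * φ z =
              φ x * ((n * ((φ x)⁻¹ * φ z * φ x * (φ z)⁻¹)) * φ z) * (φ x)⁻¹ := by group
          rw [e1, e2, hnz, hy'n]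
          group
        intro x
        exact this ⟨x, rfl⟩
      have hIH := ih N₁ (by omega) hN₁cop hφN₁
      have hCeq : N₁ ⊓ centralizer (Set.range φ) = N ⊓ centralizer (Set.range φ) := by
        rw [hN₁, inf_assoc]
        congr 1
        rw [inf_eq_right]
        apply Subgroup.centralizer_le
        rintro _ hx
        rw [Set.mem_singleton_iff] at hx
        exact ⟨z, hx.symm⟩
      rw [hCeq] at hIH
      have hN₁x : ∀ x : Pt, N₁ ⊓ centralizer {φ x} = N ⊓ centralizer {φ x, φ z} := by
        intro x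
        rw [hN₁, centralizer_pair, inf_assoc, inf_comm (centralizer {φ z})]
      -- the pair inequality
      have hrange : IsPGroup p φ.range :=
        IsPGroup.of_surjective hPt φ.rangeRestrict φ.rangeRestrict_surjective
      have hW : ∀ x : Pt,
          (∏ j ∈ Finset.range p, Nat.card (N ⊓ centralizer {φ (x * z ^ j)} : Subgroup G)) *
            Nat.card N₁ ≤ Nat.card (N₁ ⊓ centralizer {φ x} : Subgroup G) ^ p * Nat.card N := by
        intro x
        have hA : IsPGroup p (closure ({φ x, φ z} : Set G)) := by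
          apply hrange.to_le
          rw [closure_le]
          intro g hg
          rw [Set.mem_insert_iff, Set.mem_singleton_iff] at hg
          rcases hg with rfl | rfl
          · exact ⟨x, rfl⟩
          · exact ⟨z, rfl⟩
        have hc : φ x * φ z * (φ x)⁻¹ * (φ z)⁻¹ ∈ centralizer (N : Set G) := by
          have := (hYmem _).mp (hzc x)
          simpa only [map_mul, map_inv] using this
        have hbp : φ z ^ p ∈ centralizer (N : Set G) := by
          have := (hYmem _).mp hzp
          simpa only [map_pow] using this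
        have := wprime p N (φ x) (φ z) (hφN x) (hφN z) hA hN hc hbp
        rw [hN₁x x]
        simpa only [map_mul, map_pow] using this
      -- reindexing
      set f : Pt → ℕ := fun x => Nat.card (N ⊓ centralizer {φ x} : Subgroup G) with hf
      have hre : ∀ j : ℕ, ∏ x : Pt, f (x * z ^ j) = ∏ x : Pt, f x := fun j =>
        Equiv.prod_comp (Equiv.mulRight (z ^ j)) f
      have hFp : (∏ x : Pt, f x) ^ p = ∏ x : Pt, ∏ j ∈ Finset.range p, f (x * z ^ j) := by
        rw [Finset.prod_comm, Finset.prod_congr rfl (fun j _ => hre j), Finset.prod_const,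
          Finset.card_range]
      have hpos : 0 < Nat.card N₁ ^ Fintype.card Pt := pow_pos Nat.card_pos _
      rw [Finset.prod_pow]
      apply Nat.le_of_mul_le_mul_right _ hpos
      calc (∏ x : Pt, f x) ^ p * Nat.card N₁ ^ Fintype.card Pt
          = ∏ x : Pt, ((∏ j ∈ Finset.range p, f (x * z ^ j)) * Nat.card N₁) := by
            rw [hFp, Finset.prod_mul_distrib, Finset.prod_const, Finset.card_univ]
        _ ≤ ∏ x : Pt, (Nat.card (N₁ ⊓ centralizer {φ x} : Subgroup G) ^ p * Nat.card N) :=
            Finset.prod_le_prod' (fun x _ => hW x)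
        _ = (∏ x : Pt, Nat.card (N₁ ⊓ centralizer {φ x} : Subgroup G) ^ p) *
              Nat.card N ^ Fintype.card Pt := by
            rw [Finset.prod_mul_distrib, Finset.prod_const, Finset.card_univ]
        _ ≤ (Nat.card N₁ ^ (Fintype.card Pt) *
              Nat.card (N ⊓ centralizer (Set.range φ) : Subgroup G) ^ ((p - 1) * Fintype.card Pt)) *
              Nat.card N ^ Fintype.card Pt := Nat.mul_le_mul_right _ hIH
        _ = Nat.card N ^ (Fintype.card Pt) *
              Nat.card (N ⊓ centralizer (Set.range φ) : Subgroup G) ^ ((p - 1) * Fintype.card Pt) *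
              Nat.card N₁ ^ Fintype.card Pt := by ring

end Cfsg.Agent.Helper68
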