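import Mathlib

namespace Cfsg.Agent.Helper68

open scoped BigOperators

/-- Dual normal basis for a finite Galois extension. -/
theorem exists_dual_normal (K L : Type*) [Field K] [Field L] [Algebra K L]
    [FiniteDimensional K L] [IsGalois K L] [DecidableEq (L ≃ₐ[K] L)] :
    ∃ θ c : L, ∀ γ δ : L ≃ₐ[K] L,
      ∑ α : L ≃ₐ[K] L, α (γ θ) * α (δ c) = if γ = δ then 1 else 0 := by
  let b := IsGalois.normalBasis K L
  have hb : ∀ σ, b σ = σ (b 1) := fun σ => IsGalois.normalBasis_apply σ
  let B := Algebra.traceForm K L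
  have hB : B.Nondegenerate := traceForm_nondegenerate K L
  let d := B.dualBasis hB b
  -- trace as a sum
  have htr : ∀ x y : L, algebraMap K L (B x y) = ∑ α : L ≃ₐ[K] L, α (x * y) := by
    intro x y
    rw [Algebra.traceForm_apply, trace_eq_sum_automorphisms]
  have hinj : Function.Injective (algebraMap K L) := (algebraMap K L).injective
  have hd : ∀ σ : L ≃ₐ[K] L, d σ = σ (d 1) := by
    intro σ
    apply d.repr.injective
    ext i
    rw [LinearMap.BilinForm.dualBasis_repr_apply, LinearMap.BilinForm.dualBasis_repr_apply]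
    apply hinj
    rw [htr, htr]
    have h1 : ∀ α : L ≃ₐ[K] L, α (σ (d 1) * b i) = (α * σ) (d 1 * b (σ⁻¹ * i)) := by
      intro α
      rw [hb i, hb (σ⁻¹ * i)]
      simp [AlgEquiv.mul_apply]
    rw [Finset.sum_congr rfl (fun α _ => h1 α)]
    rw [Fintype.sum_equiv (Equiv.mulRight σ) (fun α => (α * σ) (d 1 * b (σ⁻¹ * i)))
      (fun α => α (d 1 * b (σ⁻¹ * i))) (fun α => rfl)]
    rw [← htr, ← htr]
    congr 1
    rw [LinearMap.BilinForm.apply_dualBasis_left, LinearMap.BilinForm.apply_dualBasis_left]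
    by_cases h : i = σ
    · subst h; simp
    · rw [if_neg h, if_neg]
      intro h'
      apply h
      rw [inv_mul_eq_one] at h'
      exact h'.symm
  refine ⟨b 1, d 1, fun γ δ => ?_⟩
  have h2 : ∀ α : L ≃ₐ[K] L, α (γ (b 1)) * α (δ (d 1)) = α (d δ * b γ) := by
    intro α
    rw [hb γ, hd δ, map_mul, mul_comm]
  rw [Finset.sum_congr rfl (fun α _ => h2 α), ← htr, LinearMap.BilinForm.apply_dualBasis_left]
  split_ifs <;> simp

/-- Group version: a finite group acting faithfully on a field by ring automorphisms. -/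
theorem exists_dual_normal_group {E : Type*} [Field E] {Γ : Type*} [Group Γ] [Fintype Γ]
    [DecidableEq Γ] (a : Γ →* RingAut E) (ha : Function.Injective a) :
    ∃ θ c : E,
      (∀ γ δ : Γ, ∑ α : Γ, a (α * γ) θ * a (α * δ) c = if γ = δ then 1 else 0) ∧
      (∀ γ δ : Γ, ∑ α : Γ, a (γ * α) c * a (δ * α) θ = if γ = δ then 1 else 0) := by
  classical
  let _ : MulSemiringAction Γ E := MulSemiringAction.compHom E a
  have hsm : ∀ (γ : Γ) (x : E), γ • x = a γ x := fun γ x => rfl
  have : FaithfulSMul Γ E := ⟨fun {γ δ} h => ha (RingEquiv.ext fun x => h x)⟩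
  let e : Γ ≃* (E ≃ₐ[FixedPoints.subfield Γ E] E) := FixedPoints.toAlgAutMulEquiv Γ E
  have he : ∀ (γ : Γ) (x : E), e γ x = a γ x := fun γ x => rfl
  obtain ⟨θ, c, h⟩ := exists_dual_normal (FixedPoints.subfield Γ E) E
  have T1 : ∀ γ δ : Γ, ∑ α : Γ, a (α * γ) θ * a (α * δ) c = if γ = δ then 1 else 0 := by
    intro γ δ
    have := h (e γ) (e δ)
    rw [← Fintype.sum_equiv e.toEquiv (fun α => a (α * γ) θ * a (α * δ) c)
      (fun α' => α' (e γ θ) * α' (e δ c))] at this
    · rw [this]
      simp only [EmbeddingLike.apply_eq_iff_eq]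
    · intro α
      simp only [MulEquiv.toEquiv_eq_coe, MulEquiv.coe_toEquiv, he, map_mul, RingAut.mul_apply]
  refine ⟨θ, c, T1, ?_⟩
  -- matrix argument
  let Q : Matrix Γ Γ E := fun x y => a (y * x) θ
  let P : Matrix Γ Γ E := fun x y => a (x * y) c
  have hQP : Q * P = 1 := by
    ext γ δ
    rw [Matrix.mul_apply, Matrix.one_apply]
    exact T1 γ δ
  have hPQ : P * Q = 1 := mul_eq_one_comm.mp hQP
  intro γ δ
  have := congrFun (congrFun hPQ γ) δ
  rw [Matrix.mul_apply, Matrix.one_apply] at this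
  exact this

end Cfsg.Agent.Helper68
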