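import Mathlib

namespace Cfsg.Agent.Helper68

open scoped BigOperators

section Ring

variable {R : Type*} [Ring R] {H : Type*} [Group H]

/-- Conjugation by `u h`. -/
def cj (u : H →* R) (h : H) (x : R) : R := u h * x * u h⁻¹

lemma u_inv_mul (u : H →* R) (h : H) : u h⁻¹ * u h = 1 := by
  rw [← map_mul, inv_mul_cancel, map_one]

lemma u_mul_inv (u : H →* R) (h : H) : u h * u h⁻¹ = 1 := by
  rw [← map_mul, mul_inv_cancel, map_one]

lemma cj_mul (u : H →* R) (h : H) (x y : R) : cj u h (x * y) = cj u h x * cj u h y := by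
  unfold cj
  calc u h * (x * y) * u h⁻¹ = u h * x * 1 * y * u h⁻¹ := by simp [mul_assoc]
    _ = u h * x * (u h⁻¹ * u h) * y * u h⁻¹ := by rw [u_inv_mul]
    _ = u h * x * u h⁻¹ * (u h * y * u h⁻¹) := by simp [mul_assoc]

@[simp] lemma cj_one (u : H →* R) (x : R) : cj u 1 x = x := by
  simp [cj]

lemma cj_cj (u : H →* R) (g h : H) (x : R) : cj u g (cj u h x) = cj u (g * h) x := by
  simp [cj, mul_assoc, mul_inv_rev]

@[simp] lemma cj_zero (u : H →* R) (h : H) : cj u h 0 = 0 := by simp [cj]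

lemma cj_add (u : H →* R) (h : H) (x y : R) : cj u h (x + y) = cj u h x + cj u h y := by
  simp [cj, mul_add, add_mul]

lemma cj_sub (u : H →* R) (h : H) (x y : R) : cj u h (x - y) = cj u h x - cj u h y := by
  simp [cj, mul_sub, sub_mul]

lemma cj_sum (u : H →* R) (h : H) {ι : Type*} (s : Finset ι) (f : ι → R) :
    cj u h (∑ i ∈ s, f i) = ∑ i ∈ s, cj u h (f i) := by
  simp [cj, Finset.mul_sum, Finset.sum_mul]

lemma cj_of_commute (u : H →* R) (h : H) (x : R) (hx : u h * x = x * u h) : cj u h x = x := by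
  unfold cj
  rw [hx, mul_assoc, u_mul_inv, mul_one]

lemma cj_inj (u : H →* R) (h : H) {x y : R} (hxy : cj u h x = cj u h y) : x = y := by
  have := congrArg (cj u h⁻¹) hxy
  simpa [cj_cj] using this

/-- `π` is an idempotent below `e` whose `H`-conjugates are orthogonal and sum to `e`. -/
structure RelFree [Fintype H] (u : H →* R) (e π : R) : Prop where
  left : e * π = π
  right : π * e = π
  idem : π * π = π
  orth : ∀ h : H, h ≠ 1 → π * cj u h π = 0
  sum : ∑ h : H, cj u h π = e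

lemma RelFree.orth' [Fintype H] {u : H →* R} {e π : R} (hf : RelFree u e π) (h : H) (hh : h ≠ 1) :
    cj u h π * π = 0 := by
  have h1 : π * cj u h⁻¹ π = 0 := hf.orth h⁻¹ (by simpa using hh)
  have := congrArg (cj u h) h1
  rw [cj_mul, cj_cj, mul_inv_cancel, cj_one, cj_zero] at this
  exact this

lemma RelFree.orth_ne [Fintype H] {u : H →* R} {e π : R} (hf : RelFree u e π) (g h : H)
    (hh : g ≠ h) : cj u g π * cj u h π = 0 := by
  have h1 : π * cj u (g⁻¹ * h) π = 0 := hf.orth _ (by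
    intro h'; apply hh; rw [inv_mul_eq_one] at h'; exact h')
  have := congrArg (cj u g) h1
  rw [cj_mul, cj_cj, mul_inv_cancel_left, cj_zero] at this
  exact this

theorem RelFree.add [Fintype H] {u : H →* R} {e₁ e₂ π₁ π₂ : R} (h₁ : RelFree u e₁ π₁)
    (h₂ : RelFree u e₂ π₂) (h12 : e₁ * e₂ = 0) (h21 : e₂ * e₁ = 0)
    (hc₁ : ∀ h, u h * e₁ = e₁ * u h) (hc₂ : ∀ h, u h * e₂ = e₂ * u h) :
    RelFree u (e₁ + e₂) (π₁ + π₂) := by
  have a12 : ∀ x : R, π₁ * (e₂ * x) = 0 := fun x => by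
    rw [← h₁.right, mul_assoc, ← mul_assoc e₁, h12, zero_mul, mul_zero]
  have a21 : ∀ x : R, π₂ * (e₁ * x) = 0 := fun x => by
    rw [← h₂.right, mul_assoc, ← mul_assoc e₂, h21, zero_mul, mul_zero]
  have c₁ : ∀ h, cj u h π₁ = e₁ * cj u h π₁ := fun h => by
    conv_lhs => rw [← h₁.left, cj_mul, cj_of_commute u h e₁ (hc₁ h)]
  have c₂ : ∀ h, cj u h π₂ = e₂ * cj u h π₂ := fun h => by
    conv_lhs => rw [← h₂.left, cj_mul, cj_of_commute u h e₂ (hc₂ h)]
  have p12 : ∀ h, π₁ * cj u h π₂ = 0 := fun h => by rw [c₂ h, a12]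
  have p21 : ∀ h, π₂ * cj u h π₁ = 0 := fun h => by rw [c₁ h, a21]
  refine ⟨?_, ?_, ?_, ?_, ?_⟩
  · have e12 : e₁ * π₂ = 0 := by rw [← h₂.left, ← mul_assoc, h12, zero_mul]
    have e21 : e₂ * π₁ = 0 := by rw [← h₁.left, ← mul_assoc, h21, zero_mul]
    rw [add_mul, mul_add, mul_add, h₁.left, h₂.left, e12, e21, add_zero, zero_add]
  · have e12 : π₁ * e₂ = 0 := by rw [← h₁.right, mul_assoc, h12, mul_zero]
    have e21 : π₂ * e₁ = 0 := by rw [← h₂.right, mul_assoc, h21, mul_zero]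
    rw [add_mul, mul_add, mul_add, h₁.right, h₂.right, e12, e21, add_zero, zero_add]
  · have q12 := p12 1
    have q21 := p21 1
    rw [cj_one] at q12 q21
    rw [add_mul, mul_add, mul_add, h₁.idem, h₂.idem, q12, q21, add_zero, zero_add]
  · intro h hh
    rw [cj_add, add_mul, mul_add, mul_add, h₁.orth h hh, h₂.orth h hh, p12, p21]
    simp
  · simp_rw [cj_add]
    rw [Finset.sum_add_distrib, h₁.sum, h₂.sum]



lemma orth'_of_orth {u : H →* R} {π : R} (horth : ∀ h : H, h ≠ 1 → π * cj u h π = 0) (h : H)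
    (hh : h ≠ 1) : cj u h π * π = 0 := by
  have h1 : π * cj u h⁻¹ π = 0 := horth h⁻¹ (by simpa using hh)
  have := congrArg (cj u h) h1
  rw [cj_mul, cj_cj, mul_inv_cancel, cj_one, cj_zero] at this
  exact this

lemma cj_comp_subtype (u : H →* R) (Γ : Subgroup H) (g : Γ) (x : R) :
    cj (u.comp Γ.subtype) g x = cj u (g : H) x := by
  simp [cj]

lemma coset_bijective (Γ : Subgroup H) :
    Function.Bijective (fun p : (H ⧸ Γ) × Γ => p.1.out * (p.2 : H)) := by
  constructor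
  · rintro ⟨q, g⟩ ⟨q', g'⟩ h
    simp only at h
    have hq : q = q' := by
      have := congrArg (fun x : H => (x : H ⧸ Γ)) h
      beta_reduce at this
      rw [QuotientGroup.mk_mul_of_mem _ g.2, QuotientGroup.mk_mul_of_mem _ g'.2,
        QuotientGroup.out_eq', QuotientGroup.out_eq'] at this
      exact this
    subst hq
    have := mul_left_cancel h
    rw [Subtype.ext this]
  · intro h
    refine ⟨((h : H ⧸ Γ), ⟨(h : H ⧸ Γ).out⁻¹ * h, ?_⟩), ?_⟩
    · rw [← QuotientGroup.eq, QuotientGroup.out_eq']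
    · simp

theorem RelFree.induce [Fintype H] {u : H →* R} (Γ : Subgroup H) [Fintype Γ] {ε π : R}
    (hΓ : RelFree (u.comp Γ.subtype) ε π)
    (hε : ∀ h : H, h ∉ Γ → ε * cj u h ε = 0) :
    RelFree u (∑ h : H, cj u h π) π ∧
      ∃ T : Finset H, ∑ h : H, cj u h π = ∑ t ∈ T, cj u t ε := by
  classical
  have orthH : ∀ h : H, h ≠ 1 → π * cj u h π = 0 := by
    intro h hh
    by_cases hΓh : h ∈ Γ
    · have := hΓ.orth ⟨h, hΓh⟩ (by
        intro h'; apply hh; exact congrArg Subtype.val h')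
      rwa [cj_comp_subtype] at this
    · calc π * cj u h π = (π * ε) * cj u h (ε * π) := by rw [hΓ.right, hΓ.left]
        _ = π * (ε * cj u h ε) * cj u h π := by rw [cj_mul]; simp only [mul_assoc]
        _ = 0 := by rw [hε h hΓh, mul_zero, zero_mul]
  refine ⟨⟨?_, ?_, hΓ.idem, orthH, rfl⟩, ?_⟩
  · rw [Finset.sum_mul, Finset.sum_eq_single 1]
    · rw [cj_one, hΓ.idem]
    · intro h _ hh
      exact orth'_of_orth orthH h hh
    · intro h; exact absurd (Finset.mem_univ _) h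
  · rw [Finset.mul_sum, Finset.sum_eq_single 1]
    · rw [cj_one, hΓ.idem]
    · intro h _ hh
      exact orthH h hh
    · intro h; exact absurd (Finset.mem_univ _) h
  · let _ : Fintype (H ⧸ Γ) := Fintype.ofFinite _
    refine ⟨Finset.univ.image (fun q : H ⧸ Γ => q.out), ?_⟩
    rw [Finset.sum_image (f := fun t => cj u t ε) (g := fun q : H ⧸ Γ => q.out)
      (fun q _ q' _ h => Quotient.out_injective h)]
    rw [← Fintype.sum_bijective _ (coset_bijective Γ) (fun p => cj u (p.1.out * (p.2 : H)) π)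
      (fun h => cj u h π) (fun p => rfl)]
    rw [Fintype.sum_prod_type]
    refine Finset.sum_congr rfl (fun q _ => ?_)
    rw [← hΓ.sum, cj_sum]
    refine Finset.sum_congr rfl (fun g _ => ?_)
    rw [cj_comp_subtype, cj_cj]

end Ring

section Ring2

variable {R : Type*} [Ring R]

theorem relFree_of_dual {E : Type*} [CommRing E] {Γ : Type*} [Group Γ] [Fintype Γ] [DecidableEq Γ]
    (a : Γ →* RingAut E) (ι : E →+* R) (u : Γ →* R)
    (hcompat : ∀ γ b, u γ * ι b = ι (a γ b) * u γ) (θ c : E)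
    (T1 : ∀ γ δ : Γ, ∑ α : Γ, a (α * γ) θ * a (α * δ) c = if γ = δ then 1 else 0)
    (T2 : ∀ γ δ : Γ, ∑ α : Γ, a (γ * α) c * a (δ * α) θ = if γ = δ then 1 else 0) :
    RelFree u 1 (∑ γ : Γ, ι (θ * a γ c) * u γ) := by
  set π : R := ∑ γ : Γ, ι (θ * a γ c) * u γ with hπ
  have mulX : ∀ (b b' : E) (γ γ' : Γ),
      (ι b * u γ) * (ι b' * u γ') = ι (b * a γ b') * u (γ * γ') := by
    intro b b' γ γ'
    calc (ι b * u γ) * (ι b' * u γ') = ι b * (u γ * ι b') * u γ' := by simp only [mul_assoc]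
      _ = ι b * (ι (a γ b') * u γ) * u γ' := by rw [hcompat]
      _ = ι (b * a γ b') * u (γ * γ') := by rw [map_mul, map_mul]; simp only [mul_assoc]
  have cjX : ∀ (τ : Γ) (b : E) (γ : Γ),
      cj u τ (ι b * u γ) = ι (a τ b) * u (τ * γ * τ⁻¹) := by
    intro τ b γ
    unfold cj
    calc u τ * (ι b * u γ) * u τ⁻¹ = (u τ * ι b) * u γ * u τ⁻¹ := by simp only [mul_assoc]
      _ = ι (a τ b) * u τ * u γ * u τ⁻¹ := by rw [hcompat]
      _ = ι (a τ b) * u (τ * γ * τ⁻¹) := by rw [map_mul, map_mul]; simp only [mul_assoc]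
  have hF : ∀ τ : Γ, cj u τ π = ∑ γ : Γ, ι (a τ θ * a (γ * τ) c) * u γ := by
    intro τ
    rw [hπ, cj_sum]
    rw [← Fintype.sum_equiv (MulAut.conj τ).toEquiv
      (fun γ => cj u τ (ι (θ * a γ c) * u γ))
      (fun γ' => ι (a τ θ * a (γ' * τ) c) * u γ')]
    intro γ
    rw [cjX]
    simp only [MulEquiv.toEquiv_eq_coe, MulEquiv.coe_toEquiv, MulAut.conj_apply, map_mul,
      RingAut.mul_apply, inv_mul_cancel_right]
  have hprod : ∀ τ : Γ, π * cj u τ π = if τ = 1 then π else 0 := by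
    intro τ
    rw [hF τ]
    conv_lhs => rw [hπ]
    rw [Finset.sum_mul]
    simp_rw [Finset.mul_sum, mulX]
    have h1 : ∀ γ : Γ, ∑ δ : Γ, ι (θ * a γ c * a γ (a τ θ * a (δ * τ) c)) * u (γ * δ) =
        ∑ ε : Γ, ι (θ * a γ c * (a (γ * τ) θ * a (ε * τ) c)) * u ε := by
      intro γ
      apply Fintype.sum_equiv (Equiv.mulLeft γ)
      intro δ
      simp only [Equiv.coe_mulLeft, map_mul, RingAut.mul_apply, mul_assoc]
    rw [Finset.sum_congr rfl (fun γ _ => h1 γ), Finset.sum_comm]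
    have h2 : ∀ ε : Γ, ∑ γ : Γ, ι (θ * a γ c * (a (γ * τ) θ * a (ε * τ) c)) * u ε =
        ι (θ * a (ε * τ) c * (if τ = 1 then 1 else 0)) * u ε := by
      intro ε
      rw [← Finset.sum_mul, ← map_sum]
      congr 2
      have := T1 τ 1
      rw [← this, Finset.mul_sum]
      refine Finset.sum_congr rfl (fun γ _ => ?_)
      rw [mul_one]
      ring
    rw [Finset.sum_congr rfl (fun ε _ => h2 ε)]
    by_cases hτ : τ = 1
    · subst hτ
      simp [hπ]
    · simp [hτ]
  refine ⟨one_mul _, mul_one _, ?_, ?_, ?_⟩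
  · have := hprod 1
    rwa [cj_one, if_pos rfl] at this
  · intro τ hτ
    rw [hprod τ, if_neg hτ]
  · simp_rw [hF]
    rw [Finset.sum_comm]
    have h3 : ∀ γ : Γ, ∑ τ : Γ, ι (a τ θ * a (γ * τ) c) * u γ =
        ι (if γ = 1 then 1 else 0) * u γ := by
      intro γ
      rw [← Finset.sum_mul, ← map_sum]
      congr 2
      rw [← T2 γ 1]
      refine Finset.sum_congr rfl (fun τ _ => ?_)
      rw [one_mul, mul_comm]
    rw [Finset.sum_congr rfl (fun γ _ => h3 γ), Finset.sum_eq_single 1]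
    · simp
    · intro γ _ hγ
      simp [hγ]
    · intro h; exact absurd (Finset.mem_univ _) h

end Ring2

section Ring4

variable {R : Type*} [Ring R] {H : Type*} [Group H]

lemma RelFree.cj_e [Fintype H] {u : H →* R} {e π : R} (hf : RelFree u e π) (g : H) :
    cj u g e = e := by
  conv_lhs => rw [← hf.sum]
  rw [cj_sum]
  conv_rhs => rw [← hf.sum]
  apply Fintype.sum_equiv (Equiv.mulLeft g)
  intro h
  exact cj_cj u g h π

lemma RelFree.e_comm [Fintype H] {u : H →* R} {e π : R} (hf : RelFree u e π) (g : H) :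
    u g * e = e * u g := by
  have h1 := hf.cj_e g
  unfold cj at h1
  calc u g * e = u g * e * (u g⁻¹ * u g) := by rw [u_inv_mul, mul_one]
    _ = (u g * e * u g⁻¹) * u g := by simp only [mul_assoc]
    _ = e * u g := by rw [h1]

lemma RelFree.e_idem [Fintype H] {u : H →* R} {e π : R} (hf : RelFree u e π) : e * e = e := by
  have h1 : ∀ h : H, e * cj u h π = cj u h π := fun h => by
    conv_rhs => rw [← hf.left, cj_mul, hf.cj_e h]
  calc e * e = e * ∑ h : H, cj u h π := by rw [hf.sum]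
    _ = ∑ h : H, cj u h π := by
      rw [Finset.mul_sum]
      exact Finset.sum_congr rfl (fun h _ => h1 h)
    _ = e := hf.sum

end Ring4

end Cfsg.Agent.Helper68
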