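import Mathlib
import Cfsg.Agent.Helper68.FrobFreeRing

namespace Cfsg.Agent.Helper68

open scoped BigOperators commutatorElement



section RingMap

variable {R₁ R₂ : Type*} [Ring R₁] [Ring R₂] {G : Type*} [Group G]

theorem RelFree.map [Fintype G] (T : R₁ →ₙ+* R₂) {u₁ : G →* R₁} {u₂ : G →* R₂}
    (hcj : ∀ g x, cj u₂ g (T x) = T (cj u₁ g x)) {e π : R₁} (h : RelFree u₁ e π) :
    RelFree u₂ (T e) (T π) := by
  refine ⟨?_, ?_, ?_, ?_, ?_⟩
  · rw [← map_mul, h.left]
  · rw [← map_mul, h.right]
  · rw [← map_mul, h.idem]
  · intro g hg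
    rw [hcj, ← map_mul, h.orth g hg, map_zero]
  · simp_rw [hcj]
    rw [← map_sum, h.sum]

end RingMap

section Lin

variable {k : Type*} [Field k] {V : Type*} [AddCommGroup V] [Module k V]

/-- Restriction of a representation to an invariant subspace. -/
def restrictRep {G : Type*} [Monoid G] (u : G →* Module.End k V) (U : Submodule k V)
    (hU : ∀ g, ∀ x ∈ U, u g x ∈ U) : G →* Module.End k U where
  toFun g := (u g).restrict (hU g)
  map_one' := by ext x; simp
  map_mul' g h := by ext x; simp

@[simp] lemma restrictRep_apply {G : Type*} [Monoid G] (u : G →* Module.End k V)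
    (U : Submodule k V) (hU : ∀ g, ∀ x ∈ U, u g x ∈ U) (g : G) (x : U) :
    ((restrictRep u U hU g x : U) : V) = u g x := rfl

lemma range_invariant {G : Type*} [Monoid G] (u : G →* Module.End k V) (e : Module.End k V)
    (hc : ∀ g, u g * e = e * u g) : ∀ g, ∀ x ∈ LinearMap.range e, u g x ∈ LinearMap.range e := by
  rintro g x ⟨y, rfl⟩
  refine ⟨u g y, ?_⟩
  have := congrArg (fun f : Module.End k V => f y) (hc g)
  simpa using this.symm

/-- The corner embedding `End (range e) → End V`, `x ↦ ι ∘ x ∘ e`. -/
def cornerHom (e : Module.End k V) (he : e * e = e) :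
    Module.End k (LinearMap.range e) →ₙ+* Module.End k V where
  toFun x := (LinearMap.range e).subtype ∘ₗ x ∘ₗ e.rangeRestrict
  map_mul' x y := by
    ext v
    simp only [LinearMap.coe_comp, Submodule.coe_subtype, Function.comp_apply,
      Module.End.mul_apply]
    congr 2
    apply Subtype.ext
    obtain ⟨w, hw⟩ := (y (e.rangeRestrict v)).2
    simp only [LinearMap.codRestrict_apply, LinearMap.rangeRestrict]
    rw [← hw, ← Module.End.mul_apply, he]
  map_zero' := by ext v; simp
  map_add' x y := by ext v; simp

lemma cornerHom_apply (e : Module.End k V) (he : e * e = e)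
    (x : Module.End k (LinearMap.range e)) (v : V) :
    cornerHom e he x v = ((x (e.rangeRestrict v) : LinearMap.range e) : V) := rfl

lemma cornerHom_one (e : Module.End k V) (he : e * e = e) : cornerHom e he 1 = e := by
  ext v
  rw [cornerHom_apply]
  simp

lemma cornerHom_cj {G : Type*} [Group G] (u : G →* Module.End k V) (e : Module.End k V)
    (he : e * e = e) (hc : ∀ g, u g * e = e * u g) (g : G) (x : Module.End k (LinearMap.range e)) :
    cj u g (cornerHom e he x) =
      cornerHom e he (cj (restrictRep u (LinearMap.range e) (range_invariant u e hc)) g x) := by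
  ext v
  simp only [cj, Module.End.mul_apply, cornerHom_apply, restrictRep_apply]
  congr 3
  apply Subtype.ext
  simp only [LinearMap.rangeRestrict, LinearMap.codRestrict_apply, restrictRep_apply]
  have := congrArg (fun f : Module.End k V => f v) (hc g⁻¹)
  simpa using this.symm

theorem RelFree.transport {G : Type*} [Group G] [Fintype G] (u : G →* Module.End k V)
    (e : Module.End k V) (he : e * e = e) (hc : ∀ g, u g * e = e * u g)
    {π : Module.End k (LinearMap.range e)}
    (h : RelFree (restrictRep u (LinearMap.range e) (range_invariant u e hc)) 1 π) :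
    RelFree u e (cornerHom e he π) := by
  have := h.map (cornerHom e he) (u₂ := u) (fun g x => cornerHom_cj u e he hc g x)
  rwa [cornerHom_one] at this

end Lin




section Lin2

variable {k : Type*} [Field k] {V : Type*} [AddCommGroup V] [Module k V]

/-- `End k V` is von Neumann regular. -/
lemma exists_mul_mul_eq_self (b : Module.End k V) : ∃ c : Module.End k V, b * c * b = b := by
  obtain ⟨s, hs⟩ := LinearMap.exists_rightInverse_of_surjective b.rangeRestrict
    (LinearMap.range_rangeRestrict b)
  obtain ⟨q, hq⟩ := LinearMap.exists_leftInverse_of_injective (LinearMap.range b).subtype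
    (Submodule.ker_subtype _)
  refine ⟨s ∘ₗ q, ?_⟩
  ext v
  simp only [Module.End.mul_apply, LinearMap.coe_comp, Function.comp_apply]
  have h1 : q (b v) = b.rangeRestrict v := by
    have := congrArg (fun f => f (b.rangeRestrict v)) hq
    simpa using this
  rw [h1]
  have h2 := congrArg (fun f => ((f (b.rangeRestrict v) : LinearMap.range b) : V)) hs
  simpa using h2

/-- Maschke-type lemma: no nilpotents in the algebra generated by a finite group of invertible
order (all of whose elements commute with `b`). -/
theorem eq_zero_of_sq_eq_zero_of_mem_adjoin {G₀ : Type*} [Group G₀] [Finite G₀]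
    (r : G₀ →* Module.End k V) (hN : (Nat.card G₀ : k) ≠ 0) (b : Module.End k V)
    (hb : ∀ x, r x * b = b * r x) (hB : b ∈ Algebra.adjoin k (Set.range r)) (hbb : b * b = 0) :
    b = 0 := by
  classical
  let _ : Fintype G₀ := Fintype.ofFinite G₀
  obtain ⟨c, hc⟩ := exists_mul_mul_eq_self b
  set N : k := (Nat.card G₀ : k) with hNdef
  set c' : Module.End k V := N⁻¹ • ∑ x : G₀, cj r x c with hc'
  have h1 : b * c' * b = b := by
    rw [hc', mul_smul_comm, smul_mul_assoc, Finset.mul_sum, Finset.sum_mul]
    have : ∀ x : G₀, b * cj r x c * b = b := by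
      intro x
      have e1 : b = cj r x b := (cj_of_commute r x b (hb x)).symm
      calc b * cj r x c * b = cj r x b * cj r x c * cj r x b := by rw [← e1]
        _ = cj r x (b * c * b) := by rw [cj_mul, cj_mul]
        _ = b := by rw [hc, ← e1]
    rw [Finset.sum_congr rfl (fun x _ => this x), Finset.sum_const, Finset.card_univ,
      ← Nat.card_eq_fintype_card, ← Nat.cast_smul_eq_nsmul k, smul_smul, ← hNdef,
      inv_mul_cancel₀ hN, one_smul]
  have h2 : ∀ y : G₀, r y * c' = c' * r y := by
    intro y
    have : cj r y c' = c' := by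
      rw [hc']
      unfold cj
      rw [mul_smul_comm, smul_mul_assoc]
      congr 1
      rw [Finset.mul_sum, Finset.sum_mul]
      apply Fintype.sum_equiv (Equiv.mulLeft y)
      intro x
      exact cj_cj r y x c
    unfold cj at this
    calc r y * c' = r y * c' * (r y⁻¹ * r y) := by rw [u_inv_mul, mul_one]
      _ = (r y * c' * r y⁻¹) * r y := by simp only [mul_assoc]
      _ = c' * r y := by rw [this]
  have h3 : b * c' = c' * b := by
    have hle : Algebra.adjoin k (Set.range r) ≤ Subalgebra.centralizer k {c'} := by
      apply Algebra.adjoin_le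
      rintro _ ⟨y, rfl⟩
      rw [SetLike.mem_coe, Subalgebra.mem_centralizer_iff]
      intro z hz
      rw [Set.mem_singleton_iff] at hz
      subst hz
      exact (h2 y).symm
    have := hle hB
    rw [Subalgebra.mem_centralizer_iff] at this
    exact (this c' rfl).symm
  calc b = b * c' * b := h1.symm
    _ = c' * (b * b) := by rw [h3, mul_assoc]
    _ = 0 := by rw [hbb, mul_zero]

end Lin2




section Lin3

variable {k : Type*} [Field k] {V : Type*} [AddCommGroup V] [Module k V]

/-- A finite `p`-group acting linearly on a nonzero space in characteristic `p` fixes a nonzero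
vector. -/
theorem exists_fixed_of_pgroup {G₁ : Type*} [Group G₁] [Finite G₁] {p : ℕ} [Fact p.Prime]
    (hG : IsPGroup p G₁) [CharP k p] (r : G₁ →* Module.End k V) [Nontrivial V] :
    ∃ v : V, v ≠ 0 ∧ ∀ g, r g v = v := by
  obtain ⟨v₀, hv₀⟩ := exists_ne (0 : V)
  let S : Set V := Set.range (fun g => r g v₀)
  let W : AddSubgroup V := AddSubgroup.closure S
  have hp : ∀ x : V, p • x = 0 := fun x => by
    rw [← Nat.cast_smul_eq_nsmul k, CharP.cast_eq_zero, zero_smul]
  have hSfin : Finite S := Set.finite_range _
  have hFG : AddGroup.FG W := AddGroup.closure_finite_fg S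
  have hWfin : Finite W := by
    apply AddCommGroup.finite_of_fg_isAddTorsion
    intro w
    rw [isOfFinAddOrder_iff_nsmul_eq_zero]
    refine ⟨p, (Fact.out : p.Prime).pos, ?_⟩
    ext
    simp [hp]
  have hinv : ∀ g, ∀ w ∈ W, r g w ∈ W := by
    intro g w hw
    induction hw using AddSubgroup.closure_induction with
    | mem x hx =>
      obtain ⟨h, rfl⟩ := hx
      apply AddSubgroup.subset_closure
      exact ⟨g * h, by simp [map_mul]⟩
    | zero => rw [map_zero]; exact W.zero_mem
    | add x y _ _ hx hy => rw [map_add]; exact W.add_mem hx hy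
    | neg x _ hx => rw [map_neg]; exact W.neg_mem hx
  let _ : MulAction G₁ W :=
    { smul := fun g w => ⟨r g w, hinv g w w.2⟩
      one_smul := fun w => by
        apply Subtype.ext
        change r 1 (w : V) = w
        simp
      mul_smul := fun g h w => by
        apply Subtype.ext
        change r (g * h) (w : V) = r g (r h w)
        simp [map_mul] }
  have hsm : ∀ (g : G₁) (w : W), ((g • w : W) : V) = r g w := fun g w => rfl
  have hv₀W : v₀ ∈ W := AddSubgroup.subset_closure ⟨1, by simp⟩
  have hcard : p ∣ Nat.card W := by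
    have : addOrderOf (⟨v₀, hv₀W⟩ : W) = p := by
      apply addOrderOf_eq_prime
      · ext; simp [hp]
      · intro h
        apply hv₀
        exact congrArg Subtype.val h
    rw [← this]
    exact addOrderOf_dvd_natCard _
  obtain ⟨b, hb, hne⟩ := hG.exists_fixed_point_of_prime_dvd_card_of_fixed_point W hcard
    (a := (0 : W)) (by
      intro g
      apply Subtype.ext
      rw [hsm]
      simp)
  refine ⟨b, ?_, fun g => ?_⟩
  · intro h
    apply hne
    apply Subtype.ext
    simp [h]
  · have := hb g
    rw [← hsm, this]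

end Lin3




/-- A nontrivial normal subgroup of a nilpotent group meets the centre nontrivially. -/
theorem exists_mem_center_of_normal {G : Type*} [Group G] [Group.IsNilpotent G] (N : Subgroup G)
    [N.Normal] (hN : N ≠ ⊥) : ∃ z ∈ N, z ∈ Subgroup.center G ∧ z ≠ 1 := by
  classical
  obtain ⟨n₀, hn₀⟩ := Group.IsNilpotent.nilpotent' (G := G)
  have hex : ∃ n, ∃ z ∈ N, z ∈ Subgroup.upperCentralSeries G n ∧ z ≠ 1 := by
    obtain ⟨z, hz, hz1⟩ := (N.bot_or_exists_ne_one).resolve_left hN
    exact ⟨n₀, z, hz, by rw [hn₀]; trivial, hz1⟩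
  have hmin : ∀ {m : ℕ}, m < Nat.find hex →
      ¬ ∃ z ∈ N, z ∈ Subgroup.upperCentralSeries G m ∧ z ≠ 1 := fun {m} h => Nat.find_min hex h
  obtain ⟨z, hzN, hzZ, hz1⟩ := Nat.find_spec hex
  set n := Nat.find hex with hn
  rcases Nat.eq_zero_or_pos n with h0 | hpos
  · rw [h0, Subgroup.upperCentralSeries_zero, Subgroup.mem_bot] at hzZ
    exact absurd hzZ hz1
  · obtain ⟨m, hm⟩ : ∃ m, n = m + 1 := ⟨n - 1, by omega⟩
    rw [hm, Subgroup.mem_upperCentralSeries_succ_iff] at hzZ
    refine ⟨z, hzN, ?_, hz1⟩
    rw [Subgroup.mem_center_iff]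
    intro y
    have h1 : ⁅z, y⁆ ∈ Subgroup.upperCentralSeries G m := hzZ y
    have h2 : ⁅z, y⁆ ∈ N := by
      rw [commutatorElement_def]
      have : y * z⁻¹ * y⁻¹ ∈ N := ‹N.Normal›.conj_mem _ (N.inv_mem hzN) y
      have := N.mul_mem hzN this
      simpa [mul_assoc] using this
    have h3 : ⁅z, y⁆ = 1 := by
      by_contra hne
      exact hmin (m := m) (by omega) ⟨_, h2, h1, hne⟩
    rw [commutatorElement_eq_one_iff_mul_comm] at h3
    exact h3.symm

/-- A nontrivial commutative reduced Artinian ring whose only idempotents are `0` and `1` is a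
field. -/
theorem isField_of_idempotents_trivial (R : Type*) [CommRing R] [IsArtinianRing R] [IsReduced R]
    [Nontrivial R] (h : ∀ e : R, e * e = e → e = 0 ∨ e = 1) : IsField R := by
  classical
  have hsub : Subsingleton (MaximalSpectrum R) := by
    constructor
    intro I J
    by_contra hIJ
    let φ := IsArtinianRing.equivPi R
    let x : ∀ I : MaximalSpectrum R, R ⧸ I.asIdeal := Pi.single I 1
    have hx : x * x = x := by
      ext K
      by_cases hK : K = I
      · subst hK; simp [x]
      · simp [x, Pi.single_eq_of_ne hK]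
    have hφ : φ.symm x * φ.symm x = φ.symm x := by rw [← map_mul, hx]
    rcases h _ hφ with h0 | h1
    · have : x = 0 := by
        have := congrArg φ h0
        simpa using this
      have := congrFun this I
      simp [x] at this
    · have : x = 1 := by
        have := congrArg φ h1
        simpa using this
      have := congrFun this J
      have hJI : J ≠ I := fun h => hIJ h.symm
      simp [x, Pi.single_eq_of_ne hJI] at this
  have hne : Nonempty (MaximalSpectrum R) := by
    obtain ⟨m, hm⟩ := Ideal.exists_maximal R
    exact ⟨⟨m, hm⟩⟩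
  have : IsLocalRing R := IsLocalRing.of_singleton_maximalSpectrum
  exact IsArtinianRing.isField_of_isReduced_of_isLocalRing R




section Fin1

variable {k : Type*} [Field k] {V : Type*} [AddCommGroup V] [Module k V]

theorem isInternal_of_relFree {H : Type*} [Group H] [Fintype H] [DecidableEq H]
    (u : H →* Module.End k V) {π : Module.End k V} (h : RelFree u 1 π) :
    DirectSum.IsInternal (fun g : H => (LinearMap.range π).map (u g)) := by
  -- the conjugate idempotents
  have hmem : ∀ (g : H) (v : V), v ∈ (LinearMap.range π).map (u g) ↔ cj u g π v = v := by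
    intro g v
    constructor
    · rintro ⟨w, ⟨x, rfl⟩, rfl⟩
      simp only [cj, Module.End.mul_apply]
      rw [← Module.End.mul_apply (u g⁻¹), u_inv_mul, Module.End.one_apply,
        ← Module.End.mul_apply π, h.idem]
    · intro hv
      refine ⟨π (u g⁻¹ v), ⟨_, rfl⟩, ?_⟩
      simpa [cj, Module.End.mul_apply] using hv
  apply DirectSum.isInternal_submodule_of_iSupIndep_of_iSup_eq_top
  · rw [iSupIndep_def]
    intro i
    rw [Submodule.disjoint_def]
    intro v hv1 hv2
    have hle : (⨆ (j) (_ : j ≠ i), (LinearMap.range π).map (u j)) ≤ LinearMap.ker (cj u i π) := by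
      apply iSup₂_le
      intro j hj v hv
      rw [LinearMap.mem_ker]
      rw [hmem] at hv
      rw [← hv, ← Module.End.mul_apply, h.orth_ne i j hj.symm]
      simp
    have h1 := hle hv2
    rw [LinearMap.mem_ker] at h1
    rw [hmem] at hv1
    rw [← hv1, h1]
  · rw [eq_top_iff]
    intro v _
    have : v = ∑ g : H, cj u g π v := by
      rw [← LinearMap.sum_apply, h.sum, Module.End.one_apply]
    rw [this]
    apply Submodule.sum_mem
    intro g _
    apply Submodule.mem_iSup_of_mem g
    rw [hmem, ← Module.End.mul_apply, ← cj_mul, h.idem]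

end Fin1

section Lin4

variable {k : Type*} [Field k] {V : Type*} [AddCommGroup V] [Module k V]

lemma restrictRep_mul_eq {G₁ G₂ : Type*} [Monoid G₁] [Monoid G₂] (u₁ : G₁ →* Module.End k V)
    (u₂ : G₂ →* Module.End k V) (U : Submodule k V) (h₁ : ∀ g, ∀ x ∈ U, u₁ g x ∈ U)
    (h₂ : ∀ g, ∀ x ∈ U, u₂ g x ∈ U) (a : G₁) (b b' : G₂) (h : u₁ a * u₂ b = u₂ b' * u₁ a) :
    restrictRep u₁ U h₁ a * restrictRep u₂ U h₂ b =
      restrictRep u₂ U h₂ b' * restrictRep u₁ U h₁ a := by
  ext x
  simp only [Module.End.mul_apply, restrictRep_apply]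
  exact congrArg (fun T : Module.End k V => T (x : V)) h

lemma eq_one_of_range_eq_top {e : Module.End k V} (he : e * e = e)
    (htop : LinearMap.range e = ⊤) : e = 1 := by
  ext v
  have : v ∈ LinearMap.range e := by rw [htop]; trivial
  obtain ⟨w, rfl⟩ := this
  rw [← Module.End.mul_apply, he, Module.End.one_apply]

lemma finrank_range_lt [FiniteDimensional k V] {e : Module.End k V} (he : e * e = e)
    (h1 : e ≠ 1) : Module.finrank k (LinearMap.range e) < Module.finrank k V :=
  Submodule.finrank_lt (fun h => h1 (eq_one_of_range_eq_top he h))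

end Lin4

end Cfsg.Agent.Helper68
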