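import Mathlib
import Cfsg.Agent.Helper68.FrobFreeLin
import Cfsg.Agent.Helper68.FrobFreeField

namespace Cfsg.Agent.Helper68

open scoped BigOperators commutatorElement

section MainA

variable {k : Type*} [Field k] {V : Type*} [AddCommGroup V] [Module k V]

theorem exists_central_prime_element {F : Type*} [Group F] [Finite F] [Group.IsNilpotent F]
    [Nontrivial V] (ρF : F →* Module.End k V) (hCF : ∀ v : V, (∀ f, ρF f v = v) → v = 0) :
    ∃ m₀ : F, (∀ f, ρF m₀ * ρF f = ρF f * ρF m₀) ∧ (∃ n : ℕ, (n : k) ≠ 0 ∧ ρF m₀ ^ n = 1) ∧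
      ρF m₀ ≠ 1 := by
  classical
  let ρ' : F →* (Module.End k V)ˣ := ρF.toHomUnits
  let G' : Subgroup (Module.End k V)ˣ := ρ'.range
  have hnil : Group.IsNilpotent G' :=
    Group.nilpotent_of_surjective ρ'.rangeRestrict ρ'.rangeRestrict_surjective
  have hfin : Finite G' := Finite.of_surjective ρ'.rangeRestrict ρ'.rangeRestrict_surjective
  let r : G' →* Module.End k V := (Units.coeHom _).comp G'.subtype
  have hfix : ∀ v : V, (∀ g : G', r g v = v) → v = 0 :=
    fun v hv => hCF v (fun f => hv ⟨ρ' f, ⟨f, rfl⟩⟩)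
  have hq : ∃ q : ℕ, q.Prime ∧ q ∣ Nat.card G' ∧ (q : k) ≠ 0 := by
    by_contra hno
    push Not at hno
    have hcard1 : Nat.card G' ≠ 1 := by
      intro h1
      have hsub : Subsingleton G' := (Nat.card_eq_one_iff_unique.mp h1).1
      obtain ⟨v, hv⟩ := exists_ne (0 : V)
      apply hv
      apply hfix
      intro g
      rw [Subsingleton.elim g 1, map_one, Module.End.one_apply]
    obtain ⟨q₀, hq₀, hq₀d⟩ := Nat.exists_prime_and_dvd hcard1
    have h0 := hno q₀ hq₀ hq₀d
    have hp : ringChar k = q₀ := CharP.ringChar_of_prime_eq_zero hq₀ h0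
    have : Fact q₀.Prime := ⟨hq₀⟩
    have : CharP k q₀ := hp ▸ ringChar.charP k
    have hall : ∀ {d : ℕ}, d.Prime → d ∣ Nat.card G' → d = q₀ := by
      intro d hd hdd
      have h1 := hno d hd hdd
      have h2 := CharP.ringChar_of_prime_eq_zero hd h1
      rw [← h2, hp]
    have hpow := Nat.eq_prime_pow_of_unique_prime_dvd (Nat.card_pos.ne') hall
    have hP : IsPGroup q₀ G' := IsPGroup.of_card hpow
    obtain ⟨v, hv0, hv⟩ := exists_fixed_of_pgroup hP r
    exact hv0 (hfix v hv)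
  obtain ⟨q, hqp, hqd, hqk⟩ := hq
  have : Fact q.Prime := ⟨hqp⟩
  obtain ⟨Q⟩ : Nonempty (Sylow q G') := inferInstance
  have hQ : (Q : Subgroup G') ≠ ⊥ := Q.ne_bot_of_dvd_card hqd
  obtain ⟨z, hzQ, hzc, hz1⟩ := exists_mem_center_of_normal (Q : Subgroup G') hQ
  obtain ⟨j, hj⟩ := Q.2 ⟨z, hzQ⟩
  obtain ⟨m₀, hm₀⟩ := z.2
  have hm₀' : ρF m₀ = ((z : (Module.End k V)ˣ) : Module.End k V) := by rw [← hm₀]; rfl
  refine ⟨m₀, ?_, ⟨q ^ j, ?_, ?_⟩, ?_⟩
  · intro f
    rw [Subgroup.mem_center_iff] at hzc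
    have := hzc ⟨ρ' f, ⟨f, rfl⟩⟩
    have := congrArg (fun g : G' => ((g : (Module.End k V)ˣ) : Module.End k V)) this
    simp only [Subgroup.coe_mul, Units.val_mul] at this
    rw [hm₀']
    exact this.symm
  · rw [Nat.cast_pow]
    exact pow_ne_zero _ hqk
  · have := congrArg (fun g : Q => (((g : G') : (Module.End k V)ˣ) : Module.End k V)) hj
    simp only [Subgroup.coe_pow, Units.val_pow_eq_pow_val, Subgroup.coe_one, Units.val_one] at this
    rw [hm₀']
    exact this
  · intro h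
    apply hz1
    apply Subtype.ext
    apply Units.ext
    rw [← hm₀', h]
    rfl

end MainA

section MainB

variable {k : Type*} [Field k] {V : Type*} [AddCommGroup V] [Module k V]
variable {F : Type*} [Group F]

/-- Elements acting centrally (relative to `ρF F`) and with order prime to the characteristic. -/
def ctSubgroup (ρF : F →* Module.End k V) : Subgroup F where
  carrier := {m | (∀ f, ρF m * ρF f = ρF f * ρF m) ∧ ∃ n : ℕ, (n : k) ≠ 0 ∧ ρF m ^ n = 1}
  one_mem' := ⟨fun f => by simp, 1, by simp, by simp⟩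
  mul_mem' := by
    rintro a b ⟨ha, n, hn, han⟩ ⟨hb, n', hn', hbn⟩
    refine ⟨fun f => ?_, n * n', ?_, ?_⟩
    · rw [map_mul, mul_assoc, hb f, ← mul_assoc, ha f, mul_assoc]
    · rw [Nat.cast_mul]; exact mul_ne_zero hn hn'
    · rw [map_mul, (show Commute (ρF a) (ρF b) from ha b).mul_pow, pow_mul, han, one_pow,
        mul_comm n n', pow_mul, hbn, one_pow, mul_one]
  inv_mem' := by
    rintro a ⟨ha, n, hn, han⟩
    refine ⟨fun f => ?_, n, hn, ?_⟩
    · calc ρF a⁻¹ * ρF f = ρF a⁻¹ * ρF f * (ρF a * ρF a⁻¹) := by rw [u_mul_inv, mul_one]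
        _ = ρF a⁻¹ * (ρF f * ρF a) * ρF a⁻¹ := by simp only [mul_assoc]
        _ = ρF a⁻¹ * (ρF a * ρF f) * ρF a⁻¹ := by rw [ha f]
        _ = (ρF a⁻¹ * ρF a) * ρF f * ρF a⁻¹ := by simp only [mul_assoc]
        _ = ρF f * ρF a⁻¹ := by rw [u_inv_mul, one_mul]
    · have := u_inv_mul ρF (a ^ n)
      rw [map_pow ρF a n, han, mul_one] at this
      rw [← map_pow, inv_pow]
      exact this

lemma mem_ctSubgroup (ρF : F →* Module.End k V) (m : F) :
    m ∈ ctSubgroup ρF ↔
      (∀ f, ρF m * ρF f = ρF f * ρF m) ∧ ∃ n : ℕ, (n : k) ≠ 0 ∧ ρF m ^ n = 1 := Iff.rfl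

variable {H : Type*} [Group H]

lemma rho_act (act : H →* MulAut F) (ρF : F →* Module.End k V) (ρH : H →* Module.End k V)
    (hcompat : ∀ h f, ρH h * ρF f = ρF (act h f) * ρH h) (h : H) (f : F) :
    ρF (act h f) = cj ρH h (ρF f) := by
  unfold cj
  rw [hcompat, mul_assoc, u_mul_inv, mul_one]

lemma act_mem_ct (act : H →* MulAut F) (ρF : F →* Module.End k V) (ρH : H →* Module.End k V)
    (hcompat : ∀ h f, ρH h * ρF f = ρF (act h f) * ρH h) (h : H) {m : F}
    (hm : m ∈ ctSubgroup ρF) : act h m ∈ ctSubgroup ρF := by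
  obtain ⟨hc, n, hn, hmn⟩ := hm
  refine ⟨fun f => ?_, n, hn, ?_⟩
  · have hf : f = act h (act h⁻¹ f) := by
      rw [← MulAut.mul_apply, ← map_mul, mul_inv_cancel, map_one, MulAut.one_apply]
    rw [hf, rho_act act ρF ρH hcompat, rho_act act ρF ρH hcompat, ← cj_mul, ← cj_mul, hc]
  · rw [← map_pow, ← map_pow, rho_act act ρF ρH hcompat, map_pow, hmn]
    simp [cj, u_mul_inv]

lemma adjoin_commute_F (ρF : F →* Module.End k V) (M : Subgroup F)
    (hM : ∀ m ∈ M, ∀ f, ρF m * ρF f = ρF f * ρF m) :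
    ∀ b ∈ Algebra.adjoin k (ρF '' (M : Set F)), ∀ f, b * ρF f = ρF f * b := by
  intro b hb f
  have hle : Algebra.adjoin k (ρF '' (M : Set F)) ≤ Subalgebra.centralizer k {ρF f} := by
    apply Algebra.adjoin_le
    rintro _ ⟨m, hm, rfl⟩
    rw [SetLike.mem_coe, Subalgebra.mem_centralizer_iff]
    intro z hz
    rw [Set.mem_singleton_iff] at hz
    subst hz
    exact (hM m hm f).symm
  have := hle hb
  rw [Subalgebra.mem_centralizer_iff] at this
  exact (this _ rfl).symm

lemma adjoin_cj_mem (act : H →* MulAut F) (ρF : F →* Module.End k V) (ρH : H →* Module.End k V)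
    (hcompat : ∀ h f, ρH h * ρF f = ρF (act h f) * ρH h) (M : Subgroup F)
    (hM : ∀ h, ∀ m ∈ M, act h m ∈ M) (h : H) :
    ∀ b ∈ Algebra.adjoin k (ρF '' (M : Set F)),
      cj ρH h b ∈ Algebra.adjoin k (ρF '' (M : Set F)) := by
  intro b hb
  induction hb using Algebra.adjoin_induction with
  | mem x hx =>
    obtain ⟨m, hm, rfl⟩ := hx
    rw [← rho_act act ρF ρH hcompat]
    exact Algebra.subset_adjoin ⟨_, hM h m hm, rfl⟩
  | algebraMap r =>
    have : cj ρH h (algebraMap k _ r) = algebraMap k _ r := by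
      apply cj_of_commute
      exact (Algebra.commutes r (ρH h)).symm
    rw [this]
    exact Subalgebra.algebraMap_mem _ r
  | add x y _ _ hx hy => rw [cj_add]; exact Subalgebra.add_mem _ hx hy
  | mul x y _ _ hx hy => rw [cj_mul]; exact Subalgebra.mul_mem _ hx hy

lemma adjoin_comm (ρF : F →* Module.End k V) (M : Subgroup F)
    (hM : ∀ m ∈ M, ∀ f, ρF m * ρF f = ρF f * ρF m) :
    ∀ x ∈ Algebra.adjoin k (ρF '' (M : Set F)), ∀ y ∈ Algebra.adjoin k (ρF '' (M : Set F)),
      x * y = y * x := by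
  intro x hx y hy
  -- first: every element of the adjoin commutes with every generator
  have h1 : ∀ z ∈ Algebra.adjoin k (ρF '' (M : Set F)), ∀ m ∈ M, z * ρF m = ρF m * z :=
    fun z hz m _ => adjoin_commute_F ρF M hM z hz m
  have hle : Algebra.adjoin k (ρF '' (M : Set F)) ≤ Subalgebra.centralizer k {y} := by
    apply Algebra.adjoin_le
    rintro _ ⟨m, hm, rfl⟩
    rw [SetLike.mem_coe, Subalgebra.mem_centralizer_iff]
    intro z hz
    rw [Set.mem_singleton_iff] at hz
    subst hz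
    exact h1 z hy m hm
  have := hle hx
  rw [Subalgebra.mem_centralizer_iff] at this
  exact (this _ rfl).symm

theorem adjoin_ct_reduced [Finite F] (ρF : F →* Module.End k V) :
    ∀ b ∈ Algebra.adjoin k (ρF '' (ctSubgroup ρF : Set F)), b * b = 0 → b = 0 := by
  classical
  intro b hb hbb
  set M := ctSubgroup ρF with hMdef
  let ρ' : F →* (Module.End k V)ˣ := ρF.toHomUnits
  let G₀ : Subgroup (Module.End k V)ˣ := M.map ρ'
  have hfin : Finite G₀ := by
    have : Finite (ρ' '' (M : Set F)) := inferInstance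
    exact this
  let r : G₀ →* Module.End k V := (Units.coeHom _).comp G₀.subtype
  have hrange : Set.range r = ρF '' (M : Set F) := by
    ext x
    constructor
    · rintro ⟨⟨y, m, hm, rfl⟩, rfl⟩
      exact ⟨m, hm, rfl⟩
    · rintro ⟨m, hm, rfl⟩
      exact ⟨⟨ρ' m, m, hm, rfl⟩, rfl⟩
  have hMc : ∀ m ∈ M, ∀ f, ρF m * ρF f = ρF f * ρF m := fun m hm => hm.1
  have hN : (Nat.card G₀ : k) ≠ 0 := by
    intro h0
    have hdvd : ringChar k ∣ Nat.card G₀ := (ringChar.spec k _).mp h0
    have hpos : Nat.card G₀ ≠ 0 := Nat.card_pos.ne'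
    have hp0 : ringChar k ≠ 0 := by
      intro h; rw [h, zero_dvd_iff] at hdvd; exact hpos hdvd
    have hpp : (ringChar k).Prime := CharP.char_prime_of_ne_zero k hp0
    have : Fact (ringChar k).Prime := ⟨hpp⟩
    obtain ⟨x, hx⟩ := exists_prime_orderOf_dvd_card' (G := G₀) (ringChar k) hdvd
    obtain ⟨y, m, hm, hym⟩ := x
    obtain ⟨_, n, hn, hmn⟩ := hm
    have hxn : (⟨y, m, ⟨‹_›, n, hn, hmn⟩, hym⟩ : G₀) ^ n = 1 := by
      apply Subtype.ext
      apply Units.ext
      simp only [Subgroup.coe_pow, Units.val_pow_eq_pow_val, Subgroup.coe_one, Units.val_one]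
      rw [← hym]
      exact hmn
    have := orderOf_dvd_of_pow_eq_one hxn
    rw [hx] at this
    exact hn ((ringChar.spec k _).mpr this)
  apply eq_zero_of_sq_eq_zero_of_mem_adjoin r hN b _ (by rw [hrange]; exact hb) hbb
  intro x
  have hx : r x ∈ Algebra.adjoin k (ρF '' (M : Set F)) := by
    apply Algebra.subset_adjoin
    rw [← hrange]
    exact ⟨x, rfl⟩
  exact adjoin_comm ρF M hMc _ hx _ hb

end MainB

section MainC

variable {k : Type*} [Field k] {V : Type*} [AddCommGroup V] [Module k V]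

theorem relFree_of_field [Nontrivial V] {H : Type*} [Group H] [Fintype H]
    (B : Subalgebra k (Module.End k V))
    (hcomm : ∀ x ∈ B, ∀ y ∈ B, x * y = y * x)
    (hinv : ∀ x ∈ B, x ≠ 0 → ∃ y ∈ B, x * y = 1)
    (ρH : H →* Module.End k V)
    (hconj : ∀ h, ∀ b ∈ B, cj ρH h b ∈ B)
    (hfaith : ∀ h : H, h ≠ 1 → ∃ b ∈ B, cj ρH h b ≠ b) :
    ∃ π, RelFree ρH 1 π := by
  classical
  have hF : IsField B :=
    { exists_pair_ne := ⟨0, 1, fun h => zero_ne_one (congrArg Subtype.val h)⟩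
      mul_comm := fun x y => Subtype.ext (hcomm x x.2 y y.2)
      mul_inv_cancel := fun {x} hx => by
        obtain ⟨y, hy, hxy⟩ := hinv x x.2 (fun h => hx (Subtype.ext h))
        exact ⟨⟨y, hy⟩, Subtype.ext hxy⟩ }
  let _ : Field B := hF.toField
  let a : H →* RingAut B :=
    { toFun := fun h =>
        { toFun := fun b => ⟨cj ρH h b, hconj h b b.2⟩
          invFun := fun b => ⟨cj ρH h⁻¹ b, hconj h⁻¹ b b.2⟩
          left_inv := fun b => Subtype.ext (by simp [cj_cj])
          right_inv := fun b => Subtype.ext (by simp [cj_cj])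
          map_mul' := fun x y => Subtype.ext (cj_mul ρH h x y)
          map_add' := fun x y => Subtype.ext (cj_add ρH h x y) }
      map_one' := by ext b; simp
      map_mul' := fun g h => by ext b; simp [cj_cj] }
  have ha : Function.Injective a := by
    rw [injective_iff_map_eq_one]
    intro h hh
    by_contra hne
    obtain ⟨b, hb, hbne⟩ := hfaith h hne
    apply hbne
    have := congrArg (fun φ : RingAut B => ((φ ⟨b, hb⟩ : B) : Module.End k V)) hh
    exact this
  obtain ⟨θ, c, T1, T2⟩ := exists_dual_normal_group a ha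
  refine ⟨_, relFree_of_dual a B.val.toRingHom ρH ?_ θ c T1 T2⟩
  intro γ b
  change ρH γ * (b : Module.End k V) = cj ρH γ b * ρH γ
  unfold cj
  rw [mul_assoc, mul_assoc, u_inv_mul, mul_one]

end MainC

end Cfsg.Agent.Helper68
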