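import Mathlib
import Cfsg.Agent.Helper68.FrobFreeCore

namespace Cfsg.Agent.Helper68

open scoped BigOperators commutatorElement

universe u v

section Main

variable {k : Type*} [Field k] {F : Type*} [Group F] [Finite F] [Group.IsNilpotent F]

theorem frob_free_main :
    ∀ (n : ℕ) (H : Type u) [Group H] [Fintype H] (V : Type v) [AddCommGroup V] [Module k V]
      [FiniteDimensional k V] (act : H →* MulAut F)
      (_ : ∀ h : H, h ≠ 1 → ∀ f : F, act h f = f → f = 1)
      (ρF : F →* Module.End k V) (ρH : H →* Module.End k V)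
      (_ : ∀ h f, ρH h * ρF f = ρF (act h f) * ρH h)
      (_ : ∀ v : V, (∀ f, ρF f v = v) → v = 0),
      Module.finrank k V = n → ∃ π, RelFree ρH 1 π := by
  intro n
  induction n using Nat.strong_induction_on with
  | _ n IH =>
  intro H _ _ V _ _ _ act hfpf ρF ρH hcompat hCF hn
  classical
  rcases subsingleton_or_nontrivial V with hV | hV
  · refine ⟨0, ?_⟩
    have : Subsingleton (Module.End k V) :=
      ⟨fun a b => LinearMap.ext fun v => Subsingleton.elim _ _⟩
    exact ⟨Subsingleton.elim _ _, Subsingleton.elim _ _, Subsingleton.elim _ _,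
      fun _ _ => Subsingleton.elim _ _, Subsingleton.elim _ _⟩
  obtain ⟨m₀, hm₀c, hm₀n, hm₀1⟩ := exists_central_prime_element ρF hCF
  set M := ctSubgroup ρF with hM
  have hm₀M : m₀ ∈ M := ⟨hm₀c, hm₀n⟩
  have hMc : ∀ m ∈ M, ∀ f, ρF m * ρF f = ρF f * ρF m := fun m hm => hm.1
  have hMH : ∀ h, ∀ m ∈ M, act h m ∈ M := fun h m hm => act_mem_ct act ρF ρH hcompat h hm
  set B := Algebra.adjoin k (ρF '' (M : Set F)) with hB
  have hBcomm : ∀ x ∈ B, ∀ y ∈ B, x * y = y * x := adjoin_comm ρF M hMc
  have hBF : ∀ b ∈ B, ∀ f, b * ρF f = ρF f * b := adjoin_commute_F ρF M hMc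
  have hBH : ∀ h, ∀ b ∈ B, cj ρH h b ∈ B := adjoin_cj_mem act ρF ρH hcompat M hMH
  have hBred : ∀ b ∈ B, b * b = 0 → b = 0 := adjoin_ct_reduced ρF
  -- faithfulness of the conjugation action of `H` on `B`
  have hfaith : ∀ h : H, h ≠ 1 → ∃ b ∈ B, cj ρH h b ≠ b := by
    intro h hh
    by_contra hno
    push Not at hno
    have hfix : ∀ m ∈ M, ρF (act h m) = ρF m := fun m hm => by
      rw [rho_act act ρF ρH hcompat]
      exact hno _ (Algebra.subset_adjoin ⟨m, hm, rfl⟩)
    let φ : M → M := fun m =>
      ⟨(m : F)⁻¹ * act h m, M.mul_mem (M.inv_mem m.2) (hMH h m m.2)⟩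
    have hφinj : Function.Injective φ := by
      intro a b hab
      have h1 : (a : F)⁻¹ * act h a = (b : F)⁻¹ * act h b := congrArg Subtype.val hab
      have h2 : act h ((b : F) * (a : F)⁻¹) = (b : F) * (a : F)⁻¹ := by
        rw [map_mul, map_inv]
        have : act h a = (a : F) * ((b : F)⁻¹ * act h b) := by
          rw [← h1, mul_inv_cancel_left]
        rw [this]
        group
      have h3 := hfpf h hh _ h2
      apply Subtype.ext
      rw [mul_inv_eq_one] at h3
      exact h3.symm
    have hφsurj : Function.Surjective φ := Finite.injective_iff_surjective.mp hφinj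
    obtain ⟨m, hm⟩ := hφsurj ⟨m₀, hm₀M⟩
    apply hm₀1
    have : m₀ = (m : F)⁻¹ * act h m := (congrArg Subtype.val hm).symm
    rw [this, map_mul, hfix m m.2, ← map_mul, inv_mul_cancel, map_one]
  -- a nonzero idempotent of `B` of minimal rank
  have hex : ∃ n', ∃ e ∈ B, e * e = e ∧ e ≠ 0 ∧ Module.finrank k (LinearMap.range e) = n' :=
    ⟨_, 1, B.one_mem, mul_one 1, one_ne_zero, rfl⟩
  obtain ⟨ε, hεB, hεε, hε0, hεr⟩ := Nat.find_spec hex
  have hεmin : ∀ e ∈ B, e * e = e → e ≠ 0 →
      Module.finrank k (LinearMap.range ε) ≤ Module.finrank k (LinearMap.range e) := by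
    intro e heB hee he0
    rw [hεr]
    exact Nat.find_min' hex ⟨e, heB, hee, he0, rfl⟩
  have hprim : ∀ e ∈ B, e * e = e → ε * e = 0 ∨ ε * e = ε := by
    intro e heB hee
    by_cases h0 : ε * e = 0
    · left; exact h0
    right
    have hidem : (ε * e) * (ε * e) = ε * e := by
      rw [mul_assoc, ← mul_assoc e, hBcomm e heB ε hεB, mul_assoc, hee, ← mul_assoc, hεε]
    have hle : LinearMap.range (ε * e) ≤ LinearMap.range ε := by
      rintro _ ⟨v, rfl⟩
      exact ⟨e v, rfl⟩
    have hrk := hεmin (ε * e) (B.mul_mem hεB heB) hidem h0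
    have heq : LinearMap.range (ε * e) = LinearMap.range ε :=
      Submodule.eq_of_le_of_finrank_le hle hrk
    have h1 : (ε * e) * ε = ε := by
      ext v
      have : ε v ∈ LinearMap.range (ε * e) := by rw [heq]; exact ⟨v, rfl⟩
      obtain ⟨w, hw⟩ := this
      rw [Module.End.mul_apply, ← hw, ← Module.End.mul_apply, hidem]
    calc ε * e = ε * ε * e := by rw [hεε]
      _ = ε * (ε * e) := mul_assoc _ _ _
      _ = ε * (e * ε) := by rw [hBcomm ε hεB e heB]
      _ = (ε * e) * ε := (mul_assoc _ _ _).symm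
      _ = ε := h1
  by_cases hε1 : ε = 1
  · -- `B` is a field
    subst hε1
    have hidem_triv : ∀ e ∈ B, e * e = e → e = 0 ∨ e = 1 := by
      intro e heB hee
      have := hprim e heB hee
      rwa [one_mul] at this
    let _ : CommRing B :=
      { (inferInstance : Ring B) with
        mul_comm := fun x y => Subtype.ext (hBcomm x x.2 y y.2) }
    have : IsArtinianRing B := IsArtinianRing.of_finite k B
    have : IsReduced B := by
      rw [isReduced_iff_pow_one_lt 2 (by norm_num)]
      intro x hx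
      apply Subtype.ext
      apply hBred x x.2
      have := congrArg Subtype.val hx
      simpa [pow_two] using this
    have : Nontrivial B := ⟨⟨0, 1, fun h => zero_ne_one (congrArg Subtype.val h)⟩⟩
    have hfield : IsField B := isField_of_idempotents_trivial B (fun e hee => by
      rcases hidem_triv e e.2 (congrArg Subtype.val hee) with h | h
      · left; exact Subtype.ext h
      · right; exact Subtype.ext h)
    have hinv : ∀ x ∈ B, x ≠ 0 → ∃ y ∈ B, x * y = 1 := by
      intro x hx hx0
      obtain ⟨y, hy⟩ := hfield.mul_inv_cancel (a := ⟨x, hx⟩)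
        (fun h => hx0 (congrArg Subtype.val h))
      exact ⟨y, y.2, congrArg Subtype.val hy⟩
    exact relFree_of_field B hBcomm hinv ρH hBH hfaith
  · -- `B` has a nontrivial idempotent: induct
    let Γ : Subgroup H :=
      { carrier := {h | cj ρH h ε = ε}
        one_mem' := cj_one ρH ε
        mul_mem' := fun {a b} ha hb => by
          change cj ρH (a * b) ε = ε
          rw [← cj_cj, hb, ha]
        inv_mem' := fun {a} ha => by
          change cj ρH a⁻¹ ε = ε
          have : cj ρH a⁻¹ (cj ρH a ε) = ε := by rw [cj_cj, inv_mul_cancel, cj_one]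
          rwa [ha] at this }
    have hεorth : ∀ h : H, h ∉ Γ → ε * cj ρH h ε = 0 := by
      intro h hh
      have he'B : cj ρH h ε ∈ B := hBH h ε hεB
      have he'idem : cj ρH h ε * cj ρH h ε = cj ρH h ε := by rw [← cj_mul, hεε]
      rcases hprim _ he'B he'idem with h0 | h1
      · exact h0
      · exfalso
        have he''B : cj ρH h⁻¹ ε ∈ B := hBH h⁻¹ ε hεB
        have he''idem : cj ρH h⁻¹ ε * cj ρH h⁻¹ ε = cj ρH h⁻¹ ε := by rw [← cj_mul, hεε]
        rcases hprim _ he''B he''idem with g0 | g1
        · have := congrArg (cj ρH h) g0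
          rw [cj_mul, cj_cj, mul_inv_cancel, cj_one, cj_zero] at this
          apply hε0
          rw [← h1, hBcomm ε hεB _ he'B, this]
        · have := congrArg (cj ρH h) g1
          rw [cj_mul, cj_cj, mul_inv_cancel, cj_one] at this
          apply hh
          change cj ρH h ε = ε
          calc cj ρH h ε = cj ρH h ε * ε := this.symm
            _ = ε * cj ρH h ε := (hBcomm ε hεB _ he'B).symm
            _ = ε := h1
    let _ : Fintype Γ := Fintype.ofFinite Γ
    have hεF : ∀ f, ρF f * ε = ε * ρF f := fun f => (hBF ε hεB f).symm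
    have hεΓ : ∀ g : Γ, (ρH.comp Γ.subtype) g * ε = ε * (ρH.comp Γ.subtype) g := by
      intro g
      have hg : cj ρH (g : H) ε = ε := g.2
      change ρH g * ε = ε * ρH g
      calc ρH g * ε = ρH g * ε * (ρH (g : H)⁻¹ * ρH g) := by rw [u_inv_mul, mul_one]
        _ = cj ρH g ε * ρH g := by unfold cj; simp only [mul_assoc]
        _ = ε * ρH g := by rw [hg]
    have hlt₁ : Module.finrank k (LinearMap.range ε) < n := by
      rw [← hn]
      exact finrank_range_lt hεε hε1
    obtain ⟨π₁, hπ₁⟩ := IH _ hlt₁ Γ (LinearMap.range ε) (act.comp Γ.subtype)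
      (fun g hg f hf => hfpf g (fun h => hg (Subtype.ext h)) f hf)
      (restrictRep ρF _ (range_invariant ρF ε hεF))
      (restrictRep (ρH.comp Γ.subtype) _ (range_invariant _ ε hεΓ))
      (fun g f => restrictRep_mul_eq _ _ _ _ _ g f _ (hcompat g f))
      (fun v hv => Subtype.ext (hCF v (fun f => congrArg Subtype.val (hv f))))
      rfl
    have hT₁ := RelFree.transport (ρH.comp Γ.subtype) ε hεε hεΓ hπ₁
    obtain ⟨hσ, T, hT⟩ := RelFree.induce Γ hT₁ hεorth
    set π₁' := cornerHom ε hεε π₁ with hπ₁'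
    set σ := ∑ h : H, cj ρH h π₁' with hσdef
    have hσσ : σ * σ = σ := hσ.e_idem
    have hσH : ∀ h, ρH h * σ = σ * ρH h := hσ.e_comm
    have hσB : σ ∈ B := by
      rw [hT]
      exact B.sum_mem (fun t _ => hBH t ε hεB)
    have hσF : ∀ f, ρF f * σ = σ * ρF f := fun f => (hBF σ hσB f).symm
    have hπ₁'0 : π₁' ≠ 0 := by
      intro h0
      apply hε0
      rw [← hT₁.sum]
      apply Finset.sum_eq_zero
      intro g _
      rw [h0, cj_zero]
    have hσ0 : σ ≠ 0 := by
      intro h0
      apply hπ₁'0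
      rw [← hσ.left, h0, zero_mul]
    -- the complementary idempotent
    have he₂ : (1 - σ) * (1 - σ) = 1 - σ := by
      rw [mul_sub, sub_mul, sub_mul, one_mul, mul_one, one_mul, hσσ, sub_self, sub_zero]
    have he₂H : ∀ h, ρH h * (1 - σ) = (1 - σ) * ρH h := fun h => by
      rw [mul_sub, sub_mul, mul_one, one_mul, hσH]
    have he₂F : ∀ f, ρF f * (1 - σ) = (1 - σ) * ρF f := fun f => by
      rw [mul_sub, sub_mul, mul_one, one_mul, hσF]
    have he₂1 : (1 - σ) ≠ 1 := by
      intro h
      apply hσ0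
      have : σ = 1 - (1 - σ) := by abel
      rw [this, h, sub_self]
    have hlt₂ : Module.finrank k (LinearMap.range (1 - σ)) < n := by
      rw [← hn]
      exact finrank_range_lt he₂ he₂1
    obtain ⟨π₂, hπ₂⟩ := IH _ hlt₂ H (LinearMap.range (1 - σ)) act hfpf
      (restrictRep ρF _ (range_invariant ρF (1 - σ) he₂F))
      (restrictRep ρH _ (range_invariant ρH (1 - σ) he₂H))
      (fun g f => restrictRep_mul_eq _ _ _ _ _ g f _ (hcompat g f))
      (fun v hv => Subtype.ext (hCF v (fun f => congrArg Subtype.val (hv f))))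
      rfl
    have hT₂ := RelFree.transport ρH (1 - σ) he₂ he₂H hπ₂
    have hfinal := RelFree.add hσ hT₂
      (by rw [mul_sub, mul_one, hσσ, sub_self])
      (by rw [sub_mul, one_mul, hσσ, sub_self])
      hσH he₂H
    rw [add_sub_cancel] at hfinal
    exact ⟨_, hfinal⟩

end Main

end Cfsg.Agent.Helper68
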