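import Mathlib

set_option autoImplicit false

/-!
# Five-group facts for S4291 (helper89's board post #3661, piece W3)

For `Γ ∈ {A₄, S₄, A₅, S₅}`: `Γ` is not a Z-group and its normal Z-subgroups are trivial;
`DihedralGroup 2` (the four-group) is not a Z-group.

Everything rests on `not_isZGroup_of_two_involutions`: a finite group with two distinct commuting
involutions is not a Z-group.
-/

namespace Cfsg.Agent.Helper68.FrobZW3

open Subgroup

/-- a cyclic group has at most one involution -/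
theorem eq_of_orderOf_two_of_isCyclic {K : Type*} [Group K] [Finite K] [IsCyclic K] {x y : K}
    (hx : orderOf x = 2) (hy : orderOf y = 2) : x = y := by
  classical
  haveI : Fintype K := Fintype.ofFinite K
  have h2 : 2 ∣ Fintype.card K := by rw [← hx]; exact orderOf_dvd_card
  have h := IsCyclic.card_orderOf_eq_totient (α := K) h2
  rw [Nat.totient_two, Finset.card_eq_one] at h
  obtain ⟨z, hz⟩ := h
  have hx' : x ∈ Finset.univ.filter (fun a : K => orderOf a = 2) := by simp [hx]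
  have hy' : y ∈ Finset.univ.filter (fun a : K => orderOf a = 2) := by simp [hy]
  rw [hz, Finset.mem_singleton] at hx' hy'
  rw [hx', hy']

/-- a finite group with two distinct commuting involutions is not a Z-group -/
theorem not_isZGroup_of_two_involutions {Γ : Type*} [Group Γ] [Finite Γ] {a b : Γ}
    (ha : orderOf a = 2) (hb : orderOf b = 2) (hab : a ≠ b) (hcomm : a * b = b * a) :
    ¬ IsZGroup Γ := by
  intro hZ
  haveI : Fact (Nat.Prime 2) := ⟨Nat.prime_two⟩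
  have hA : IsPGroup 2 (zpowers a) :=
    IsPGroup.of_card (n := 1) (by rw [Nat.card_zpowers, ha, pow_one])
  have hB : IsPGroup 2 (zpowers b) :=
    IsPGroup.of_card (n := 1) (by rw [Nat.card_zpowers, hb, pow_one])
  have hnorm : zpowers a ≤ Subgroup.normalizer (zpowers b : Set Γ) := by
    refine le_trans ?_ (Subgroup.centralizer_le_normalizer _)
    rw [zpowers_le, Subgroup.mem_centralizer_iff]
    intro h hh
    obtain ⟨k, rfl⟩ := mem_zpowers_iff.mp hh
    have hc : Commute b a := hcomm.symm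
    exact (hc.zpow_left k).eq
  have hV : IsPGroup 2 (zpowers a ⊔ zpowers b : Subgroup Γ) :=
    IsPGroup.to_sup_of_normal_right' hA hB hnorm
  haveI : IsCyclic ↥(zpowers a ⊔ zpowers b : Subgroup Γ) := hV.isCyclic_of_isZGroup
  have haV : a ∈ zpowers a ⊔ zpowers b := le_sup_left (a := zpowers a) (mem_zpowers a)
  have hbV : b ∈ zpowers a ⊔ zpowers b := le_sup_right (b := zpowers b) (mem_zpowers b)
  have h := eq_of_orderOf_two_of_isCyclic
    (x := (⟨a, haV⟩ : ↥(zpowers a ⊔ zpowers b : Subgroup Γ))) (y := ⟨b, hbV⟩)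
    (by rw [Subgroup.orderOf_mk, ha]) (by rw [Subgroup.orderOf_mk, hb])
  exact hab (congrArg Subtype.val h)

theorem orderOf_eq_two_of_mul_self {Γ : Type*} [Group Γ] {a : Γ} (h : a * a = 1) (h1 : a ≠ 1) :
    orderOf a = 2 :=
  orderOf_eq_prime (by rw [pow_two]; exact h) h1

/-- a normal subgroup containing two distinct commuting involutions is not a Z-group -/
theorem not_isZGroup_subgroup {Γ : Type*} [Group Γ] [Finite Γ] (X : Subgroup Γ) {a b : Γ}
    (haX : a ∈ X) (hbX : b ∈ X) (ha : a * a = 1) (ha1 : a ≠ 1) (hb : b * b = 1) (hb1 : b ≠ 1)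
    (hab : a ≠ b) (hcomm : a * b = b * a) : ¬ IsZGroup X := by
  apply not_isZGroup_of_two_involutions (a := (⟨a, haX⟩ : X)) (b := ⟨b, hbX⟩)
  · exact orderOf_eq_two_of_mul_self (Subtype.ext ha) (fun h => ha1 (congrArg Subtype.val h))
  · exact orderOf_eq_two_of_mul_self (Subtype.ext hb) (fun h => hb1 (congrArg Subtype.val h))
  · exact fun h => hab (congrArg Subtype.val h)
  · exact Subtype.ext hcomm

/-! ### not Z-groups -/

theorem not_isZGroup_D2 : ¬ IsZGroup (DihedralGroup 2) :=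
  not_isZGroup_of_two_involutions (a := DihedralGroup.r 1) (b := DihedralGroup.sr 0)
    (orderOf_eq_two_of_mul_self (by decide) (by decide))
    (orderOf_eq_two_of_mul_self (by decide) (by decide)) (by decide) (by decide)

theorem not_isZGroup_S4 : ¬ IsZGroup (Equiv.Perm (Fin 4)) :=
  not_isZGroup_of_two_involutions
    (a := Equiv.swap (0 : Fin 4) 1 * Equiv.swap 2 3) (b := Equiv.swap (0 : Fin 4) 2 * Equiv.swap 1 3)
    (orderOf_eq_two_of_mul_self (by decide) (by decide))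
    (orderOf_eq_two_of_mul_self (by decide) (by decide)) (by decide) (by decide)

theorem not_isZGroup_S5 : ¬ IsZGroup (Equiv.Perm (Fin 5)) :=
  not_isZGroup_of_two_involutions
    (a := Equiv.swap (0 : Fin 5) 1 * Equiv.swap 2 3) (b := Equiv.swap (0 : Fin 5) 2 * Equiv.swap 1 3)
    (orderOf_eq_two_of_mul_self (by decide) (by decide))
    (orderOf_eq_two_of_mul_self (by decide) (by decide)) (by decide) (by decide)

theorem not_isZGroup_A4 : ¬ IsZGroup (alternatingGroup (Fin 4)) :=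
  not_isZGroup_of_two_involutions
    (a := ⟨Equiv.swap (0 : Fin 4) 1 * Equiv.swap 2 3, Equiv.Perm.mem_alternatingGroup.mpr (by decide)⟩)
    (b := ⟨Equiv.swap (0 : Fin 4) 2 * Equiv.swap 1 3, Equiv.Perm.mem_alternatingGroup.mpr (by decide)⟩)
    (orderOf_eq_two_of_mul_self (by decide) (by decide))
    (orderOf_eq_two_of_mul_self (by decide) (by decide)) (by decide) (by decide)

theorem not_isZGroup_A5 : ¬ IsZGroup (alternatingGroup (Fin 5)) :=
  not_isZGroup_of_two_involutions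
    (a := ⟨Equiv.swap (0 : Fin 5) 1 * Equiv.swap 2 3, Equiv.Perm.mem_alternatingGroup.mpr (by decide)⟩)
    (b := ⟨Equiv.swap (0 : Fin 5) 2 * Equiv.swap 1 3, Equiv.Perm.mem_alternatingGroup.mpr (by decide)⟩)
    (orderOf_eq_two_of_mul_self (by decide) (by decide))
    (orderOf_eq_two_of_mul_self (by decide) (by decide)) (by decide) (by decide)

/-! ### normal Z-subgroups are trivial -/

theorem normal_zgroup_eq_bot_A5 (X : Subgroup (alternatingGroup (Fin 5))) [X.Normal]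
    [IsZGroup X] : X = ⊥ := by
  rcases (inferInstance : X.Normal).eq_bot_or_eq_top with h | h
  · exact h
  · exfalso
    apply not_isZGroup_A5
    subst h
    exact IsZGroup.of_injective
      (f := ((Subgroup.topEquiv (G := alternatingGroup (Fin 5))).symm :
        alternatingGroup (Fin 5) →* ↥(⊤ : Subgroup (alternatingGroup (Fin 5)))))
      (MulEquiv.injective _)

theorem normal_zgroup_eq_bot_S5 (X : Subgroup (Equiv.Perm (Fin 5))) [X.Normal] [IsZGroup X] :
    X = ⊥ := by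
  by_contra hne
  have hnt : Nontrivial X := (Subgroup.nontrivial_iff_ne_bot X).mpr hne
  have hle : alternatingGroup (Fin 5) ≤ X :=
    Equiv.Perm.alternatingGroup_le_of_normal (by simp) hnt
  apply not_isZGroup_A5
  exact IsZGroup.of_injective (f := Subgroup.inclusion hle) (Subgroup.inclusion_injective hle)

set_option maxRecDepth 100000 in
theorem key_S4 : ∀ g : Equiv.Perm (Fin 4), g ≠ 1 → ∃ h k : Equiv.Perm (Fin 4),
    (h * g * h⁻¹ * g⁻¹) * (h * g * h⁻¹ * g⁻¹) = 1 ∧ h * g * h⁻¹ * g⁻¹ ≠ 1 ∧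
    k * (h * g * h⁻¹ * g⁻¹) * k⁻¹ ≠ h * g * h⁻¹ * g⁻¹ ∧
    (h * g * h⁻¹ * g⁻¹) * (k * (h * g * h⁻¹ * g⁻¹) * k⁻¹) =
      (k * (h * g * h⁻¹ * g⁻¹) * k⁻¹) * (h * g * h⁻¹ * g⁻¹) := by decide

set_option maxRecDepth 100000 in
theorem key_A4 : ∀ g : alternatingGroup (Fin 4), g ≠ 1 → ∃ h k : alternatingGroup (Fin 4),
    (h * g * h⁻¹ * g⁻¹) * (h * g * h⁻¹ * g⁻¹) = 1 ∧ h * g * h⁻¹ * g⁻¹ ≠ 1 ∧
    k * (h * g * h⁻¹ * g⁻¹) * k⁻¹ ≠ h * g * h⁻¹ * g⁻¹ ∧
    (h * g * h⁻¹ * g⁻¹) * (k * (h * g * h⁻¹ * g⁻¹) * k⁻¹) =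
      (k * (h * g * h⁻¹ * g⁻¹) * k⁻¹) * (h * g * h⁻¹ * g⁻¹) := by decide

/-- if every non-identity element of `Γ` has, in its normal closure, two distinct commuting
involutions (of the shape in `key_S4`), then the normal Z-subgroups of `Γ` are trivial -/
theorem normal_zgroup_eq_bot_of_key {Γ : Type*} [Group Γ] [Finite Γ]
    (key : ∀ g : Γ, g ≠ 1 → ∃ h k : Γ,
      (h * g * h⁻¹ * g⁻¹) * (h * g * h⁻¹ * g⁻¹) = 1 ∧ h * g * h⁻¹ * g⁻¹ ≠ 1 ∧
      k * (h * g * h⁻¹ * g⁻¹) * k⁻¹ ≠ h * g * h⁻¹ * g⁻¹ ∧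
      (h * g * h⁻¹ * g⁻¹) * (k * (h * g * h⁻¹ * g⁻¹) * k⁻¹) =
        (k * (h * g * h⁻¹ * g⁻¹) * k⁻¹) * (h * g * h⁻¹ * g⁻¹))
    (X : Subgroup Γ) [hX : X.Normal] [hZ : IsZGroup X] : X = ⊥ := by
  by_contra hne
  obtain ⟨g, hgX, hg1⟩ := (Subgroup.ne_bot_iff_exists_ne_one.mp hne |>.imp fun g hg => hg) |>
    fun ⟨g, hg⟩ => (⟨(g : Γ), g.2, fun h => hg (Subtype.ext h)⟩ : ∃ g : Γ, g ∈ X ∧ g ≠ 1)
  obtain ⟨h, k, h1, h2, h3, h4⟩ := key g hg1
  have haX : h * g * h⁻¹ * g⁻¹ ∈ X := X.mul_mem (hX.conj_mem g hgX h) (X.inv_mem hgX)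
  have hbX : k * (h * g * h⁻¹ * g⁻¹) * k⁻¹ ∈ X := hX.conj_mem _ haX k
  have hb2 : (k * (h * g * h⁻¹ * g⁻¹) * k⁻¹) * (k * (h * g * h⁻¹ * g⁻¹) * k⁻¹) = 1 := by
    have : (k * (h * g * h⁻¹ * g⁻¹) * k⁻¹) * (k * (h * g * h⁻¹ * g⁻¹) * k⁻¹) =
        k * ((h * g * h⁻¹ * g⁻¹) * (h * g * h⁻¹ * g⁻¹)) * k⁻¹ := by group
    rw [this, h1]; group
  have hb1 : k * (h * g * h⁻¹ * g⁻¹) * k⁻¹ ≠ 1 := by
    intro hb
    apply h2
    have : h * g * h⁻¹ * g⁻¹ = k⁻¹ * (k * (h * g * h⁻¹ * g⁻¹) * k⁻¹) * k := by group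
    rw [this, hb]; group
  exact not_isZGroup_subgroup X haX hbX h1 h2 hb2 hb1 (Ne.symm h3) h4 hZ

theorem normal_zgroup_eq_bot_S4 (X : Subgroup (Equiv.Perm (Fin 4))) [X.Normal] [IsZGroup X] :
    X = ⊥ :=
  normal_zgroup_eq_bot_of_key key_S4 X

theorem normal_zgroup_eq_bot_A4 (X : Subgroup (alternatingGroup (Fin 4))) [X.Normal]
    [IsZGroup X] : X = ⊥ :=
  normal_zgroup_eq_bot_of_key key_A4 X

end Cfsg.Agent.Helper68.FrobZW3
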