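import Cfsg.Agent.Helper78.HKDefs
import Cfsg.Agent.Helper78.BlockTransport
import Cfsg.Agent.S0920
import Cfsg.Agent.Helper93.HK_C1

/-!
# Harris–Knörr (S4674), piece F: Brauer's first main theorem inside a subgroup `K`, flat form

For a `p`-subgroup `Q ≤ K`, blocks of `N_G(Q) ∩ K` with defect group `Q` induce (inside `K`)
blocks of `K` with defect group `Q`, and the inducing block is unique.  This is S0920 in the
group `↥K`, transported along `τ : ↥(N_G(Q) ⊓ K) ≃* ↥(N_K(Q))`.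

`flat_first_main_core` takes piece C1 (`isInducedBlockIn_iff_of_equiv`) as a hypothesis.
-/

set_option autoImplicit false

namespace Cfsg.Agent.Helper68.HKF

open Cfsg Cfsg.Agent.Helper78

universe u

variable {G : Type u} [Group G] [Fintype G] {M : Ideal AlgInt} {p : ℕ}

/-- `↥(N_G(Q) ⊓ K) ≃* ↥(N_K(Q ∩ K))`, the identity on underlying elements -/
noncomputable def tauEquiv (K Q : Subgroup G) (hQK : Q ≤ K) :
    ↥(Subgroup.normalizer (Q : Set G) ⊓ K) ≃*
      ↥(Subgroup.normalizer ((Q.subgroupOf K : Subgroup K) : Set K)) :=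
  (Subgroup.subgroupOfEquivOfLe
    (inf_le_right : Subgroup.normalizer (Q : Set G) ⊓ K ≤ K)).symm.trans
    (MulEquiv.subgroupCongr (by
      rw [Subgroup.inf_subgroupOf_right, Subgroup.subgroupOf_normalizer_eq hQK]))

theorem tauEquiv_coe (K Q : Subgroup G) (hQK : Q ≤ K)
    (x : ↥(Subgroup.normalizer (Q : Set G) ⊓ K)) :
    ((tauEquiv K Q hQK x : ↥K) : G) = (x : G) := rfl

theorem map_tauEquiv (K Q : Subgroup G) (hQK : Q ≤ K) :
    (Q.subgroupOf (Subgroup.normalizer (Q : Set G) ⊓ K)).map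
      ((tauEquiv K Q hQK : ↥(Subgroup.normalizer (Q : Set G) ⊓ K) ≃* _) :
        ↥(Subgroup.normalizer (Q : Set G) ⊓ K) →*
          ↥(Subgroup.normalizer ((Q.subgroupOf K : Subgroup K) : Set K))) =
      (Q.subgroupOf K).subgroupOf
        (Subgroup.normalizer ((Q.subgroupOf K : Subgroup K) : Set K)) := by
  ext n
  simp only [Subgroup.mem_map, Subgroup.mem_subgroupOf, MonoidHom.coe_coe]
  constructor
  · rintro ⟨n', hn', rfl⟩
    rw [tauEquiv_coe]; exact hn'
  · intro hn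
    refine ⟨(tauEquiv K Q hQK).symm n, ?_, MulEquiv.apply_symm_apply _ _⟩
    rw [← tauEquiv_coe K Q hQK, MulEquiv.apply_symm_apply]
    exact hn

theorem flat_first_main_core [Fact p.Prime] (hM : IsPModular p M) (K Q : Subgroup G)
    (hQK : Q ≤ K) (hQ : IsPGroup p Q)
    (hC1 : ∀ (b : Set (IrrCharacter ↥(Subgroup.normalizer (Q : Set G) ⊓ K)))
      (β : Set (IrrCharacter ↥K)),
      IsInducedBlockIn M K (Subgroup.normalizer (Q : Set G) ⊓ K) b β ↔
        IsInducedBlock M (Subgroup.normalizer ((Q.subgroupOf K : Subgroup K) : Set K))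
          (irrMap (tauEquiv K Q hQK) '' b) β) :
    (∀ e₁ : Set (IrrCharacter ↥(Subgroup.normalizer (Q : Set G) ⊓ K)), IsPBlock M e₁ →
      IsDefectGroup p M e₁ (Q.subgroupOf (Subgroup.normalizer (Q : Set G) ⊓ K)) →
      ∃ d₁ : Set (IrrCharacter ↥K), IsPBlock M d₁ ∧ IsDefectGroup p M d₁ (Q.subgroupOf K) ∧
        IsInducedBlockIn M K (Subgroup.normalizer (Q : Set G) ⊓ K) e₁ d₁) ∧
    (∀ (d₁ : Set (IrrCharacter ↥K))
      (e₁ e₂ : Set (IrrCharacter ↥(Subgroup.normalizer (Q : Set G) ⊓ K))),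
      IsDefectGroup p M e₁ (Q.subgroupOf (Subgroup.normalizer (Q : Set G) ⊓ K)) →
      IsInducedBlockIn M K (Subgroup.normalizer (Q : Set G) ⊓ K) e₁ d₁ →
      IsInducedBlockIn M K (Subgroup.normalizer (Q : Set G) ⊓ K) e₂ d₁ → e₂ = e₁) := by
  classical
  have hQK' : IsPGroup p (Q.subgroupOf K) := hQ.comap_subtype
  set τ := tauEquiv K Q hQK with hτ
  have hdef : ∀ e : Set (IrrCharacter ↥(Subgroup.normalizer (Q : Set G) ⊓ K)),
      IsDefectGroup p M e (Q.subgroupOf (Subgroup.normalizer (Q : Set G) ⊓ K)) →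
      IsDefectGroup p M (irrMap τ '' e) ((Q.subgroupOf K).subgroupOf
        (Subgroup.normalizer ((Q.subgroupOf K : Subgroup K) : Set K))) := by
    intro e he
    rw [← map_tauEquiv K Q hQK]
    exact isDefectGroup_image_irrMap p τ he
  refine ⟨fun e₁ he₁ hD₁ => ?_, fun d₁ e₁ e₂ hD₁ h1 h2 => ?_⟩
  · obtain ⟨B, hB, hDB, hind⟩ := Cfsg.Agent.S0920.part_one (G := ↥K) p M hM (Q.subgroupOf K) hQK'
      (irrMap τ '' e₁) (Helper77.isPBlock_image_irrMap τ he₁) (hdef e₁ hD₁)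
    exact ⟨B, hB, hDB, (hC1 e₁ B).mpr hind⟩
  · have h1' := (hC1 e₁ d₁).mp h1
    have h2' := (hC1 e₂ d₁).mp h2
    have key := Cfsg.Agent.S0920.part_two_unique (G := ↥K) p M hM (Q.subgroupOf K) hQK' d₁ h1.2.1
      (irrMap τ '' e₁) (irrMap τ '' e₂) (Helper77.isPBlock_image_irrMap τ h1.1) (hdef e₁ hD₁) h1'
      (Helper77.isPBlock_image_irrMap τ h2.1) h2'
    have := congrArg (fun S => irrMap τ.symm '' S) key
    simpa only [image_irrMap_symm_image_irrMap] using this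

/-- **Piece F** of S4674 (Harris–Knörr): the first main theorem inside `K`, flat form. -/
theorem flat_first_main [Fact p.Prime] (hM : IsPModular p M) (K Q : Subgroup G) (hQK : Q ≤ K) (hQ : IsPGroup p Q) : (∀ e₁ : Set (IrrCharacter ↥(Subgroup.normalizer (Q : Set G) ⊓ K)), IsPBlock M e₁ → IsDefectGroup p M e₁ (Q.subgroupOf (Subgroup.normalizer (Q : Set G) ⊓ K)) → ∃ d₁ : Set (IrrCharacter ↥K), IsPBlock M d₁ ∧ IsDefectGroup p M d₁ (Q.subgroupOf K) ∧ IsInducedBlockIn M K (Subgroup.normalizer (Q : Set G) ⊓ K) e₁ d₁) ∧ (∀ (d₁ : Set (IrrCharacter ↥K)) (e₁ e₂ : Set (IrrCharacter ↥(Subgroup.normalizer (Q : Set G) ⊓ K))), IsDefectGroup p M e₁ (Q.subgroupOf (Subgroup.normalizer (Q : Set G) ⊓ K)) → IsInducedBlockIn M K (Subgroup.normalizer (Q : Set G) ⊓ K) e₁ d₁ → IsInducedBlockIn M K (Subgroup.normalizer (Q : Set G) ⊓ K) e₂ d₁ → e₂ = e₁) :=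
  flat_first_main_core hM K Q hQK hQ fun _ _ =>
    Cfsg.Agent.Helper93.HKC1.isInducedBlockIn_iff_of_equiv _ (tauEquiv K Q hQK)
      (tauEquiv_coe K Q hQK)

end Cfsg.Agent.Helper68.HKF
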