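-- helper68: the Diophantine core for the column of a real element of order 3 in a simple
-- group of order 7920.
import Mathlib

set_option autoImplicit false

namespace Cfsg.Agent.Helper68.M11Three

theorem three_arith {b1 b2 b3 c e f g : ℤ} {N : ℕ}
    (h1 : 1 - b1 - b2 - b3 - c = 0) (h2 : 1 + e + 2 * c - f = 0)
    (h3 : 1 + 10 * (b1 + b2 + b3) + 32 * c + 11 * e + 44 * f + 55 * g = 0)
    (h4 : 1 + b1 ^ 2 + b2 ^ 2 + b3 ^ 2 + 2 * c ^ 2 + e ^ 2 + f ^ 2 + g ^ 2 = (N : ℤ))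
    (h8 : 0 ≤ 720 - 72 * (b1 ^ 2 + b2 ^ 2 + b3 ^ 2) - 45 * c ^ 2)
    (hb1 : b1 % 3 = 1) (hb2 : b2 % 3 = 1) (hb3 : b3 % 3 = 1) (hc : c % 3 = 1)
    (hN : N ∣ 144) : N = 18 := by
  have hN144 : (N : ℤ) ≤ 144 := by exact_mod_cast Nat.le_of_dvd (by norm_num) hN
  have hf : f = 1 + e + 2 * c := by linarith
  have hg : g = -1 - 2 * c - e := by linarith
  subst hf hg
  have q2 := sq_nonneg b1
  have q3 := sq_nonneg b2
  have q4 := sq_nonneg b3
  have q5 := sq_nonneg c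
  have q6 := sq_nonneg e
  have q7 := sq_nonneg (1 + e + 2 * c)
  have q8 := sq_nonneg (-1 - 2 * c - e)
  have B1 : b1 ^ 2 ≤ 10 := by linarith
  have B2 : b2 ^ 2 ≤ 10 := by linarith
  have B3 : b3 ^ 2 ≤ 10 := by linarith
  have C1 : c ^ 2 ≤ 16 := by linarith
  have E1 : e ^ 2 ≤ 143 := by linarith
  have bd : ∀ z : ℤ, z ^ 2 ≤ 10 → -3 ≤ z ∧ z ≤ 3 := by
    intro z hz
    constructor <;> nlinarith
  have bc : -4 ≤ c ∧ c ≤ 4 := by constructor <;> nlinarith
  have be : -11 ≤ e ∧ e ≤ 11 := by constructor <;> nlinarith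
  obtain ⟨l1, u1⟩ := bd b1 B1
  obtain ⟨l2, u2⟩ := bd b2 B2
  obtain ⟨l3, u3⟩ := bd b3 B3
  obtain ⟨lc, uc⟩ := bc
  obtain ⟨le, ue⟩ := be
  have v1 : b1 = -2 ∨ b1 = 1 := by omega
  have v2 : b2 = -2 ∨ b2 = 1 := by omega
  have v3 : b3 = -2 ∨ b3 = 1 := by omega
  have vc : c = -2 ∨ c = 1 ∨ c = 4 := by omega
  have hfin : ∀ M : ℕ, (M : ℤ) = (N : ℤ) → M ∣ 144 → M = 18 → N = 18 := by
    intro M hM _ h18
    have : M = N := by exact_mod_cast hM
    omega
  rcases v1 with rfl | rfl <;> rcases v2 with rfl | rfl <;> rcases v3 with rfl | rfl <;>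
    rcases vc with rfl | rfl | rfl <;> (try norm_num at h1) <;> (try norm_num at h8) <;>
    (interval_cases e <;> norm_num at h4 <;>
      (first
        | (have hNv : N = 18 := by exact_mod_cast h4.symm
           exact hNv)
        | (exfalso
           have hNv : ∃ M : ℕ, N = M ∧ ¬ M ∣ 144 := by
             refine ⟨_, by exact_mod_cast h4.symm, by norm_num⟩
           obtain ⟨M, rfl, hM⟩ := hNv
           exact hM hN)))

end Cfsg.Agent.Helper68.M11Three
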