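-- helper68: real elements of order 3 in a simple group of order 7920 have centralizer order 18
-- (a copy of helper20's argument for involutions, `Helper20.M11.card_centralizer_involution`).
import Mathlib
import Cfsg.Agent.Helper20.M11Inv
import Cfsg.Agent.Helper68.M11ThreeA

set_option autoImplicit false
set_option linter.style.haveILetI false

namespace Cfsg.Agent.Helper68.M11Three

open Cfsg Subgroup Cfsg.Agent.Helper17 Cfsg.Agent.Helper17.Exc Cfsg.Agent.Helper17.G4320
  Cfsg.Agent.Helper20.M11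
open scoped ComplexConjugate

universe u

/-- The centralizer of an element of order 11 has order 11. -/
theorem no_commute_11' {G : Type u} [Group G] [Finite G] [IsSimpleGroup G]
    (h : Nat.card G = 7920) {w t : G} (hw : orderOf w = 11) (hc : w * t = t * w) :
    orderOf t ∣ 11 := by
  haveI : Fact (Nat.Prime 11) := ⟨by norm_num⟩
  obtain ⟨P, hPz⟩ := exists_sylow_eq_zpowers (fun P' => card_sylow11_sub h P') w hw
  have hP := card_sylow11_sub h P
  have hN : Nat.card (normalizer ((P : Subgroup G) : Set G)) = 11 * 5 := by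
    have := card_normalizer_mul_card_sylow P
    rw [card_sylow11 h, h] at this
    omega
  have hCself := self_centralizing_setup P hP (by rw [h]; norm_num) hN (by
    intro d hd1 _ hd5
    rcases (Nat.dvd_prime (by norm_num : Nat.Prime 5)).mp hd5 with h' | h'
    · omega
    · exact h')
  have hwP : w ∈ (P : Subgroup G) := by rw [hPz]; exact Subgroup.mem_zpowers w
  have hw1 : w ≠ 1 := by
    intro h1
    rw [h1, orderOf_one] at hw
    norm_num at hw
  have htC : t ∈ centralizer ({w} : Set G) := by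
    rw [Subgroup.mem_centralizer_singleton_iff]
    exact hc.symm
  have htP := hCself w hwP hw1 htC
  have := orderOf_dvd_natCard (⟨t, htP⟩ : (P : Subgroup G))
  rwa [Subgroup.orderOf_mk, hP] at this

/-- The value of an irreducible character at a real element of order 3 is an integer congruent
to the degree modulo 3. -/
theorem char_three_int {G : Type u} [Group G] [Fintype G] (χ : IrrCharacter G) {u : G}
    (hu : orderOf u = 3) (hreal : IsConj u u⁻¹) :
    ∃ a : ℤ, (χ : G → ℂ) u = a ∧ ((charDegree (χ : G → ℂ) : ℤ) ≡ a [ZMOD 3]) := by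
  classical
  have hχ := Helper74.irr_isCharacter χ
  have hcf := Helper74.irr_isClassFunction χ
  have hone : (χ : G → ℂ) 1 = (charDegree (χ : G → ℂ) : ℂ) :=
    Helper78.irrChar_one_eq_charDegree χ.2
  set Z : Subgroup G := zpowers u with hZ
  have hZcard : Nat.card Z = 3 := by rw [hZ, Nat.card_zpowers, hu]
  have hu1 : u ≠ 1 := by
    intro h1
    rw [h1, orderOf_one] at hu
    norm_num at hu
  have huZ : u ∈ Z := Subgroup.mem_zpowers u
  have hinv : (χ : G → ℂ) u⁻¹ = (χ : G → ℂ) u := by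
    obtain ⟨g, hg⟩ := isConj_iff.mp hreal
    rw [← hg]
    exact (hcf u g)
  have hconst : ∀ y ∈ Z, y ≠ 1 → (χ : G → ℂ) y = (χ : G → ℂ) u := by
    intro y hy hy1
    obtain ⟨k, rfl⟩ := Subgroup.mem_zpowers_iff.mp hy
    -- reduce `k` modulo 3
    have hk : u ^ k = u ^ (k % 3) := by
      have := (zpow_mod_orderOf u k).symm
      rw [hu] at this
      exact_mod_cast this
    have hk3 : 0 ≤ k % 3 ∧ k % 3 < 3 := ⟨Int.emod_nonneg _ (by norm_num), Int.emod_lt_of_pos _ (by norm_num)⟩
    rw [hk] at hy1 ⊢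
    obtain ⟨l0, l3⟩ := hk3
    interval_cases hkk : k % 3
    · simp at hy1
    · simp
    · have : u ^ (2 : ℤ) = u⁻¹ := by
        have h3 : u ^ (3 : ℕ) = 1 := by rw [← hu]; exact pow_orderOf_eq_one u
        have : u ^ (2 : ℕ) * u = 1 := by rw [← pow_succ]; exact h3
        have := eq_inv_of_mul_eq_one_left this
        exact_mod_cast this
      rw [this, hinv]
  let _ : Fintype Z := Fintype.ofFinite _
  have hnt : Nontrivial Z :=
    ⟨⟨⟨u, huZ⟩, 1, fun h' => hu1 (congrArg Subtype.val h')⟩⟩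
  have hA : IsCharacter Z (fun y : Z => (χ : G → ℂ) (y : G)) :=
    Helper74.isCharacter_restrict Z hχ
  obtain ⟨a, a', b, hTa, ha', _, hcong⟩ := Exc.const_congr hnt hA
    (Helper74.isCharacter_zero (G := Z)) 0 (T := (χ : G → ℂ) u) (by
      intro y hy
      have hy1 : (y : G) ≠ 1 := fun h' => hy (Subtype.ext h')
      simp only [Int.cast_zero, zero_mul, sub_zero]
      exact hconst y y.2 hy1)
  have ha'' : a' = charDegree (χ : G → ℂ) := by
    have h1 : (χ : G → ℂ) 1 = a' := ha'
    rw [hone] at h1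
    exact_mod_cast h1.symm
  rw [hZcard, ha''] at hcong
  exact ⟨a, hTa, by simpa using hcong⟩

set_option maxHeartbeats 3200000 in
/-- Real elements of order 3 have centralizer of order 18. -/
theorem card_centralizer_three {G : Type u} [Group G] [Fintype G]
    [Fintype (IrrCharacter G)] [IsSimpleGroup G] (h : Nat.card G = 7920) (T : Tab G) {t : G}
    (ht : orderOf t = 3) (hreal : IsConj t t⁻¹) :
    Nat.card (centralizer ({t} : Set G)) = 18 := by
  classical
  obtain ⟨A, hA, -⟩ := char_three_int T.ψ45 ht hreal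
  obtain ⟨b1, hb1, mb1⟩ := char_three_int T.ψa ht hreal
  obtain ⟨b2, hb2, mb2⟩ := char_three_int T.ψb ht hreal
  obtain ⟨b3, hb3, mb3⟩ := char_three_int T.ψc ht hreal
  obtain ⟨c, hc, mc⟩ := char_three_int T.Λ1 ht hreal
  obtain ⟨e, he, -⟩ := char_three_int T.χ11 ht hreal
  obtain ⟨f, hf, -⟩ := char_three_int T.χ44 ht hreal
  obtain ⟨g, hg, -⟩ := char_three_int T.χ55 ht hreal
  rw [T.hda] at mb1
  rw [T.hdb] at mb2
  rw [T.hdc] at mb3
  rw [T.hdΛ1] at mc
  -- defect zero
  have hA0 : A = 0 := by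
    have hk : 3 ^ (Nat.card G).factorization 3 ∣ 9 := by
      have h1 : 3 ^ (Nat.card G).factorization 3 ∣ Nat.card G := Nat.ordProj_dvd _ _
      generalize (Nat.card G).factorization 3 = k at h1 ⊢
      rw [h] at h1
      have h2 : (7920 : ℕ) = 9 * 880 := by norm_num
      rw [h2] at h1
      exact (Nat.Coprime.pow_left k (by norm_num : Nat.Coprime 3 880)).dvd_of_dvd_mul_right h1
    have h0 := Helper74.irr_eq_zero_of_defect_zero T.ψ45 (p := 3) (by norm_num)
      (by rw [T.hd45]; exact hk.trans (by norm_num)) t (by rw [ht])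
    rw [hA] at h0
    exact_mod_cast h0
  subst hA0
  have hc' : (T.Λ2 : G → ℂ) t = c := by
    rw [← hc]
    symm
    apply T.hoff t
    intro k hmem
    have h1 := orderOf_dvd_natCard (⟨_, hmem⟩ : Subgroup.zpowers T.x)
    rw [Subgroup.orderOf_mk, Nat.card_zpowers, T.hx, orderOf_conj', ht] at h1
    norm_num at h1
  have hprinc : ∀ y : G, ((Helper79.principalIrr G : IrrCharacter G) : G → ℂ) y = 1 :=
    fun _ => rfl
  have hncx : ¬ IsConj T.x t := by
    intro hcj
    obtain ⟨k, hk⟩ := isConj_iff.mp hcj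
    have := orderOf_conj' k T.x
    rw [hk, ht, T.hx] at this
    norm_num at this
  have hncv : ¬ IsConj T.v t := by
    intro hcj
    obtain ⟨k, hk⟩ := isConj_iff.mp hcj
    have := orderOf_conj' k T.v
    rw [hk, ht, T.hv] at this
    norm_num at this
  have hnc1 : ¬ IsConj (1 : G) t := by
    intro hcj
    obtain ⟨k, hk⟩ := isConj_iff.mp hcj
    have := orderOf_conj' k (1 : G)
    rw [hk, ht, orderOf_one] at this
    norm_num at this
  have cI : ∀ z : ℤ, conj ((z : ℂ)) = z := fun z => map_intCast (starRingEnd ℂ) z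
  have hone : ∀ χ : IrrCharacter G, (χ : G → ℂ) 1 = (charDegree (χ : G → ℂ) : ℂ) :=
    fun χ => Helper78.irrChar_one_eq_charDegree χ.2
  -- orthogonality with x
  have E1 : (1 : ℂ) + (0 : ℤ) - b1 - b2 - b3 - c = 0 := by
    have hso := Helper74.second_orthogonality (G := G) T.x t
    rw [if_neg hncx, T.hsum] at hso
    rw [hprinc, hprinc, hA, hb1, hb2, hb3, hc, hc', he, hf, hg, T.hx45, T.hxa, T.hxb, T.hxc,
      T.hx11, T.hx44, T.hx55] at hso
    simp only [cI, map_one] at hso
    linear_combination hso - (c : ℂ) * T.hxΛ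
  -- orthogonality with v
  have E2 : (1 : ℂ) + e + 2 * c - f = 0 := by
    have hso := Helper74.second_orthogonality (G := G) T.v t
    rw [if_neg hncv, T.hsum] at hso
    rw [hprinc, hprinc, hA, hb1, hb2, hb3, hc, hc', he, hf, hg, T.hv45, T.hva, T.hvb, T.hvc,
      T.hvΛ1, T.hvΛ2, T.hv11, T.hv44, T.hv55] at hso
    simp only [cI, map_one] at hso
    linear_combination hso
  -- orthogonality with 1
  have E3 : (1 : ℂ) + 45 * (0 : ℤ) + 10 * (b1 + b2 + b3) + 32 * c + 11 * e + 44 * f + 55 * g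
      = 0 := by
    have hso := Helper74.second_orthogonality (G := G) (1 : G) t
    rw [if_neg hnc1, T.hsum] at hso
    rw [hprinc, hprinc, hA, hb1, hb2, hb3, hc, hc', he, hf, hg] at hso
    simp only [hone, T.hd45, T.hda, T.hdb, T.hdc, T.hdΛ1, T.hdΛ2, T.hd11, T.hd44, T.hd55, cI,
      map_one] at hso
    push_cast at hso
    push_cast
    linear_combination hso
  -- the centralizer order
  obtain ⟨N, hNdef⟩ : ∃ N : ℕ, N = Nat.card (centralizer ({t} : Set G)) := ⟨_, rfl⟩
  have E4 : (1 : ℂ) + ((0 : ℤ) : ℂ) ^ 2 + b1 ^ 2 + b2 ^ 2 + b3 ^ 2 + 2 * c ^ 2 + e ^ 2 + f ^ 2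
      + g ^ 2 = (N : ℂ) := by
    have hso := Helper74.second_orthogonality (G := G) t t
    rw [if_pos (IsConj.refl t), T.hsum, ← hNdef] at hso
    rw [hprinc, hA, hb1, hb2, hb3, hc, hc', he, hf, hg] at hso
    simp only [cI, map_one] at hso
    linear_combination hso
  -- class multiplication
  have hconjsum : conj ((T.Λ1 : G → ℂ) T.x) + conj ((T.Λ2 : G → ℂ) T.x) = -1 := by
    rw [← map_add, T.hxΛ]
    simp
  obtain ⟨cnt, hcnt⟩ : ∃ cnt : ℕ, cnt =
      Nat.card {p : G × G // IsConj t p.1 ∧ IsConj t p.2 ∧ p.1 * p.2 = T.x} := ⟨_, rfl⟩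
  obtain ⟨kk, hkk⟩ : ∃ kk : ℕ, kk = Nat.card {y : G // IsConj t y} := ⟨_, rfl⟩
  have hkpos : 0 < kk := by
    rw [hkk]
    have : Nonempty {y : G // IsConj t y} := ⟨⟨t, IsConj.refl t⟩⟩
    exact Nat.card_pos
  have E8 : (cnt : ℂ) * 7920 * 720 =
      (kk : ℂ) * kk * (720 - 72 * ((b1 : ℂ) ^ 2 + b2 ^ 2 + b3 ^ 2) - 45 * (c : ℂ) ^ 2) := by
    have hm := Cfsg.Agent.S0840.result t t T.x
    rw [← hcnt, ← hkk, finsum_eq_sum_of_fintype, T.hsum, h] at hm
    rw [hprinc, hprinc, hprinc, hA, hb1, hb2, hb3, hc, hc', he, hf, hg, T.hx45, T.hxa, T.hxb,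
      T.hxc, T.hx11, T.hx44, T.hx55] at hm
    simp only [hone, T.hd45, T.hda, T.hdb, T.hdc, T.hdΛ1, T.hdΛ2, T.hd11, T.hd44, T.hd55,
      map_one, map_neg, map_zero] at hm
    push_cast at hm
    rw [hm]
    have e2 : conj ((T.Λ2 : G → ℂ) T.x) = -1 - conj ((T.Λ1 : G → ℂ) T.x) := by
      linear_combination hconjsum
    rw [e2]
    field_simp
    ring
  -- integer versions
  have I1 : 1 - b1 - b2 - b3 - c = 0 := by
    have : (1 : ℂ) - b1 - b2 - b3 - c = 0 := by
      have := E1
      push_cast at this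
      linear_combination this
    exact_mod_cast this
  have I2 : 1 + e + 2 * c - f = 0 := by exact_mod_cast E2
  have I3 : 1 + 10 * (b1 + b2 + b3) + 32 * c + 11 * e + 44 * f + 55 * g = 0 := by
    have : (1 : ℂ) + 10 * (b1 + b2 + b3) + 32 * c + 11 * e + 44 * f + 55 * g = 0 := by
      have := E3
      push_cast at this
      linear_combination this
    exact_mod_cast this
  have I4 : 1 + b1 ^ 2 + b2 ^ 2 + b3 ^ 2 + 2 * c ^ 2 + e ^ 2 + f ^ 2 + g ^ 2 = (N : ℤ) := by
    have : (1 : ℂ) + b1 ^ 2 + b2 ^ 2 + b3 ^ 2 + 2 * c ^ 2 + e ^ 2 + f ^ 2 + g ^ 2 = (N : ℂ) := by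
      have := E4
      push_cast at this
      linear_combination this
    exact_mod_cast this
  have I8' : (cnt : ℤ) * 7920 * 720 =
      (kk : ℤ) * kk * (720 - 72 * (b1 ^ 2 + b2 ^ 2 + b3 ^ 2) - 45 * c ^ 2) := by
    exact_mod_cast E8
  have I8 : 0 ≤ 720 - 72 * (b1 ^ 2 + b2 ^ 2 + b3 ^ 2) - 45 * c ^ 2 := by
    by_contra hneg
    push Not at hneg
    have hk2 : (0 : ℤ) < (kk : ℤ) * kk := by positivity
    have h1 : (kk : ℤ) * kk * (720 - 72 * (b1 ^ 2 + b2 ^ 2 + b3 ^ 2) - 45 * c ^ 2) < 0 :=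
      mul_neg_of_pos_of_neg hk2 hneg
    have h2 : (0 : ℤ) ≤ (cnt : ℤ) * 7920 * 720 :=
      mul_nonneg (mul_nonneg (Int.natCast_nonneg cnt) (by norm_num)) (by norm_num)
    omega
  -- N divides 144
  have hN7920 : N ∣ 7920 := by
    rw [hNdef, ← h]
    exact Subgroup.card_subgroup_dvd_card _
  have h5 : ¬ 5 ∣ N := by
    intro hdiv
    haveI : Fact (Nat.Prime 5) := ⟨by norm_num⟩
    rw [hNdef] at hdiv
    obtain ⟨w', hw'⟩ := exists_prime_orderOf_dvd_card' (G := ↥(centralizer ({t} : Set G))) 5 hdiv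
    have hw5 : orderOf (w' : G) = 5 := by rw [Subgroup.orderOf_coe, hw']
    have hcomm : (w' : G) * t = t * (w' : G) := by
      have := w'.2
      rw [Subgroup.mem_centralizer_singleton_iff] at this
      exact this
    have htC : t ∈ centralizer ({(w' : G)} : Set G) := by
      rw [Subgroup.mem_centralizer_singleton_iff]
      exact hcomm.symm
    have := orderOf_dvd_natCard (⟨t, htC⟩ : centralizer ({(w' : G)} : Set G))
    rw [Subgroup.orderOf_mk, ht, T.hC5 _ hw5] at this
    norm_num at this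
  have h11 : ¬ 11 ∣ N := by
    intro hdiv
    haveI : Fact (Nat.Prime 11) := ⟨by norm_num⟩
    rw [hNdef] at hdiv
    obtain ⟨w', hw'⟩ := exists_prime_orderOf_dvd_card' (G := ↥(centralizer ({t} : Set G))) 11 hdiv
    have hw11 : orderOf (w' : G) = 11 := by rw [Subgroup.orderOf_coe, hw']
    have hcomm : (w' : G) * t = t * (w' : G) := by
      have := w'.2
      rw [Subgroup.mem_centralizer_singleton_iff] at this
      exact this
    have := no_commute_11' h hw11 hcomm
    rw [ht] at this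
    norm_num at this
  have hN144 : N ∣ 144 := by
    have h1 : N ∣ 144 * 55 := by
      have e : (144 * 55 : ℕ) = 7920 := by norm_num
      rw [e]; exact hN7920
    have hcop : Nat.Coprime N 55 := by
      have : (55 : ℕ) = 5 * 11 := by norm_num
      rw [this]
      apply Nat.Coprime.mul_right
      · exact ((Nat.Prime.coprime_iff_not_dvd (by norm_num)).mpr h5).symm
      · exact ((Nat.Prime.coprime_iff_not_dvd (by norm_num)).mpr h11).symm
    exact hcop.dvd_of_dvd_mul_right h1
  rw [← hNdef]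
  have m1 : b1 % 3 = 1 := by
    have := mb1.symm
    unfold Int.ModEq at this
    omega
  have m2 : b2 % 3 = 1 := by
    have := mb2.symm
    unfold Int.ModEq at this
    omega
  have m3 : b3 % 3 = 1 := by
    have := mb3.symm
    unfold Int.ModEq at this
    omega
  have m4 : c % 3 = 1 := by
    have := mc.symm
    unfold Int.ModEq at this
    omega
  exact three_arith I1 I2 I3 I4 I8 m1 m2 m3 m4 hN144

end Cfsg.Agent.Helper68.M11Three
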