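-- helper68: Sylow 3-normalizers in a simple group of order 7920 (group-theoretic part).
import Mathlib
import Cfsg.Agent.Helper68.M11ThreeB
import Cfsg.Agent.Helper17.SylowInter
import Cfsg.Agent.Helper17.SylowKit2

set_option autoImplicit false
set_option linter.style.haveILetI false

namespace Cfsg.Agent.Helper68.M11Three

open Cfsg Subgroup Cfsg.Agent.Helper17 Cfsg.Agent.Helper20.M11

universe u

section general

variable {G : Type*} [Group G]

/-- An element `w` with `w ^ q = 1` (`q` prime) acting freely by conjugation on a finite set `S`: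
`q ∣ |S|`. -/
theorem dvd_card_of_free_conj {q : ℕ} [Fact q.Prime] (w : G) (hw : w ^ q = 1)
    (S : Set G) [Finite S] (hS : ∀ s ∈ S, w * s * w⁻¹ ∈ S) (hfree : ∀ s ∈ S, w * s * w⁻¹ ≠ s) :
    q ∣ Nat.card S := by
  classical
  letI : Fintype S := Fintype.ofFinite S
  let f : Function.End S := fun s => ⟨w * s * w⁻¹, hS s s.2⟩
  have hpow : ∀ (n : ℕ) (s : S), (((f ^ n) s : S) : G) = w ^ n * s * (w ^ n)⁻¹ := by
    intro n
    induction n with
    | zero =>
      intro s
      simp only [pow_zero, one_mul, inv_one, mul_one]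
      rfl
    | succ n ih =>
      intro s
      rw [pow_succ]
      show (((f ^ n) (f s) : S) : G) = w ^ (n + 1) * s * (w ^ (n + 1))⁻¹
      rw [ih]
      show w ^ n * (w * s * w⁻¹) * (w ^ n)⁻¹ = w ^ (n + 1) * s * (w ^ (n + 1))⁻¹
      rw [pow_succ]
      group
  have hf : f ^ q ^ 1 = 1 := by
    funext s
    apply Subtype.ext
    rw [pow_one]
    have h1 := hpow q s
    rw [hw] at h1
    show (((f ^ q) s : S) : G) = (s : G)
    rw [h1]
    simp
  have hmod := Equiv.Perm.card_fixedPoints_modEq (f := f) (p := q) (n := 1) hf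
  have hempty : Fintype.card (Function.fixedPoints f) = 0 := by
    rw [Fintype.card_eq_zero_iff]
    refine ⟨fun ⟨s, hs⟩ => ?_⟩
    have h1 : f s = s := hs
    have h2 : ((f s : S) : G) = s := congrArg Subtype.val h1
    exact hfree s s.2 h2
  rw [hempty] at hmod
  rw [Nat.card_eq_fintype_card]
  exact (Nat.modEq_zero_iff_dvd).mp hmod

/-- A subgroup `H ≤ P`, `|P| = 9`, containing an element `a` of order 3 and an element outside
`⟨a⟩`, is `P`. -/
theorem eq_of_two_gens [Finite G] (P H : Subgroup G) (hP : Nat.card P = 9) (hHP : H ≤ P)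
    {a u : G} (ha : a ∈ H) (hu : u ∈ H) (ha3 : orderOf a = 3) (hua : u ∉ zpowers a) : H = P := by
  have hdvd : Nat.card H ∣ 9 := hP ▸ Subgroup.card_dvd_of_le hHP
  have hza : zpowers a ≤ H := zpowers_le.mpr ha
  have h3 : 3 ∣ Nat.card H := by
    have := Subgroup.card_dvd_of_le hza
    rwa [Nat.card_zpowers, ha3] at this
  have hle : Nat.card H ≤ 9 := Nat.le_of_dvd (by norm_num) hdvd
  have hcases : Nat.card H = 3 ∨ Nat.card H = 9 := by
    obtain ⟨k, hk⟩ := h3
    have hk3 : k ≤ 3 := by omega
    have hpos : 0 < Nat.card H := Nat.card_pos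
    interval_cases k
    · omega
    · left; omega
    · exfalso; rw [hk] at hdvd; norm_num at hdvd
    · right; omega
  rcases hcases with h | h
  · exfalso
    apply hua
    have : zpowers a = H :=
      Subgroup.eq_of_le_of_card_ge hza (by rw [h, Nat.card_zpowers, ha3])
    rw [this]; exact hu
  · exact Subgroup.eq_of_le_of_card_ge hHP (by rw [h, hP])

/-- An element of prime order `q ∤ 8` normalizing a group `P` of order 9 centralizes some
non-identity element of `P`. -/
theorem exists_commute_of_normalizer [Finite G] (P : Subgroup G) (hP : Nat.card P = 9) {q : ℕ}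
    [Fact q.Prime] (hq : ¬ q ∣ 8) (w : G) (hwq : orderOf w = q)
    (hwN : w ∈ normalizer (P : Set G)) : ∃ s ∈ P, s ≠ 1 ∧ w * s = s * w := by
  by_contra hcon
  push Not at hcon
  let S : Set G := {s | s ∈ P ∧ s ≠ 1}
  have hScard : Nat.card S = 8 := by
    have h1 : S = (P : Set G) \ {1} := by
      ext s; simp [S]
    rw [Nat.card_coe_set_eq, h1, Set.ncard_sdiff_singleton_of_mem (P.one_mem),
      ← Nat.card_coe_set_eq]
    have : Nat.card ((P : Set G)) = Nat.card P := rfl
    rw [this, hP]
  have hfin : Finite S := Set.Finite.subset (Set.toFinite (P : Set G)) (fun s hs => hs.1)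
  have := dvd_card_of_free_conj (q := q) w (by rw [← hwq]; exact pow_orderOf_eq_one w) S
    (by
      rintro s ⟨hs, hs1⟩
      refine ⟨(Subgroup.mem_normalizer_iff.mp hwN s).mp hs, ?_⟩
      intro h1
      apply hs1
      have : w * s = w := by
        have := mul_inv_eq_one.mp h1
        exact this
      exact mul_left_cancel (this.trans (mul_one w).symm))
    (by
      rintro s ⟨hs, hs1⟩ heq
      exact hcon s hs hs1 (mul_inv_eq_iff_eq_mul.mp heq))
  rw [hScard] at this
  exact hq this

end general

end Cfsg.Agent.Helper68.M11Three
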