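-- helper68: Sylow 3-normalizers in a simple group of order 7920 have order 144.
import Mathlib
import Cfsg.Agent.Helper68.M11ThreeC
import Cfsg.Agent.Helper39.SimpOrd.Kit
import Cfsg.Agent.Helper17.Invol

set_option autoImplicit false
set_option linter.style.haveILetI false

namespace Cfsg.Agent.Helper68.M11Three

open Cfsg Subgroup Cfsg.Agent.Helper9 Cfsg.Agent.Helper17 Cfsg.Agent.Helper20.M11
  Cfsg.Agent.Helper39.SimpOrd

universe u

variable {G : Type u} [Group G] [Fintype G] [Fintype (IrrCharacter G)] [IsSimpleGroup G]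

omit [Fintype (IrrCharacter G)] in
theorem card_sylow3_sub (h : Nat.card G = 7920) [Fact (Nat.Prime 3)] (P : Sylow 3 G) :
    Nat.card (P : Subgroup G) = 9 := by
  have := card_sylow_subgroup_of_card_eq (p := 3) (k := 2) (m := 880) (by rw [h]; norm_num)
    (by norm_num) P
  rw [this]; norm_num

omit [Fintype (IrrCharacter G)] in
theorem sylow3_comm (h : Nat.card G = 7920) [Fact (Nat.Prime 3)] (P : Sylow 3 G) {x y : G}
    (hx : x ∈ (P : Subgroup G)) (hy : y ∈ (P : Subgroup G)) : x * y = y * x := by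
  have hc := (IsPGroup.isMulCommutative_of_card_eq_prime_sq (p := 3) (G := (P : Subgroup G))
    (by rw [card_sylow3_sub h P]; norm_num)).is_comm.comm ⟨x, hx⟩ ⟨y, hy⟩
  exact congrArg Subtype.val hc

theorem not_le_centralizer_involution (h : Nat.card G = 7920) (T : Tab G) [Fact (Nat.Prime 3)]
    (P : Sylow 3 G) {t : G} (ht : orderOf t = 2) :
    ¬ (P : Subgroup G) ≤ centralizer ({t} : Set G) := by
  intro hle
  have := Subgroup.card_dvd_of_le hle
  rw [card_sylow3_sub h P, card_centralizer_involution h T ht] at this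
  norm_num at this

/-- No element of order 5 or 11 normalizes a Sylow 3-subgroup. -/
theorem not_dvd_card_normalizer (h : Nat.card G = 7920) (T : Tab G) [Fact (Nat.Prime 3)]
    (P : Sylow 3 G) {q : ℕ} [Fact q.Prime] (hq : q = 5 ∨ q = 11) :
    ¬ q ∣ Nat.card (normalizer ((P : Subgroup G) : Set G)) := by
  intro hdvd
  have hP := card_sylow3_sub h P
  obtain ⟨w', hw'⟩ := exists_prime_orderOf_dvd_card'
    (G := normalizer ((P : Subgroup G) : Set G)) q hdvd
  have hwq : orderOf (w' : G) = q := by rw [Subgroup.orderOf_coe]; exact hw'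
  have hq8 : ¬ q ∣ 8 := by rcases hq with rfl | rfl <;> norm_num
  obtain ⟨s, hsP, hs1, hws⟩ :=
    exists_commute_of_normalizer (P : Subgroup G) hP hq8 (w' : G) hwq w'.2
  have hs9 : orderOf s ∣ 9 := by
    have := orderOf_dvd_natCard (⟨s, hsP⟩ : (P : Subgroup G))
    rwa [hP, Subgroup.orderOf_mk] at this
  have hsq : orderOf s ∣ q := by
    rcases hq with rfl | rfl
    · have hsC : s ∈ centralizer ({(w' : G)} : Set G) := by
        rw [Subgroup.mem_centralizer_singleton_iff]; exact hws.symm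
      have := orderOf_dvd_natCard (⟨s, hsC⟩ : centralizer ({(w' : G)} : Set G))
      rwa [Subgroup.orderOf_mk, T.hC5 _ hwq] at this
    · exact no_commute_11' h hwq hws
  have h1 : orderOf s ∣ Nat.gcd 9 q := Nat.dvd_gcd hs9 hsq
  have hg : Nat.gcd 9 q = 1 := by rcases hq with rfl | rfl <;> norm_num
  rw [hg, Nat.dvd_one, orderOf_eq_one_iff] at h1
  exact hs1 h1

set_option maxHeartbeats 1600000 in
/-- If `|N(P)| = 36`, some element of `N(P)` inverts `P`. -/
theorem exists_inverting (h : Nat.card G = 7920) (T : Tab G) [Fact (Nat.Prime 3)] (P : Sylow 3 G)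
    (hN : Nat.card (normalizer ((P : Subgroup G) : Set G)) = 36) :
    ∃ ρ : G, ∀ x ∈ (P : Subgroup G), ρ * x * ρ⁻¹ = x⁻¹ := by
  classical
  haveI : Fact (Nat.Prime 2) := ⟨by norm_num⟩
  have hP := card_sylow3_sub h P
  set N := normalizer ((P : Subgroup G) : Set G) with hNdef
  set C := centralizer ((P : Subgroup G) : Set G) with hCdef
  have hab : ∀ x ∈ (P : Subgroup G), ∀ y ∈ (P : Subgroup G), x * y = y * x :=
    fun x hx y hy => sylow3_comm h P hx hy
  have hPC : (P : Subgroup G) ≤ C := fun x hx => by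
    rw [hCdef, Subgroup.mem_centralizer_iff]
    intro y hy
    exact hab y hy x hx
  have hCN : C ≤ N := Subgroup.centralizer_le_normalizer _
  -- `C = P`
  have hCodd : ¬ 2 ∣ Nat.card C := by
    intro h2
    obtain ⟨t', ht'⟩ := exists_prime_orderOf_dvd_card' (G := C) 2 h2
    have ht2 : orderOf (t' : G) = 2 := by rw [Subgroup.orderOf_coe]; exact ht'
    apply not_le_centralizer_involution h T P ht2
    intro x hx
    rw [Subgroup.mem_centralizer_singleton_iff]
    exact (Subgroup.mem_centralizer_iff.mp t'.2) x hx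
  have hCcard : Nat.card C = 9 := by
    have h1 : Nat.card C ∣ 36 := hN ▸ Subgroup.card_dvd_of_le hCN
    have h2 : 9 ∣ Nat.card C := hP ▸ Subgroup.card_dvd_of_le hPC
    obtain ⟨k, hk⟩ := h2
    rw [hk] at h1 hCodd ⊢
    have hk4 : k ∣ 4 := by
      have : 9 * k ∣ 9 * 4 := h1
      exact (Nat.mul_dvd_mul_iff_left (by norm_num)).mp this
    have hkle : k ≤ 4 := Nat.le_of_dvd (by norm_num) hk4
    interval_cases k
    · simp at hk4
    · rfl
    · exfalso; apply hCodd; norm_num
    · norm_num at hk4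
    · exfalso; apply hCodd; norm_num
  -- `P` is not cyclic
  have hrel : C.relIndex N = 4 := by
    have := card_centralizer_mul_relIndex (P : Subgroup G)
    change Nat.card C * C.relIndex N = Nat.card N at this
    rw [hCcard, hN] at this
    omega
  have hncyc : ¬ IsCyclic (P : Subgroup G) := by
    intro hcyc
    have hd := relIndex_centralizer_normalizer_dvd_card_mulAut (P : Subgroup G)
    change C.relIndex N ∣ _ at hd
    rw [hrel, IsCyclic.card_mulAut, hP] at hd
    have h6 : Nat.totient 9 = 6 := by decide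
    rw [h6] at hd
    norm_num at hd
  have hexp : ∀ x ∈ (P : Subgroup G), x ^ 3 = 1 := by
    intro x hx
    have hdvd : orderOf x ∣ 9 := by
      have := orderOf_dvd_natCard (⟨x, hx⟩ : (P : Subgroup G))
      rwa [hP, Subgroup.orderOf_mk] at this
    have hne : orderOf x ≠ 9 := by
      intro h9
      apply hncyc
      exact isCyclic_of_orderOf_eq_card (⟨x, hx⟩ : (P : Subgroup G))
        (by rw [Subgroup.orderOf_mk, h9, hP])
    have hle : orderOf x ≤ 9 := Nat.le_of_dvd (by norm_num) hdvd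
    have h3 : orderOf x ∣ 3 := by
      generalize orderOf x = o at *
      interval_cases o <;> omega
    exact orderOf_dvd_iff_pow_eq_one.mp h3
  -- an involution `t` of `N`
  obtain ⟨t', ht'⟩ := exists_prime_orderOf_dvd_card' (G := N) 2 (by rw [hN]; norm_num)
  obtain ⟨t, htdef⟩ : ∃ t : G, t = (t' : G) := ⟨_, rfl⟩
  have ht2 : orderOf t = 2 := by rw [htdef, Subgroup.orderOf_coe]; exact ht'
  have htN : t ∈ N := htdef ▸ t'.2
  have htt : t * t = 1 := by rw [← pow_two, ← ht2]; exact pow_orderOf_eq_one t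
  have htinv : t⁻¹ = t := inv_eq_of_mul_eq_one_right htt
  have hconjP : ∀ n ∈ N, ∀ x ∈ (P : Subgroup G), n * x * n⁻¹ ∈ (P : Subgroup G) :=
    fun n hn x hx => (Subgroup.mem_normalizer_iff.mp hn x).mp hx
  set A : Subgroup G := (P : Subgroup G) ⊓ centralizer ({t} : Set G) with hAdef
  have hAP : A ≤ (P : Subgroup G) := inf_le_left
  have hmemA : ∀ x, x ∈ A ↔ x ∈ (P : Subgroup G) ∧ x * t = t * x := by
    intro x
    rw [hAdef, Subgroup.mem_inf, Subgroup.mem_centralizer_singleton_iff]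
  have hAcard : Nat.card A = 1 ∨ Nat.card A = 3 := by
    have hd : Nat.card A ∣ 9 := hP ▸ Subgroup.card_dvd_of_le hAP
    have hne9 : Nat.card A ≠ 9 := by
      intro h9
      have : A = (P : Subgroup G) := Subgroup.eq_of_le_of_card_ge hAP (by rw [h9, hP])
      apply not_le_centralizer_involution h T P ht2
      rw [← this]; exact inf_le_right
    have hle : Nat.card A ≤ 9 := Nat.le_of_dvd (by norm_num) hd
    have hpos : 0 < Nat.card A := Nat.card_pos
    obtain ⟨k, hk⟩ := hd
    generalize Nat.card A = a at *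
    interval_cases a <;> omega
  -- `x * (t x t⁻¹) ∈ A`
  have hfix : ∀ x ∈ (P : Subgroup G), x * (t * x * t⁻¹) ∈ A := by
    intro x hx
    have hy : t * x * t⁻¹ ∈ (P : Subgroup G) := hconjP t htN x hx
    rw [hmemA]
    refine ⟨(P : Subgroup G).mul_mem hx hy, ?_⟩
    have e1 : t * (x * (t * x * t⁻¹)) = (t * x * t⁻¹) * ((t * t) * x * (t * t)⁻¹) * t := by group
    rw [e1, htt, hab _ hy _ (by simpa using hx)]
    simp
  rcases hAcard with hA1 | hA3
  · -- `t` inverts `P`
    refine ⟨t, fun x hx => ?_⟩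
    have hbot : A = ⊥ := Subgroup.card_eq_one.mp hA1
    have := hfix x hx
    rw [hbot, Subgroup.mem_bot] at this
    exact (eq_inv_of_mul_eq_one_right this)
  -- `|A| = 3`
  obtain ⟨x0, hx0P, hx0A⟩ : ∃ x0 ∈ (P : Subgroup G), x0 ∉ A := by
    by_contra hcon
    push Not at hcon
    have hle : (P : Subgroup G) ≤ A := hcon
    have := Subgroup.card_le_of_le hle
    omega
  have hy0 : t * x0 * t⁻¹ ∈ (P : Subgroup G) := hconjP t htN x0 hx0P
  obtain ⟨u, hudef⟩ : ∃ u : G, u = x0 * (t * x0 * t⁻¹)⁻¹ := ⟨_, rfl⟩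
  have huP : u ∈ (P : Subgroup G) := by
    rw [hudef]; exact (P : Subgroup G).mul_mem hx0P ((P : Subgroup G).inv_mem hy0)
  have htu : t * u * t⁻¹ = u⁻¹ := by
    rw [hudef]
    have e1 : t * (x0 * (t * x0 * t⁻¹)⁻¹) * t⁻¹
        = (t * x0 * t⁻¹) * ((t * t) * x0 * (t * t)⁻¹)⁻¹ := by group
    rw [e1, htt]
    group
  have hu1 : u ≠ 1 := by
    intro h1
    apply hx0A
    rw [hmemA]
    refine ⟨hx0P, ?_⟩
    rw [hudef] at h1
    have : x0 = t * x0 * t⁻¹ := by
      have := mul_inv_eq_one.mp h1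
      exact this
    have e2 : x0 * t = (t * x0 * t⁻¹) * t := by rw [← this]
    rw [e2]; group
  have hu3 : orderOf u = 3 := orderOf_eq_prime (hexp u huP) hu1
  have hrealu : IsConj u u⁻¹ := isConj_iff.mpr ⟨t, htu⟩
  have hCu : Nat.card (centralizer ({u} : Set G)) = 18 := card_centralizer_three h T hu3 hrealu
  obtain ⟨r', hr'⟩ := exists_prime_orderOf_dvd_card' (G := centralizer ({u} : Set G)) 2
    (by rw [hCu]; norm_num)
  obtain ⟨r, hrdef⟩ : ∃ r : G, r = (r' : G) := ⟨_, rfl⟩
  have hr2 : orderOf r = 2 := by rw [hrdef, Subgroup.orderOf_coe]; exact hr'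
  have hru : r * u = u * r := by
    have := r'.2
    rw [Subgroup.mem_centralizer_singleton_iff] at this
    rw [hrdef]; exact this
  have hrr : r * r = 1 := by rw [← pow_two, ← hr2]; exact pow_orderOf_eq_one r
  have hrinv : r⁻¹ = r := inv_eq_of_mul_eq_one_right hrr
  -- `r ∈ N`
  have hPCu : (P : Subgroup G) ≤ centralizer ({u} : Set G) := by
    intro x hx
    rw [Subgroup.mem_centralizer_singleton_iff]
    exact hab x hx u huP
  have hrN : r ∈ N := by
    have hidx : ((P : Subgroup G).subgroupOf (centralizer ({u} : Set G))).index = 2 := by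
      have h1 := Subgroup.card_mul_index ((P : Subgroup G).subgroupOf (centralizer ({u} : Set G)))
      have h2 : Nat.card ((P : Subgroup G).subgroupOf (centralizer ({u} : Set G))) = 9 := by
        rw [Nat.card_congr (Subgroup.subgroupOfEquivOfLe hPCu).toEquiv, hP]
      rw [h2, hCu] at h1
      omega
    have hnorm : ((P : Subgroup G).subgroupOf (centralizer ({u} : Set G))).Normal :=
      Subgroup.normal_of_index_eq_two hidx
    rw [hNdef]
    apply mem_normalizer_fintype
    intro x hx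
    have hxC : x ∈ centralizer ({u} : Set G) := hPCu hx
    have := hnorm.conj_mem ⟨x, hxC⟩ (Subgroup.mem_subgroupOf.mpr hx) r'
    rw [Subgroup.mem_subgroupOf] at this
    show r * x * r⁻¹ ∈ (P : Subgroup G)
    rw [hrdef]
    simpa using this
  -- the commutator of `t` and `r` lies in `P`
  obtain ⟨p', hp'def⟩ : ∃ p' : G, p' = t⁻¹ * r⁻¹ * t * r := ⟨_, rfl⟩
  have hp'P : p' ∈ (P : Subgroup G) := by
    let P' : Subgroup N := (P : Subgroup G).subgroupOf N
    haveI : P'.Normal := Subgroup.normal_in_normalizer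
    have hidx : P'.index = 4 := by
      have h1 := Subgroup.card_mul_index P'
      have h2 : Nat.card P' = 9 := by
        rw [Nat.card_congr (Subgroup.subgroupOfEquivOfLe le_normalizer).toEquiv, hP]
      rw [h2, hN] at h1
      omega
    have hQ : Nat.card (N ⧸ P') = 2 ^ 2 := by
      rw [← Subgroup.index_eq_card, hidx]; norm_num
    have hcommQ := (IsPGroup.isMulCommutative_of_card_eq_prime_sq (p := 2) hQ).is_comm.comm
    have hcq : ∀ a b : N ⧸ P', a⁻¹ * b⁻¹ * a * b = 1 := fun a b => by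
      rw [hcommQ a⁻¹ b⁻¹]; group
    have h1 : ((QuotientGroup.mk ((⟨t, htN⟩ : N)⁻¹ * (⟨r, hrN⟩ : N)⁻¹ * ⟨t, htN⟩ * ⟨r, hrN⟩) :
        N ⧸ P')) = 1 := by
      simp only [QuotientGroup.mk_mul, QuotientGroup.mk_inv]
      exact hcq _ _
    have h2 := (QuotientGroup.eq_one_iff _).mp h1
    have h3 := Subgroup.mem_subgroupOf.mp h2
    rw [hp'def]
    simpa using h3
  -- `r` normalizes `A`
  have hrA : ∀ a ∈ A, r * a * r⁻¹ ∈ A := by
    intro a ha
    have haP := hAP ha
    have hat : a * t = t * a := ((hmemA a).mp ha).2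
    rw [hmemA]
    refine ⟨hconjP r hrN a haP, ?_⟩
    have hpa : p' * a = a * p' := hab p' hp'P a haP
    have e1 : r⁻¹ * t * r = t * p' := by rw [hp'def]; group
    have e2 : t * (r * a * r⁻¹) = r * ((r⁻¹ * t * r) * a) * r⁻¹ := by group
    have e3 : r * a * r⁻¹ * t = r * (a * (r⁻¹ * t * r)) * r⁻¹ := by group
    rw [e2, e3, e1, mul_assoc t p' a, hpa, ← mul_assoc t a p', ← hat, mul_assoc a t p']
  -- a generator of `A`
  obtain ⟨a0', ha0'⟩ := exists_prime_orderOf_dvd_card' (G := A) 3 (by rw [hA3])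
  obtain ⟨a0, ha0def⟩ : ∃ a0 : G, a0 = (a0' : G) := ⟨_, rfl⟩
  have ha03 : orderOf a0 = 3 := by rw [ha0def, Subgroup.orderOf_coe]; exact ha0'
  have ha0A : a0 ∈ A := ha0def ▸ a0'.2
  have hAz : A = zpowers a0 := by
    have hle : zpowers a0 ≤ A := zpowers_le.mpr ha0A
    exact (Subgroup.eq_of_le_of_card_ge hle (by rw [hA3, Nat.card_zpowers, ha03])).symm
  have ha0t : a0 * t = t * a0 := ((hmemA a0).mp ha0A).2
  have huA : u ∉ zpowers a0 := by
    intro hmem
    rw [← hAz] at hmem
    have hut : u * t = t * u := ((hmemA u).mp hmem).2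
    have h1 : t * u * t⁻¹ = u := by rw [← hut]; group
    rw [htu] at h1
    -- `u⁻¹ = u`, so `u ^ 2 = 1`, and `u ^ 3 = 1`
    have h2 : u * u = 1 := by
      nth_rewrite 1 [← h1]; group
    have h3 : u ^ 3 = 1 := hexp u huP
    apply hu1
    calc u = u ^ 3 * (u * u)⁻¹ := by group
      _ = 1 := by rw [h3, h2]; simp
  have hra0 : r * a0 * r⁻¹ = a0⁻¹ := by
    have hmem : r * a0 * r⁻¹ ∈ zpowers a0 := by rw [← hAz]; exact hrA a0 ha0A
    rcases conj_eq_or_inv_of_involution (p := 3) ha03 hrr hmem with h1 | h1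
    · exfalso
      set K : Subgroup G := (P : Subgroup G) ⊓ centralizer ({r} : Set G) with hKdef
      have ha0K : a0 ∈ K := by
        rw [hKdef, Subgroup.mem_inf, Subgroup.mem_centralizer_singleton_iff]
        refine ⟨hAP ha0A, ?_⟩
        have := mul_inv_eq_iff_eq_mul.mp h1
        exact this.symm
      have huK : u ∈ K := by
        rw [hKdef, Subgroup.mem_inf, Subgroup.mem_centralizer_singleton_iff]
        exact ⟨huP, hru.symm⟩
      have hKP : K = (P : Subgroup G) :=
        eq_of_two_gens (P : Subgroup G) K hP inf_le_left ha0K huK ha03 huA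
      apply not_le_centralizer_involution h T P hr2
      rw [← hKP]; exact inf_le_right
    · exact h1
  -- `ρ = r t` inverts `P`
  obtain ⟨ρ, hρdef⟩ : ∃ ρ : G, ρ = r * t := ⟨_, rfl⟩
  let L : Subgroup G :=
    { carrier := {x | x ∈ (P : Subgroup G) ∧ ρ * x * ρ⁻¹ = x⁻¹}
      mul_mem' := by
        rintro x y ⟨hx, hx'⟩ ⟨hy, hy'⟩
        refine ⟨(P : Subgroup G).mul_mem hx hy, ?_⟩
        have e1 : ρ * (x * y) * ρ⁻¹ = (ρ * x * ρ⁻¹) * (ρ * y * ρ⁻¹) := by group
        rw [e1, hx', hy', mul_inv_rev, hab x⁻¹ ((P : Subgroup G).inv_mem hx) y⁻¹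
          ((P : Subgroup G).inv_mem hy)]
      one_mem' := ⟨(P : Subgroup G).one_mem, by simp⟩
      inv_mem' := by
        rintro x ⟨hx, hx'⟩
        refine ⟨(P : Subgroup G).inv_mem hx, ?_⟩
        have e1 : ρ * x⁻¹ * ρ⁻¹ = (ρ * x * ρ⁻¹)⁻¹ := by group
        rw [e1, hx'] }
  have hLP : L ≤ (P : Subgroup G) := fun x hx => hx.1
  have ha0L : a0 ∈ L := by
    refine ⟨hAP ha0A, ?_⟩
    have e1 : ρ * a0 * ρ⁻¹ = r * (t * a0 * t⁻¹) * r⁻¹ := by rw [hρdef]; group
    have e2 : t * a0 * t⁻¹ = a0 := by rw [← ha0t]; group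
    rw [e1, e2, hra0]
  have huL : u ∈ L := by
    refine ⟨huP, ?_⟩
    have e1 : ρ * u * ρ⁻¹ = r * (t * u * t⁻¹) * r⁻¹ := by rw [hρdef]; group
    have e2 : r * u⁻¹ * r⁻¹ = (r * u * r⁻¹)⁻¹ := by group
    have e3 : r * u * r⁻¹ = u := by rw [hru]; group
    rw [e1, htu, e2, e3]
  have hLeq : L = (P : Subgroup G) :=
    eq_of_two_gens (P : Subgroup G) L hP hLP ha0L huL ha03 huA
  refine ⟨ρ, fun x hx => ?_⟩
  have : x ∈ L := by rw [hLeq]; exact hx
  exact this.2

end Cfsg.Agent.Helper68.M11Three
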