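-- helper68: Sylow 3-normalizers in a simple group of order 7920 have order 144 (assembly).
import Mathlib
import Cfsg.Agent.Helper68.M11ThreeD

set_option autoImplicit false
set_option linter.style.haveILetI false

namespace Cfsg.Agent.Helper68.M11Three

open Cfsg Subgroup Cfsg.Agent.Helper9 Cfsg.Agent.Helper17 Cfsg.Agent.Helper20.M11
  Cfsg.Agent.Helper39.SimpOrd

universe u

variable {G : Type u} [Group G] [Fintype G] [Fintype (IrrCharacter G)] [IsSimpleGroup G]

/-- `n_3 = 220` is impossible. -/
theorem case220 (h : Nat.card G = 7920) (T : Tab G) [Fact (Nat.Prime 3)]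
    (hn : Nat.card (Sylow 3 G) = 220) : False := by
  classical
  have hNall : ∀ Q : Sylow 3 G, Nat.card (normalizer ((Q : Subgroup G) : Set G)) = 36 :=
    fun Q => card_normalizer_of_card_sylow Q h hn (by norm_num) (by norm_num)
  obtain ⟨P, R, hPR, hidx⟩ := exists_sylow_pair_large_inter (G := G) 3 2 (by
    rw [hn]; unfold Nat.ModEq; norm_num)
  have hP := card_sylow3_sub h P
  have hR := card_sylow3_sub h R
  have hmul := index_subgroupOf_mul_card_inf (P : Subgroup G) (R : Subgroup G)
  rw [hP] at hmul
  -- `|P ⊓ R| = 3`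
  have hD : Nat.card ((P : Subgroup G) ⊓ (R : Subgroup G) : Subgroup G) = 3 := by
    have hne9 : Nat.card ((P : Subgroup G) ⊓ (R : Subgroup G) : Subgroup G) ≠ 9 := by
      intro h9
      apply hPR
      have h1 : (P : Subgroup G) ⊓ (R : Subgroup G) = (P : Subgroup G) :=
        Subgroup.eq_of_le_of_card_ge inf_le_left (by rw [h9, hP])
      have h2 : (P : Subgroup G) ≤ (R : Subgroup G) := h1 ▸ inf_le_right
      exact Sylow.ext (Subgroup.eq_of_le_of_card_ge h2 (by rw [hP, hR]))
    have hi3 : ((R : Subgroup G).subgroupOf (P : Subgroup G)).index ≤ 3 := by simpa using hidx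
    generalize ((R : Subgroup G).subgroupOf (P : Subgroup G)).index = i at *
    generalize Nat.card ((P : Subgroup G) ⊓ (R : Subgroup G) : Subgroup G) = d at *
    interval_cases i <;> omega
  obtain ⟨u', hu'⟩ := exists_prime_orderOf_dvd_card'
    (G := ((P : Subgroup G) ⊓ (R : Subgroup G) : Subgroup G)) 3 (by rw [hD])
  obtain ⟨u, hudef⟩ : ∃ u : G, u = (u' : G) := ⟨_, rfl⟩
  have hu3 : orderOf u = 3 := by rw [hudef, Subgroup.orderOf_coe]; exact hu'
  have huP : u ∈ (P : Subgroup G) := hudef ▸ (Subgroup.mem_inf.mp u'.2).1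
  have huR : u ∈ (R : Subgroup G) := hudef ▸ (Subgroup.mem_inf.mp u'.2).2
  obtain ⟨ρ, hρ⟩ := exists_inverting h T P (hNall P)
  have hreal : IsConj u u⁻¹ := isConj_iff.mpr ⟨ρ, hρ u huP⟩
  have hCu := card_centralizer_three h T hu3 hreal
  have hPle : (P : Subgroup G) ≤ centralizer ({u} : Set G) := by
    intro x hx
    rw [Subgroup.mem_centralizer_singleton_iff]
    exact sylow3_comm h P hx huP
  have hRle : (R : Subgroup G) ≤ centralizer ({u} : Set G) := by
    intro x hx
    rw [Subgroup.mem_centralizer_singleton_iff]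
    exact sylow3_comm h R hx huR
  obtain ⟨n, m, hn4, -, hcard⟩ := card_ge_of_two_sylow_le P R hPR hPle hRle
  rw [hCu, hP] at hcard
  have hnm : n * m = 2 := by omega
  have hnd : n ∣ 2 := ⟨m, hnm.symm⟩
  have := Nat.le_of_dvd (by norm_num) hnd
  omega

/-- Sylow 3-normalizers in a simple group of order 7920 have order 144. -/
theorem card_normalizer_sylow3 (h : Nat.card G = 7920) (T : Tab G) [Fact (Nat.Prime 3)]
    (P : Sylow 3 G) : Nat.card (normalizer ((P : Subgroup G) : Set G)) = 144 := by
  classical
  haveI : Fact (Nat.Prime 5) := ⟨by norm_num⟩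
  haveI : Fact (Nat.Prime 11) := ⟨by norm_num⟩
  have hG : ¬ IsMulCommutative G := not_comm7920 h
  have hc3 : Nat.card G = 3 ^ 2 * 880 := by rw [h]; norm_num
  have hP := card_sylow3_sub h P
  have hmem := card_sylow_mem_npList hG 3 2 880 (by norm_num) hc3 (by norm_num) (by norm_num)
    (by norm_num)
  have hL : npList 3 2 880 = [16, 22, 40, 55, 88, 220, 880] := by decide +kernel
  rw [hL] at hmem
  simp only [List.mem_cons, List.not_mem_nil, or_false] at hmem
  have hno5 := not_dvd_card_normalizer h T P (q := 5) (Or.inl rfl)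
  have hno11 := not_dvd_card_normalizer h T P (q := 11) (Or.inr rfl)
  have hmul := card_normalizer_mul_card_sylow P
  rw [h] at hmul
  rcases hmem with hv | hv | hv | hv | hv | hv | hv
  · exfalso; apply hno5
    have : Nat.card (normalizer ((P : Subgroup G) : Set G)) = 495 := by rw [hv] at hmul; omega
    rw [this]; norm_num
  · exfalso; apply hno5
    have : Nat.card (normalizer ((P : Subgroup G) : Set G)) = 360 := by rw [hv] at hmul; omega
    rw [this]; norm_num
  · exfalso; apply hno11
    have : Nat.card (normalizer ((P : Subgroup G) : Set G)) = 198 := by rw [hv] at hmul; omega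
    rw [this]; norm_num
  · rw [hv] at hmul; omega
  · exfalso; apply hno5
    have : Nat.card (normalizer ((P : Subgroup G) : Set G)) = 90 := by rw [hv] at hmul; omega
    rw [this]; norm_num
  · exact absurd hv (fun hv => case220 h T hv)
  · -- `N(P) = P`: Burnside
    exfalso
    have hN9 : Nat.card (normalizer ((P : Subgroup G) : Set G)) = 9 := by
      rw [hv] at hmul; omega
    have hNP : normalizer ((P : Subgroup G) : Set G) = (P : Subgroup G) :=
      (Subgroup.eq_of_le_of_card_ge le_normalizer (by rw [hN9, hP])).symm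
    apply not_normalizer_le_centralizer_of_simple P (by rw [hP]; norm_num)
      (by rw [hP, h]; norm_num)
    rw [hNP]
    intro x hx
    rw [Subgroup.mem_centralizer_iff]
    intro y hy
    exact sylow3_comm h P hy hx

end Cfsg.Agent.Helper68.M11Three
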