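import Mathlib
import Cfsg.Agent.Helper99.O9.Defs
import Cfsg.Agent.Helper44.StdNondeg
import Cfsg.Agent.Helper44.QTypeAniso
import Cfsg.Agent.Helper44.OrthRealizeC
import Cfsg.Agent.Helper68.O9NEG8M

/-!
helper68 for helper99 (S2517 O9 farm, board #13715): piece (PLANE) `exists_negOm_plane` of
`tools/helper99_s2517/Skel.lean.txt`: a non-degenerate plane `X` with `-1 ∈ Ω(X)`.
-/

set_option autoImplicit false
set_option linter.unusedSectionVars false
set_option linter.unusedVariables false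

namespace Cfsg.Agent.Helper68.O9

open Matrix QuadraticMap Cfsg.Agent.Helper44 Cfsg.Agent.Helper44.QType Cfsg.Agent.Helper99.O9

universe u

variable {F : Type u} [Field F] [Fintype F]

/-- (PLANE) -/
theorem exists_negOm_plane (hF : Odd (Fintype.card F)) :
    ∃ (ε : ℤ) (X : OPair F), (ε = 1 ∨ ε = -1) ∧ X.ND ∧ X.Typ 1 ε ∧ X.NegOm := by
  have hmod : Fintype.card F % 4 = 1 ∨ Fintype.card F % 4 = 3 := by
    obtain ⟨k, hk⟩ := hF
    omega
  rcases hmod with h1 | h3
  · -- the hyperbolic plane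
    refine ⟨1, { ι := Fin 1 ⊕ Fin 1, Q := plusForm 1 F, g := 1 }, Or.inl rfl, ?_, ?_, ?_⟩
    · rw [OPair.nd_def]
      exact (nondeg_iff _).mp (nondegenerate_plusForm 1)
    · rw [OPair.typ_def]
      refine ⟨?_, ?_⟩
      · rw [OPair.dim_def]
        rfl
      · exact hasType_plus 1
    · rw [OPair.negOm_def]
      exact (exists_neg_one_mem_Omega_plus_iff (F := F) rfl hF 1).mpr (by rw [pow_one]; exact h1)
  · -- the anisotropic plane
    obtain ⟨a, b, hab⟩ := NEG8M_exists_aniso hF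
    have h2 : (2 : F) ≠ 0 := two_ne_zero_of_odd_card rfl hF
    have hD : ¬ IsSquare (a ^ 2 - 4 * b) := not_isSquare_disc_of_anisotropic h2 a b hab
    have hD0 : a ^ 2 - 4 * b ≠ 0 := by
      intro h0
      exact hD ⟨0, by rw [h0, mul_zero]⟩
    refine ⟨-1, { ι := (Fin 0 ⊕ Fin 0) ⊕ Fin 2, Q := minusForm 0 F a b, g := 1 }, Or.inr rfl,
      ?_, ?_, ?_⟩
    · rw [OPair.nd_def]
      exact (nondeg_iff _).mp (nondegenerate_minusForm 0 a b hD0)
    · rw [OPair.typ_def]
      refine ⟨?_, ?_⟩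
      · rw [OPair.dim_def]
        rfl
      · exact hasType_minus 0 a b hab
    · rw [OPair.negOm_def]
      exact (exists_neg_one_mem_Omega_minus_iff (F := F) rfl hF 1 le_rfl a b hab).mpr
        (by rw [pow_one]; exact h3)

end Cfsg.Agent.Helper68.O9
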