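import Mathlib
import Cfsg.Agent.Helper99.O9.Defs

/-!
helper68 for helper99 (S2517 O9 farm, board #13715): piece (SIMI) `sim_inOm` of
`tools/helper99_s2517/Skel.lean.txt`.
-/

set_option autoImplicit false
set_option linter.unusedSectionVars false
set_option linter.unusedVariables false

namespace Cfsg.Agent.Helper68.O9

open Matrix QuadraticMap Cfsg.Agent.Helper44 Cfsg.Agent.Helper44.QType Cfsg.Agent.Helper99.O9

universe u

variable {F : Type u} [Field F] [Fintype F]

/-- (SIMI) route: `isoTransport` is a group hom, `map_mem_commutator` -/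
theorem sim_inOm {P P' : OPair F} (h : P.Sim P') (hP : P.InOm) : P'.InOm := by
  obtain ⟨C, hC, hg⟩ := (OPair.sim_def P P').mp h
  rw [OPair.inOm_def] at hP ⊢
  rw [← hg]
  have h1 : (commutator ↥(Cfsg.isometryGroup F ⇑P.Q)).map (isoTransport ⇑P.Q ⇑P'.Q C hC) ≤
      commutator ↥(Cfsg.isometryGroup F ⇑P'.Q) := by
    rw [commutator_def, Subgroup.map_commutator, commutator_def]
    exact Subgroup.commutator_mono le_top le_top
  exact h1 (Subgroup.mem_map_of_mem _ hP)

end Cfsg.Agent.Helper68.O9
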