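import Mathlib
import Cfsg.Agent.Helper99.O9.Defs

/-!
helper68 for helper99 (S2517 O9 farm, board #13715): piece (SIMM) `sim_mat` of
`tools/helper99_s2517/Skel.lean.txt`.
-/

set_option autoImplicit false
set_option linter.unusedSectionVars false
set_option linter.unusedVariables false

namespace Cfsg.Agent.Helper68.O9

open Matrix QuadraticMap Cfsg.Agent.Helper44 Cfsg.Agent.Helper44.QType Cfsg.Agent.Helper99.O9

universe u

variable {F : Type u} [Field F] [Fintype F]

/-- (SIMM) an isometry of pairs conjugates the matrices: route `conjMatAlgEquiv C` of helper44's `IsoTransport` -/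
theorem sim_mat {P P' : OPair F} (h : P.Sim P') :
    ∃ e : Matrix P.ι P.ι F ≃ₐ[F] Matrix P'.ι P'.ι F, e P.M = P'.M := by
  obtain ⟨C, hC, hg⟩ := (OPair.sim_def P P').mp h
  refine ⟨conjMatAlgEquiv C, ?_⟩
  rw [OPair.M_def, OPair.M_def, ← hg]
  apply Matrix.mulVec_injective
  funext v
  rw [isoTransport_mulVec, conjMatAlgEquiv_mulVec]

end Cfsg.Agent.Helper68.O9
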