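import Mathlib
import Cfsg.Agent.Helper99.O9.Defs

/-!
helper68 for helper99 (S2517 O9 farm, board #13715): piece (SUMD) `sum_dim` of
`tools/helper99_s2517/Skel.lean.txt`.
-/

set_option autoImplicit false
set_option linter.unusedSectionVars false
set_option linter.unusedVariables false

namespace Cfsg.Agent.Helper68.O9

open Matrix QuadraticMap Cfsg.Agent.Helper44 Cfsg.Agent.Helper44.QType Cfsg.Agent.Helper99.O9

universe u

variable {F : Type u} [Field F] [Fintype F]

/-- (SUMD) -/
theorem sum_dim (P₁ P₂ : OPair F) : (P₁.sum P₂).dim = P₁.dim + P₂.dim := by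
  rw [OPair.dim_def, OPair.dim_def, OPair.dim_def]
  exact Fintype.card_sum

end Cfsg.Agent.Helper68.O9
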