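import Mathlib
import Cfsg.Agent.Helper68.J1L10
import Cfsg.Agent.Helper39.SimpOrd.Kit
import Cfsg.Agent.Helper39.SimpOrd.KitC
import Cfsg.Agent.Helper17.Invol
import Cfsg.Agent.Helper17.CountOrder
import Cfsg.Agent.Helper17.FixedCosets
import Cfsg.Agent.S0992

set_option autoImplicit false
set_option linter.style.haveILetI false

/-!
# No simple group of order 5460 (piece of S0983, helper39's WANTED-D #3854)
-/

namespace Cfsg.Agent.Helper68.Ord

open Subgroup Cfsg.Agent.Helper9 Cfsg.Agent.Helper17 Cfsg.Agent.Helper39.SimpOrd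

section general

variable {G : Type*} [Group G]

/-- A Klein four-group normalizing `⟨y⟩` (`y` of prime order) contains an involution
centralizing `y`. -/
theorem exists_involution_commute_of_kleinFour (S : Subgroup G)
    (hS : IsKleinFour S) {p : ℕ} [Fact p.Prime] {y : G} (hy : orderOf y = p)
    (hSN : ∀ s ∈ S, s * y * s⁻¹ ∈ zpowers y) :
    ∃ t ∈ S, orderOf t = 2 ∧ t * y = y * t := by
  have hsq : ∀ s ∈ S, s * s = 1 := by
    intro s hs
    have h1 := Monoid.pow_exponent_eq_one (⟨s, hs⟩ : S)
    rw [hS.exponent_two] at h1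
    have h2 := congrArg Subtype.val h1
    simpa [pow_two] using h2
  have hord : ∀ s ∈ S, s ≠ 1 → orderOf s = 2 := fun s hs h1 =>
    orderOf_eq_prime (by rw [pow_two]; exact hsq s hs) h1
  haveI : Finite S := Nat.finite_of_card_ne_zero (by rw [hS.card_four]; norm_num)
  have hnt : Nontrivial S := by
    rw [← Finite.one_lt_card_iff_nontrivial, hS.card_four]; norm_num
  obtain ⟨a, ha⟩ := exists_ne (1 : S)
  have ha1 : (a : G) ≠ 1 := fun h => ha (Subtype.ext h)
  have hza : Nat.card (zpowers a) = 2 := by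
    rw [Nat.card_zpowers, ← Subgroup.orderOf_coe]
    exact hord a a.2 ha1
  have hne : zpowers a ≠ ⊤ := by
    intro h
    rw [h, Subgroup.card_top, hS.card_four] at hza
    omega
  obtain ⟨b, hb⟩ : ∃ b : S, b ∉ zpowers a := by
    by_contra hcon
    push Not at hcon
    exact hne (eq_top_iff.mpr fun x _ => hcon x)
  have hb1 : (b : G) ≠ 1 := by
    intro h
    apply hb
    have : b = 1 := Subtype.ext h
    rw [this]; exact one_mem _
  have hab1 : (a : G) * b ≠ 1 := by
    intro h
    apply hb
    have h2 : b = a⁻¹ := by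
      apply Subtype.ext
      rw [Subgroup.coe_inv]
      exact (eq_inv_of_mul_eq_one_right h)
    rw [h2]
    exact inv_mem (mem_zpowers a)
  rcases conj_eq_or_inv_of_involution hy (hsq a a.2) (hSN a a.2) with h | h
  · exact ⟨a, a.2, hord a a.2 ha1, mul_inv_eq_iff_eq_mul.mp h⟩
  rcases conj_eq_or_inv_of_involution hy (hsq b b.2) (hSN b b.2) with h' | h'
  · exact ⟨b, b.2, hord b b.2 hb1, mul_inv_eq_iff_eq_mul.mp h'⟩
  refine ⟨a * b, S.mul_mem a.2 b.2, hord _ (S.mul_mem a.2 b.2) hab1, ?_⟩
  apply mul_inv_eq_iff_eq_mul.mp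
  calc (a : G) * b * y * ((a : G) * b)⁻¹ = a * (b * y * (b : G)⁻¹) * (a : G)⁻¹ := by group
    _ = a * y⁻¹ * (a : G)⁻¹ := by rw [h']
    _ = (a * y * (a : G)⁻¹)⁻¹ := by group
    _ = y := by rw [h, inv_inv]

/-- If Sylow 2-subgroups have order 4, every subgroup of order divisible by 4 contains one. -/
theorem exists_sylow_two_le [Finite G]
    (hT : ∀ T : Sylow 2 G, Nat.card (T : Subgroup G) = 4) (H : Subgroup G)
    (h4 : 4 ∣ Nat.card H) : ∃ T : Sylow 2 G, (T : Subgroup G) ≤ H := by
  haveI : Fact (Nat.Prime 2) := ⟨Nat.prime_two⟩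
  obtain ⟨K0, hK0⟩ := Sylow.exists_subgroup_card_pow_prime (G := H) 2 (n := 2)
    (by simpa using h4)
  set S : Subgroup G := K0.map H.subtype with hS
  have hScard : Nat.card S = 4 := by
    rw [hS, Subgroup.card_map_of_injective H.subtype_injective, hK0]; norm_num
  have hSH : S ≤ H := Subgroup.map_subtype_le _
  obtain ⟨T, hST⟩ := (IsPGroup.of_card (p := 2) (n := 2) (by rw [hScard]; norm_num)
    : IsPGroup 2 S).exists_le_sylow
  have hSeq : S = (T : Subgroup G) :=
    Subgroup.eq_of_le_of_card_ge hST (by rw [hT T, hScard])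
  exact ⟨T, hSeq ▸ hSH⟩

/-- A Sylow subgroup of prime order is generated by an element of that order. -/
theorem exists_generator_of_card_prime [Finite G] {p : ℕ} [Fact p.Prime] (P : Sylow p G)
    (hP : Nat.card (P : Subgroup G) = p) :
    ∃ x : G, orderOf x = p ∧ (P : Subgroup G) = zpowers x := by
  obtain ⟨x', hx'⟩ := exists_prime_orderOf_dvd_card' (G := (P : Subgroup G)) p (by rw [hP])
  refine ⟨x', by rw [Subgroup.orderOf_coe]; exact hx', ?_⟩
  have hle : zpowers (x' : G) ≤ (P : Subgroup G) := zpowers_le.mpr x'.2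
  refine (Subgroup.eq_of_le_of_card_ge hle ?_).symm
  rw [hP, Nat.card_zpowers, Subgroup.orderOf_coe, hx']

/-- commuting elements of orders `p`, `q` give `q ∣ |C(P)|` for every Sylow `p`-subgroup
(of prime order). -/
theorem dvd_card_centralizer_of_commute [Finite G] {p q : ℕ} [Fact p.Prime]
    (hP : ∀ P : Sylow p G, Nat.card (P : Subgroup G) = p) {x y : G} (hx : orderOf x = p)
    (hy : orderOf y = q) (hxy : x * y = y * x) (P : Sylow p G) :
    q ∣ Nat.card (centralizer ((P : Subgroup G) : Set G)) := by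
  obtain ⟨P', hP'⟩ := exists_sylow_eq_zpowers hP x hx
  obtain ⟨g, hg⟩ := MulAction.exists_smul_eq G P' P
  have hmem : g * y * g⁻¹ ∈ centralizer ((P : Subgroup G) : Set G) := by
    rw [Subgroup.mem_centralizer_iff]
    intro z hz
    have hz' : g⁻¹ * z * g ∈ (P' : Subgroup G) := by
      have hz2 : z ∈ ((g • P' : Sylow p G) : Subgroup G) := by rw [hg]; exact hz
      exact (mem_smul_sylow_iff g z P').mp hz2
    rw [hP'] at hz'
    obtain ⟨k, hk⟩ := Subgroup.mem_zpowers_iff.mp hz'
    have hc : Commute (g⁻¹ * z * g) y := by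
      rw [← hk]
      exact (Commute.zpow_left hxy k)
    have hce := hc.eq
    calc z * (g * y * g⁻¹) = g * ((g⁻¹ * z * g) * y) * g⁻¹ := by group
      _ = g * (y * (g⁻¹ * z * g)) * g⁻¹ := by rw [hce]
      _ = g * y * g⁻¹ * z := by group
  have ho : orderOf (g * y * g⁻¹) = q := by
    have := (MulAut.conj g).orderOf_eq y
    rw [MulAut.conj_apply] at this
    rw [this, hy]
  have := orderOf_dvd_natCard (⟨g * y * g⁻¹, hmem⟩ : centralizer ((P : Subgroup G) : Set G))
  rwa [Subgroup.orderOf_mk, ho] at this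

/-- `q ∣ |C(P)|` gives commuting elements of orders `p`, `q`. -/
theorem exists_commute_of_dvd_card_centralizer [Finite G] {p q : ℕ} [Fact p.Prime]
    [Fact q.Prime] (P : Sylow p G) (hP : Nat.card (P : Subgroup G) = p)
    (hq : q ∣ Nat.card (centralizer ((P : Subgroup G) : Set G))) :
    ∃ x y : G, orderOf x = p ∧ orderOf y = q ∧ x * y = y * x := by
  obtain ⟨x, hx, hPx⟩ := exists_generator_of_card_prime P hP
  obtain ⟨y', hy'⟩ := exists_prime_orderOf_dvd_card'
    (G := centralizer ((P : Subgroup G) : Set G)) q hq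
  refine ⟨x, y', hx, by rw [Subgroup.orderOf_coe]; exact hy', ?_⟩
  have := (Subgroup.mem_centralizer_iff.mp y'.2) x (by
    change x ∈ (P : Subgroup G); rw [hPx]; exact mem_zpowers x)
  exact this

/-- the swap: `q ∣ |C(P)|` iff `p ∣ |C(Q)|` (one direction) -/
theorem dvd_card_centralizer_swap [Finite G] {p q : ℕ} [Fact p.Prime] [Fact q.Prime]
    (hPq : ∀ Q : Sylow q G, Nat.card (Q : Subgroup G) = q)
    (P : Sylow p G) (hP : Nat.card (P : Subgroup G) = p) (Q : Sylow q G)
    (hq : q ∣ Nat.card (centralizer ((P : Subgroup G) : Set G))) :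
    p ∣ Nat.card (centralizer ((Q : Subgroup G) : Set G)) := by
  obtain ⟨x, y, hx, hy, hxy⟩ := exists_commute_of_dvd_card_centralizer P hP hq
  exact dvd_card_centralizer_of_commute hPq hy hx hxy.symm Q

/-- numerical data of `N(P)/C(P)` for a Sylow subgroup of prime order in a simple group -/
theorem exists_relIndex_data [Finite G] [IsSimpleGroup G] {p : ℕ} [Fact p.Prime]
    (P : Sylow p G) (hP : Nat.card (P : Subgroup G) = p) (hG : Nat.card G ≠ p) :
    ∃ d, d ∣ p - 1 ∧ d ≠ 1 ∧
      Nat.card (centralizer ((P : Subgroup G) : Set G)) * d =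
        Nat.card (normalizer ((P : Subgroup G) : Set G)) ∧
      p ∣ Nat.card (centralizer ((P : Subgroup G) : Set G)) := by
  have hp : p.Prime := Fact.out
  obtain ⟨hd1, -⟩ := relIndex_dvd_of_card_sylow_prime P hP
  have hcm := card_centralizer_mul_relIndex (P : Subgroup G)
  have hne : ¬ (normalizer ((P : Subgroup G) : Set G) ≤ centralizer ((P : Subgroup G) : Set G)) :=
    not_normalizer_le_centralizer_of_simple P (by rw [hP]; exact hp.one_lt.ne')
      (by rw [hP]; exact hG.symm)
  refine ⟨_, hd1, fun h => hne (Subgroup.relIndex_eq_one.mp h), hcm, ?_⟩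
  have hcyc : IsCyclic (P : Subgroup G) := isCyclic_of_prime_card hP
  have hle : (P : Subgroup G) ≤ centralizer ((P : Subgroup G) : Set G) := by
    intro x hx
    rw [Subgroup.mem_centralizer_iff]
    intro y hy
    have := hcyc.commGroup.mul_comm (⟨y, hy⟩ : (P : Subgroup G)) ⟨x, hx⟩
    exact congrArg Subtype.val this
  have := Subgroup.card_dvd_of_le hle
  rwa [hP] at this

/-- elements of three different orders -/
theorem card_three_orders_le [Finite G] {a b c : ℕ} (hab : a ≠ b) (hac : a ≠ c) (hbc : b ≠ c) :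
    Nat.card {g : G // orderOf g = a} + Nat.card {g : G // orderOf g = b} +
      Nat.card {g : G // orderOf g = c} ≤ Nat.card G := by
  let f : ({g : G // orderOf g = a} ⊕ {g : G // orderOf g = b}) ⊕ {g : G // orderOf g = c} → G :=
    Sum.elim (Sum.elim Subtype.val Subtype.val) Subtype.val
  have hf : Function.Injective f := by
    rintro ((⟨x, hx⟩ | ⟨x, hx⟩) | ⟨x, hx⟩) ((⟨y, hy⟩ | ⟨y, hy⟩) | ⟨y, hy⟩) hxy <;>
      simp only [f, Sum.elim_inl, Sum.elim_inr] at hxy <;> subst hxy
    · rfl
    · exact absurd (hx.symm.trans hy) hab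
    · exact absurd (hx.symm.trans hy) hac
    · exact absurd (hy.symm.trans hx) hab
    · rfl
    · exact absurd (hx.symm.trans hy) hbc
    · exact absurd (hy.symm.trans hx) hac
    · exact absurd (hy.symm.trans hx) hbc
    · rfl
  have := Nat.card_le_card_of_injective f hf
  rwa [Nat.card_sum, Nat.card_sum] at this

end general

section main

variable {G : Type*} [Group G] [Finite G] [IsSimpleGroup G]

omit [IsSimpleGroup G] in
/-- In a simple group with Klein four Sylow 2-subgroups of order 4: a subgroup `H` with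
`4 ∣ |H|` normalizing `⟨y⟩` contains a Sylow 2-subgroup `T` with an involution commuting
with `y`. -/
theorem exists_sylow_involution_commute
    (hT : ∀ T : Sylow 2 G, Nat.card (T : Subgroup G) = 4)
    (hK : ∀ T : Sylow 2 G, IsKleinFour (T : Subgroup G)) (H : Subgroup G)
    (h4 : 4 ∣ Nat.card H) {p : ℕ} [Fact p.Prime] {y : G} (hy : orderOf y = p)
    (hHN : H ≤ normalizer ((zpowers y : Subgroup G) : Set G)) :
    ∃ T : Sylow 2 G, (T : Subgroup G) ≤ H ∧ ∃ t ∈ (T : Subgroup G), orderOf t = 2 ∧
      t * y = y * t := by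
  obtain ⟨T, hTH⟩ := exists_sylow_two_le hT H h4
  refine ⟨T, hTH, ?_⟩
  apply exists_involution_commute_of_kleinFour (T : Subgroup G) (hK T) hy
  intro s hs
  exact (Subgroup.mem_normalizer_iff.mp (hHN (hTH hs)) y).mp (mem_zpowers y)

theorem no_simple_5460 (h : Nat.card G = 5460) : False := by
  classical
  haveI : Fact (Nat.Prime 2) := ⟨by norm_num⟩
  haveI : Fact (Nat.Prime 3) := ⟨by norm_num⟩
  haveI : Fact (Nat.Prime 5) := ⟨by norm_num⟩
  haveI : Fact (Nat.Prime 7) := ⟨by norm_num⟩
  haveI : Fact (Nat.Prime 13) := ⟨by norm_num⟩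
  have hG : ¬ IsMulCommutative G := not_comm_of_simple_of_not_prime (by rw [h]; norm_num)
  have hc2 : Nat.card G = 2 ^ 2 * 1365 := by rw [h]; norm_num
  have hc3 : Nat.card G = 3 ^ 1 * 1820 := by rw [h]; norm_num
  have hc5 : Nat.card G = 5 ^ 1 * 1092 := by rw [h]; norm_num
  have hc7 : Nat.card G = 7 ^ 1 * 780 := by rw [h]; norm_num
  have hc13 : Nat.card G = 13 ^ 1 * 420 := by rw [h]; norm_num
  have hS2 : ∀ T : Sylow 2 G, Nat.card (T : Subgroup G) = 4 := fun T => by
    simpa using card_sylow_subgroup_of_card_eq hc2 (by norm_num) T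
  have hS3 : ∀ T : Sylow 3 G, Nat.card (T : Subgroup G) = 3 := fun T => by
    simpa using card_sylow_subgroup_of_card_eq hc3 (by norm_num) T
  have hS5 : ∀ T : Sylow 5 G, Nat.card (T : Subgroup G) = 5 := fun T => by
    simpa using card_sylow_subgroup_of_card_eq hc5 (by norm_num) T
  have hS7 : ∀ T : Sylow 7 G, Nat.card (T : Subgroup G) = 7 := fun T => by
    simpa using card_sylow_subgroup_of_card_eq hc7 (by norm_num) T
  have hS13 : ∀ T : Sylow 13 G, Nat.card (T : Subgroup G) = 13 := fun T => by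
    simpa using card_sylow_subgroup_of_card_eq hc13 (by norm_num) T
  have hKlein : ∀ T : Sylow 2 G, IsKleinFour (T : Subgroup G) := fun T =>
    (Cfsg.Agent.S0992.result hG (by rw [h]; decide) (by rw [h]; norm_num) T).1
  -- ### Sylow 13
  obtain ⟨P13⟩ : Nonempty (Sylow 13 G) := inferInstance
  have hmem13 := card_sylow_mem_npList hG 13 1 420 (by norm_num) hc13 (by norm_num)
    (by norm_num) (by norm_num)
  have hL13 : npList 13 1 420 = [14, 105] := by decide +kernel
  rw [hL13] at hmem13
  simp only [List.mem_cons, List.not_mem_nil, or_false] at hmem13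
  rcases hmem13 with h14 | h105
  · exact kill_succ hG P13 h (by norm_num) h14 (N := 390) (by norm_num) (by norm_num)
  set N13 := normalizer ((P13 : Subgroup G) : Set G) with hN13def
  have hN13 : Nat.card N13 = 52 :=
    card_normalizer_of_card_sylow P13 h h105 (by norm_num) (by norm_num)
  obtain ⟨x13, hx13, hP13x⟩ := exists_generator_of_card_prime P13 (hS13 P13)
  obtain ⟨T, hTN, z, hzT, hz2, hzx⟩ := exists_sylow_involution_commute hS2 hKlein N13
    (by rw [hN13]; norm_num) hx13 (by rw [← hP13x])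
  -- `H = C(z)` contains `N13`
  set H := centralizer ({z} : Set G) with hHdef
  have hPH : (P13 : Subgroup G) ≤ H := by
    intro w hw
    rw [hP13x] at hw
    obtain ⟨k, rfl⟩ := Subgroup.mem_zpowers_iff.mp hw
    rw [hHdef, Subgroup.mem_centralizer_singleton_iff]
    exact ((Commute.zpow_right (show Commute z x13 from hzx) k).eq).symm
  have hTH : (T : Subgroup G) ≤ H := by
    intro w hw
    rw [hHdef, Subgroup.mem_centralizer_singleton_iff]
    have := mul_comm_of_exponent_two (hKlein T).exponent_two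
      (⟨w, hw⟩ : (T : Subgroup G)) ⟨z, hzT⟩
    exact congrArg Subtype.val this
  have hNeq : (P13 : Subgroup G) ⊔ (T : Subgroup G) = N13 := by
    apply Subgroup.eq_of_le_of_card_ge (sup_le le_normalizer hTN)
    have h1 : 13 ∣ Nat.card ((P13 : Subgroup G) ⊔ (T : Subgroup G) : Subgroup G) := by
      have := Subgroup.card_dvd_of_le (le_sup_left :
        (P13 : Subgroup G) ≤ (P13 : Subgroup G) ⊔ (T : Subgroup G))
      rwa [hS13 P13] at this
    have h2 : 4 ∣ Nat.card ((P13 : Subgroup G) ⊔ (T : Subgroup G) : Subgroup G) := by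
      have := Subgroup.card_dvd_of_le (le_sup_right :
        (T : Subgroup G) ≤ (P13 : Subgroup G) ⊔ (T : Subgroup G))
      rwa [hS2 T] at this
    have h52 : 13 * 4 ∣ Nat.card ((P13 : Subgroup G) ⊔ (T : Subgroup G) : Subgroup G) :=
      Nat.Coprime.mul_dvd_of_dvd_of_dvd (by norm_num) h1 h2
    rw [hN13]
    exact Nat.le_of_dvd Nat.card_pos h52
  have hNH : N13 ≤ H := by rw [← hNeq]; exact sup_le hPH hTH
  have hz1 : z ≠ 1 := by
    intro h1; rw [h1, orderOf_one] at hz2; omega
  have hHne : H ≠ ⊤ := by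
    intro htop
    have hzc : z ∈ center G := by
      rw [Subgroup.mem_center_iff]
      intro g
      have : g ∈ H := htop ▸ mem_top g
      rw [hHdef, Subgroup.mem_centralizer_singleton_iff] at this
      exact this
    rcases (inferInstance : (center G).Normal).eq_bot_or_eq_top with hb | ht
    · rw [hb, Subgroup.mem_bot] at hzc; exact hz1 hzc
    · apply hG
      refine ⟨⟨fun a b => ?_⟩⟩
      have ha : a ∈ center G := ht ▸ mem_top a
      exact (Subgroup.mem_center_iff.mp ha b).symm
  have hHeq : H = N13 := eq_normalizer_of_le' P13 H hNH hHne 105 h105 (by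
    intro k hk hk1
    have hle : k ≤ 105 := Nat.le_of_dvd (by norm_num) hk
    interval_cases k <;> simp_all <;> omega)
  have hHcard : Nat.card H = 52 := by rw [hHeq, hN13]
  -- (**) no element of order `r ∤ 52` commutes with an involution
  have hstar : ∀ (r : ℕ) (y t : G), orderOf y = r → ¬ r ∣ 52 → orderOf t = 2 →
      y * t = t * y → False := by
    intro r y t hy hr ht hyt
    obtain ⟨g, hg⟩ := isConj_iff.mp
      (Cfsg.Agent.Helper68.J1L10.isConj_of_involutions T (hKlein T) (by rw [h]; norm_num) ht hz2)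
    -- `g * z * g⁻¹ = t`
    have hmem : g⁻¹ * y * g ∈ H := by
      rw [hHdef, Subgroup.mem_centralizer_singleton_iff]
      have e1 : g⁻¹ * y * g * z = g⁻¹ * (y * (g * z * g⁻¹)) * g := by group
      have e2 : z * (g⁻¹ * y * g) = g⁻¹ * ((g * z * g⁻¹) * y) * g := by group
      rw [e1, e2, hg, hyt]
    have ho : orderOf (g⁻¹ * y * g) = r := by
      have := (MulAut.conj g⁻¹).orderOf_eq y
      rw [MulAut.conj_apply, inv_inv] at this
      rw [this, hy]
    have := orderOf_dvd_natCard (⟨g⁻¹ * y * g, hmem⟩ : H)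
    rw [Subgroup.orderOf_mk, ho, hHcard] at this
    exact hr this
  -- centralizers of Sylow 3, 5, 7 have odd order
  have hodd : ∀ (r : ℕ) [Fact r.Prime] (P : Sylow r G), Nat.card (P : Subgroup G) = r →
      ¬ r ∣ 52 → ¬ 2 ∣ Nat.card (centralizer ((P : Subgroup G) : Set G)) := by
    intro r _ P hP hr h2
    obtain ⟨x, t, hx, ht, hxt⟩ := exists_commute_of_dvd_card_centralizer P hP h2
    exact hstar r x t hx hr ht hxt
  -- a Sylow normalizer of order divisible by 4 is impossible for `r = 3, 5, 7`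
  have hno4 : ∀ (r : ℕ) [Fact r.Prime] (P : Sylow r G), Nat.card (P : Subgroup G) = r →
      ¬ r ∣ 52 → ¬ 4 ∣ Nat.card (normalizer ((P : Subgroup G) : Set G)) := by
    intro r _ P hP hr h4
    obtain ⟨y, hy, hPy⟩ := exists_generator_of_card_prime P hP
    obtain ⟨T', -, t, -, ht2, hty⟩ := exists_sylow_involution_commute hS2 hKlein
      (normalizer ((P : Subgroup G) : Set G)) h4 hy (by rw [← hPy])
    exact hstar r y t hy hr ht2 hty.symm
  -- ### Sylow 3, 5, 7: the data
  obtain ⟨P3⟩ : Nonempty (Sylow 3 G) := inferInstance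
  obtain ⟨P5⟩ : Nonempty (Sylow 5 G) := inferInstance
  obtain ⟨P7⟩ : Nonempty (Sylow 7 G) := inferInstance
  -- Sylow 5
  have hmem5 := card_sylow_mem_npList hG 5 1 1092 (by norm_num) hc5 (by norm_num)
    (by norm_num) (by norm_num)
  have hL5 : npList 5 1 1092 = [21, 26, 91, 546] := by decide +kernel
  rw [hL5] at hmem5
  simp only [List.mem_cons, List.not_mem_nil, or_false] at hmem5
  obtain ⟨d5, hd5a, hd5b, hd5c, hd5d⟩ := exists_relIndex_data P5 (hS5 P5) (by rw [h]; norm_num)
  have hodd5 := hodd 5 P5 (hS5 P5) (by norm_num)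
  have hno45 := hno4 5 P5 (hS5 P5) (by norm_num)
  have hd5le : d5 ≤ 4 := Nat.le_of_dvd (by norm_num) hd5a
  have h5 : (Nat.card (Sylow 5 G) = 26 ∧
      Nat.card (centralizer ((P5 : Subgroup G) : Set G)) = 105) ∨
      (Nat.card (Sylow 5 G) = 546 ∧
      Nat.card (centralizer ((P5 : Subgroup G) : Set G)) = 5) := by
    rcases hmem5 with h5 | h5 | h5 | h5
    · have hN := card_normalizer_of_card_sylow P5 h h5 (N := 260) (by norm_num) (by norm_num)
      rw [hN] at hno45; norm_num at hno45
    · have hN := card_normalizer_of_card_sylow P5 h h5 (N := 210) (by norm_num) (by norm_num)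
      rw [hN] at hd5c
      left; refine ⟨h5, ?_⟩
      interval_cases d5 <;> omega
    · have hN := card_normalizer_of_card_sylow P5 h h5 (N := 60) (by norm_num) (by norm_num)
      rw [hN] at hno45; norm_num at hno45
    · have hN := card_normalizer_of_card_sylow P5 h h5 (N := 10) (by norm_num) (by norm_num)
      rw [hN] at hd5c
      right; refine ⟨h5, ?_⟩
      interval_cases d5 <;> omega
  -- Sylow 7
  have hmem7 := card_sylow_mem_npList hG 7 1 780 (by norm_num) hc7 (by norm_num)
    (by norm_num) (by norm_num)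
  have hL7 : npList 7 1 780 = [15, 78, 260] := by decide +kernel
  rw [hL7] at hmem7
  simp only [List.mem_cons, List.not_mem_nil, or_false] at hmem7
  obtain ⟨d7, hd7a, hd7b, hd7c, hd7d⟩ := exists_relIndex_data P7 (hS7 P7) (by rw [h]; norm_num)
  have hodd7 := hodd 7 P7 (hS7 P7) (by norm_num)
  have hno47 := hno4 7 P7 (hS7 P7) (by norm_num)
  have hd7le : d7 ≤ 6 := Nat.le_of_dvd (by norm_num) hd7a
  have h7 : (Nat.card (Sylow 7 G) = 78 ∧
      Nat.card (centralizer ((P7 : Subgroup G) : Set G)) = 35) ∨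
      (Nat.card (Sylow 7 G) = 260 ∧
      Nat.card (centralizer ((P7 : Subgroup G) : Set G)) = 7) := by
    rcases hmem7 with h7 | h7 | h7
    · have hN := card_normalizer_of_card_sylow P7 h h7 (N := 364) (by norm_num) (by norm_num)
      rw [hN] at hno47; norm_num at hno47
    · have hN := card_normalizer_of_card_sylow P7 h h7 (N := 70) (by norm_num) (by norm_num)
      rw [hN] at hd7c
      left; refine ⟨h7, ?_⟩
      interval_cases d7 <;> omega
    · have hN := card_normalizer_of_card_sylow P7 h h7 (N := 21) (by norm_num) (by norm_num)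
      rw [hN] at hd7c
      right; refine ⟨h7, ?_⟩
      interval_cases d7 <;> omega
  -- Sylow 3
  have hmem3 := card_sylow_mem_npList hG 3 1 1820 (by norm_num) hc3 (by norm_num)
    (by norm_num) (by norm_num)
  have hL3 : npList 3 1 1820 = [13, 70, 91, 130, 910] := by decide +kernel
  rw [hL3] at hmem3
  simp only [List.mem_cons, List.not_mem_nil, or_false] at hmem3
  obtain ⟨d3, hd3a, hd3b, hd3c, hd3d⟩ := exists_relIndex_data P3 (hS3 P3) (by rw [h]; norm_num)
  have hodd3 := hodd 3 P3 (hS3 P3) (by norm_num)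
  have hno43 := hno4 3 P3 (hS3 P3) (by norm_num)
  have hd3le : d3 ≤ 2 := Nat.le_of_dvd (by norm_num) hd3a
  have h3 : (Nat.card (Sylow 3 G) = 70 ∧
      Nat.card (centralizer ((P3 : Subgroup G) : Set G)) = 39) ∨
      (Nat.card (Sylow 3 G) = 130 ∧
      Nat.card (centralizer ((P3 : Subgroup G) : Set G)) = 21) ∨
      (Nat.card (Sylow 3 G) = 910 ∧
      Nat.card (centralizer ((P3 : Subgroup G) : Set G)) = 3) := by
    rcases hmem3 with h3 | h3 | h3 | h3 | h3
    · have hN := card_normalizer_of_card_sylow P3 h h3 (N := 420) (by norm_num) (by norm_num)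
      rw [hN] at hno43; norm_num at hno43
    · have hN := card_normalizer_of_card_sylow P3 h h3 (N := 78) (by norm_num) (by norm_num)
      rw [hN] at hd3c
      left; refine ⟨h3, ?_⟩
      interval_cases d3 <;> omega
    · have hN := card_normalizer_of_card_sylow P3 h h3 (N := 60) (by norm_num) (by norm_num)
      rw [hN] at hno43; norm_num at hno43
    · have hN := card_normalizer_of_card_sylow P3 h h3 (N := 42) (by norm_num) (by norm_num)
      rw [hN] at hd3c
      right; left; refine ⟨h3, ?_⟩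
      interval_cases d3 <;> omega
    · have hN := card_normalizer_of_card_sylow P3 h h3 (N := 6) (by norm_num) (by norm_num)
      rw [hN] at hd3c
      right; right; refine ⟨h3, ?_⟩
      interval_cases d3 <;> omega
  -- `|C(P13)| ∣ 52`
  obtain ⟨d13, -, -, hd13c, -⟩ := exists_relIndex_data P13 (hS13 P13) (by rw [h]; norm_num)
  rw [← hN13def, hN13] at hd13c
  have hC13 : Nat.card (centralizer ((P13 : Subgroup G) : Set G)) ∣ 52 := ⟨d13, hd13c.symm⟩
  -- ### the swaps
  have h5' : Nat.card (Sylow 5 G) = 546 ∧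
      Nat.card (centralizer ((P5 : Subgroup G) : Set G)) = 5 := by
    rcases h5 with ⟨-, hC5⟩ | h5
    · exfalso
      have := dvd_card_centralizer_swap hS3 P5 (hS5 P5) P3 (by rw [hC5]; norm_num)
      rcases h3 with ⟨-, hC3⟩ | ⟨-, hC3⟩ | ⟨-, hC3⟩ <;> rw [hC3] at this <;> omega
    · exact h5
  have h7' : Nat.card (Sylow 7 G) = 260 ∧
      Nat.card (centralizer ((P7 : Subgroup G) : Set G)) = 7 := by
    rcases h7 with ⟨-, hC7⟩ | h7
    · exfalso
      have := dvd_card_centralizer_swap hS5 P7 (hS7 P7) P5 (by rw [hC7]; norm_num)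
      rw [h5'.2] at this; omega
    · exact h7
  have h3' : Nat.card (Sylow 3 G) = 910 := by
    rcases h3 with ⟨-, hC3⟩ | ⟨-, hC3⟩ | ⟨h3, -⟩
    · exfalso
      have := dvd_card_centralizer_swap hS13 P3 (hS3 P3) P13 (by rw [hC3]; norm_num)
      have := this.trans hC13
      omega
    · exfalso
      have := dvd_card_centralizer_swap hS7 P3 (hS3 P3) P7 (by rw [hC3]; norm_num)
      rw [h7'.2] at this; omega
    · exact h3
  -- ### the count
  have hcount := card_three_orders_le (G := G) (a := 3) (b := 5) (c := 7)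
    (by norm_num) (by norm_num) (by norm_num)
  rw [card_orderOf_eq_prime hS3, card_orderOf_eq_prime hS5, card_orderOf_eq_prime hS7,
    h3', h5'.1, h7'.1, h] at hcount
  omega

end main

end Cfsg.Agent.Helper68.Ord
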