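import Mathlib
import Cfsg.Agent.Helper68.J1L10
import Cfsg.Agent.Helper39.SimpOrd.Kit
import Cfsg.Agent.Helper39.SimpOrd.KitC

set_option autoImplicit false
set_option linter.style.haveILetI false

/-!
# No simple group of order 5940 (piece of S0983, helper39's WANTED-B #3854)
-/

namespace Cfsg.Agent.Helper68.Ord

open Subgroup Cfsg.Agent.Helper9 Cfsg.Agent.Helper17 Cfsg.Agent.Helper39.SimpOrd

/-- Generic step: `P` a Sylow `p`-subgroup of prime order, `C = C_G(P)`, `W` the unique Sylow
`q`-subgroup of `C`; then `N_G(P)` normalizes (the image of) `W`. -/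
theorem normalizer_le_normalizer_sylow_centralizer {G : Type*} [Group G] [Finite G]
    {p q : ℕ} [Fact p.Prime] [Fact q.Prime] (P : Sylow p G)
    [Subsingleton (Sylow q (centralizer ((P : Subgroup G) : Set G)))]
    (W : Sylow q (centralizer ((P : Subgroup G) : Set G))) :
    normalizer ((P : Subgroup G) : Set G) ≤
      normalizer ((((W : Subgroup (centralizer ((P : Subgroup G) : Set G))).map
        (centralizer ((P : Subgroup G) : Set G)).subtype : Subgroup G)) : Set G) := by
  apply Cfsg.Agent.Helper68.J1L10.le_normalizer_map_of_subsingleton_sylow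
  intro n hn
  rw [Subgroup.mem_normalizer_iff]
  intro c
  constructor
  · intro hc
    exact Cfsg.Agent.Helper39.SimpOrd.conj_mem_centralizer_of_mem_normalizer _ hn hc
  · intro hc
    have := Cfsg.Agent.Helper39.SimpOrd.conj_mem_centralizer_of_mem_normalizer
      (P : Subgroup G) ((normalizer ((P : Subgroup G) : Set G)).inv_mem hn) hc
    have e : n⁻¹ * (n * c * n⁻¹) * n⁻¹⁻¹ = c := by group
    rwa [e] at this

theorem no_simple_5940 {G : Type*} [Group G] [Finite G] [IsSimpleGroup G]
    (h : Nat.card G = 5940) : False := by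
  classical
  haveI : Fact (Nat.Prime 11) := ⟨by norm_num⟩
  haveI : Fact (Nat.Prime 3) := ⟨by norm_num⟩
  have hG : ¬ IsMulCommutative G := not_comm_of_simple_of_not_prime (by rw [h]; norm_num)
  have hcard : Nat.card G = 11 ^ 1 * 540 := by rw [h]; norm_num
  obtain ⟨P⟩ : Nonempty (Sylow 11 G) := inferInstance
  have hP : Nat.card (P : Subgroup G) = 11 := by
    simpa using card_sylow_subgroup_of_card_eq hcard (by norm_num) P
  have hmem := card_sylow_mem_npList hG 11 1 540 (by norm_num) hcard (by norm_num) (by norm_num)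
    (by norm_num)
  have hL : npList 11 1 540 = [12, 45] := by decide +kernel
  rw [hL] at hmem
  simp only [List.mem_cons, List.not_mem_nil, or_false] at hmem
  rcases hmem with h12 | h45
  · exact kill_succ hG P h (by norm_num) h12 (N := 495) (by norm_num) (by norm_num)
  set N := normalizer ((P : Subgroup G) : Set G) with hNdef
  set C := centralizer ((P : Subgroup G) : Set G) with hCdef
  have hN : Nat.card N = 132 :=
    card_normalizer_of_card_sylow P h h45 (by norm_num) (by norm_num)
  -- `|C| = 66`
  have hC : Nat.card C = 66 := by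
    obtain ⟨hd1, hd2⟩ := relIndex_dvd_of_card_sylow_prime P hP
    have hcm := card_centralizer_mul_relIndex (P : Subgroup G)
    have hne : ¬ (N ≤ C) :=
      not_normalizer_le_centralizer_of_simple P (by rw [hP]; norm_num) (by rw [hP, h]; norm_num)
    have h1' : C.relIndex N ≠ 1 := fun h => hne (Subgroup.relIndex_eq_one.mp h)
    change C.relIndex N ∣ 11 - 1 at hd1
    change 11 * C.relIndex N ∣ Nat.card N at hd2
    change Nat.card C * C.relIndex N = Nat.card N at hcm
    rw [hN] at hd2 hcm
    generalize C.relIndex N = d at *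
    have hle : d ≤ 10 := Nat.le_of_dvd (by norm_num) hd1
    obtain ⟨a, ha⟩ := hd1
    obtain ⟨b, hb⟩ := hd2
    interval_cases d <;> omega
  have hPC : (P : Subgroup G) ≤ C := by
    intro x hx
    rw [hCdef, Subgroup.mem_centralizer_iff]
    intro y hy
    have hcyc : IsCyclic (P : Subgroup G) := isCyclic_of_prime_card hP
    have := hcyc.commGroup.mul_comm (⟨y, hy⟩ : (P : Subgroup G)) ⟨x, hx⟩
    exact congrArg Subtype.val this
  -- the Sylow 3-subgroup of `C` is unique
  have hCc3 : Nat.card C = 3 ^ 1 * 22 := by rw [hC]; norm_num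
  obtain ⟨W⟩ : Nonempty (Sylow 3 C) := inferInstance
  have hWcard : Nat.card (W : Subgroup C) = 3 := by
    simpa using card_sylow_subgroup_of_card_eq hCc3 (by norm_num) W
  have hn3 : Nat.card (Sylow 3 C) = 1 := by
    set NW := normalizer ((W : Subgroup C) : Set C) with hNW
    have h3 : 3 ∣ Nat.card NW := by
      rw [← hWcard]; exact Subgroup.card_dvd_of_le Subgroup.le_normalizer
    have h11 : 11 ∣ Nat.card NW := by
      have hle : (P : Subgroup G).subgroupOf C ≤ NW := by
        intro x hx
        rw [Subgroup.mem_subgroupOf] at hx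
        have hxc : ∀ y : C, x * y = y * x := by
          intro y
          apply Subtype.ext
          have := (Subgroup.mem_centralizer_iff.mp y.2) (x : G) hx
          simpa using this
        rw [hNW, Subgroup.mem_normalizer_iff]
        intro y
        have e : x * y * x⁻¹ = y := by rw [hxc y, mul_inv_cancel_right]
        rw [e]
      have hc : Nat.card ((P : Subgroup G).subgroupOf C) = 11 := by
        rw [Nat.card_congr (Subgroup.subgroupOfEquivOfLe hPC).toEquiv, hP]
      rw [← hc]; exact Subgroup.card_dvd_of_le hle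
    have h33 : 33 ∣ Nat.card NW :=
      Nat.Coprime.mul_dvd_of_dvd_of_dvd (by norm_num : Nat.Coprime 3 11) h3 h11
    have hidxW := Subgroup.card_mul_index NW
    rw [hC] at hidxW
    have hmod : Nat.card (Sylow 3 C) ≡ 1 [MOD 3] := card_sylow_modEq_one 3 C
    have hidxeq : Nat.card (Sylow 3 C) = NW.index := W.card_eq_index_normalizer
    rw [hidxeq] at hmod ⊢
    obtain ⟨a, ha⟩ := h33
    rw [ha] at hidxW
    have h2 : a * NW.index = 2 := by
      have : 33 * (a * NW.index) = 33 * 2 := by rw [← mul_assoc]; omega
      exact Nat.eq_of_mul_eq_mul_left (by norm_num) this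
    have hle : NW.index ≤ 2 := Nat.le_of_dvd (by norm_num) ⟨a, by rw [← h2, mul_comm]⟩
    unfold Nat.ModEq at hmod
    generalize NW.index = n at *
    interval_cases n <;> omega
  haveI : Subsingleton (Sylow 3 C) := (Nat.card_eq_one_iff_unique.mp hn3).1
  -- `N` normalizes it
  set W' : Subgroup G := (W : Subgroup C).map C.subtype with hW'
  have hNW' : N ≤ normalizer (W' : Set G) := normalizer_le_normalizer_sylow_centralizer P W
  have hW'card : Nat.card W' = 3 := by
    rw [hW', Subgroup.card_map_of_injective C.subtype_injective, hWcard]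
  -- `N_G(W') ≠ ⊤`
  have hne : normalizer (W' : Set G) ≠ ⊤ := by
    intro htop
    have hnorm : W'.Normal := Subgroup.normalizer_eq_top_iff.mp htop
    rcases hnorm.eq_bot_or_eq_top with hb | ht
    · rw [hb, Subgroup.card_bot] at hW'card; omega
    · rw [ht, Subgroup.card_top, h] at hW'card; omega
  have hEq := eq_normalizer_of_le' P _ hNW' hne 45 h45 (by
    intro k hk hk1
    have hle : k ≤ 45 := Nat.le_of_dvd (by norm_num) hk
    interval_cases k <;> simp_all <;> omega)
  -- but `9 ∣ |N_G(W')|`
  have h9 : 3 ^ (1 + 1) ∣ Nat.card (normalizer (W' : Set G)) :=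
    Sylow.prime_pow_dvd_card_normalizer (by rw [h]; norm_num) (by rw [hW'card]; norm_num)
  rw [hEq, ← hNdef, hN] at h9
  norm_num at h9

end Cfsg.Agent.Helper68.Ord
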