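import Cfsg.Agent.Helper5.SpCard
import Cfsg.Agent.Helper97.StCMult

/-! (L1) of helper86's S3664 farm (#9537): the order of `PSp(6,3)`. -/

set_option autoImplicit false

namespace Cfsg.Agent.Helper68.PG63

open Cfsg

/-- (L1) the order of `PSp(6,3)` -/
theorem card_psp : Nat.card (Cfsg.PSp 3 (ZMod 3)) = 4585351680 := by
  have h1 := Cfsg.Agent.Helper5.card_sp (F := ZMod 3) 3
  have h2 := Cfsg.Agent.Helper97.StCMult.card_center_sp (F := ZMod 3) 3 (by norm_num)
  have h3 := Subgroup.card_eq_card_quotient_mul_card_subgroup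
    (Subgroup.center (Matrix.symplecticGroup (Fin 3) (ZMod 3)))
  rw [h1, h2, ZMod.card] at h3
  rw [Finset.prod_range_succ, Finset.prod_range_succ, Finset.prod_range_one] at h3
  norm_num at h3
  show Nat.card (Matrix.symplecticGroup (Fin 3) (ZMod 3) ⧸
    Subgroup.center (Matrix.symplecticGroup (Fin 3) (ZMod 3))) = 4585351680
  omega

end Cfsg.Agent.Helper68.PG63
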