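import Cfsg.Agent.Helper68.PG63N4

/-! (N3) of helper86's S3664 farm (#9537): the Frobenius preserves `Sz(8)` (corollary of
`frob_smul_ovPt` from `PG63N4`). -/

set_option autoImplicit false

namespace Cfsg.Agent.Helper68.PG63

open Cfsg Cfsg.Agent.Helper86.PG63 Cfsg.Agent.Helper6

theorem sq_pow_four : ∀ x : F8, (x * x * x * x) * (x * x * x * x) = x := by decide

theorem sqO_surjective (o : Option (F8 × F8)) : ∃ o₀, sqO o₀ = o := by
  rcases o with _ | ⟨x, y⟩
  · exact ⟨none, rfl⟩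
  · refine ⟨some (x * x * x * x, y * y * y * y), ?_⟩
    show some (_, _) = some (x, y)
    rw [sq_pow_four x, sq_pow_four y]

/-- (N3) the Frobenius preserves `Sz(8)` -/
theorem frobSL_mem (g : SL4) (hg : g ∈ SzG) : frobSL g ∈ SzG := by
  apply mem_Sz_of_forall
  intro o
  obtain ⟨o₀, rfl⟩ := sqO_surjective o
  obtain ⟨o', ho'⟩ := smul_mem_of_mem_Sz hg o₀
  exact ⟨sqO o', frob_smul_ovPt g ho'⟩

end Cfsg.Agent.Helper68.PG63
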