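import Cfsg.Agent.Helper86.PG63.Defs
import Cfsg.Agent.Helper6.Sz10

/-! (N4) of helper86's S3664 farm (#9537): no Frobenius-fixed element of order `7` or `13` in
`Sz(8)`. -/

set_option autoImplicit false

namespace Cfsg.Agent.Helper68.PG63

open Cfsg Cfsg.Agent.Helper86.PG63 Cfsg.Agent.Helper6

/-- entrywise square of a parameter -/
def sqO : Option (F8 × F8) → Option (F8 × F8)
  | none => none
  | some (x, y) => some (x * x, y * y)

theorem frob_ovF : ∀ x y : F8, frobF8 (ovF F8 1 x y) = ovF F8 1 (x * x) (y * y) := by decide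

theorem frob_ovVecOpt (o : Option (F8 × F8)) (i : Fin 4) :
    frobF8 (ovVecOpt F8 1 o i) = ovVecOpt F8 1 (sqO o) i := by
  rcases o with _ | ⟨x, y⟩
  · fin_cases i <;> simp [ovVecOpt, sqO]
  · fin_cases i
    · exact frob_ovF x y
    · rfl
    · rfl
    · simp [ovVecOpt, ovVec, sqO]

theorem frob_smul_ovPt (g : SL4) {o o' : Option (F8 × F8)}
    (h : g • ovPt F8 1 o = ovPt F8 1 o') :
    frobSL g • ovPt F8 1 (sqO o) = ovPt F8 1 (sqO o') := by
  obtain ⟨c, hc, hcv⟩ := exists_of_smul_ovPt g h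
  refine smul_ovPt (frobSL g) _ _ (frobF8 c) ?_
  funext i
  have hi := congrArg frobF8 (congrFun hcv i)
  simp only [Matrix.mulVec, dotProduct, map_sum, map_mul, Pi.smul_apply, smul_eq_mul,
    frob_ovVecOpt] at hi
  simp only [Matrix.mulVec, dotProduct, Pi.smul_apply, smul_eq_mul]
  rw [← hi]
  refine Finset.sum_congr rfl fun j _ => ?_
  rfl

/-- the rational parameters -/
abbrev RPar : Type := {o : Option (F8 × F8) // sqO o = o}

theorem card_RPar : Fintype.card RPar = 5 := by decide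

/-- (N4) no Frobenius-fixed element of order `7` or `13` -/
theorem frobSL_fixed_false (g : SL4) (hg : g ∈ SzG) (hfix : frobSL g = g)
    (ho : orderOf g = 7 ∨ orderOf g = 13) : False := by
  classical
  have hmap : ∀ o : RPar, ∃ o' : RPar, g • ovPt F8 1 o.1 = ovPt F8 1 o'.1 := by
    intro o
    obtain ⟨o', ho'⟩ := smul_mem_of_mem_Sz hg o.1
    have h2 := frob_smul_ovPt g ho'
    rw [hfix, o.2, ho'] at h2
    exact ⟨⟨o', (ovPt_injective h2).symm⟩, ho'⟩
  choose τ hτ using hmap
  have hτinj : Function.Injective τ := by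
    intro a b hab
    have h3 : g • ovPt F8 1 a.1 = g • ovPt F8 1 b.1 := by rw [hτ a, hτ b, hab]
    exact Subtype.ext (ovPt_injective (MulAction.injective g h3))
  let σ : Equiv.Perm RPar :=
    Equiv.ofBijective τ ⟨hτinj, Finite.injective_iff_surjective.1 hτinj⟩
  have hσ : ∀ (k : ℕ) (o : RPar), (g ^ k) • ovPt F8 1 o.1 = ovPt F8 1 ((σ ^ k) o).1 := by
    intro k
    induction k with
    | zero => intro o; simp
    | succ k ih =>
      intro o
      rw [pow_succ', mul_smul, ih, pow_succ', Equiv.Perm.mul_apply]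
      exact hτ _
  have hσp : σ ^ orderOf g = 1 := by
    apply Equiv.ext
    intro o
    apply Subtype.ext
    apply ovPt_injective (F := F8) (m := 1)
    rw [← hσ (orderOf g) o, pow_orderOf_eq_one, one_smul]
    rfl
  have h1 : orderOf σ ∣ orderOf g := orderOf_dvd_of_pow_eq_one hσp
  have h2 : orderOf σ ∣ Fintype.card (Equiv.Perm RPar) := orderOf_dvd_card
  have hcard : Fintype.card (Equiv.Perm RPar) = 120 := by
    rw [Fintype.card_perm, card_RPar]
    rfl
  rw [hcard] at h2
  have hcop : Nat.Coprime (orderOf g) 120 := by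
    rcases ho with h | h <;> rw [h] <;> decide
  have hσ1 : σ = 1 := by
    rw [← orderOf_eq_one_iff]
    exact Nat.eq_one_of_dvd_coprimes hcop h1 h2
  have hfixpt : ∀ o : RPar, g • ovPt F8 1 o.1 = ovPt F8 1 o.1 := by
    intro o
    have h3 := hσ 1 o
    rw [pow_one, pow_one, hσ1] at h3
    exact h3
  have hg1 : (⟨g, hg⟩ : Cfsg.Sz F8 1) = 1 := by
    refine sz_three_points (le_refl 1) F8.card_eq' ⟨g, hg⟩ (ovΩ F8 1 none)
      (ovΩ F8 1 (some (0, 0))) (ovΩ F8 1 (some (1, 0))) ?_ ?_ ?_ ?_ ?_ ?_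
    · intro h
      exact absurd (ovΩ_injective h) (by decide)
    · intro h
      exact absurd (ovΩ_injective h) (by decide)
    · intro h
      exact absurd (ovΩ_injective h) (by decide)
    · rw [smul_ovΩ_eq_iff]
      exact hfixpt ⟨none, rfl⟩
    · rw [smul_ovΩ_eq_iff]
      exact hfixpt ⟨some (0, 0), by decide⟩
    · rw [smul_ovΩ_eq_iff]
      exact hfixpt ⟨some (1, 0), by decide⟩
  have hg' : g = 1 := congrArg Subtype.val hg1
  rw [hg', orderOf_one] at ho
  omega

end Cfsg.Agent.Helper68.PG63
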