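import Mathlib

/-!
# S4489, piece (E): the counting step `n ≤ (t + 1) #S`
-/

set_option autoImplicit false

namespace Cfsg.Agent.Helper68.PGF

universe u

theorem arith_le (p t m : ℕ) (hp : 2 ≤ p) : m ≤ (t + 1) * p ^ (m - 1 - t) := by
  rcases Nat.lt_or_ge m (t + 2) with h | h
  · have h1 : 1 ≤ p ^ (m - 1 - t) := Nat.one_le_pow _ _ (by omega)
    nlinarith
  · obtain ⟨e, rfl⟩ : ∃ e, m = t + 1 + e := ⟨m - (t + 1), by omega⟩
    have e1 : t + 1 + e - 1 - t = e := by omega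
    rw [e1]
    have h2 : e + 1 ≤ p ^ e :=
      calc e + 1 ≤ 2 ^ e := Nat.lt_two_pow_self
        _ ≤ p ^ e := Nat.pow_le_pow_left hp e
    nlinarith

/-- (E) counting: a finite `p`-group `A` of order `p ^ n` with a finite separating set `S` of linear
characters, such that every `μ ∈ S` with `#μ(A) = p ^ m` has at least `p ^ (m - 1 - t)` companions
in `S` with the same kernel, has `n ≤ (t + 1) #S`. -/
theorem log_card_le {A : Type u} [Group A] [Finite A] (p t n : ℕ) (hp : p.Prime)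
    (hA : Nat.card A = p ^ n) (S : Set (A →* ℂˣ)) (hfin : S.Finite)
    (hsep : ∀ k : A, (∀ μ ∈ S, μ k = 1) → k = 1)
    (hcls : ∀ μ ∈ S, ∀ m : ℕ, Nat.card ↥μ.range = p ^ m →
      p ^ (m - 1 - t) ≤ Nat.card {μ' : A →* ℂˣ // μ' ∈ S ∧ μ'.ker = μ.ker}) :
    n ≤ (t + 1) * S.ncard := by
  classical
  set T := hfin.toFinset with hT
  set K := T.image (fun μ : A →* ℂˣ => μ.ker) with hK
  have hidx : ∀ N ∈ K, ∃ m, N.index = p ^ m := by
    intro N _
    have hdvd : N.index ∣ p ^ n := by rw [← hA]; exact Subgroup.index_dvd_card N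
    obtain ⟨m, _, hm⟩ := (Nat.dvd_prime_pow hp).mp hdvd
    exact ⟨m, hm⟩
  have hinf : (⨅ N : K, (N : Subgroup A)) = ⊥ := by
    rw [eq_bot_iff]
    intro k hk
    rw [Subgroup.mem_iInf] at hk
    rw [Subgroup.mem_bot]
    apply hsep k
    intro μ hμ
    have hmem : μ.ker ∈ K :=
      Finset.mem_image.mpr ⟨μ, (Set.Finite.mem_toFinset hfin).mpr hμ, rfl⟩
    exact MonoidHom.mem_ker.mp (hk ⟨μ.ker, hmem⟩)
  have h1 : p ^ n ≤ ∏ N ∈ K, N.index := by
    have h2 := Subgroup.index_iInf_le (fun N : K => (N : Subgroup A))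
    rw [hinf, Subgroup.index_bot, hA] at h2
    rw [← Finset.prod_coe_sort]
    exact h2
  have h3 : ∏ N ∈ K, N.index = p ^ (∑ N ∈ K, Nat.log p N.index) := by
    rw [← Finset.prod_pow_eq_pow_sum]
    apply Finset.prod_congr rfl
    intro N hN
    obtain ⟨m, hm⟩ := hidx N hN
    rw [hm, Nat.log_pow hp.one_lt]
  rw [h3] at h1
  have h4 : n ≤ ∑ N ∈ K, Nat.log p N.index := (Nat.pow_le_pow_iff_right hp.one_lt).mp h1
  have h5 : ∀ N ∈ K, Nat.log p N.index ≤ (t + 1) * (T.filter (fun μ => μ.ker = N)).card := by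
    intro N hN
    obtain ⟨μ, hμT, rfl⟩ := Finset.mem_image.mp hN
    have hμS : μ ∈ S := (Set.Finite.mem_toFinset hfin).mp hμT
    obtain ⟨m, hm⟩ := hidx _ hN
    have hr : Nat.card ↥μ.range = p ^ m := by rw [← Subgroup.index_ker, hm]
    have h6 := hcls μ hμS m hr
    have h7 : Nat.card {μ' : A →* ℂˣ // μ' ∈ S ∧ μ'.ker = μ.ker} =
        (T.filter (fun μ' => μ'.ker = μ.ker)).card := by
      apply Nat.subtype_card
      intro x
      rw [Finset.mem_filter, Set.Finite.mem_toFinset]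
    rw [h7] at h6
    rw [hm, Nat.log_pow hp.one_lt]
    calc m ≤ (t + 1) * p ^ (m - 1 - t) := arith_le p t m hp.two_le
      _ ≤ (t + 1) * (T.filter (fun μ' => μ'.ker = μ.ker)).card := Nat.mul_le_mul_left _ h6
  have h8 : T.card = ∑ N ∈ K, (T.filter (fun μ => μ.ker = N)).card :=
    Finset.card_eq_sum_card_image (fun μ : A →* ℂˣ => μ.ker) T
  rw [Set.ncard_eq_toFinset_card S hfin, ← hT, h8, Finset.mul_sum]
  exact h4.trans (Finset.sum_le_sum h5)

end Cfsg.Agent.Helper68.PGF
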