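import Mathlib
import Cfsg.Prelude.Def_Classical
import Cfsg.Agent.Helper99.PGDefs
import Cfsg.Agent.S0246

/-!
# (G4) for helper99's S2474 farm (#10721): elements of order `2s` of `PSp` as commuting pairs in `Sp`.
-/

set_option autoImplicit false
set_option linter.unusedSectionVars false
set_option linter.unusedVariables false

universe u

namespace Cfsg.Agent.Helper68.PG

open Module Matrix Cfsg.Agent.Helper99.PG

variable {F : Type u} [Field F] [Fintype F]

theorem g4_negOne_coe (n : ℕ) :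
    ((Cfsg.Agent.S0246.negOne n F : SpG n F) : Matrix (Fin n ⊕ Fin n) (Fin n ⊕ Fin n) F) = -1 := rfl

theorem g4_negOne_mul_self (n : ℕ) :
    (Cfsg.Agent.S0246.negOne n F : SpG n F) * Cfsg.Agent.S0246.negOne n F = 1 := by
  apply Subtype.ext
  show (-1 : Matrix (Fin n ⊕ Fin n) (Fin n ⊕ Fin n) F) * (-1) = 1
  simp

theorem g4_sq_eq_one_of_mem_center (n : ℕ) (hn : 1 ≤ n) (z : SpG n F)
    (hz : z ∈ Subgroup.center (SpG n F)) : z * z = 1 := by
  rcases (Cfsg.Agent.S0246.mem_center_iff hn z).1 hz with rfl | rfl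
  · exact mul_one 1
  · exact g4_negOne_mul_self n

theorem g4_coe_of_mem_center (n : ℕ) (hn : 1 ≤ n) (z : SpG n F)
    (hz : z ∈ Subgroup.center (SpG n F)) :
    (z : Matrix (Fin n ⊕ Fin n) (Fin n ⊕ Fin n) F) = 1 ∨
      (z : Matrix (Fin n ⊕ Fin n) (Fin n ⊕ Fin n) F) = -1 := by
  rcases (Cfsg.Agent.S0246.mem_center_iff hn z).1 hz with rfl | rfl
  · exact Or.inl rfl
  · exact Or.inr rfl

theorem g4_mem_center_of_coe (n : ℕ) (hn : 1 ≤ n) (z : SpG n F)
    (hz : (z : Matrix (Fin n ⊕ Fin n) (Fin n ⊕ Fin n) F) = 1 ∨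
      (z : Matrix (Fin n ⊕ Fin n) (Fin n ⊕ Fin n) F) = -1) :
    z ∈ Subgroup.center (SpG n F) := by
  rw [Cfsg.Agent.S0246.mem_center_iff hn z]
  rcases hz with h | h
  · left; exact Subtype.ext h
  · right; exact Subtype.ext h

/-- (G4) -/
theorem psp_two_mul_iff (h2 : (2 : F) ≠ 0) (n : ℕ) (hn : 1 ≤ n) (s : ℕ) (hs : s.Prime)
    (hs2 : s ≠ 2) :
    2 * s ∈ Set.range (orderOf : Cfsg.PSp n F → ℕ) ↔
    ∃ a t : SpG n F, Commute a t ∧ orderOf a = s ∧
      ((t : Matrix (Fin n ⊕ Fin n) (Fin n ⊕ Fin n) F) * (t : Matrix (Fin n ⊕ Fin n) (Fin n ⊕ Fin n) F) = 1 ∨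
        (t : Matrix (Fin n ⊕ Fin n) (Fin n ⊕ Fin n) F) * (t : Matrix (Fin n ⊕ Fin n) (Fin n ⊕ Fin n) F) = -1) ∧
      (t : Matrix (Fin n ⊕ Fin n) (Fin n ⊕ Fin n) F) ≠ 1 ∧
      (t : Matrix (Fin n ⊕ Fin n) (Fin n ⊕ Fin n) F) ≠ -1 := by
  have hspos : 0 < s := hs.pos
  have hsodd : Odd s := hs.odd_of_ne_two hs2
  have hs3 : 3 ≤ s := by
    have := hs.two_le
    omega
  constructor
  · rintro ⟨gbar, hgbar⟩
    obtain ⟨g, rfl⟩ := QuotientGroup.mk_surjective gbar
    have hmem : ∀ k : ℕ, g ^ k ∈ Subgroup.center (SpG n F) ↔ 2 * s ∣ k := by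
      intro k
      rw [← hgbar, orderOf_dvd_iff_pow_eq_one, ← QuotientGroup.mk_pow, QuotientGroup.eq_one_iff]
    have hζ : g ^ (2 * s) ∈ Subgroup.center (SpG n F) := (hmem _).2 dvd_rfl
    have hζ2 : g ^ (2 * s) * g ^ (2 * s) = 1 := g4_sq_eq_one_of_mem_center n hn _ hζ
    obtain ⟨m, hm⟩ : ∃ m, s + 1 = 2 * m := by
      obtain ⟨k, hk⟩ := hsodd
      exact ⟨k + 1, by omega⟩
    refine ⟨g ^ (2 * (s + 1)), g ^ s, ?_, ?_, ?_, ?_, ?_⟩
    · exact (Commute.refl g).pow_pow _ _
    · have hfact : Fact s.Prime := ⟨hs⟩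
      apply orderOf_eq_prime
      · rw [← pow_mul]
        have e : 2 * (s + 1) * s = (2 * s) * 2 * m := by rw [hm]; ring
        rw [e, pow_mul, pow_mul, pow_two, hζ2, one_pow]
      · intro h1
        have h3 : g ^ (2 * (s + 1)) ∈ Subgroup.center (SpG n F) := by
          rw [h1]; exact Subgroup.one_mem _
        rw [hmem] at h3
        have h4 : 2 * s ∣ 2 := by
          have h5 : 2 * (s + 1) = 2 * s + 2 := by ring
          rw [h5] at h3
          exact (Nat.dvd_add_right dvd_rfl).1 h3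
        have := Nat.le_of_dvd (by norm_num) h4
        omega
    · have hcoe : (g ^ s : SpG n F).1 * (g ^ s : SpG n F).1 = (g ^ (2 * s) : SpG n F).1 := by
        have : (g ^ s * g ^ s : SpG n F) = g ^ (2 * s) := by rw [← pow_add]; congr 1; ring
        rw [← this]; rfl
      rw [hcoe]
      exact g4_coe_of_mem_center n hn _ hζ
    · intro h1
      have h3 : g ^ s ∈ Subgroup.center (SpG n F) := g4_mem_center_of_coe n hn _ (Or.inl h1)
      rw [hmem] at h3
      have := Nat.le_of_dvd hspos h3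
      omega
    · intro h1
      have h3 : g ^ s ∈ Subgroup.center (SpG n F) := g4_mem_center_of_coe n hn _ (Or.inr h1)
      rw [hmem] at h3
      have := Nat.le_of_dvd hspos h3
      omega
  · rintro ⟨a, t, hat, hoa, htt, ht1, htn1⟩
    have htt' : t * t ∈ Subgroup.center (SpG n F) := g4_mem_center_of_coe n hn _ htt
    have htt2 : (t * t) * (t * t) = 1 := g4_sq_eq_one_of_mem_center n hn _ htt'
    have htnot : t ∉ Subgroup.center (SpG n F) := by
      intro h
      rcases g4_coe_of_mem_center n hn _ h with h | h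
      · exact ht1 h
      · exact htn1 h
    have has : a ^ s = 1 := by rw [← hoa]; exact pow_orderOf_eq_one a
    refine ⟨QuotientGroup.mk (a * t), ?_⟩
    have hpow : ∀ k : ℕ, (QuotientGroup.mk (a * t) : Cfsg.PSp n F) ^ k = 1 ↔
        a ^ k * t ^ k ∈ Subgroup.center (SpG n F) := by
      intro k
      rw [← QuotientGroup.mk_pow, QuotientGroup.eq_one_iff, hat.mul_pow]
    -- `t ^ (2 k) ∈ Z`
    have htpow : ∀ k : ℕ, t ^ (2 * k) ∈ Subgroup.center (SpG n F) := by
      intro k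
      rw [pow_mul, pow_two]
      exact Subgroup.pow_mem _ htt' k
    apply orderOf_eq_of_pow_and_pow_div_prime (by omega)
    · rw [hpow]
      have e1 : a ^ (2 * s) = 1 := by rw [mul_comm, pow_mul, has, one_pow]
      rw [e1, one_mul]
      exact htpow s
    · intro p hp hpd
      rcases (Nat.Prime.dvd_mul hp).1 hpd with h | h
      · -- p = 2
        have hp2 : p = 2 := (Nat.prime_dvd_prime_iff_eq hp Nat.prime_two).1 h
        subst hp2
        rw [Nat.mul_div_cancel_left s (by norm_num : 0 < 2), Ne, hpow, has, one_mul]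
        intro hc
        -- t ^ s = t ^ (2k) * t
        obtain ⟨k, hk⟩ := hsodd
        rw [hk, pow_succ] at hc
        have h5 : t = (t ^ (2 * k))⁻¹ * (t ^ (2 * k) * t) := by group
        apply htnot
        rw [h5]
        exact Subgroup.mul_mem _ (Subgroup.inv_mem _ (htpow k)) hc
      · -- p = s
        have hps : p = s := (Nat.prime_dvd_prime_iff_eq hp hs).1 h
        subst hps
        rw [Nat.mul_div_cancel 2 hspos, Ne, hpow]
        intro hc
        have h5 : a ^ 2 = (a ^ 2 * t ^ 2) * (t ^ (2 * 1))⁻¹ := by rw [mul_one]; group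
        have h6 : a ^ 2 ∈ Subgroup.center (SpG n F) := by
          rw [h5]
          exact Subgroup.mul_mem _ hc (Subgroup.inv_mem _ (htpow 1))
        have h7 : a ^ 2 * a ^ 2 = 1 := g4_sq_eq_one_of_mem_center n hn _ h6
        have h8 : a ^ 4 = 1 := by
          rw [show 4 = 2 + 2 from rfl, pow_add]; exact h7
        have h9 : p ∣ 4 := by rw [← hoa]; exact orderOf_dvd_of_pow_eq_one h8
        have h10 : p ∣ 2 ^ 2 := by norm_num; exact h9
        have h11 := hp.dvd_of_dvd_pow h10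
        have := (Nat.prime_dvd_prime_iff_eq hp Nat.prime_two).1 h11
        exact hs2 this

end Cfsg.Agent.Helper68.PG
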