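import Mathlib
import Cfsg.Prelude.Def_Classical
import Cfsg.Agent.Helper99.PGDefs
import Cfsg.Agent.S0286

/-!
# (O3) for helper99's S2474 farm (#10721): an element of order `p` in `O_{2j+1}(q)`.
-/

set_option autoImplicit false

universe u

namespace Cfsg.Agent.Helper68.PG

open Module Matrix Cfsg.Agent.Helper99.PG

variable {F : Type u} [Field F] [Fintype F]

/-- (O3) Cauchy with `Cfsg.Agent.S0286.result` -/
theorem exists_orderOf_char_odd (p : ℕ) [Fact p.Prime] [CharP F p] (hp2 : p ≠ 2) (j : ℕ)
    (hj : 1 ≤ j) : ∃ u : OOdd j F, orderOf u = p := by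
  classical
  have hp : p.Prime := Fact.out
  obtain ⟨k, hk⟩ := FiniteField.card F p
  have hq : Fintype.card F = p ^ (k : ℕ) := hk.2
  have hpodd : Odd p := hp.odd_of_ne_two hp2
  have hodd : Odd (Fintype.card F) := by rw [hq]; exact hpodd.pow
  have hcard := Cfsg.Agent.S0286.result (F := F) rfl hodd j
  have hdvd : p ∣ Nat.card (OOdd j F) := by
    rw [hcard]
    apply Dvd.dvd.mul_right
    apply Dvd.dvd.mul_left
    have h1 : p ∣ Fintype.card F := by
      rw [hq]; exact dvd_pow_self p k.ne_zero
    have h2 : j ^ 2 ≠ 0 := by positivity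
    exact h1.trans (dvd_pow_self _ h2)
  exact exists_prime_orderOf_dvd_card' p hdvd

end Cfsg.Agent.Helper68.PG
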