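-- helper68: piece (L1) of helper88's WANTED #5347 for S5320: the normalizer of `S = Q ≀ 2` in `Sp₄(F)` lies in
-- `ι(SL₂ × SL₂).⟨tw⟩`.
import Cfsg.Agent.Helper88.PSp4Hyp

set_option autoImplicit false

open Matrix Equiv Cfsg.Agent.Helper42 Cfsg.Agent.Helper85 Cfsg.Agent.Helper84 Cfsg.Agent.Helper88.PSp4F

namespace Cfsg.Agent.Helper68.PSp4L

variable {F : Type*} [Field F]

theorem negOneSL_comm (a : SL2 F) : negOneSL F * a = a * negOneSL F :=
  ((Subgroup.mem_center_iff.1 (negOneSL_mem_center (F := F))) a).symm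

theorem nI_comm (g : Sp4 F) : nI F * g = g * nI F :=
  ((Subgroup.mem_center_iff.1 (Cfsg.Agent.S0246.negOne_mem_center (m := 2) (F := F))) g).symm

theorem nI_mul_nI : nI F * nI F = 1 := by
  rw [← io_neg_neg, io_mul, negOneSL_mul_self, io_one]

theorem t0_inv : (t0 F)⁻¹ = t0 F := inv_eq_of_mul_eq_one_right t0_mul_t0

theorem t0_mem_SQ {Q : Subgroup (SL2 F)} (hneg : negOneSL F ∈ Q) : t0 F ∈ SQ Q :=
  io_mem_SQ hneg Q.one_mem

theorem t0_ne_one (h2 : (2 : F) ≠ 0) : t0 F ≠ 1 := by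
  intro h
  unfold t0 at h
  rw [← io_one] at h
  exact negOneSL_ne_one h2 (io_injective h).1

theorem t0_ne_nI (h2 : (2 : F) ≠ 0) : t0 F ≠ nI F := by
  intro h
  unfold t0 at h
  rw [← io_neg_neg] at h
  exact negOneSL_ne_one h2 (io_injective h).2.symm

/-- the commutator of `t₀` with an element of `ι(SL₂ × SL₂)` is trivial -/
theorem t0_comm_io (a b : SL2 F) : t0 F * io a b * (t0 F)⁻¹ * (io a b)⁻¹ = 1 := by
  rw [t0_inv, io_inv]
  unfold t0
  rw [io_mul, io_mul, io_mul, ← io_one]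
  congr 1
  · rw [negOneSL_comm a, _root_.mul_assoc a, negOneSL_mul_self, mul_one, mul_inv_cancel]
  · rw [one_mul, mul_one, mul_inv_cancel]

/-- the commutator of `t₀` with an element of `ι(SL₂ × SL₂) tw` is `-1` -/
theorem t0_comm_io_tw (a b : SL2 F) :
    t0 F * (io a b * tw) * (t0 F)⁻¹ * (io a b * tw)⁻¹ = nI F := by
  have h1 : t0 F * (io a b * tw) * (t0 F)⁻¹ * (io a b * tw)⁻¹ =
      t0 F * io a b * (tw * t0 F * tw⁻¹) * (io a b)⁻¹ := by
    rw [t0_inv, _root_.mul_inv_rev]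
    group
  rw [h1, tw_t0_tw, nI_mul_t0, io_inv]
  unfold t0
  rw [io_mul, io_mul, io_mul, ← io_neg_neg]
  congr 1
  · rw [mul_one, mul_assoc, mul_inv_cancel, mul_one]
  · rw [one_mul, ← negOneSL_comm b, mul_assoc, mul_inv_cancel, mul_one]

theorem t0_comm_mem {Q : Subgroup (SL2 F)} {s : Sp4 F} (hs : s ∈ SQ Q) :
    t0 F * s * (t0 F)⁻¹ * s⁻¹ = 1 ∨ t0 F * s * (t0 F)⁻¹ * s⁻¹ = nI F := by
  obtain ⟨a, -, b, -, h | h⟩ := mem_SQ.1 hs
  · left
    rw [h]
    exact t0_comm_io a b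
  · right
    rw [h]
    exact t0_comm_io_tw a b

/-- (L1) -/
theorem normalizer_SQ_le (h2 : (2 : F) ≠ 0) (Q : Subgroup (SL2 F)) (hneg : negOneSL F ∈ Q) (hf : HF1 Q) (h5 : HG5 F)
    (g : Sp4 F) (hg : g ∈ Subgroup.normalizer ((SQ Q : Subgroup (Sp4 F)) : Set (Sp4 F))) :
    ∃ a b : SL2 F, g = io a b ∨ g = io a b * tw := by
  rw [Subgroup.mem_normalizer_iff] at hg
  have hx : g * t0 F * g⁻¹ ∈ SQ Q := (hg _).1 (t0_mem_SQ hneg)
  have hcen : ∀ s ∈ SQ Q, (g * t0 F * g⁻¹) * s * (g * t0 F * g⁻¹)⁻¹ * s⁻¹ = 1 ∨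
      (g * t0 F * g⁻¹) * s * (g * t0 F * g⁻¹)⁻¹ * s⁻¹ = nI F := by
    intro s hs
    have hs' : g⁻¹ * s * g ∈ SQ Q := by
      rw [hg]
      have : g * (g⁻¹ * s * g) * g⁻¹ = s := by group
      rw [this]
      exact hs
    have he : (g * t0 F * g⁻¹) * s * (g * t0 F * g⁻¹)⁻¹ * s⁻¹ =
        g * (t0 F * (g⁻¹ * s * g) * (t0 F)⁻¹ * (g⁻¹ * s * g)⁻¹) * g⁻¹ := by group
    rw [he]
    rcases t0_comm_mem hs' with h | h
    · left
      rw [h, mul_one, mul_inv_cancel]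
    · right
      rw [h, ← nI_comm, mul_assoc, mul_inv_cancel, mul_one]
  rcases hf _ hx hcen with h | h | h | h
  · exfalso
    apply t0_ne_one h2
    have : t0 F = g⁻¹ * (g * t0 F * g⁻¹) * g := by group
    rw [this, h]
    group
  · exfalso
    apply t0_ne_nI h2
    have : t0 F = g⁻¹ * (g * t0 F * g⁻¹) * g := by group
    rw [this, h, mul_assoc, nI_comm, ← mul_assoc, inv_mul_cancel, one_mul]
  · obtain ⟨a, b, hab⟩ := h5 g (by
      have : g * t0 F = (g * t0 F * g⁻¹) * g := by group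
      rw [this, h])
    exact ⟨a, b, Or.inl hab⟩
  · have hc : (tw * g) * t0 F = t0 F * (tw * g) := by
      have e1 : (tw * g) * t0 F = tw * (g * t0 F * g⁻¹) * g := by group
      rw [e1, h]
      have e2 : tw * (nI F * t0 F) * g = nI F * (tw * t0 F * tw⁻¹) * tw * g := by
        rw [← mul_assoc, ← nI_comm]
        group
      rw [e2, tw_t0_tw, ← mul_assoc, nI_mul_nI, one_mul, mul_assoc]
    obtain ⟨a, b, hab⟩ := h5 _ hc
    refine ⟨b, a, Or.inr ?_⟩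
    have : g = tw * (tw * g) := by
      rw [← mul_assoc, tw_mul_tw, one_mul]
    rw [this, hab, tw_io]

end Cfsg.Agent.Helper68.PSp4L
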