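-- helper68: piece (L2) of helper88's WANTED #5347 for S5320: the elements of odd order of the normalizer of `S = Q ≀ 2` in
-- `Sp₄(F)` are of the form `ι(a,b)` with `a, b ∈ N(Q)` of odd order and `a b⁻¹ ∈ Q`.
import Cfsg.Agent.Helper68.PSp4L1

set_option autoImplicit false

open Matrix Equiv Cfsg.Agent.Helper42 Cfsg.Agent.Helper85 Cfsg.Agent.Helper84 Cfsg.Agent.Helper88.PSp4F

namespace Cfsg.Agent.Helper68.PSp4L

variable {F : Type*} [Field F]

/-- `ι` as a homomorphism `SL₂ × SL₂ → Sp₄` -/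
def ioHom (F : Type*) [Field F] : SL2 F × SL2 F →* Sp4 F where
  toFun p := io p.1 p.2
  map_one' := io_one
  map_mul' p q := (io_mul p.1 p.2 q.1 q.2).symm

theorem ioHom_apply (a b : SL2 F) : ioHom F (a, b) = io a b := rfl

theorem ioHom_injective : Function.Injective (ioHom F) := by
  rintro ⟨a, b⟩ ⟨a', b'⟩ h
  obtain ⟨h1, h2⟩ := io_injective (show io a b = io a' b' from h)
  rw [h1, h2]

theorem io_mem_SQ_iff {Q : Subgroup (SL2 F)} {a b : SL2 F} : io a b ∈ SQ Q ↔ a ∈ Q ∧ b ∈ Q := by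
  constructor
  · intro h
    obtain ⟨a', ha', b', hb', h | h⟩ := mem_SQ.1 h
    · obtain ⟨h1, h2⟩ := io_injective h
      rw [h1, h2]
      exact ⟨ha', hb'⟩
    · exact absurd h (io_ne_io_tw _ _ _ _)
  · rintro ⟨ha, hb⟩
    exact io_mem_SQ ha hb

theorem io_tw_mem_SQ_iff {Q : Subgroup (SL2 F)} {a b : SL2 F} : io a b * tw ∈ SQ Q ↔ a ∈ Q ∧ b ∈ Q := by
  rw [← io_mem_SQ_iff]
  constructor
  · intro h
    have := (SQ Q).mul_mem h (tw_mem_SQ Q)
    rwa [mul_assoc, tw_mul_tw, mul_one] at this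
  · intro h
    exact (SQ Q).mul_mem h (tw_mem_SQ Q)

theorem orderOf_io (a b : SL2 F) : orderOf (io a b) = Nat.lcm (orderOf a) (orderOf b) := by
  rw [← ioHom_apply, orderOf_injective (ioHom F) ioHom_injective, Prod.orderOf_mk]

/-- an element of odd order of `ι(SL₂ × SL₂).⟨tw⟩` lies in `ι(SL₂ × SL₂)` -/
theorem odd_io_tw (g : Sp4 F) (hodd : Odd (orderOf g)) (h : ∃ a b : SL2 F, g = io a b ∨ g = io a b * tw) :
    ∃ a b : SL2 F, g = io a b := by
  obtain ⟨a, b, h | h⟩ := h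
  · exact ⟨a, b, h⟩
  · obtain ⟨m, hm⟩ := hodd
    have hsq : g * g ∈ (ioHom F).range := by
      refine ⟨(a * b, b * a), ?_⟩
      rw [ioHom_apply, h]
      have : io a b * tw * (io a b * tw) = io a b * (tw * io a b) * tw := by group
      rw [this, tw_io, ← mul_assoc, mul_assoc, tw_mul_tw, mul_one, io_mul]
    have hg : g = (g * g) ^ (m + 1) := by
      have h1 : g ^ (2 * m + 1) = 1 := by
        rw [← hm]
        exact pow_orderOf_eq_one g
      calc g = g ^ (2 * m + 1) * g := by rw [h1, one_mul]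
        _ = (g * g) ^ (m + 1) := by
          rw [← pow_two, ← pow_mul, ← pow_succ]
          congr 1
    have hmem : g ∈ (ioHom F).range := by
      rw [hg]
      exact Subgroup.pow_mem _ hsq _
    obtain ⟨⟨a', b'⟩, hab⟩ := hmem
    exact ⟨a', b', hab.symm⟩

/-- (L2) -/
theorem odd_normalizer_SQ (h2 : (2 : F) ≠ 0) (Q : Subgroup (SL2 F)) (hneg : negOneSL F ∈ Q) (hf : HF1 Q) (h5 : HG5 F)
    (g : Sp4 F) (hg : g ∈ Subgroup.normalizer ((SQ Q : Subgroup (Sp4 F)) : Set (Sp4 F))) (hodd : Odd (orderOf g)) :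
    ∃ a b : SL2 F, g = io a b ∧ a ∈ Subgroup.normalizer (Q : Set (SL2 F)) ∧ b ∈ Subgroup.normalizer (Q : Set (SL2 F)) ∧
      Odd (orderOf a) ∧ Odd (orderOf b) ∧ a * b⁻¹ ∈ Q := by
  obtain ⟨a, b, rfl⟩ := odd_io_tw g hodd (normalizer_SQ_le h2 Q hneg hf h5 g hg)
  rw [Subgroup.mem_normalizer_iff] at hg
  have hconj : ∀ c d : SL2 F, io a b * io c d * (io a b)⁻¹ = io (a * c * a⁻¹) (b * d * b⁻¹) := by
    intro c d
    rw [io_inv, io_mul, io_mul]
  refine ⟨a, b, rfl, ?_, ?_, ?_, ?_, ?_⟩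
  · rw [Subgroup.mem_normalizer_iff]
    intro c
    have h := hg (io c 1)
    rw [hconj, io_mem_SQ_iff, io_mem_SQ_iff, mul_one, mul_inv_cancel] at h
    constructor
    · intro hc
      exact (h.1 ⟨hc, Q.one_mem⟩).1
    · intro hc
      exact (h.2 ⟨hc, Q.one_mem⟩).1
  · rw [Subgroup.mem_normalizer_iff]
    intro c
    have h := hg (io 1 c)
    rw [hconj, io_mem_SQ_iff, io_mem_SQ_iff, mul_one, mul_inv_cancel] at h
    constructor
    · intro hc
      exact (h.1 ⟨Q.one_mem, hc⟩).2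
    · intro hc
      exact (h.2 ⟨Q.one_mem, hc⟩).2
  · rw [orderOf_io] at hodd
    exact Odd.of_dvd_nat hodd (Nat.dvd_lcm_left _ _)
  · rw [orderOf_io] at hodd
    exact Odd.of_dvd_nat hodd (Nat.dvd_lcm_right _ _)
  · have h := (hg tw).1 (tw_mem_SQ Q)
    have e : io a b * tw * (io a b)⁻¹ = io (a * b⁻¹) (b * a⁻¹) * tw := by
      rw [io_inv, mul_assoc, tw_io, ← mul_assoc, io_mul]
    rw [e, io_tw_mem_SQ_iff] at h
    exact h.1

end Cfsg.Agent.Helper68.PSp4L
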