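import Mathlib
import Cfsg.Agent.Helper99.Pron.Defs
import Cfsg.Agent.Helper68.PronBU1.Main

/-!
# Block BU1 of S2225/S2226 (helper99 #15281): the semidihedral Sylow 2-subgroup of `GU_2(q)`,
`q ≡ 1 (mod 4)`, inside `GL_2(F)`, `|F| = q²`

Deliverable `Cfsg.Agent.Helper68.Pron.exists_SD_unitary`, statement verbatim from #15281.
Proof: `Cfsg.Agent.Helper68.PronBU1.exists_SD_unitary` (farm #15487).
-/

set_option autoImplicit false

namespace Cfsg.Agent.Helper68.Pron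

open Matrix Cfsg.Agent.Helper99.Pron

theorem exists_SD_unitary {F : Type*} [Field F] [Fintype F] (q : ℕ) (hF : Fintype.card F = q ^ 2) (h2 : (2 : F) ≠ 0) (hns : ¬ ∃ i : F, i * i = -1 ∧ i ^ (q + 1) = 1) : ∃ P : Subgroup (GL (Fin 2) F), InvP P ∧ (∀ l : Fˣ, l ^ (q + 1) = 1 → (∃ k : ℕ, l ^ (2 ^ k) = 1) → sc l ∈ P) ∧ ∀ a ∈ P, Uq q (a : Matrix (Fin 2) (Fin 2) F) :=
  Cfsg.Agent.Helper68.PronBU1.exists_SD_unitary q hF h2 hns

end Cfsg.Agent.Helper68.Pron
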