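import Mathlib
import Cfsg.Agent.Helper77.Res.Defs


set_option autoImplicit false

universe u

namespace Cfsg.Agent.Helper68.Res

open Subgroup Cfsg.Agent.Helper77.Res

variable {Ω : Type u} [Group Ω] {p : ℕ} [hp : Fact p.Prime]

/-- conjugation by an element of the normalizer, as an automorphism of `P` -/
def D1_conj (P : Subgroup Ω) (t : Ω) (ht : t ∈ Subgroup.normalizer (P : Set Ω)) : MulAut P where
  toFun x := ⟨t * x * t⁻¹, (Subgroup.mem_normalizer_iff.mp ht x).mp x.2⟩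
  invFun x := ⟨t⁻¹ * x * t, by
    have := (Subgroup.mem_normalizer_iff.mp (inv_mem ht) x).mp x.2
    simpa using this⟩
  left_inv x := by
    apply Subtype.ext
    simp [mul_assoc]
  right_inv x := by
    apply Subtype.ext
    simp [mul_assoc]
  map_mul' x y := by
    apply Subtype.ext
    simp [mul_assoc]

theorem D1_conj_apply (P : Subgroup Ω) (t : Ω) (ht : t ∈ Subgroup.normalizer (P : Set Ω)) (x : P) :
    ((D1_conj P t ht x : P) : Ω) = t * x * t⁻¹ := rfl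

/-- `H` is invariant under all automorphisms of `P` -/
def D1_AutInv (P H : Subgroup Ω) : Prop :=
  ∀ (α : MulAut P) (x : P), (x : Ω) ∈ H → ((α x : P) : Ω) ∈ H

theorem D1_AutInv_conj {P H : Subgroup Ω} (hH : D1_AutInv P H) (hHP : H ≤ P) (t : Ω)
    (ht : t ∈ Subgroup.normalizer (P : Set Ω)) (h : Ω) (hh : h ∈ H) : t * h * t⁻¹ ∈ H :=
  hH (D1_conj P t ht) ⟨h, hHP hh⟩ hh

/-- `Ω₁(P)` is characteristic -/
theorem D1_AutInv_R (P : Subgroup Ω) (hRexp : ∀ r ∈ Cfsg.omegaOne p P, r ^ p = 1) :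
    D1_AutInv P (Cfsg.omegaOne p P) := by
  intro α x hx
  apply Subgroup.subset_closure
  refine ⟨(α x).2, ?_⟩
  have h1 : x ^ p = 1 := by
    apply Subtype.ext
    rw [Subgroup.coe_pow, Subgroup.coe_one]
    exact hRexp _ hx
  have h2 : (α x) ^ p = 1 := by rw [← map_pow, h1, map_one]
  have h3 := congrArg Subtype.val h2
  rw [Subgroup.coe_pow, Subgroup.coe_one] at h3
  exact h3

/-- the centre of a characteristic subgroup is characteristic -/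
theorem D1_AutInv_Z {P R : Subgroup Ω} (hRP : R ≤ P) (hR : D1_AutInv P R) :
    D1_AutInv P (R ⊓ Subgroup.centralizer (R : Set Ω)) := by
  intro α x hx
  rw [Subgroup.mem_inf] at hx ⊢
  refine ⟨hR α x hx.1, ?_⟩
  rw [Subgroup.mem_centralizer_iff]
  intro r hr
  -- `r = α (α⁻¹ r)`
  have h1 : ((α.symm ⟨r, hRP hr⟩ : P) : Ω) ∈ R := hR α.symm ⟨r, hRP hr⟩ hr
  have h2 := (Subgroup.mem_centralizer_iff.mp hx.2) _ h1
  have h3 : (α.symm ⟨r, hRP hr⟩) * x = x * (α.symm ⟨r, hRP hr⟩) := Subtype.ext h2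
  have h4 := congrArg α h3
  rw [map_mul, map_mul, MulEquiv.apply_symm_apply] at h4
  exact congrArg Subtype.val h4

/-- the `P`-fixed points of `R/Z` -/
def D1_L (P R Z : Subgroup Ω) (hZn : ∀ r ∈ R, ∀ z ∈ Z, r * z * r⁻¹ ∈ Z) : Subgroup Ω where
  carrier := {r | r ∈ R ∧ ∀ x ∈ P, r * x * r⁻¹ * x⁻¹ ∈ Z}
  one_mem' := by
    refine ⟨one_mem _, fun x _ => ?_⟩
    simp
  mul_mem' := by
    rintro r s ⟨hr, hr'⟩ ⟨hs, hs'⟩
    refine ⟨mul_mem hr hs, fun x hx => ?_⟩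
    have h1 : r * s * x * (r * s)⁻¹ * x⁻¹ = (r * (s * x * s⁻¹ * x⁻¹) * r⁻¹) * (r * x * r⁻¹ * x⁻¹) := by
      group
    rw [h1]
    exact mul_mem (hZn r hr _ (hs' x hx)) (hr' x hx)
  inv_mem' := by
    rintro r ⟨hr, hr'⟩
    refine ⟨inv_mem hr, fun x hx => ?_⟩
    have h1 : r⁻¹ * x * r⁻¹⁻¹ * x⁻¹ = r⁻¹ * (r * x * r⁻¹ * x⁻¹)⁻¹ * r⁻¹⁻¹ := by group
    rw [h1]
    exact hZn _ (inv_mem hr) _ (inv_mem (hr' x hx))

theorem D1_mem_L {P R Z : Subgroup Ω} {hZn : ∀ r ∈ R, ∀ z ∈ Z, r * z * r⁻¹ ∈ Z} {r : Ω} :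
    r ∈ D1_L P R Z hZn ↔ r ∈ R ∧ ∀ x ∈ P, r * x * r⁻¹ * x⁻¹ ∈ Z := Iff.rfl

theorem D1_AutInv_L {P R Z : Subgroup Ω} (hZn : ∀ r ∈ R, ∀ z ∈ Z, r * z * r⁻¹ ∈ Z)
    (hR : D1_AutInv P R) (hZ : D1_AutInv P Z) : D1_AutInv P (D1_L P R Z hZn) := by
  intro α x hx
  rw [D1_mem_L] at hx ⊢
  refine ⟨hR α x hx.1, fun y hy => ?_⟩
  have h1 := hx.2 _ (α.symm ⟨y, hy⟩).2
  have h2 := hZ α (x * (α.symm ⟨y, hy⟩) * x⁻¹ * (α.symm ⟨y, hy⟩)⁻¹) (by simpa using h1)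
  rw [map_mul, map_mul, map_mul, map_inv, map_inv, MulEquiv.apply_symm_apply] at h2
  simpa using h2

/-- the unipotent radical of the stabilizer of the flag `R ≥ L ≥ Z` in `A` -/
def D1_S (P R L Z : Subgroup Ω) (A : Subgroup (MulAut P)) (hL : D1_AutInv P L) (hR : D1_AutInv P R) :
    Subgroup (MulAut P) where
  carrier := {α | α ∈ A ∧ (∀ x : P, (x : Ω) ∈ L → (x : Ω)⁻¹ * ((α x : P) : Ω) ∈ Z) ∧
    (∀ x : P, (x : Ω) ∈ R → (x : Ω)⁻¹ * ((α x : P) : Ω) ∈ L)}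
  one_mem' := by
    refine ⟨one_mem _, fun x _ => ?_, fun x _ => ?_⟩ <;> simp
  mul_mem' := by
    rintro α β ⟨hα, hα1, hα2⟩ ⟨hβ, hβ1, hβ2⟩
    refine ⟨mul_mem hα hβ, fun x hx => ?_, fun x hx => ?_⟩
    · have h1 : (x : Ω)⁻¹ * (((α * β) x : P) : Ω) =
          ((x : Ω)⁻¹ * ((β x : P) : Ω)) * (((β x : P) : Ω)⁻¹ * ((α (β x) : P) : Ω)) := by
        rw [MulAut.mul_apply]
        group
      rw [h1]
      exact mul_mem (hβ1 x hx) (hα1 (β x) (hL β x hx))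
    · have h1 : (x : Ω)⁻¹ * (((α * β) x : P) : Ω) =
          ((x : Ω)⁻¹ * ((β x : P) : Ω)) * (((β x : P) : Ω)⁻¹ * ((α (β x) : P) : Ω)) := by
        rw [MulAut.mul_apply]
        group
      rw [h1]
      exact mul_mem (hβ2 x hx) (hα2 (β x) (hR β x hx))
  inv_mem' := by
    rintro α ⟨hα, hα1, hα2⟩
    refine ⟨inv_mem hα, fun x hx => ?_, fun x hx => ?_⟩
    · have h1 := hα1 (α⁻¹ x) (hL α⁻¹ x hx)
      rw [MulAut.apply_inv_self] at h1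
      have h2 := inv_mem h1
      simpa using h2
    · have h1 := hα2 (α⁻¹ x) (hR α⁻¹ x hx)
      rw [MulAut.apply_inv_self] at h1
      have h2 := inv_mem h1
      simpa using h2

theorem D1_mem_S {P R L Z : Subgroup Ω} {A : Subgroup (MulAut P)} {hL : D1_AutInv P L} {hR : D1_AutInv P R}
    {α : MulAut P} : α ∈ D1_S P R L Z A hL hR ↔
    α ∈ A ∧ (∀ x : P, (x : Ω) ∈ L → (x : Ω)⁻¹ * ((α x : P) : Ω) ∈ Z) ∧
    (∀ x : P, (x : Ω) ∈ R → (x : Ω)⁻¹ * ((α x : P) : Ω) ∈ L) := Iff.rfl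

end Cfsg.Agent.Helper68.Res
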