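import Mathlib
import Cfsg.Agent.Helper77.Res.Defs
import Cfsg.Agent.Helper34.ResD1E
import Cfsg.Agent.Helper34.ResD1GEN
import Cfsg.Agent.Helper32.ResD1ZGEN
import Cfsg.Agent.Helper52.ResD1K
import Cfsg.Agent.Helper15.ResD1Q
import Cfsg.Agent.Helper63.ResD1FP
import Cfsg.Agent.Helper32.ResD1CARD
import Cfsg.Agent.Helper53.ResD1CYC
import Cfsg.Agent.Helper53.ResD1UNI

/-!
# S5289 piece (D1) `extraspecial_struct` (helper68 for helper77): the auxiliary lemmas of the sub-farm (board #14239)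

Proved by helper34 (E, GEN), helper32 (ZGEN, CARD), helper52 (K), helper15 (Q), helper63 (FP), helper53 (CYC, UNI);
restated here under one namespace.  All lemmas are about subgroups of an ambient group `Ω`; `[u,v]` is written `u * v * u⁻¹ * v⁻¹`.
-/

set_option autoImplicit false

universe u

namespace Cfsg.Agent.Helper68.Res

open Subgroup Cfsg.Agent.Helper77.Res

variable {Ω : Type u} [Group Ω] {p : ℕ} [hp : Fact p.Prime]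

/-- (E) a nonabelian group of order `p³`: the centre has order `p` and contains all commutators. -/
theorem D1_E (R : Subgroup Ω) (hcard : Nat.card R = p ^ 3) (hna : ∃ a ∈ R, ∃ b ∈ R, a * b ≠ b * a) :
    Nat.card (R ⊓ Subgroup.centralizer (R : Set Ω) : Subgroup Ω) = p ∧
    ∀ a ∈ R, ∀ b ∈ R, a * b * a⁻¹ * b⁻¹ ∈ (R ⊓ Subgroup.centralizer (R : Set Ω) : Subgroup Ω) :=
  Cfsg.Agent.Helper34.Res.D1_E R hcard hna

/-- (GEN) two non-commuting elements generate a group of order `p³`, so whatever commutes with both commutes with everything. -/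
theorem D1_GEN (R : Subgroup Ω) (hcard : Nat.card R = p ^ 3) (a b : Ω) (ha : a ∈ R) (hb : b ∈ R) (hab : a * b ≠ b * a)
    (y : Ω) (hya : y * a = a * y) (hyb : y * b = b * y) : ∀ r ∈ R, y * r = r * y :=
  Cfsg.Agent.Helper34.Res.D1_GEN R hcard a b ha hb hab y hya hyb

/-- (ZGEN) a group of order `p` is generated by any nontrivial element. -/
theorem D1_ZGEN (Z : Subgroup Ω) (hZ : Nat.card Z = p) (c : Ω) (hc : c ∈ Z) (hc1 : c ≠ 1) :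
    ∀ z ∈ Z, ∃ k : ℕ, z = c ^ k :=
  Cfsg.Agent.Helper32.Res.D1_ZGEN Z hZ c hc hc1

/-- (K) an automorphism of the `p`-group `P` (`p` odd) that is trivial on `R/Z`, where `R ⊇ Ω₁(P)` (as a set), `Z ≤ Z(R)` of exponent `p`
consisting of powers of one commutator `[a,b]` of `R`, has `p`-power order. -/
theorem D1_K (hp2 : p ≠ 2) (P : Subgroup Ω) [Finite P] (hP : IsPGroup p P) (R Z : Subgroup Ω)
    (hRP : R ≤ P) (hRall : ∀ x ∈ P, x ^ p = 1 → x ∈ R) (hZR : Z ≤ R) (hZc : ∀ z ∈ Z, ∀ r ∈ R, z * r = r * z)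
    (hZexp : ∀ z ∈ Z, z ^ p = 1)
    (a b : Ω) (ha : a ∈ R) (hb : b ∈ R) (hgen : ∀ z ∈ Z, ∃ k : ℕ, z = (a * b * a⁻¹ * b⁻¹) ^ k)
    (α : MulAut P) (hα : ∀ x : P, (x : Ω) ∈ R → (x : Ω)⁻¹ * ((α x : P) : Ω) ∈ Z) :
    ∃ k : ℕ, orderOf α = p ^ k :=
  Cfsg.Agent.Helper52.Res.D1_K hp2 P hP R Z hRP hRall hZR hZc hZexp a b ha hb hgen α hα

/-- (Q) a `p`-group acts trivially on an invariant section of order `p`. -/
theorem D1_Q (T : Subgroup Ω) [Finite T] (hT : IsPGroup p T) (X Y : Subgroup Ω) (hYX : Y ≤ X) (hXT : X ≤ T)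
    (hXn : ∀ t ∈ T, ∀ x ∈ X, t * x * t⁻¹ ∈ X) (hYn : ∀ t ∈ T, ∀ y ∈ Y, t * y * t⁻¹ ∈ Y)
    (hcard : Nat.card X = p * Nat.card Y) : ∀ x ∈ X, ∀ t ∈ T, x * t * x⁻¹ * t⁻¹ ∈ Y :=
  Cfsg.Agent.Helper15.Res.D1_Q T hT X Y hYX hXT hXn hYn hcard

/-- (FP) a `p`-group has a fixed point on a nontrivial invariant section. -/
theorem D1_FP (T : Subgroup Ω) [Finite T] (hT : IsPGroup p T) (X Y : Subgroup Ω) (hYX : Y ≤ X) (hXT : X ≤ T)
    (hXn : ∀ t ∈ T, ∀ x ∈ X, t * x * t⁻¹ ∈ X) (hYn : ∀ t ∈ T, ∀ y ∈ Y, t * y * t⁻¹ ∈ Y)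
    (hne : Y ≠ X) : ∃ x ∈ X, x ∉ Y ∧ ∀ t ∈ T, x * t * x⁻¹ * t⁻¹ ∈ Y :=
  Cfsg.Agent.Helper63.Res.D1_FP T hT X Y hYX hXT hXn hYn hne

/-- (CARD) `P = R C` with `C` central: `|P| |R ∩ C| = |R| |C|`. -/
theorem D1_CARD (P R C : Subgroup Ω) [Finite P] (hRP : R ≤ P) (hCP : C ≤ P)
    (hC : ∀ c ∈ C, ∀ x ∈ P, c * x = x * c) (hRC : ∀ x ∈ P, ∃ r ∈ R, ∃ c ∈ C, x = r * c) :
    Nat.card P * Nat.card (R ⊓ C : Subgroup Ω) = Nat.card R * Nat.card C :=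
  Cfsg.Agent.Helper32.Res.D1_CARD P R C hRP hCP hC hRC

/-- (CYC) a `p`-group (`p` odd) with only one subgroup of order `p` is cyclic. -/
theorem D1_CYC (hp2 : p ≠ 2) (C Z : Subgroup Ω) [Finite C] (hC : IsPGroup p C) (hZC : Z ≤ C) (hZ : Nat.card Z = p)
    (hall : ∀ x ∈ C, x ^ p = 1 → x ∈ Z) : IsCyclic C :=
  Cfsg.Agent.Helper53.Res.D1_CYC hp2 C Z hC hZC hZ hall

/-- (UNI) an automorphism acting trivially on the factors of `R ≥ L ≥ Z` (`R` of exponent `p`, `Z` central in `R`, `α Z = Z`) has `α^p` trivial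
on `R/Z`. -/
theorem D1_UNI (P R L Z : Subgroup Ω) (hZL : Z ≤ L) (hLR : L ≤ R) (hRP : R ≤ P) (hRexp : ∀ r ∈ R, r ^ p = 1)
    (hZc : ∀ z ∈ Z, ∀ r ∈ R, z * r = r * z)
    (α : MulAut P) (hαZ : ∀ x : P, (x : Ω) ∈ Z → ((α x : P) : Ω) ∈ Z)
    (h1 : ∀ x : P, (x : Ω) ∈ L → (x : Ω)⁻¹ * ((α x : P) : Ω) ∈ Z)
    (h2 : ∀ x : P, (x : Ω) ∈ R → (x : Ω)⁻¹ * ((α x : P) : Ω) ∈ L) :
    ∀ x : P, (x : Ω) ∈ R → (x : Ω)⁻¹ * (((α ^ p) x : P) : Ω) ∈ Z :=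
  Cfsg.Agent.Helper53.Res.D1_UNI P R L Z hZL hLR hRP hRexp hZc α hαZ h1 h2

end Cfsg.Agent.Helper68.Res
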