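import Mathlib
import Cfsg.Agent.Helper77.Res.Defs
import Cfsg.Agent.Helper68.ResD1Lib
import Cfsg.Agent.Helper68.ResD1A1

set_option autoImplicit false

universe u

namespace Cfsg.Agent.Helper68.Res

open Subgroup Cfsg.Agent.Helper77.Res

variable {Ω : Type u} [Group Ω] {p : ℕ} [hp : Fact p.Prime]

section localcfg
variable {T P : Subgroup Ω} {A : Subgroup (MulAut ↥P)} {B : Subgroup (MulAut ↥T)}

/-- the main claim: `[R, P] ≤ Z(R)` -/
theorem D1_MC (h5 : 5 ≤ p) (hc : Cfg p T P A B) (hnpc : ¬ PClosed T P A)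
    (hRexp : ∀ r ∈ Cfsg.omegaOne p P, r ^ p = 1) (hRcard : Nat.card (Cfsg.omegaOne p P) = p ^ 3)
    (hRna : ∃ a ∈ Cfsg.omegaOne p P, ∃ b ∈ Cfsg.omegaOne p P, a * b ≠ b * a) :
    ∀ r ∈ Cfsg.omegaOne p P, ∀ x ∈ P, r * x * r⁻¹ * x⁻¹ ∈
      (Cfsg.omegaOne p P ⊓ Subgroup.centralizer (Cfsg.omegaOne p P : Set Ω) : Subgroup Ω) := by
  classical
  have hp2 : p ≠ 2 := by omega
  have hpp : p.Prime := hp.out
  have : Finite T := hc.fin
  have : Finite P := Finite.of_injective (Subgroup.inclusion hc.le) (Subgroup.inclusion_injective _)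
  have hPp : IsPGroup p P := hc.pgrp.to_le hc.le
  obtain ⟨R, hRdef⟩ : ∃ R : Subgroup Ω, R = Cfsg.omegaOne p P := ⟨_, rfl⟩
  rw [← hRdef] at hRexp hRcard hRna ⊢
  have hRP : R ≤ P := by
    rw [hRdef, Cfsg.omegaOne, Subgroup.closure_le]
    intro x hx
    exact hx.1
  have hRall : ∀ x ∈ P, x ^ p = 1 → x ∈ R := fun x hx h => by
    rw [hRdef]
    exact Subgroup.subset_closure ⟨hx, h⟩
  have hRinv : D1_AutInv P R := by
    rw [hRdef]
    apply D1_AutInv_R
    rw [← hRdef]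
    exact hRexp
  obtain ⟨Z, hZdef⟩ : ∃ Z : Subgroup Ω, Z = R ⊓ Subgroup.centralizer (R : Set Ω) := ⟨_, rfl⟩
  rw [← hZdef]
  have hZinv : D1_AutInv P Z := by
    rw [hZdef]
    exact D1_AutInv_Z hRP hRinv
  obtain ⟨hZcard, hZcomm⟩ := D1_E R hRcard hRna
  rw [← hZdef] at hZcard hZcomm
  have hZR : Z ≤ R := by rw [hZdef]; exact inf_le_left
  have hZc : ∀ z ∈ Z, ∀ r ∈ R, z * r = r * z := by
    intro z hz r hr
    rw [hZdef, Subgroup.mem_inf, Subgroup.mem_centralizer_iff] at hz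
    exact (hz.2 r hr).symm
  have hZn : ∀ r ∈ R, ∀ z ∈ Z, r * z * r⁻¹ ∈ Z := by
    intro r hr z hz
    have : r * z * r⁻¹ = z := by rw [← hZc z hz r hr, mul_inv_cancel_right]
    rw [this]
    exact hz
  -- the fixed line
  obtain ⟨L, hLdef⟩ : ∃ L : Subgroup Ω, L = D1_L P R Z hZn := ⟨_, rfl⟩
  have hLinv : D1_AutInv P L := by
    rw [hLdef]
    exact D1_AutInv_L hZn hRinv hZinv
  have hLR : L ≤ R := by
    intro l hl
    rw [hLdef, D1_mem_L] at hl
    exact hl.1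
  have hPn : ∀ t ∈ P, t ∈ Subgroup.normalizer (P : Set Ω) := fun t ht => Subgroup.le_normalizer ht
  have hZL : Z ≤ L := by
    intro z hz
    rw [hLdef, D1_mem_L]
    refine ⟨hZR hz, fun x hx => ?_⟩
    have h1 : x * z⁻¹ * x⁻¹ ∈ Z :=
      D1_AutInv_conj hZinv (hZR.trans hRP) x (hPn x hx) _ (inv_mem hz)
    have h2 : z * x * z⁻¹ * x⁻¹ = z * (x * z⁻¹ * x⁻¹) := by group
    rw [h2]
    exact mul_mem hz h1
  by_contra hcon
  push Not at hcon
  obtain ⟨r0, hr0, x0, hx0, hrx0⟩ := hcon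
  have hLneR : L ≠ R := by
    intro h
    have : r0 ∈ L := by rw [h]; exact hr0
    rw [hLdef, D1_mem_L] at this
    exact hrx0 (this.2 x0 hx0)
  -- a fixed point
  have hLneZ : Z ≠ L := by
    obtain ⟨x, hxR, hxZ, hx⟩ := D1_FP P hPp R Z hZR hRP
      (fun t ht r hr => D1_AutInv_conj hRinv hRP t (hPn t ht) r hr)
      (fun t ht z hz => D1_AutInv_conj hZinv (hZR.trans hRP) t (hPn t ht) z hz)
      (by
        intro h
        rw [h] at hZcard
        rw [hZcard] at hRcard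
        have : p ^ 1 = p ^ 3 := by rw [pow_one]; exact hRcard
        have := Nat.pow_right_injective hpp.two_le this
        omega)
    intro h
    apply hxZ
    rw [h, hLdef, D1_mem_L]
    exact ⟨hxR, hx⟩
  have : Finite R := Finite.of_injective (Subgroup.inclusion hRP) (Subgroup.inclusion_injective _)
  have : Finite L := Finite.of_injective (Subgroup.inclusion hLR) (Subgroup.inclusion_injective _)
  have hLcard : Nat.card L = p ^ 2 := by
    have h1 : Nat.card L ∣ p ^ 3 := by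
      rw [← hRcard]
      exact Subgroup.card_dvd_of_le hLR
    have h2 : p ∣ Nat.card L := by
      rw [← hZcard]
      exact Subgroup.card_dvd_of_le hZL
    obtain ⟨k, hk3, hk⟩ := (Nat.dvd_prime_pow hpp).mp h1
    have hk0 : k ≠ 0 := by
      rintro rfl
      rw [hk, pow_zero] at h2
      exact hpp.one_lt.ne' (Nat.dvd_one.mp h2)
    have hk1 : k ≠ 1 := by
      rintro rfl
      apply hLneZ
      apply Subgroup.eq_of_le_of_card_ge hZL
      rw [hk, hZcard, pow_one]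
    have hk3' : k ≠ 3 := by
      rintro rfl
      apply hLneR
      apply Subgroup.eq_of_le_of_card_ge hLR
      rw [hk, hRcard]
    have : k = 2 := by omega
    rw [hk, this]
  -- the unipotent radical
  obtain ⟨S, hSdef⟩ : ∃ S : Subgroup (MulAut P), S = D1_S P R L Z A hLinv hRinv := ⟨_, rfl⟩
  have hSA : S ≤ A := by
    intro α hα
    rw [hSdef, D1_mem_S] at hα
    exact hα.1
  -- `S` is a `p`-group
  obtain ⟨a, ha, b, hb, hab⟩ := hRna
  have hc1 : a * b * a⁻¹ * b⁻¹ ≠ 1 := by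
    intro h
    apply hab
    have : a * b = (a * b * a⁻¹ * b⁻¹) * (b * a) := by group
    rw [this, h, one_mul]
  have hgen := D1_ZGEN Z hZcard _ (hZcomm a ha b hb) hc1
  have hZexp : ∀ z ∈ Z, z ^ p = 1 := fun z hz => hRexp z (hZR hz)
  have hSp : IsPGroup p S := by
    intro ⟨α, hα⟩
    rw [hSdef, D1_mem_S] at hα
    obtain ⟨hαA, hα1, hα2⟩ := hα
    have h1 := D1_UNI P R L Z hZL hLR hRP hRexp hZc α (fun x hx => hZinv α x hx) hα1 hα2
    obtain ⟨k, hk⟩ := D1_K hp2 P hPp R Z hRP hRall hZR hZc hZexp a b ha hb hgen (α ^ p) h1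
    refine ⟨k + 1, ?_⟩
    apply Subtype.ext
    rw [Subgroup.coe_pow, Subgroup.coe_one]
    show α ^ p ^ (k + 1) = 1
    rw [pow_succ', pow_mul, ← hk]
    exact pow_orderOf_eq_one _
  -- `S` contains `Aut_T(P)`
  have hTn : ∀ t ∈ T, t ∈ Subgroup.normalizer (P : Set Ω) := fun t ht => hc.norm ht
  have hUS : ∀ β : MulAut P, ConjBy T P β → β ∈ S := by
    rintro β ⟨g, hg, hβ⟩
    rw [hSdef, D1_mem_S]
    refine ⟨hc.conj_mem β ⟨g, hg, hβ⟩, fun x hx => ?_, fun x hx => ?_⟩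
    · rw [hβ x]
      have h1 := D1_Q T hc.pgrp L Z hZL (hLR.trans (hRP.trans hc.le))
        (fun t ht l hl => D1_AutInv_conj hLinv (hLR.trans hRP) t (hTn t ht) l hl)
        (fun t ht z hz => D1_AutInv_conj hZinv (hZR.trans hRP) t (hTn t ht) z hz)
        (by rw [hLcard, hZcard]; ring) _ (inv_mem hx) g hg
      have h2 : (x : Ω)⁻¹ * (g * (x : Ω) * g⁻¹) = (x : Ω)⁻¹ * g * ((x : Ω)⁻¹)⁻¹ * g⁻¹ := by group
      rw [h2]
      exact h1
    · rw [hβ x]
      have h1 := D1_Q T hc.pgrp R L hLR (hRP.trans hc.le)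
        (fun t ht r hr => D1_AutInv_conj hRinv hRP t (hTn t ht) r hr)
        (fun t ht l hl => D1_AutInv_conj hLinv (hLR.trans hRP) t (hTn t ht) l hl)
        (by rw [hLcard, hRcard]; ring) _ (inv_mem hx) g hg
      have h2 : (x : Ω)⁻¹ * (g * (x : Ω) * g⁻¹) = (x : Ω)⁻¹ * g * ((x : Ω)⁻¹)⁻¹ * g⁻¹ := by group
      rw [h2]
      exact h1
  have hSU := hc.sylow S hSA hSp hUS
  -- `S` is normal in `A`
  apply hnpc
  intro α hα β hβ
  apply hSU
  have hβS := hUS β hβ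
  rw [hSdef, D1_mem_S] at hβS ⊢
  obtain ⟨hβA, hβ1, hβ2⟩ := hβS
  refine ⟨mul_mem (mul_mem hα hβA) (inv_mem hα), fun x hx => ?_, fun x hx => ?_⟩
  · have h1 := hβ1 (α⁻¹ x) (hLinv α⁻¹ x hx)
    have h2 := hZinv α ((α⁻¹ x)⁻¹ * β (α⁻¹ x)) (by simpa using h1)
    rw [map_mul, map_inv, MulAut.apply_inv_self] at h2
    simpa [MulAut.mul_apply] using h2
  · have h1 := hβ2 (α⁻¹ x) (hRinv α⁻¹ x hx)
    have h2 := hLinv α ((α⁻¹ x)⁻¹ * β (α⁻¹ x)) (by simpa using h1)
    rw [map_mul, map_inv, MulAut.apply_inv_self] at h2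
    simpa [MulAut.mul_apply] using h2

end localcfg

end Cfsg.Agent.Helper68.Res
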