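import Mathlib
import Cfsg.Agent.Helper77.Res.Defs
import Cfsg.Agent.Helper68.ResD1Lib
import Cfsg.Agent.Helper68.ResD1A1
import Cfsg.Agent.Helper68.ResD1A2

set_option autoImplicit false

universe u

namespace Cfsg.Agent.Helper68.Res

open Subgroup Cfsg.Agent.Helper77.Res

variable {Ω : Type u} [Group Ω] {p : ℕ} [hp : Fact p.Prime]

/-- powers of a conjugation that multiplies by a commuting element -/
theorem D1_conj_pow {b a z : Ω} (h : b * a * b⁻¹ = z * a) (hz : b * z = z * b) (n : ℕ) :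
    b ^ n * a * (b ^ n)⁻¹ = z ^ n * a := by
  induction n with
  | zero => simp
  | succ n ih =>
    have h1 : b ^ (n + 1) * a * (b ^ (n + 1))⁻¹ = b * (b ^ n * a * (b ^ n)⁻¹) * b⁻¹ := by
      rw [pow_succ']
      group
    rw [h1, ih]
    have h2 : b * (z ^ n * a) * b⁻¹ = (b * z ^ n * b⁻¹) * (b * a * b⁻¹) := by group
    have h3 : b * z ^ n * b⁻¹ = z ^ n := by
      have : Commute b (z ^ n) := (show Commute b z from hz).pow_right n
      rw [this.eq, mul_inv_cancel_right]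
    rw [h2, h3, h, ← mul_assoc, ← pow_succ]

section localcfg
variable {T P : Subgroup Ω} {A : Subgroup (MulAut ↥P)} {B : Subgroup (MulAut ↥T)}

/-- (D1) -/
theorem extraspecial_struct (h5 : 5 ≤ p) (hc : Cfg p T P A B) (hrad : Rad p P A) (hnpc : ¬ PClosed T P A)
    (hRexp : ∀ r ∈ Cfsg.omegaOne p P, r ^ p = 1) (hRcard : Nat.card (Cfsg.omegaOne p P) = p ^ 3)
    (hRna : ∃ a ∈ Cfsg.omegaOne p P, ∃ b ∈ Cfsg.omegaOne p P, a * b ≠ b * a) :
    IsCyclic ↥(zOf P) ∧ Nat.card P = p ^ 2 * Nat.card (zOf P) ∧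
    Nat.card (Cfsg.omegaOne p P ⊓ zOf P : Subgroup Ω) = p ∧
    (∀ x ∈ P, ∃ r ∈ Cfsg.omegaOne p P, ∃ c ∈ zOf P, x = r * c) ∧
    (∀ x ∈ P, x ^ p ∈ zOf P) ∧ (∀ x ∈ P, ∀ y ∈ P, x * y * x⁻¹ * y⁻¹ ∈ zOf P) ∧
    (∀ α ∈ A, (∀ x : P, (x : Ω)⁻¹ * ((α x : P) : Ω) ∈ zOf P) → ∃ k : ℕ, orderOf α = p ^ k) := by
  classical
  have hMC := D1_MC h5 hc hnpc hRexp hRcard hRna
  have hp2 : p ≠ 2 := by omega
  have hpp : p.Prime := hp.out
  have : Finite T := hc.fin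
  have : Finite P := Finite.of_injective (Subgroup.inclusion hc.le) (Subgroup.inclusion_injective _)
  have hPp : IsPGroup p P := hc.pgrp.to_le hc.le
  obtain ⟨R, hRdef⟩ : ∃ R : Subgroup Ω, R = Cfsg.omegaOne p P := ⟨_, rfl⟩
  rw [← hRdef] at hRexp hRcard hRna hMC ⊢
  have hRP : R ≤ P := by
    rw [hRdef, Cfsg.omegaOne, Subgroup.closure_le]
    intro x hx
    exact hx.1
  have hRall : ∀ x ∈ P, x ^ p = 1 → x ∈ R := fun x hx h => by
    rw [hRdef]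
    exact Subgroup.subset_closure ⟨hx, h⟩
  have hRinv : D1_AutInv P R := by
    rw [hRdef]
    apply D1_AutInv_R
    rw [← hRdef]
    exact hRexp
  obtain ⟨Z, hZdef⟩ : ∃ Z : Subgroup Ω, Z = R ⊓ Subgroup.centralizer (R : Set Ω) := ⟨_, rfl⟩
  rw [← hZdef] at hMC
  have hZinv : D1_AutInv P Z := by
    rw [hZdef]
    exact D1_AutInv_Z hRP hRinv
  obtain ⟨hZcard, hZcomm⟩ := D1_E R hRcard hRna
  rw [← hZdef] at hZcard hZcomm
  have hZR : Z ≤ R := by rw [hZdef]; exact inf_le_left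
  have hZc : ∀ z ∈ Z, ∀ r ∈ R, z * r = r * z := by
    intro z hz r hr
    rw [hZdef, Subgroup.mem_inf, Subgroup.mem_centralizer_iff] at hz
    exact (hz.2 r hr).symm
  -- generators
  obtain ⟨a, ha, b, hb, hab⟩ := hRna
  obtain ⟨c0, hc0def⟩ : ∃ c0 : Ω, c0 = a * b * a⁻¹ * b⁻¹ := ⟨_, rfl⟩
  have hc0Z : c0 ∈ Z := by rw [hc0def]; exact hZcomm a ha b hb
  have hc01 : c0 ≠ 1 := by
    intro h
    apply hab
    have : a * b = (a * b * a⁻¹ * b⁻¹) * (b * a) := by group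
    rw [this, ← hc0def, h, one_mul]
  have hgen := D1_ZGEN Z hZcard c0 hc0Z hc01
  have hgen' := D1_ZGEN Z hZcard c0⁻¹ (inv_mem hc0Z) (by simpa using hc01)
  have hZexp : ∀ z ∈ Z, z ^ p = 1 := fun z hz => hRexp z (hZR hz)
  -- the centralizer of `R` in `P`
  obtain ⟨C, hCdef⟩ : ∃ C : Subgroup Ω, C = P ⊓ Subgroup.centralizer (R : Set Ω) := ⟨_, rfl⟩
  have hCP : C ≤ P := by rw [hCdef]; exact inf_le_left
  have hCmem : ∀ y : Ω, y ∈ C ↔ y ∈ P ∧ ∀ r ∈ R, y * r = r * y := by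
    intro y
    rw [hCdef, Subgroup.mem_inf, Subgroup.mem_centralizer_iff]
    constructor
    · rintro ⟨h1, h2⟩
      exact ⟨h1, fun r hr => (h2 r hr).symm⟩
    · rintro ⟨h1, h2⟩
      exact ⟨h1, fun r hr => (h2 r hr).symm⟩
  have hRC : R ⊓ C = Z := by
    ext y
    rw [Subgroup.mem_inf, hCmem, hZdef, Subgroup.mem_inf, Subgroup.mem_centralizer_iff]
    constructor
    · rintro ⟨h1, -, h2⟩
      exact ⟨h1, fun r hr => (h2 r hr).symm⟩
    · rintro ⟨h1, h2⟩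
      exact ⟨h1, hRP h1, fun r hr => (h2 r hr).symm⟩
  have hZC : Z ≤ C := by rw [← hRC]; exact inf_le_right
  -- `P = R C`
  have hPRC : ∀ x ∈ P, ∃ r ∈ R, ∃ c ∈ C, x = r * c := by
    intro x hx
    -- `x a x⁻¹ = z_a a`, `x b x⁻¹ = z_b b`
    have hza : x * a * x⁻¹ * a⁻¹ ∈ Z := by
      have h1 := inv_mem (hMC a ha x hx)
      have h2 : (a * x * a⁻¹ * x⁻¹)⁻¹ = x * a * x⁻¹ * a⁻¹ := by group
      rw [h2] at h1
      exact h1
    have hzb : x * b * x⁻¹ * b⁻¹ ∈ Z := by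
      have h1 := inv_mem (hMC b hb x hx)
      have h2 : (b * x * b⁻¹ * x⁻¹)⁻¹ = x * b * x⁻¹ * b⁻¹ := by group
      rw [h2] at h1
      exact h1
    obtain ⟨n, hn⟩ := hgen' _ hza
    obtain ⟨m, hm⟩ := hgen _ hzb
    -- `s = a^m b^n`
    have hba : b * a * b⁻¹ = c0⁻¹ * a := by
      rw [hc0def]
      group
    have hab' : a * b * a⁻¹ = c0 * b := by
      rw [hc0def]
      group
    have h1 : b ^ n * a * (b ^ n)⁻¹ = (c0⁻¹) ^ n * a :=
      D1_conj_pow hba (hZc _ (inv_mem hc0Z) b hb).symm n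
    have h2 : a ^ m * b * (a ^ m)⁻¹ = c0 ^ m * b :=
      D1_conj_pow hab' (hZc _ hc0Z a ha).symm m
    have hs : a ^ m * b ^ n ∈ R := mul_mem (pow_mem ha m) (pow_mem hb n)
    have hsa : (a ^ m * b ^ n) * a * (a ^ m * b ^ n)⁻¹ = x * a * x⁻¹ := by
      have e1 : (a ^ m * b ^ n) * a * (a ^ m * b ^ n)⁻¹ = a ^ m * (b ^ n * a * (b ^ n)⁻¹) * (a ^ m)⁻¹ := by
        group
      rw [e1, h1]
      have e2 : a ^ m * ((c0⁻¹) ^ n * a) * (a ^ m)⁻¹ = (a ^ m * (c0⁻¹) ^ n * (a ^ m)⁻¹) * a := by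
        have : Commute (a ^ m) a := (Commute.refl a).pow_left m
        calc a ^ m * ((c0⁻¹) ^ n * a) * (a ^ m)⁻¹ = a ^ m * (c0⁻¹) ^ n * (a * (a ^ m)⁻¹) := by group
          _ = a ^ m * (c0⁻¹) ^ n * ((a ^ m)⁻¹ * a) := by
              rw [(this.inv_left).eq]
          _ = (a ^ m * (c0⁻¹) ^ n * (a ^ m)⁻¹) * a := by group
      rw [e2]
      have e3 : a ^ m * (c0⁻¹) ^ n * (a ^ m)⁻¹ = (c0⁻¹) ^ n := by
        have := hZc _ (pow_mem (inv_mem hc0Z) n) _ (pow_mem ha m)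
        rw [← this, mul_inv_cancel_right]
      rw [e3, ← hn]
      group
    have hsb : (a ^ m * b ^ n) * b * (a ^ m * b ^ n)⁻¹ = x * b * x⁻¹ := by
      have e1 : (a ^ m * b ^ n) * b * (a ^ m * b ^ n)⁻¹ = a ^ m * (b ^ n * b * (b ^ n)⁻¹) * (a ^ m)⁻¹ := by
        group
      have e2 : b ^ n * b * (b ^ n)⁻¹ = b := by
        have : Commute (b ^ n) b := (Commute.refl b).pow_left n
        rw [this.eq, mul_inv_cancel_right]
      rw [e1, e2, h2, ← hm]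
      group
    -- `y = s⁻¹ x` centralizes `a` and `b`
    refine ⟨a ^ m * b ^ n, hs, (a ^ m * b ^ n)⁻¹ * x, ?_, by group⟩
    rw [hCmem]
    refine ⟨mul_mem (inv_mem (hRP hs)) hx, ?_⟩
    apply D1_GEN R hRcard a b ha hb hab
    · have : (a ^ m * b ^ n)⁻¹ * x * a = (a ^ m * b ^ n)⁻¹ * (x * a * x⁻¹) * x := by group
      rw [this, ← hsa]
      group
    · have : (a ^ m * b ^ n)⁻¹ * x * b = (a ^ m * b ^ n)⁻¹ * (x * b * x⁻¹) * x := by group
      rw [this, ← hsb]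
      group
  -- `C` is cyclic
  have : Finite C := Finite.of_injective (Subgroup.inclusion hCP) (Subgroup.inclusion_injective _)
  have hCcyc : IsCyclic C := by
    apply D1_CYC hp2 C Z (hPp.to_le hCP) hZC hZcard
    intro x hx hxp
    rw [← hRC, Subgroup.mem_inf]
    exact ⟨hRall x (hCP hx) hxp, hx⟩
  -- `C` is central in `P`
  have hCc : ∀ c ∈ C, ∀ x ∈ P, c * x = x * c := by
    intro c hcC x hx
    obtain ⟨r, hr, d, hd, rfl⟩ := hPRC x hx
    have h1 : c * r = r * c := ((hCmem c).mp hcC).2 r hr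
    have h2 : c * d = d * c := by
      have := hCcyc
      have h3 := (IsCyclic.commGroup (α := C)).mul_comm ⟨c, hcC⟩ ⟨d, hd⟩
      exact congrArg Subtype.val h3
    rw [← mul_assoc, h1, mul_assoc, h2, mul_assoc]
  have hzC : zOf P = C := by
    ext y
    rw [zOf, Subgroup.mem_inf, Subgroup.mem_centralizer_iff, hCmem]
    constructor
    · rintro ⟨h1, h2⟩
      exact ⟨h1, fun r hr => (h2 r (hRP hr)).symm⟩
    · rintro ⟨h1, h2⟩
      exact ⟨h1, fun x hx => (hCc y ((hCmem y).mpr ⟨h1, h2⟩) x hx).symm⟩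
  rw [hzC, hRC]
  refine ⟨hCcyc, ?_, hZcard, hPRC, ?_, ?_, ?_⟩
  · have h1 := D1_CARD P R C hRP hCP hCc hPRC
    rw [hRC, hZcard, hRcard] at h1
    have h2 : p * Nat.card P = p * (p ^ 2 * Nat.card C) := by
      rw [mul_comm p (Nat.card P), h1]
      ring
    exact Nat.eq_of_mul_eq_mul_left hpp.pos h2
  · intro x hx
    obtain ⟨r, hr, d, hd, rfl⟩ := hPRC x hx
    have h1 : Commute r d := (((hCmem d).mp hd).2 r hr).symm
    rw [h1.mul_pow, hRexp r hr, one_mul]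
    exact pow_mem hd p
  · intro x hx y hy
    obtain ⟨r, hr, d, hd, rfl⟩ := hPRC x hx
    have h1 : d * y = y * d := hCc d hd y hy
    have h2 : r * d * y * (r * d)⁻¹ * y⁻¹ = r * y * r⁻¹ * y⁻¹ := by
      calc r * d * y * (r * d)⁻¹ * y⁻¹ = r * (d * y) * d⁻¹ * r⁻¹ * y⁻¹ := by group
        _ = r * (y * d) * d⁻¹ * r⁻¹ * y⁻¹ := by rw [h1]
        _ = r * y * r⁻¹ * y⁻¹ := by group
    rw [h2]
    exact hZC (hMC r hr y hy)
  · intro α hα hαz
    apply D1_K hp2 P hPp R Z hRP hRall hZR hZc hZexp a b ha hb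
    · rw [← hc0def]
      exact hgen
    · intro x hx
      rw [← hRC, Subgroup.mem_inf]
      refine ⟨mul_mem (inv_mem hx) (hRinv α x hx), ?_⟩
      exact hαz x

end localcfg

end Cfsg.Agent.Helper68.Res
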