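import Mathlib
import Cfsg.Agent.Helper38.SU2G.Defs

/-!
# (B1) for helper38's S2412 farm (#11643): the root groups `E(u, t v, 0)`, `u ∈ {e_0, f_0}`,
`v ∈ {e_j, f_j}` (`j ≠ 0`), from the root groups `E(·, t w_a, c)`.
-/

set_option autoImplicit false
set_option linter.unusedSectionVars false

namespace Cfsg.Agent.Helper68.SU2G

open Matrix Cfsg.Agent.Helper84.PSU Cfsg.Agent.Helper38.SU2G

variable {K : Type*} [Field K] {m r : ℕ}

local notation "Vec" => (I (m + 2) r → K)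
local notation "Mat" => Matrix (I (m + 2) r) (I (m + 2) r) K

variable (bar : K →+* K) (hb : ∀ x, bar (bar x) = x)

set_option quotPrecheck false in
local notation "SUk" => ↥(SUm (m + 2) r bar)

include hb in
/-- the commutator of `E(u, t w, ·)` with `E(v, w, c₀)` -/
theorem b1_core (a : Fin r) {c₀ : K} (hc₀ : c₀ + bar c₀ + 1 = 0) (L : Subgroup SUk) (u v : Vec)
    (huu : hf bar u u = 0) (huv : hf bar u v = 0) (hvu : hf bar v u = 0)
    (huw : hf bar u (vW a) = 0) (hwu : hf bar (vW a : Vec) u = 0) (hwv : hf bar (vW a : Vec) v = 0)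
    (hww : hf bar (vW a : Vec) (vW a) = 1)
    (hRu : RGw bar L u a) (hRv : RGw bar L v a) : RGz bar L u v := by
  intro t
  obtain ⟨s, hs⟩ : ∃ s : K, s = -t := ⟨_, rfl⟩
  have hg : HasM bar L (eichM bar v ((1 : K) • vW a) c₀) :=
    hRv 1 c₀ (by rw [map_one, mul_one]; exact hc₀)
  rw [one_smul] at hg
  have hcval : s * bar s * c₀ + bar (s * bar s * c₀) + s * bar s = 0 := by
    rw [map_mul, map_mul, hb]
    linear_combination (s * bar s) * hc₀
  have hE : HasM bar L (eichM bar u (s • vW a) (s * bar s * c₀)) := hRu s _ hcval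
  have hconj := hasM_conj_eichM bar L hg hE
  have hgu : eichM bar v (vW a) c₀ *ᵥ u = u := by
    rw [eichM_mulVec, huv, huw]
    simp
  have hgw : eichM bar v (vW a) c₀ *ᵥ (s • (vW a : Vec)) = s • vW a - s • v := by
    rw [Matrix.mulVec_smul, eichM_mulVec, hwv, hww]
    module
  rw [hgu, hgw] at hconj
  have hyu : hf bar (s • (vW a : Vec)) u = 0 := by rw [hf_smul_left, hwu, mul_zero]
  have hyy : hf bar (s • (vW a : Vec)) (s • vW a) = s * bar s := by
    rw [hf_smul_left, hf_smul_right, hww]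
    ring
  have hinv := HasM.eich_inv bar hb huu hyu (by rw [hyy]; exact hcval) hE
  have hy1u : hf bar (s • (vW a : Vec) - s • v) u = 0 := by
    rw [hf_sub_left, hf_smul_left, hf_smul_left, hwu, hvu]
    ring
  have hy2u : hf bar (-(s • (vW a : Vec))) u = 0 := by rw [hf_neg_left, hyu, neg_zero]
  have hprod := HasM.eich_mul bar hb huu hy1u hy2u hconj hinv
  refine hprod.of_eq bar ?_
  congr 1
  · rw [hs]
    module
  · rw [hf_neg_left, hf_sub_right, hf_smul_left, hf_smul_left, hf_smul_right, hf_smul_right, hww, hwv]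
    linear_combination hcval

include hb in
/-- (B1) -/
theorem b1_piece (a : Fin r) {c₀ : K} (hc₀ : c₀ + bar c₀ + 1 = 0) (L : Subgroup SUk)
    (h1 : ∀ i : Fin (m + 2), RGw bar L (vE i) a) (h2 : ∀ i : Fin (m + 2), RGw bar L (vF i) a) :
    (∀ j : Fin (m + 2), j ≠ i0 → RGz bar L (vE i0) (vF j)) ∧ (∀ j : Fin (m + 2), j ≠ i0 → RGz bar L (vE i0) (vE j)) ∧
      (∀ j : Fin (m + 2), j ≠ i0 → RGz bar L (vF i0) (vE j)) ∧ (∀ j : Fin (m + 2), j ≠ i0 → RGz bar L (vF i0) (vF j)) := by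
  have hww : hf bar (vW a : Vec) (vW a) = 1 := by
    unfold vW
    rw [hf_bv_ww, if_pos rfl]
  refine ⟨?_, ?_, ?_, ?_⟩
  · intro j hj
    refine b1_core bar hb a hc₀ L (vE i0) (vF j) ?_ ?_ ?_ ?_ ?_ ?_ hww (h1 i0) (h2 j)
    · unfold vE; rw [hf_bv_ee]
    · unfold vE vF; rw [hf_bv_ef, if_neg (fun h => hj h.symm)]
    · unfold vE vF; rw [hf_bv_fe, if_neg hj]
    · unfold vE vW; rw [hf_bv_ew]
    · unfold vE vW; rw [hf_bv_we]
    · unfold vF vW; rw [hf_bv_wf]
  · intro j hj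
    refine b1_core bar hb a hc₀ L (vE i0) (vE j) ?_ ?_ ?_ ?_ ?_ ?_ hww (h1 i0) (h1 j)
    · unfold vE; rw [hf_bv_ee]
    · unfold vE; rw [hf_bv_ee]
    · unfold vE; rw [hf_bv_ee]
    · unfold vE vW; rw [hf_bv_ew]
    · unfold vE vW; rw [hf_bv_we]
    · unfold vE vW; rw [hf_bv_we]
  · intro j hj
    refine b1_core bar hb a hc₀ L (vF i0) (vE j) ?_ ?_ ?_ ?_ ?_ ?_ hww (h2 i0) (h1 j)
    · unfold vF; rw [hf_bv_ff]
    · unfold vE vF; rw [hf_bv_fe, if_neg (fun h => hj h.symm)]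
    · unfold vE vF; rw [hf_bv_ef, if_neg hj]
    · unfold vF vW; rw [hf_bv_fw]
    · unfold vF vW; rw [hf_bv_wf]
    · unfold vE vW; rw [hf_bv_we]
  · intro j hj
    refine b1_core bar hb a hc₀ L (vF i0) (vF j) ?_ ?_ ?_ ?_ ?_ ?_ hww (h2 i0) (h2 j)
    · unfold vF; rw [hf_bv_ff]
    · unfold vF; rw [hf_bv_ff]
    · unfold vF; rw [hf_bv_ff]
    · unfold vF vW; rw [hf_bv_fw]
    · unfold vF vW; rw [hf_bv_wf]
    · unfold vF vW; rw [hf_bv_wf]

end Cfsg.Agent.Helper68.SU2G
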