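-- helper68: SK-A for helper51's S3048 (Sidki pairs): a minimal counterexample has no abelian
-- minimal normal subgroup.
import Cfsg.Agent.Helper51.SidkiCtx

set_option autoImplicit false
universe u

namespace Cfsg.Agent.Helper68.SidkiA

open Cfsg Cfsg.Agent.Lib Cfsg.Agent.Helper51.Sidki

variable {G : Type u} [Group G]

/-- the elements of an abelian subgroup `N` with `n ^ 2 = 1` -/
def sqOne (N : Subgroup G) (hab : ∀ a ∈ N, ∀ b ∈ N, a * b = b * a) : Subgroup G where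
  carrier := {n | n ∈ N ∧ n ^ 2 = 1}
  mul_mem' := by
    rintro a b ⟨ha, ha2⟩ ⟨hb, hb2⟩
    refine ⟨mul_mem ha hb, ?_⟩
    have hc : Commute a b := hab a ha b hb
    rw [hc.mul_pow, ha2, hb2, one_mul]
  one_mem' := ⟨one_mem _, one_pow _⟩
  inv_mem' := by
    rintro a ⟨ha, ha2⟩
    exact ⟨inv_mem ha, by rw [inv_pow, ha2, inv_one]⟩

theorem sqOne_eq_bot {N : Subgroup G} (hab : ∀ a ∈ N, ∀ b ∈ N, a * b = b * a) (hN : N.Normal)
    (hcore : pCore 2 G = ⊥) : sqOne N hab = ⊥ := by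
  have hnorm : (sqOne N hab).Normal := by
    constructor
    rintro n ⟨hn, hn2⟩ g
    refine ⟨hN.conj_mem n hn g, ?_⟩
    rw [conj_pow, hn2, mul_one, mul_inv_cancel]
  have hp : IsPGroup 2 (sqOne N hab) := by
    rintro ⟨g, hg, hg2⟩
    refine ⟨1, ?_⟩
    apply Subtype.ext
    simpa using hg2
  have := le_pCore hnorm hp
  rw [hcore] at this
  exact le_bot_iff.1 this

theorem odd_orderOf_of_mem [Finite G] {N : Subgroup G} (hab : ∀ a ∈ N, ∀ b ∈ N, a * b = b * a)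
    (hN : N.Normal) (hcore : pCore 2 G = ⊥) {n : G} (hn : n ∈ N) : Odd (orderOf n) := by
  by_contra hodd
  rw [Nat.not_odd_iff_even] at hodd
  obtain ⟨k, hk⟩ := hodd
  have hpos : 0 < orderOf n := orderOf_pos n
  have hmem : n ^ k ∈ sqOne N hab := by
    refine ⟨pow_mem hn k, ?_⟩
    rw [← pow_mul, show k * 2 = orderOf n by omega, pow_orderOf_eq_one]
  rw [sqOne_eq_bot hab hN hcore, Subgroup.mem_bot] at hmem
  have hdvd : orderOf n ∣ k := orderOf_dvd_of_pow_eq_one hmem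
  have : orderOf n ≤ k := Nat.le_of_dvd (by omega) hdvd
  omega

theorem odd_card [Finite G] {N : Subgroup G} (hab : ∀ a ∈ N, ∀ b ∈ N, a * b = b * a)
    (hN : N.Normal) (hcore : pCore 2 G = ⊥) : Odd (Nat.card N) := by
  by_contra hodd
  rw [Nat.not_odd_iff_even] at hodd
  haveI : Fact (Nat.Prime 2) := ⟨Nat.prime_two⟩
  obtain ⟨x, hx⟩ := exists_prime_orderOf_dvd_card' (G := N) 2 hodd.two_dvd
  have h1 : Odd (orderOf (x : G)) := odd_orderOf_of_mem hab hN hcore x.2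
  rw [Subgroup.orderOf_coe, hx] at h1
  exact absurd h1 (by decide)

/-- the elements of an abelian subgroup `N` inverted by `v` -/
def invBy (N : Subgroup G) (hab : ∀ a ∈ N, ∀ b ∈ N, a * b = b * a) (v : G) : Subgroup G where
  carrier := {n | n ∈ N ∧ v * n * v⁻¹ = n⁻¹}
  mul_mem' := by
    rintro a b ⟨ha, ha2⟩ ⟨hb, hb2⟩
    refine ⟨mul_mem ha hb, ?_⟩
    have h1 : v * (a * b) * v⁻¹ = (v * a * v⁻¹) * (v * b * v⁻¹) := by group
    rw [h1, ha2, hb2, hab a ha b hb, mul_inv_rev]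
  one_mem' := ⟨one_mem _, by simp⟩
  inv_mem' := by
    rintro a ⟨ha, ha2⟩
    refine ⟨inv_mem ha, ?_⟩
    have h1 : v * a⁻¹ * v⁻¹ = (v * a * v⁻¹)⁻¹ := by group
    rw [h1, ha2]

section main

variable [Finite G] {V : Subgroup G}

theorem sup_eq_top (ctx : Ctx V) {N : Subgroup G} (hN : N.Normal)
    (hab : ∀ a ∈ N, ∀ b ∈ N, a * b = b * a) :
    Subgroup.centralizer (N : Set G) ⊔ V = ⊤ := by
  haveI := hN
  set C := Subgroup.centralizer (N : Set G) with hC
  have hCn : C.Normal := Subgroup.normal_centralizer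
  have hNC : N ≤ C := by
    intro n hn
    rw [hC, Subgroup.mem_centralizer_iff]
    intro m hm
    exact hab m hm n hn
  by_contra hX
  obtain ⟨x, hxV, hx1, hxc⟩ := ctx.minG (H := C ⊔ V) (W := V) hX le_sup_right ctx.elem ctx.ne_bot
    (relSidki_of_isSidkiPair ctx.sidki _)
  have hle : pCoreOf 2 (C ⊔ V) ≤ pCoreOf 2 C := by
    have hsub : pCoreOf 2 (C ⊔ V) ≤ C := by
      intro r hr
      rw [hC, Subgroup.mem_centralizer_iff]
      intro n hn
      exact (pCoreOf_commute_of_normal hCn le_sup_left ctx.core hr (hNC hn)).symm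
    apply le_pCoreOf' hsub (pCoreOf_isPGroup' _)
    intro g hg y hy
    exact pCoreOf_conj_mem (le_sup_left (a := C) (b := V) hg) hy
  rw [pCoreOf_eq_bot_of_normal hCn ctx.core] at hle
  have := hle hxc
  rw [Subgroup.mem_bot] at this
  exact hx1 this

theorem centralizes_or_inverts (ctx : Ctx V) {N : Subgroup G} (hN : MinNormal N)
    (hab : ∀ a ∈ N, ∀ b ∈ N, a * b = b * a) {v : G} (hv : v ∈ V) :
    (∀ n ∈ N, v * n * v⁻¹ = n) ∨ (∀ n ∈ N, v * n * v⁻¹ = n⁻¹) := by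
  haveI := hN.1
  have hCn : (Subgroup.centralizer (N : Set G)).Normal := Subgroup.normal_centralizer
  have htop := sup_eq_top ctx hN.1 hab
  have hnorm : (invBy N hab v).Normal := by
    constructor
    rintro n ⟨hn, hn2⟩ g
    have hg : g ∈ Subgroup.centralizer (N : Set G) ⊔ V := by rw [htop]; trivial
    obtain ⟨c, hc, u, hu, rfl⟩ := Subgroup.mem_sup_of_normal_left.1 hg
    have hun : u * n * u⁻¹ ∈ N := hN.1.conj_mem n hn u
    have h1 : c * u * n * (c * u)⁻¹ = u * n * u⁻¹ := by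
      have := (Subgroup.mem_centralizer_iff.1 hc) _ hun
      calc c * u * n * (c * u)⁻¹ = c * (u * n * u⁻¹) * c⁻¹ := by group
        _ = (u * n * u⁻¹) * c * c⁻¹ := by rw [this]
        _ = u * n * u⁻¹ := by group
    rw [h1]
    refine ⟨hun, ?_⟩
    have hvu : v * u = u * v := elem_comm ctx.elem hv hu
    calc v * (u * n * u⁻¹) * v⁻¹ = (v * u) * n * (v * u)⁻¹ := by group
      _ = (u * v) * n * (u * v)⁻¹ := by rw [hvu]
      _ = u * (v * n * v⁻¹) * u⁻¹ := by group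
      _ = u * n⁻¹ * u⁻¹ := by rw [hn2]
      _ = (u * n * u⁻¹)⁻¹ := by group
  have hle : invBy N hab v ≤ N := fun n hn => hn.1
  rcases hN.2.2 _ hnorm hle with h | h
  · left
    intro n hn
    have hvn : v * n * v⁻¹ ∈ N := hN.1.conj_mem n hn v
    have hvv : v * v = 1 := elem_sq ctx.elem hv
    have hvi : v⁻¹ = v := elem_inv ctx.elem hv
    have hm : n * (v * n * v⁻¹)⁻¹ ∈ invBy N hab v := by
      refine ⟨mul_mem hn (inv_mem hvn), ?_⟩
      have e1 : v * (n * (v * n * v⁻¹)⁻¹) * v⁻¹ = (v * n * v⁻¹) * (v * v * n⁻¹ * (v * v)⁻¹) := by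
        group
      rw [e1, hvv]
      group
    rw [h, Subgroup.mem_bot] at hm
    have : n = v * n * v⁻¹ := by
      have := mul_inv_eq_one.1 hm
      exact this
    exact this.symm
  · right
    intro n hn
    have : n ∈ invBy N hab v := by rw [h]; exact hn
    exact this.2

theorem no_abelian_minNormal (ctx : Ctx V) {N : Subgroup G} (hN : MinNormal N)
    (hab : ∀ a ∈ N, ∀ b ∈ N, a * b = b * a) : False := by
  haveI := hN.1
  set C := Subgroup.centralizer (N : Set G) with hC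
  have hCn : C.Normal := Subgroup.normal_centralizer
  have htop : C ⊔ V = ⊤ := sup_eq_top ctx hN.1 hab
  have hodd : ∀ n ∈ N, Odd (orderOf n) := fun n hn => odd_orderOf_of_mem hab hN.1 ctx.core hn
  -- elements of `V` outside `C` invert `N`
  have hinv : ∀ v ∈ V, v ∉ C → ∀ n ∈ N, v * n * v⁻¹ = n⁻¹ := by
    intro v hv hvC
    rcases centralizes_or_inverts ctx hN hab hv with h | h
    · exfalso
      apply hvC
      rw [hC, Subgroup.mem_centralizer_iff]
      intro n hn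
      have := h n hn
      calc n * v = (v * n * v⁻¹) * v := by rw [this]
        _ = v * n := by group
    · exact h
  have hcen : ∀ c ∈ C, ∀ n ∈ N, c * n * c⁻¹ = n := by
    intro c hc n hn
    have := (Subgroup.mem_centralizer_iff.1 hc) n hn
    calc c * n * c⁻¹ = (n * c) * c⁻¹ := by rw [this]
      _ = n := by group
  obtain ⟨n, hn, hn1⟩ : ∃ n ∈ N, n ≠ 1 := by
    by_contra hcon
    push_neg at hcon
    apply hN.2.1
    rw [eq_bot_iff]
    intro x hx
    rw [Subgroup.mem_bot]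
    exact hcon x hx
  by_cases h1 : V ⊓ C = V
  · -- `V ≤ C`, `N` central
    have hVC : V ≤ C := by rw [← h1]; exact inf_le_right
    have hCtop : C = ⊤ := by
      rw [← htop]; exact (sup_eq_left.2 hVC).symm
    apply ctx.noCentral N hN.1 hN.2.1 ?_ (odd_card hab hN.1 ctx.core)
    intro m hm
    rw [Subgroup.mem_center_iff]
    intro g
    have hg : g ∈ C := by rw [hCtop]; trivial
    exact (Subgroup.mem_centralizer_iff.1 hg) m hm |>.symm ▸ rfl
  by_cases h2 : V ⊓ C = ⊥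
  · obtain ⟨v, hv, hv1⟩ : ∃ v ∈ V, v ≠ 1 := by
      by_contra hcon
      push_neg at hcon
      apply ctx.ne_bot
      rw [eq_bot_iff]
      intro x hx
      rw [Subgroup.mem_bot]
      exact hcon x hx
    have hnotC : ∀ w ∈ V, w ≠ 1 → w ∉ C := by
      intro w hw hw1 hwC
      have : w ∈ V ⊓ C := ⟨hw, hwC⟩
      rw [h2, Subgroup.mem_bot] at this
      exact hw1 this
    have hvinv := hinv v hv (hnotC v hv hv1) n hn
    obtain ⟨w, hw, hw1, hwc⟩ := ctx.sidki n v hv (hodd n hn) hvinv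
    have hwinv := hinv w hw (hnotC w hw hw1) n hn
    have : n = n⁻¹ := by
      calc n = (n * w) * w⁻¹ := by group
        _ = (w * n) * w⁻¹ := by rw [hwc]
        _ = n⁻¹ := hwinv
    have hsq : n ^ 2 = 1 := by
      rw [pow_two]
      nth_rewrite 2 [this]
      exact mul_inv_cancel n
    exact hn1 (eq_one_of_sq_eq_one_of_odd (hodd n hn) hsq)
  -- mixed case
  have hns := ctx.minV (V ⊓ C) inf_le_left h1 h2
  unfold IsSidkiPair at hns
  push_neg at hns
  obtain ⟨h, v1, hv1, hho, hhinv, hall⟩ := hns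
  have hv1V : v1 ∈ V := hv1.1
  have hv1C : v1 ∈ C := hv1.2
  -- `h ∈ C`
  have hhC : h ∈ C := by
    have hg : h ∈ C ⊔ V := by rw [htop]; trivial
    obtain ⟨c, hc, u, hu, rfl⟩ := Subgroup.mem_sup_of_normal_left.1 hg
    apply mem_of_sq_mem_of_odd hho
    have huu : u * u = 1 := elem_sq ctx.elem hu
    have e : (c * u) ^ 2 = c * (u * c * u⁻¹) * (u * u) := by
      rw [pow_two]; group
    rw [e, huu, mul_one]
    exact mul_mem hc (hCn.conj_mem c hc u)
  obtain ⟨w0, hw0, hw01, hw0c⟩ := ctx.sidki h v1 hv1V hho hhinv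
  have hw0C : w0 ∉ C := by
    intro hcon
    exact hall w0 ⟨hw0, hcon⟩ hw01 hw0c
  have hw0inv := hinv w0 hw0 hw0C
  have hhn : h * n = n * h := ((Subgroup.mem_centralizer_iff.1 hhC) n hn).symm
  -- `t = v1 * w0` inverts `h * n`
  have ht : v1 * w0 ∈ V := mul_mem hv1V hw0
  have hw0h : w0 * h * w0⁻¹ = h := by
    calc w0 * h * w0⁻¹ = (h * w0) * w0⁻¹ := by rw [hw0c]
      _ = h := by group
  have htinv : (v1 * w0) * (h * n) * (v1 * w0)⁻¹ = (h * n)⁻¹ := by
    have hninv : n⁻¹ ∈ N := inv_mem hn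
    calc (v1 * w0) * (h * n) * (v1 * w0)⁻¹
        = v1 * (w0 * h * w0⁻¹) * v1⁻¹ * (v1 * (w0 * n * w0⁻¹) * v1⁻¹) := by group
      _ = v1 * h * v1⁻¹ * (v1 * n⁻¹ * v1⁻¹) := by rw [hw0h, hw0inv n hn]
      _ = h⁻¹ * n⁻¹ := by rw [hhinv, hcen v1 hv1C _ hninv]
      _ = (n * h)⁻¹ := by group
      _ = (h * n)⁻¹ := by rw [hhn]
  have hoddhn : Odd (orderOf (h * n)) := odd_orderOf_mul_of_commute hhn hho (hodd n hn)
  obtain ⟨w1, hw1, hw11, hw1c⟩ := ctx.sidki (h * n) (v1 * w0) ht hoddhn htinv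
  have hw1C : w1 ∉ C := by
    intro hcon
    apply hall w1 ⟨hw1, hcon⟩ hw11
    have hw1n : w1 * n = n * w1 := ((Subgroup.mem_centralizer_iff.1 hcon) n hn).symm
    -- w1 h n = h n w1 = h w1 n
    have : w1 * h * n = h * w1 * n := by
      calc w1 * h * n = w1 * (h * n) := by group
        _ = (h * n) * w1 := hw1c
        _ = h * (n * w1) := by group
        _ = h * (w1 * n) := by rw [hw1n]
        _ = h * w1 * n := by group
    exact mul_right_cancel this
  have hw1inv := hinv w1 hw1 hw1C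
  -- `w1 h w1⁻¹ = h n²`
  have hw1h : w1 * h * w1⁻¹ = h * n ^ 2 := by
    have e1 : w1 * (h * n) * w1⁻¹ = h * n := by
      calc w1 * (h * n) * w1⁻¹ = ((h * n) * w1) * w1⁻¹ := by rw [hw1c]
        _ = h * n := by group
    calc w1 * h * w1⁻¹ = (w1 * (h * n) * w1⁻¹) * (w1 * n * w1⁻¹)⁻¹ := by group
      _ = (h * n) * (n⁻¹)⁻¹ := by rw [e1, hw1inv n hn]
      _ = h * n ^ 2 := by rw [inv_inv, pow_two]; group
  -- `u = w0 * w1` centralizes `N`
  set u := w0 * w1 with hu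
  have huV : u ∈ V := mul_mem hw0 hw1
  have hun : ∀ m ∈ N, u * m * u⁻¹ = m := by
    intro m hm
    have hminv : m⁻¹ ∈ N := inv_mem hm
    calc u * m * u⁻¹ = w0 * (w1 * m * w1⁻¹) * w0⁻¹ := by rw [hu]; group
      _ = w0 * m⁻¹ * w0⁻¹ := by rw [hw1inv m hm]
      _ = (m⁻¹)⁻¹ := hw0inv _ hminv
      _ = m := inv_inv m
  have hn2 : n ^ 2 ∈ N := pow_mem hn 2
  have huh : u * h * u⁻¹ = h * (n ^ 2)⁻¹ := by
    calc u * h * u⁻¹ = w0 * (w1 * h * w1⁻¹) * w0⁻¹ := by rw [hu]; group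
      _ = w0 * (h * n ^ 2) * w0⁻¹ := by rw [hw1h]
      _ = (w0 * h * w0⁻¹) * (w0 * n ^ 2 * w0⁻¹) := by group
      _ = h * (n ^ 2)⁻¹ := by rw [hw0h, hw0inv _ hn2]
  have huu : u * u = 1 := elem_sq ctx.elem huV
  have hui : u⁻¹ = u := elem_inv ctx.elem huV
  have hfinal : h = h * ((n ^ 2)⁻¹ * (n ^ 2)⁻¹) := by
    have hn2i : (n ^ 2)⁻¹ ∈ N := inv_mem hn2
    calc h = (u * u) * h * (u * u)⁻¹ := by rw [huu]; group
      _ = u * (u * h * u⁻¹) * u⁻¹ := by group
      _ = u * (h * (n ^ 2)⁻¹) * u⁻¹ := by rw [huh]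
      _ = (u * h * u⁻¹) * (u * (n ^ 2)⁻¹ * u⁻¹) := by group
      _ = h * (n ^ 2)⁻¹ * (n ^ 2)⁻¹ := by rw [huh, hun _ hn2i]
      _ = h * ((n ^ 2)⁻¹ * (n ^ 2)⁻¹) := by group
  have h4 : n ^ 4 = 1 := by
    have e : (n ^ 2)⁻¹ * (n ^ 2)⁻¹ = 1 := by
      have := mul_left_cancel (a := h) (b := 1) (c := (n ^ 2)⁻¹ * (n ^ 2)⁻¹) (by rw [mul_one]; exact hfinal)
      exact this.symm
    have e2 : (n ^ 4)⁻¹ = 1 := by
      rw [← e, show (4 : ℕ) = 2 + 2 by norm_num, pow_add, mul_inv_rev]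
    exact inv_eq_one.1 e2
  exact hn1 (eq_one_of_pow_four_eq_one_of_odd (hodd n hn) h4)

end main

end Cfsg.Agent.Helper68.SidkiA
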