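import Mathlib
import Cfsg.Agent.Helper88.SimsD.Defs

/-!
helper68 for helper88 (S2772, board #13205): leaf (CU1) `card_le_four_mul_inf_conj` of
`tools/helper88_simsd/Skel.lean.txt`.
-/

set_option autoImplicit false

namespace Cfsg.Agent.Helper68.SimsD

open Subgroup Cfsg.Agent.Helper88.SimsD

/-- a normal subgroup is its own image under conjugation -/
theorem CU1_map_conj_normal {Γ : Type*} [Group Γ] (V : Subgroup Γ) [hV : V.Normal] (g : Γ) :
    V.map (MulAut.conj g).toMonoidHom = V := by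
  ext x
  rw [Subgroup.mem_map]
  constructor
  · rintro ⟨v, hv, rfl⟩
    exact hV.conj_mem v hv g
  · intro hx
    refine ⟨g⁻¹ * x * g, ?_, ?_⟩
    · have h := hV.conj_mem x hx g⁻¹
      rwa [inv_inv] at h
    · show g * (g⁻¹ * x * g) * g⁻¹ = x
      group

/-- `|K| = |H| * |K : H|` for `H ≤ K` -/
theorem CU1_card_eq {Γ : Type*} [Group Γ] (H K : Subgroup Γ) (h : H ≤ K) :
    Nat.card K = Nat.card H * H.relIndex K := by
  have h1 := Subgroup.relIndex_mul_relIndex ⊥ H K bot_le h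
  rw [Subgroup.relIndex_bot_left, Subgroup.relIndex_bot_left] at h1
  exact h1.symm

/-- (CU1) `|V : V ∩ A| ≤ 2`, `V` normal: `|V : V ∩ A ∩ gAg⁻¹| ≤ 4`. -/
theorem card_le_four_mul_inf_conj {Γ : Type*} [Group Γ] [Finite Γ] (V A : Subgroup Γ) [V.Normal]
    (h : Nat.card V ≤ 2 * Nat.card (V ⊓ A : Subgroup Γ)) (g : Γ) :
    Nat.card V ≤
      4 * Nat.card ((V ⊓ A) ⊓ A.map (MulAut.conj g).toMonoidHom : Subgroup Γ) := by
  have hinj : Function.Injective (MulAut.conj g).toMonoidHom := (MulAut.conj g).injective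
  -- the two indices are at most two
  have hXpos : 0 < Nat.card (V ⊓ A : Subgroup Γ) := Nat.card_pos
  have hX : (V ⊓ A).relIndex V ≤ 2 := by
    have h1 := CU1_card_eq (V ⊓ A) V inf_le_left
    rw [h1, mul_comm] at h
    exact Nat.le_of_mul_le_mul_right h hXpos
  have hYcard : Nat.card (V ⊓ A.map (MulAut.conj g).toMonoidHom : Subgroup Γ) =
      Nat.card (V ⊓ A : Subgroup Γ) := by
    have h1 : (V ⊓ A).map (MulAut.conj g).toMonoidHom = V ⊓ A.map (MulAut.conj g).toMonoidHom := by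
      rw [Subgroup.map_inf _ _ _ hinj, CU1_map_conj_normal]
    rw [← h1, Subgroup.card_map_of_injective hinj]
  have hY : (A.map (MulAut.conj g).toMonoidHom).relIndex V ≤ 2 := by
    rw [← Subgroup.inf_relIndex_left]
    have h1 := CU1_card_eq (V ⊓ A.map (MulAut.conj g).toMonoidHom) V inf_le_left
    have h2 := h
    rw [h1, hYcard, mul_comm] at h2
    exact Nat.le_of_mul_le_mul_right h2 hXpos
  have h4 : ((V ⊓ A) ⊓ A.map (MulAut.conj g).toMonoidHom).relIndex V ≤ 4 := by
    calc ((V ⊓ A) ⊓ A.map (MulAut.conj g).toMonoidHom).relIndex V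
        ≤ (V ⊓ A).relIndex V * (A.map (MulAut.conj g).toMonoidHom).relIndex V :=
          Subgroup.relIndex_inf_le
      _ ≤ 2 * 2 := Nat.mul_le_mul hX hY
  rw [CU1_card_eq ((V ⊓ A) ⊓ A.map (MulAut.conj g).toMonoidHom) V (inf_le_left.trans inf_le_left), mul_comm]
  exact Nat.mul_le_mul_right _ h4

end Cfsg.Agent.Helper68.SimsD
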