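import Mathlib
import Cfsg.Agent.Helper88.SimsD.Defs

/-!
helper68 for helper88 (S2772, board #13205): leaf (D2) `dihedral_two_elt` of
`tools/helper88_simsd/Skel.lean.txt`.
-/

set_option autoImplicit false

namespace Cfsg.Agent.Helper68.SimsD

open Subgroup Cfsg.Agent.Helper88.SimsD

/-- (D2) a nonidentity element of 2-power order of `D_{2q}`, `q` odd, is a reflection. -/
theorem dihedral_two_elt {q : ℕ} (hq : q.Prime) (hq2 : q ≠ 2) (y : DihedralGroup q) (k : ℕ)
    (hy : y ^ 2 ^ k = 1) (hy1 : y ≠ 1) : ∃ i : ZMod q, y = DihedralGroup.sr i := by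
  have : Fact q.Prime := ⟨hq⟩
  cases y with
  | r j =>
    exfalso
    apply hy1
    rw [DihedralGroup.r_pow, DihedralGroup.one_def, DihedralGroup.r.injEq] at hy
    have h2 : ((2 ^ k : ℕ) : ZMod q) ≠ 0 := by
      rw [Nat.cast_pow]
      apply pow_ne_zero
      intro h
      have h3 : q ∣ 2 := (ZMod.natCast_eq_zero_iff 2 q).mp (by exact_mod_cast h)
      exact hq2 ((Nat.prime_dvd_prime_iff_eq hq Nat.prime_two).mp h3)
    have hj : j = 0 := by
      rcases mul_eq_zero.mp hy with h | h
      · exact h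
      · exact absurd h h2
    rw [hj, DihedralGroup.one_def]
  | sr i => exact ⟨i, rfl⟩

end Cfsg.Agent.Helper68.SimsD
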