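import Mathlib
import Cfsg.Agent.Helper13.Sp4O.Defs

/-!
# (COMMT2) for helper13's S2281 (n = 2, q odd) farm (#10428).
-/

set_option autoImplicit false
set_option linter.unreachableTactic false
set_option linter.unusedTactic false
set_option linter.unnecessarySeqFocus false

namespace Cfsg.Agent.Helper68.Sp4O

open Matrix Cfsg.Agent.Helper13.Sp4O

variable {F : Type*} [Field F]

theorem comm_A12_Y_aux :
    MeS (0 : F) (-1) 0 * MfS 0 (-1) 0 = T2S * MfS 0 (-1) 0 * MeS 0 (-1) 0 := by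
  apply Subtype.ext
  simp only [Submonoid.coe_mul, coe_MeS, coe_MfS, coe_T2S]
  apply mat_ext4
  · simp only [← Matrix.mulVec_mulVec, Me_mulVec, Mf_mulVec, T2_mulVec]
    apply vec_ext <;> simp [B_apply] <;> ring
  · simp only [← Matrix.mulVec_mulVec, Me_mulVec, Mf_mulVec, T2_mulVec]
    apply vec_ext <;> simp [B_apply] <;> ring
  · simp only [← Matrix.mulVec_mulVec, Me_mulVec, Mf_mulVec, T2_mulVec]
    apply vec_ext <;> simp [B_apply] <;> ring
  · simp only [← Matrix.mulVec_mulVec, Me_mulVec, Mf_mulVec, T2_mulVec]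
    apply vec_ext <;> simp [B_apply] <;> ring

/-- (COMMT2) -/
theorem comm_A12_Y :
    MeS (0 : F) (-1) 0 * MfS 0 (-1) 0 * (MeS 0 (-1) 0)⁻¹ * (MfS 0 (-1) 0)⁻¹ = T2S := by
  rw [comm_A12_Y_aux]
  group

end Cfsg.Agent.Helper68.Sp4O
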