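import Mathlib
import Cfsg.Agent.Helper94.Srg77.Defs

set_option autoImplicit false
set_option linter.unusedSectionVars false
set_option linter.unusedVariables false

/-!
# S0429 farm (helper94), piece (H): a 21-coclique meets every outside neighbourhood in 6
-/

namespace Cfsg.Agent.Helper68.Srg77

open Finset Cfsg.Agent.Helper94.Srg77

variable {V : Type*} [Fintype V] [DecidableEq V] {G : SimpleGraph V} [DecidableRel G.Adj]

/-- (H) variance argument. -/
theorem coclique_six (h : Hyp G) (C : Finset V) (hC : NoEdges G C C) (hcard : C.card = 21)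
    (u : V) (hu : u ∉ C) : (G.neighborFinset u ∩ C).card = 6 := by
  classical
  set d : V → ℕ := fun v => (G.neighborFinset v ∩ C).card with hd
  have hd_sum : ∀ v, d v = ∑ c ∈ C, (if G.Adj v c then 1 else 0) := by
    intro v
    rw [hd]
    simp only
    rw [← Finset.card_filter]
    congr 1
    ext c
    simp [and_comm]
  have hdC : ∀ v ∈ C, d v = 0 := by
    intro v hv
    rw [hd]
    simp only
    rw [Finset.card_eq_zero, Finset.eq_empty_iff_forall_notMem]
    intro c hc
    rw [Finset.mem_inter, SimpleGraph.mem_neighborFinset] at hc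
    exact hC v hv c hc.2 hc.1
  -- first moment
  have h1 : ∑ v, d v = 336 := by
    calc ∑ v, d v = ∑ v, ∑ c ∈ C, (if G.Adj v c then 1 else 0) := by simp_rw [hd_sum]
      _ = ∑ c ∈ C, ∑ v, (if G.Adj v c then 1 else 0) := Finset.sum_comm
      _ = ∑ c ∈ C, 16 := by
          apply Finset.sum_congr rfl
          intro c _
          rw [← Finset.card_filter, ← h.deg c]
          congr 1
          ext v
          simp [SimpleGraph.adj_comm]
      _ = 336 := by rw [Finset.sum_const, hcard]; rfl
  -- second moment
  have h2 : ∑ v, d v * d v = 2016 := by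
    calc ∑ v, d v * d v
          = ∑ v, ∑ c ∈ C, ∑ c' ∈ C, (if G.Adj v c ∧ G.Adj v c' then 1 else 0) := by
          apply Finset.sum_congr rfl
          intro v _
          rw [hd_sum v, Finset.sum_mul_sum]
          apply Finset.sum_congr rfl; intro c _
          apply Finset.sum_congr rfl; intro c' _
          split_ifs <;> simp_all
      _ = ∑ c ∈ C, ∑ c' ∈ C, ∑ v, (if G.Adj v c ∧ G.Adj v c' then 1 else 0) := by
          rw [Finset.sum_comm]
          apply Finset.sum_congr rfl; intro c _
          rw [Finset.sum_comm]
      _ = ∑ c ∈ C, ∑ c' ∈ C, (cn G c c').card := by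
          apply Finset.sum_congr rfl; intro c _
          apply Finset.sum_congr rfl; intro c' _
          rw [← Finset.card_filter]
          congr 1
          ext v
          simp [mem_cn, SimpleGraph.adj_comm]
      _ = ∑ c ∈ C, ∑ c' ∈ C, (if c = c' then 16 else 4) := by
          apply Finset.sum_congr rfl; intro c hc
          apply Finset.sum_congr rfl; intro c' hc'
          split_ifs with hcc
          · subst hcc; rw [cn, Finset.inter_self, h.deg]
          · exact h.nadj c c' hcc (hC c hc c' hc')
      _ = ∑ c ∈ C, 96 := by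
          apply Finset.sum_congr rfl; intro c hc
          have : ∀ c', (if c = c' then 16 else 4) = 4 + (if c = c' then 12 else 0) := by
            intro c'; split_ifs <;> rfl
          simp_rw [this]
          rw [Finset.sum_add_distrib, Finset.sum_const, Finset.sum_ite_eq, if_pos hc, hcard]
          rfl
      _ = 2016 := by rw [Finset.sum_const, hcard]; rfl
  -- restrict to the complement
  have hCz : ∑ v ∈ C, d v = 0 := Finset.sum_eq_zero hdC
  have hCz2 : ∑ v ∈ C, d v * d v = 0 := Finset.sum_eq_zero (fun v hv => by simp [hdC v hv])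
  have h1' : ∑ v ∈ Cᶜ, d v = 336 := by
    have := Finset.sum_add_sum_compl C d
    omega
  have h2' : ∑ v ∈ Cᶜ, d v * d v = 2016 := by
    have := Finset.sum_add_sum_compl C (fun v => d v * d v)
    omega
  have hcompl : (Cᶜ).card = 56 := by
    rw [Finset.card_compl, h.card, hcard]
  have key : ∑ v ∈ Cᶜ, ((d v : ℤ) - 6) ^ 2 = 0 := by
    have e : ∀ v, ((d v : ℤ) - 6) ^ 2 = ((d v * d v : ℕ) : ℤ) - 12 * ((d v : ℕ) : ℤ) + 36 := by
      intro v; push_cast; ring
    simp_rw [e]
    rw [Finset.sum_add_distrib, Finset.sum_sub_distrib, ← Finset.mul_sum, ← Nat.cast_sum,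
      ← Nat.cast_sum, h1', h2', Finset.sum_const, hcompl]
    norm_num
  have hz := (Finset.sum_eq_zero_iff_of_nonneg (fun v _ => sq_nonneg ((d v : ℤ) - 6))).1 key u
    (Finset.mem_compl.2 hu)
  have : (d u : ℤ) = 6 := by
    have := pow_eq_zero_iff (two_ne_zero) |>.1 hz
    linarith
  exact_mod_cast this

end Cfsg.Agent.Helper68.Srg77
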