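import Mathlib
import Cfsg.Agent.Helper94.Srg77.Facts9

set_option autoImplicit false
set_option linter.unusedSectionVars false
set_option linter.unusedVariables false

/-!
# S0429 farm (helper94), piece (P2): every line lies in exactly two points
-/

namespace Cfsg.Agent.Helper68.Srg77

open Finset Cfsg.Agent.Helper94.Srg77

variable {V : Type*} [Fintype V] [DecidableEq V] {G : SimpleGraph V} [DecidableRel G.Adj]

/-- double counting of the edges between `univ` and `C` -/
theorem P2_sum_card_inter (G : SimpleGraph V) [DecidableRel G.Adj] (C : Finset V) :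
    ∑ v, (G.neighborFinset v ∩ C).card = ∑ c ∈ C, (G.neighborFinset c).card := by
  classical
  have hd_sum : ∀ v, (G.neighborFinset v ∩ C).card = ∑ c ∈ C, (if G.Adj v c then 1 else 0) := by
    intro v
    rw [← Finset.card_filter]
    congr 1
    ext c
    simp [and_comm]
  calc ∑ v, (G.neighborFinset v ∩ C).card
        = ∑ v, ∑ c ∈ C, (if G.Adj v c then 1 else 0) := by simp_rw [hd_sum]
    _ = ∑ c ∈ C, ∑ v, (if G.Adj v c then 1 else 0) := Finset.sum_comm
    _ = ∑ c ∈ C, (G.neighborFinset c).card := by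
        apply Finset.sum_congr rfl
        intro c _
        rw [← Finset.card_filter]
        congr 1
        ext v
        simp [SimpleGraph.adj_comm]

/-- the vertices off a line with no neighbour on it: there are 32 of them -/
theorem P2_card_R (h : Hyp G) (f : F7 G) {ℓ : Finset V} (hℓ : IsLine G ℓ) :
    (perp G ℓ \ ℓ).card = 32 := by
  classical
  obtain ⟨x, y, hxy, nxy, hℓeq⟩ := hℓ
  have hℓcard : ℓ.card = 5 := by rw [hℓeq]; exact f.line_card hxy nxy
  have hℓco : NoEdges G ℓ ℓ := by rw [hℓeq]; exact f.line_noEdges hxy nxy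
  set R := perp G ℓ \ ℓ with hR
  set d : V → ℕ := fun v => (G.neighborFinset v ∩ ℓ).card with hd
  have hsum : ∑ v, d v = 80 := by
    rw [hd, P2_sum_card_inter G ℓ, Finset.sum_congr rfl (fun c _ => h.deg c), Finset.sum_const,
      hℓcard]
    rfl
  have hdℓ : ∀ v ∈ ℓ, d v = 0 := by
    intro v hv
    rw [hd]
    simp only
    rw [Finset.card_eq_zero, Finset.eq_empty_iff_forall_notMem]
    intro c hc
    rw [Finset.mem_inter, SimpleGraph.mem_neighborFinset] at hc
    exact hℓco v hv c hc.2 hc.1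
  have hRmem : ∀ v, v ∈ R ↔ v ∉ ℓ ∧ d v = 0 := by
    intro v
    rw [hR, Finset.mem_sdiff, mem_perp, hd]
    simp only
    rw [Finset.card_eq_zero, Finset.disjoint_iff_inter_eq_empty]
    tauto
  have hd' : ∀ v ∈ ℓᶜ, d v + 2 * (if v ∈ R then 1 else 0) = 2 := by
    intro v hv
    rw [Finset.mem_compl] at hv
    have h02 := f.e02 hxy nxy (v := v) (by rw [← hℓeq]; exact hv)
    rw [← hℓeq] at h02
    by_cases hvR : v ∈ R
    · rw [if_pos hvR, ((hRmem v).1 hvR).2]
    · rw [if_neg hvR]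
      rcases h02 with h0 | h2
      · exact absurd ((hRmem v).2 ⟨hv, h0⟩) hvR
      · show (G.neighborFinset v ∩ ℓ).card + 2 * 0 = 2
        rw [h2]
  have hsum' : ∑ v ∈ ℓᶜ, d v = 80 := by
    have := Finset.sum_add_sum_compl ℓ d
    rw [Finset.sum_eq_zero hdℓ] at this
    omega
  have hRsub : R ⊆ ℓᶜ := by
    intro v hv
    rw [Finset.mem_compl]
    exact ((hRmem v).1 hv).1
  have hcnt : ∑ v ∈ ℓᶜ, (if v ∈ R then 1 else 0) = R.card := by
    rw [← Finset.card_filter]
    congr 1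
    ext v
    rw [Finset.mem_filter]
    exact ⟨fun hv => hv.2, fun hv => ⟨hRsub hv, hv⟩⟩
  have hcompl : (ℓᶜ).card = 72 := by
    rw [Finset.card_compl, h.card, hℓcard]
  have htot := Finset.sum_congr rfl hd'
  rw [Finset.sum_add_distrib, ← Finset.mul_sum, hsum', hcnt, Finset.sum_const, hcompl] at htot
  simp only [smul_eq_mul] at htot
  omega

theorem points_of_line (h : Hyp G) (f : F7 G) {ℓ : Finset V} (hℓ : IsLine G ℓ) :
    (pointsThrough G ℓ).card = 2 := by
  classical
  have hRcard := P2_card_R h f hℓ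
  have hℓ' := hℓ
  obtain ⟨x, y, hxy, nxy, hℓeq⟩ := hℓ
  have hℓcard : ℓ.card = 5 := by rw [hℓeq]; exact f.line_card hxy nxy
  set R := perp G ℓ \ ℓ with hR
  -- Step 2-3
  have hPl : ∀ v ∈ R, ∀ v' ∈ plane G ℓ v \ ℓ, v' ∈ R ∧ plane G ℓ v' = plane G ℓ v := by
    intro v hv v' hv'
    rw [hR, Finset.mem_sdiff] at hv
    rw [Finset.mem_sdiff] at hv'
    have hsub := f.line_subset_plane hℓ' hv.1 hv.2
    have hco := f.plane_noEdges hℓ' hv.1 hv.2
    have hv'perp : v' ∈ perp G ℓ := mem_perp'.2 (fun w hw => hco v' hv'.1 w (hsub hw))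
    refine ⟨by rw [hR, Finset.mem_sdiff]; exact ⟨hv'perp, hv'.2⟩, ?_⟩
    apply Finset.eq_of_subset_of_card_le
    · intro u hu
      obtain ⟨w, hw, huw⟩ := mem_plane.1 hu
      have hne : v' ≠ w := fun e => hv'.2 (e ▸ hw)
      exact f.plane_closed hℓ' hv.1 hv.2 hv'.1 (hsub hw) hne huw
    · rw [f.plane_card hℓ' hv.1 hv.2, f.plane_card hℓ' hv'perp hv'.2]
  -- Step 4
  have himg : pointsThrough G ℓ = R.image (plane G ℓ) := by
    ext C
    rw [mem_pointsThrough, Finset.mem_image]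
    constructor
    · rintro ⟨⟨ℓ0, v0, hℓ0, hv0, hv0ℓ0, rfl⟩, hsub⟩
      have hCcard := f.plane_card hℓ0 hv0 hv0ℓ0
      have hCco := f.plane_noEdges hℓ0 hv0 hv0ℓ0
      obtain ⟨v, hvC, hvℓ⟩ : ∃ v ∈ plane G ℓ0 v0, v ∉ ℓ :=
        Finset.exists_mem_notMem_of_card_lt_card (by rw [hCcard, hℓcard]; norm_num)
      have hvperp : v ∈ perp G ℓ := mem_perp'.2 (fun w hw => hCco v hvC w (hsub hw))
      refine ⟨v, by rw [hR, Finset.mem_sdiff]; exact ⟨hvperp, hvℓ⟩, ?_⟩
      apply Finset.eq_of_subset_of_card_le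
      · intro u hu
        obtain ⟨w, hw, huw⟩ := mem_plane.1 hu
        have hne : v ≠ w := fun e => hvℓ (e ▸ hw)
        exact f.plane_closed hℓ0 hv0 hv0ℓ0 hvC (hsub hw) hne huw
      · rw [hCcard, f.plane_card hℓ' hvperp hvℓ]
    · rintro ⟨v, hv, rfl⟩
      rw [hR, Finset.mem_sdiff] at hv
      exact ⟨⟨ℓ, v, hℓ', hv.1, hv.2, rfl⟩, f.line_subset_plane hℓ' hv.1 hv.2⟩
  -- Step 5
  have hfib : ∀ P ∈ R.image (plane G ℓ), (R.filter (fun v => plane G ℓ v = P)).card = 16 := by
    intro P hP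
    obtain ⟨v, hv, rfl⟩ := Finset.mem_image.1 hP
    have hv' := hv
    rw [hR, Finset.mem_sdiff] at hv'
    have heq : R.filter (fun v' => plane G ℓ v' = plane G ℓ v) = plane G ℓ v \ ℓ := by
      ext v'
      rw [Finset.mem_filter]
      constructor
      · rintro ⟨hv'R, he⟩
        have hv'R' := hv'R
        rw [hR, Finset.mem_sdiff] at hv'R'
        rw [Finset.mem_sdiff, ← he]
        exact ⟨f.self_mem_plane hℓ' hv'R'.1 hv'R'.2, hv'R'.2⟩
      · intro hv'P
        exact hPl v hv v' hv'P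
    rw [heq, Finset.card_sdiff_of_subset (f.line_subset_plane hℓ' hv'.1 hv'.2),
      f.plane_card hℓ' hv'.1 hv'.2, hℓcard]
  rw [himg]
  have hcount := Finset.card_eq_sum_card_image (plane G ℓ) R
  rw [Finset.sum_congr rfl hfib, Finset.sum_const, hRcard] at hcount
  simp only [smul_eq_mul] at hcount
  omega

end Cfsg.Agent.Helper68.Srg77
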