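import Mathlib
import Cfsg.Agent.Helper94.Srg77.Facts9

set_option autoImplicit false
set_option linter.unusedSectionVars false
set_option linter.unusedVariables false

/-!
# S0429 farm (helper94), piece (PL): planes are 21-cocliques containing their line
-/

namespace Cfsg.Agent.Helper68.Srg77

open Finset Cfsg.Agent.Helper94.Srg77

variable {V : Type*} [Fintype V] [DecidableEq V] {G : SimpleGraph V} [DecidableRel G.Adj]

theorem line_subset_plane (h : Hyp G) (f : F6 G) {ℓ : Finset V} {v : V} (hℓ : IsLine G ℓ)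
    (hv : v ∈ perp G ℓ) (hvℓ : v ∉ ℓ) : ℓ ⊆ plane G ℓ v := by
  intro w hw
  exact mem_plane.2 ⟨w, hw, right_mem_line v w⟩

theorem self_mem_plane (h : Hyp G) (f : F6 G) {ℓ : Finset V} {v : V} (hℓ : IsLine G ℓ)
    (hv : v ∈ perp G ℓ) (hvℓ : v ∉ ℓ) : v ∈ plane G ℓ v := by
  obtain ⟨x, y, hxy, nxy, rfl⟩ := hℓ
  exact mem_plane.2 ⟨x, left_mem_line x y, left_mem_line v x⟩

/-- basic facts on `v ∈ perp ℓ \ ℓ` and `w ∈ ℓ` -/
theorem PL_basic {ℓ : Finset V} {v w : V} (hv : v ∈ perp G ℓ) (hvℓ : v ∉ ℓ) (hw : w ∈ ℓ) :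
    v ≠ w ∧ ¬ G.Adj v w :=
  ⟨fun e => hvℓ (e ▸ hw), mem_perp'.1 hv w hw⟩

/-- for `w ≠ w'` on `ℓ`, `w'` is not on the line `v w` -/
theorem PL_not_mem (f : F6 G) {ℓ : Finset V} {v w w' : V} (hℓ : IsLine G ℓ)
    (hv : v ∈ perp G ℓ) (hvℓ : v ∉ ℓ) (hw : w ∈ ℓ) (hw' : w' ∈ ℓ) (hne : w ≠ w') :
    w' ∉ line G v w := by
  obtain ⟨x, y, hxy, nxy, rfl⟩ := hℓ
  obtain ⟨hvw, nvw⟩ := PL_basic hv hvℓ hw
  intro hmem
  have e1 : line G w w' = line G x y := f.line_eq hxy nxy hw hw' hne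
  have e2 : line G w w' = line G v w := f.line_eq hvw nvw (right_mem_line v w) hmem hne
  apply hvℓ
  rw [← e1, e2]
  exact left_mem_line v w

theorem PL_par (f : F6 G) {ℓ : Finset V} {v w w' : V} (hℓ : IsLine G ℓ)
    (hv : v ∈ perp G ℓ) (hvℓ : v ∉ ℓ) (hw : w ∈ ℓ) (hw' : w' ∈ ℓ) (hne : w ≠ w') :
    NoEdges G (line G v w) (line G v w') := by
  have hnm := PL_not_mem f hℓ hv hvℓ hw hw' hne
  obtain ⟨x, y, hxy, nxy, rfl⟩ := hℓ
  obtain ⟨hvw, nvw⟩ := PL_basic hv hvℓ hw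
  obtain ⟨hvw', nvw'⟩ := PL_basic hv hvℓ hw'
  have nww' : ¬ G.Adj w w' := f.line_noEdges hxy nxy w hw w' hw'
  have e1 : line G w w' = line G x y := f.line_eq hxy nxy hw hw' hne
  have hperp : v ∈ perp G (line G w w') := by rw [e1]; exact hv
  have h1 := (f.tri_perp hvw hvw' hne nvw nvw' nww' hnm).2 hperp
  exact (f.tri_par hvw hvw' hne nvw nvw' nww' hnm).1 h1

theorem plane_noEdges (h : Hyp G) (f : F6 G) {ℓ : Finset V} {v : V} (hℓ : IsLine G ℓ)
    (hv : v ∈ perp G ℓ) (hvℓ : v ∉ ℓ) : NoEdges G (plane G ℓ v) (plane G ℓ v) := by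
  intro u hu u' hu'
  obtain ⟨w, hw, huw⟩ := mem_plane.1 hu
  obtain ⟨w', hw', huw'⟩ := mem_plane.1 hu'
  by_cases hne : w = w'
  · subst hne
    obtain ⟨hvw, nvw⟩ := PL_basic hv hvℓ hw
    exact f.line_noEdges hvw nvw u huw u' huw'
  · exact PL_par f hℓ hv hvℓ hw hw' hne u huw u' huw'

theorem plane_card (h : Hyp G) (f : F6 G) {ℓ : Finset V} {v : V} (hℓ : IsLine G ℓ)
    (hv : v ∈ perp G ℓ) (hvℓ : v ∉ ℓ) : (plane G ℓ v).card = 21 := by
  have hℓ' := hℓ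
  obtain ⟨x, y, hxy, nxy, hℓeq⟩ := hℓ
  have hℓcard : ℓ.card = 5 := by rw [hℓeq]; exact f.line_card hxy nxy
  have hxℓ : x ∈ ℓ := by rw [hℓeq]; exact left_mem_line x y
  -- decomposition
  have hdec : plane G ℓ v = insert v (ℓ.biUnion fun w => (line G v w).erase v) := by
    ext u
    rw [mem_plane, Finset.mem_insert, Finset.mem_biUnion]
    constructor
    · rintro ⟨w, hw, huw⟩
      by_cases huv : u = v
      · exact Or.inl huv
      · exact Or.inr ⟨w, hw, Finset.mem_erase.2 ⟨huv, huw⟩⟩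
    · rintro (rfl | ⟨w, hw, huw⟩)
      · exact ⟨x, hxℓ, left_mem_line u x⟩
      · exact ⟨w, hw, (Finset.mem_erase.1 huw).2⟩
  have hvnot : v ∉ ℓ.biUnion fun w => (line G v w).erase v := by
    rw [Finset.mem_biUnion]
    rintro ⟨w, _, hw⟩
    exact (Finset.mem_erase.1 hw).1 rfl
  have hdisj : (ℓ : Set V).PairwiseDisjoint fun w => (line G v w).erase v := by
    intro w hw w' hw' hne
    rw [Function.onFun, Finset.disjoint_left]
    intro u hu hu'
    obtain ⟨huv, huw⟩ := Finset.mem_erase.1 hu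
    obtain ⟨_, huw'⟩ := Finset.mem_erase.1 hu'
    obtain ⟨hvw, nvw⟩ := PL_basic hv hvℓ hw
    obtain ⟨hvw', nvw'⟩ := PL_basic hv hvℓ hw'
    have e1 : line G v u = line G v w :=
      f.line_eq hvw nvw (left_mem_line v w) huw (Ne.symm huv)
    have e2 : line G v u = line G v w' :=
      f.line_eq hvw' nvw' (left_mem_line v w') huw' (Ne.symm huv)
    apply PL_not_mem f hℓ' hv hvℓ hw hw' hne
    rw [← e1, e2]
    exact right_mem_line v w'
  rw [hdec, Finset.card_insert_of_notMem hvnot, Finset.card_biUnion hdisj]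
  have : ∀ w ∈ ℓ, ((line G v w).erase v).card = 4 := by
    intro w hw
    obtain ⟨hvw, nvw⟩ := PL_basic hv hvℓ hw
    rw [Finset.card_erase_of_mem (left_mem_line v w), f.line_card hvw nvw]
  rw [Finset.sum_congr rfl this, Finset.sum_const, hℓcard]
  rfl

end Cfsg.Agent.Helper68.Srg77
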