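import Mathlib

set_option autoImplicit false

/-!
# S2074 (Out(Suz) = 2, helper92 farm #15815): the four shared definitions, verbatim from the skeleton
-/

namespace Cfsg.Agent.Helper68.SuzOut

/-- `π` realises the automorphism `β` on the `G`-set `Ω`. -/
def Realises {G Ω : Type*} [Group G] (ρ : G →* Equiv.Perm Ω) (β : MulAut G) (π : Equiv.Perm Ω) : Prop :=
  ∀ g x, π (ρ g x) = ρ (β g) (π x)

/-- the inner automorphisms -/
def InnS (G : Type*) [Group G] : Subgroup (MulAut G) := (MulAut.conj : G →* MulAut G).range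

/-- the target: inner, or `σ` times inner -/
def Tgt {G : Type*} [Group G] (σ β : MulAut G) : Prop := β ∈ InnS G ∨ σ⁻¹ * β ∈ InnS G

/-- every realiser `(β, π)` with `π S[i] = T[i]` for all `i` has `β` in the target -/
def GoodP {G Ω : Type*} [Group G] (ρ : G →* Equiv.Perm Ω) (σ : MulAut G) (S T : List Ω) : Prop :=
  ∀ β π, Realises ρ β π → (∀ (i : ℕ) (s t : Ω), S[i]? = some s → T[i]? = some t → π s = t) → Tgt σ β

end Cfsg.Agent.Helper68.SuzOut
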