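import Mathlib

set_option autoImplicit false

/-!
# S2074 (Out(Suz) = 2, helper92 farm #15815), piece (SY): Sylow conjugacy
-/

namespace Cfsg.Agent.Helper68.SuzOut

open scoped Pointwise

/-- (SY) an automorphism moves `x` into a conjugate of a set invariant under `Aut P`. -/
theorem aut_image_conj {G : Type*} [Group G] [Finite G] (p : ℕ) [Fact p.Prime]
    (P : Subgroup G) (hP : Nat.card P = p ^ (Nat.card G).factorization p)
    (x : G) (hx : x ∈ P) (A : Set G)
    (hA : ∀ φ : P ≃* P, ((φ ⟨x, hx⟩ : P) : G) ∈ A)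
    (β : MulAut G) : ∃ g : G, ∃ a ∈ A, β x = g * a * g⁻¹ := by
  classical
  set Q : Subgroup G := P.map (β : G ≃* G).toMonoidHom with hQ
  have hQcard : Nat.card Q = p ^ (Nat.card G).factorization p := by
    rw [hQ, Subgroup.card_map_of_injective (f := (β : G ≃* G).toMonoidHom) (β : G ≃* G).injective]
    exact hP
  let S1 : Sylow p G := Sylow.ofCard P hP
  let S2 : Sylow p G := Sylow.ofCard Q hQcard
  obtain ⟨g, hg⟩ := MulAction.exists_smul_eq G S1 S2
  have hsub : (MulAut.conj g • P : Subgroup G) = Q := by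
    have h1 := congrArg (fun S : Sylow p G => (S : Subgroup G)) hg
    simp only [Sylow.coe_subgroup_smul] at h1
    exact h1
  have hmem : ∀ y ∈ P, g⁻¹ * β y * g ∈ P := by
    intro y hy
    have h1 : β y ∈ Q := Subgroup.mem_map_of_mem _ hy
    rw [← hsub, Subgroup.mem_smul_pointwise_iff_exists] at h1
    obtain ⟨s, hs, hse⟩ := h1
    rw [MulAut.smul_def, MulAut.conj_apply] at hse
    rw [← hse]
    have e : g⁻¹ * (g * s * g⁻¹) * g = s := by group
    rw [e]
    exact hs
  let f : P →* P :=
    { toFun := fun y => ⟨g⁻¹ * β y.1 * g, hmem y.1 y.2⟩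
      map_one' := by ext; simp
      map_mul' := by intro a b; ext; simp [mul_assoc] }
  have hf : ∀ y : P, ((f y : P) : G) = g⁻¹ * β y.1 * g := fun y => rfl
  have hfinj : Function.Injective f := by
    intro a b hab
    have h1 := congrArg Subtype.val hab
    rw [hf, hf] at h1
    ext
    exact (β : G ≃* G).injective (mul_left_cancel (mul_right_cancel h1))
  have hfbij : Function.Bijective f := Finite.injective_iff_bijective.1 hfinj
  let φ : P ≃* P := MulEquiv.ofBijective f hfbij
  have hφ : ((φ ⟨x, hx⟩ : P) : G) = g⁻¹ * β x * g := rfl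
  refine ⟨g, g⁻¹ * β x * g, ?_, by group⟩
  rw [← hφ]
  exact hA φ

end Cfsg.Agent.Helper68.SuzOut
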