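import Mathlib
import Cfsg.Agent.Helper68.CoreIneq
import Cfsg.Agent.Helper68.Casolo4

/-!
# Counting Sylow subgroups containing a `p`-element in a `p`-solvable group (helper68)

`cI`, `card_centMod_eq`, `TT`, `card_conj_le_eq_prod` (`#{g | g H g⁻¹ ≤ P} = ∏ TT i H`),
`lamN`, `prod_lam_pow_le` (`(∏_{x ∈ P} λ(x))^p ≤ n_p^{|P|}`).
-/

set_option autoImplicit false
set_option linter.unusedSectionVars false
set_option linter.style.haveILetI false

namespace Cfsg.Agent.Helper68

open Subgroup

universe u

variable {G : Type u} [Group G]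

/-- order of the centralizer of (the image of) `H` in the section `B/A` -/
noncomputable def cI (A B H : Subgroup G) [A.Normal] : ℕ :=
  Nat.card ((B.map (QuotientGroup.mk' A)) ⊓
    centralizer ((H.map (QuotientGroup.mk' A) : Subgroup (G ⧸ A)) : Set (G ⧸ A)) : Subgroup (G ⧸ A))

theorem centMod_eq_comap (H A B : Subgroup G) [hA : A.Normal] (hAB : A ≤ B) :
    centMod H A B = ((B.map (QuotientGroup.mk' A)) ⊓
      centralizer ((H.map (QuotientGroup.mk' A) : Subgroup (G ⧸ A)) : Set (G ⧸ A))).comap
        (QuotientGroup.mk' A) := by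
  ext u
  rw [Subgroup.mem_comap, Subgroup.mem_inf]
  have h1 : QuotientGroup.mk' A u ∈ B.map (QuotientGroup.mk' A) ↔ u ∈ B := by
    rw [← Subgroup.mem_comap, Subgroup.comap_map_eq, QuotientGroup.ker_mk', sup_eq_left.mpr hAB]
  have h2 : QuotientGroup.mk' A u ∈
      centralizer ((H.map (QuotientGroup.mk' A) : Subgroup (G ⧸ A)) : Set (G ⧸ A)) ↔
      ∀ h ∈ H, h * u * h⁻¹ * u⁻¹ ∈ A := by
    rw [Subgroup.mem_centralizer_iff]
    constructor
    · intro hc h hh
      have := hc (QuotientGroup.mk' A h) ⟨h, hh, rfl⟩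
      rw [← QuotientGroup.eq_one_iff]
      simp only [QuotientGroup.mk'_apply] at this
      simp only [QuotientGroup.mk_mul, QuotientGroup.mk_inv]
      rw [this]
      group
    · rintro hc _ ⟨h, hh, rfl⟩
      have := (QuotientGroup.eq_one_iff _).mpr (hc h hh)
      simp only [QuotientGroup.mk_mul, QuotientGroup.mk_inv] at this
      simp only [QuotientGroup.mk'_apply]
      have e : (h : G ⧸ A) * (u : G ⧸ A) =
          ((h : G ⧸ A) * (u : G ⧸ A) * (h : G ⧸ A)⁻¹ * (u : G ⧸ A)⁻¹) * ((u : G ⧸ A) * (h : G ⧸ A)) := by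
        group
      rw [e, this, one_mul]
  rw [h1, h2]
  rfl

theorem card_centMod_eq (H A B : Subgroup G) [hA : A.Normal] (hAB : A ≤ B) :
    Nat.card {u : G // u ∈ B ∧ ∀ h ∈ H, h * u * h⁻¹ * u⁻¹ ∈ A} = Nat.card A * cI A B H := by
  have h1 : Nat.card {u : G // u ∈ B ∧ ∀ h ∈ H, h * u * h⁻¹ * u⁻¹ ∈ A} =
      Nat.card (centMod H A B) := rfl
  rw [h1, centMod_eq_comap H A B hAB, cI]
  exact QuotientGroup.card_preimage_mk A (((B.map (QuotientGroup.mk' A)) ⊓
    centralizer ((H.map (QuotientGroup.mk' A) : Subgroup (G ⧸ A)) : Set (G ⧸ A)) :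
      Subgroup (G ⧸ A)) : Set (G ⧸ A))

theorem card_centMod_div (H A B : Subgroup G) [hA : A.Normal] [Finite G] (hAB : A ≤ B) :
    Nat.card {u : G // u ∈ B ∧ ∀ h ∈ H, h * u * h⁻¹ * u⁻¹ ∈ A} / Nat.card A = cI A B H := by
  rw [card_centMod_eq H A B hAB, Nat.mul_div_cancel_left _ Nat.card_pos]

theorem cI_zpowers (A B : Subgroup G) [hA : A.Normal] (x : G) :
    cI A B (zpowers x) = Nat.card ((B.map (QuotientGroup.mk' A)) ⊓
      centralizer {QuotientGroup.mk' A x} : Subgroup (G ⧸ A)) := by
  rw [cI, MonoidHom.map_zpowers, Subgroup.zpowers_eq_closure, Subgroup.centralizer_closure]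

theorem cI_range (A B P : Subgroup G) [hA : A.Normal] :
    cI A B P = Nat.card ((B.map (QuotientGroup.mk' A)) ⊓
      centralizer (Set.range ((QuotientGroup.mk' A).comp P.subtype)) : Subgroup (G ⧸ A)) := by
  have h : ((P.map (QuotientGroup.mk' A) : Subgroup (G ⧸ A)) : Set (G ⧸ A)) =
      Set.range ((QuotientGroup.mk' A).comp P.subtype) := by
    ext y
    constructor
    · rintro ⟨x, hx, rfl⟩
      exact ⟨⟨x, hx⟩, rfl⟩
    · rintro ⟨x, rfl⟩
      exact ⟨x.1, x.2, rfl⟩
  rw [cI, h]

theorem card_map_mk_eq_relIndex (A B : Subgroup G) [hA : A.Normal] :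
    Nat.card (B.map (QuotientGroup.mk' A)) = A.relIndex B := by
  rw [← Subgroup.relIndex_ker, QuotientGroup.ker_mk']

section chain

variable [Finite G] (p : ℕ) [hp : Fact p.Prime]

/-- the factor contributed by the `i`-th section -/
noncomputable def TT (n : ℕ) (M : Fin (n + 1) → Subgroup G) (hnormal : ∀ i, (M i).Normal)
    (i : Fin n) (H : Subgroup G) : ℕ :=
  haveI := hnormal i.castSucc
  if ((M i.castSucc).relIndex (M i.succ)).Coprime p then cI (M i.castSucc) (M i.succ) H
  else (M i.castSucc).relIndex (M i.succ)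

theorem card_conj_le_eq_prod (P : Sylow p G) (n : ℕ) (M : Fin (n + 1) → Subgroup G)
    (h0 : M 0 = ⊥) (hn : M (Fin.last n) = ⊤) (hmono : Monotone M) (hnormal : ∀ i, (M i).Normal)
    (hfac : ∀ i : Fin n, (∃ m : ℕ, (M i.castSucc).relIndex (M i.succ) = p ^ m) ∨
      ((M i.castSucc).relIndex (M i.succ)).Coprime p)
    (H : Subgroup G) (hH : IsPGroup p H) :
    Nat.card {g : G // H.map (MulAut.conj g).toMonoidHom ≤ (P : Subgroup G)} =
      ∏ i : Fin n, TT p n M hnormal i H := by
  have htel := telescope_fin n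
    (fun i => Nat.card {g : G // H.map (MulAut.conj g).toMonoidHom ≤ (P : Subgroup G) ⊔ M i})
    (fun i => Nat.card (M i))
    (fun i => TT p n M hnormal i H)
    (fun i => by
      haveI := hnormal i.castSucc
      haveI := hnormal i.succ
      have := card_step p P (hmono (Fin.castSucc_le_succ i)) (hfac i) H hH
      rw [card_centMod_div H _ _ (hmono (Fin.castSucc_le_succ i))] at this
      exact this)
    (fun i => Nat.card_pos)
  simp only [h0, hn, Subgroup.card_bot, Subgroup.card_top, sup_bot_eq, mul_one] at htel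
  have htop : Nat.card {g : G // H.map (MulAut.conj g).toMonoidHom ≤ (P : Subgroup G) ⊔ ⊤} =
      Nat.card G := by
    rw [sup_top_eq]
    exact Nat.card_congr (Equiv.subtypeUnivEquiv (fun g => le_top))
  rw [htop] at htel
  exact Nat.eq_of_mul_eq_mul_left (Nat.card_pos (α := G)) ((mul_comm _ _).trans htel)

omit hp in
theorem card_eq_prod_relIndex (n : ℕ) (M : Fin (n + 1) → Subgroup G)
    (h0 : M 0 = ⊥) (hn : M (Fin.last n) = ⊤) (hmono : Monotone M) :
    Nat.card G = ∏ i : Fin n, (M i.castSucc).relIndex (M i.succ) := by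
  have htel := telescope_fin n (fun _ => 1) (fun i => Nat.card (M i))
    (fun i => (M i.castSucc).relIndex (M i.succ))
    (fun i => by
      simp only [one_mul]
      exact (card_mul_relIndex_of_le (hmono (Fin.castSucc_le_succ i))).symm)
    (fun i => Nat.card_pos)
  simpa only [one_mul, h0, hn, Subgroup.card_bot, Subgroup.card_top] using htel

end chain

section lam

variable [Finite G] (p : ℕ) [hp : Fact p.Prime]

/-- number of Sylow `p`-subgroups containing `H` -/
noncomputable def lamN (H : Subgroup G) : ℕ :=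
  Nat.card {Q : Sylow p G // H ≤ (Q : Subgroup G)}

theorem lamN_sylow (P : Sylow p G) : lamN p (P : Subgroup G) = 1 := by
  rw [lamN, Nat.card_eq_one_iff_unique]
  refine ⟨⟨?_⟩, ⟨⟨P, le_rfl⟩⟩⟩
  rintro ⟨Q, hQ⟩ ⟨Q', hQ'⟩
  apply Subtype.ext
  simp only
  have h1 : (Q : Subgroup G) = P := P.is_maximal' Q.2 hQ
  have h2 : (Q' : Subgroup G) = P := P.is_maximal' Q'.2 hQ'
  exact Sylow.ext (h1.trans h2.symm)

theorem prod_lam_pow_le (P : Sylow p G) [Fintype ↥(P : Subgroup G)] (n : ℕ)
    (M : Fin (n + 1) → Subgroup G)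
    (h0 : M 0 = ⊥) (hn : M (Fin.last n) = ⊤) (hmono : Monotone M) (hnormal : ∀ i, (M i).Normal)
    (hfac : ∀ i : Fin n, (∃ m : ℕ, (M i.castSucc).relIndex (M i.succ) = p ^ m) ∨
      ((M i.castSucc).relIndex (M i.succ)).Coprime p) :
    (∏ x : ↥(P : Subgroup G), lamN p (zpowers (x : G))) ^ p ≤
      Nat.card (Sylow p G) ^ (Fintype.card ↥(P : Subgroup G)) := by
  set D := Nat.card (normalizer ((P : Subgroup G) : Set G)) with hD
  set m := Fintype.card ↥(P : Subgroup G) with hm
  have hDpos : 0 < D := Nat.card_pos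
  have hp1 : 1 ≤ p := hp.out.one_lt.le
  have hx : ∀ x : ↥(P : Subgroup G), lamN p (zpowers (x : G)) * D =
      ∏ i : Fin n, TT p n M hnormal i (zpowers (x : G)) := by
    intro x
    rw [← card_conj_le_eq_prod p P n M h0 hn hmono hnormal hfac (zpowers (x : G))
      (P.2.to_le (Subgroup.zpowers_le.mpr x.2)), card_conj_le_eq_left]
    rfl
  have hP : D = ∏ i : Fin n, TT p n M hnormal i (P : Subgroup G) := by
    rw [← card_conj_le_eq_prod p P n M h0 hn hmono hnormal hfac (P : Subgroup G) P.2,
      card_conj_le_eq_left]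
    have := lamN_sylow p P
    rw [lamN] at this
    rw [this, one_mul]
  have hG : Nat.card (Sylow p G) * D = Nat.card G := by
    rw [Sylow.card_eq_index_normalizer P, hD]
    exact Subgroup.index_mul_card _
  have hGr := card_eq_prod_relIndex n M h0 hn hmono
  -- the inequality for each section
  have hi : ∀ i : Fin n, ∏ x : ↥(P : Subgroup G), (TT p n M hnormal i (zpowers (x : G))) ^ p ≤
      ((M i.castSucc).relIndex (M i.succ)) ^ m *
        (TT p n M hnormal i (P : Subgroup G)) ^ ((p - 1) * m) := by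
    intro i
    haveI hA := hnormal i.castSucc
    haveI hB := hnormal i.succ
    by_cases hcop : ((M i.castSucc).relIndex (M i.succ)).Coprime p
    · simp only [TT, if_pos hcop]
      set π := QuotientGroup.mk' (M i.castSucc) with hπ
      have hsurj : Function.Surjective π := QuotientGroup.mk'_surjective _
      haveI hNn : ((M i.succ).map π).Normal := hB.map π hsurj
      have hcore := core_ineq p P.2 (π.comp (P : Subgroup G).subtype)
        (Nat.card ((M i.succ).map π)) ((M i.succ).map π) le_rfl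
        (by rw [card_map_mk_eq_relIndex]; exact hcop)
        (fun x => by rw [Subgroup.normalizer_eq_top]; exact Subgroup.mem_top _)
      rw [card_map_mk_eq_relIndex] at hcore
      simp only [cI_zpowers]
      rw [cI_range]
      exact hcore
    · simp only [TT, if_neg hcop, Finset.prod_const, Finset.card_univ]
      rw [← pow_mul, ← pow_add, ← hm]
      apply le_of_eq
      congr 1
      have : p = (p - 1) + 1 := by omega
      conv_lhs => rw [this]
      ring
  have hpos : 0 < D ^ (p * m) := pow_pos hDpos _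
  apply Nat.le_of_mul_le_mul_right _ hpos
  calc (∏ x : ↥(P : Subgroup G), lamN p (zpowers (x : G))) ^ p * D ^ (p * m)
      = ∏ x : ↥(P : Subgroup G), (lamN p (zpowers (x : G)) * D) ^ p := by
        simp only [mul_pow, Finset.prod_mul_distrib, Finset.prod_pow, Finset.prod_const,
          Finset.card_univ]
        rw [← hm, ← pow_mul, mul_comm m p]
    _ = ∏ i : Fin n, ∏ x : ↥(P : Subgroup G), (TT p n M hnormal i (zpowers (x : G))) ^ p := by
        rw [Finset.prod_comm]
        apply Finset.prod_congr rfl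
        intro x _
        rw [hx x, Finset.prod_pow]
    _ ≤ ∏ i : Fin n, (((M i.castSucc).relIndex (M i.succ)) ^ m *
          (TT p n M hnormal i (P : Subgroup G)) ^ ((p - 1) * m)) :=
        Finset.prod_le_prod' (fun i _ => hi i)
    _ = Nat.card G ^ m * D ^ ((p - 1) * m) := by
        rw [Finset.prod_mul_distrib, Finset.prod_pow, Finset.prod_pow, ← hGr, ← hP]
    _ = Nat.card (Sylow p G) ^ m * D ^ (p * m) := by
        rw [← hG, mul_pow, mul_assoc, ← pow_add]
        congr 2
        have : p = (p - 1) + 1 := by omega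
        conv_rhs => rw [this]
        ring

end lam

end Cfsg.Agent.Helper68
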