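import Cfsg.Agent.Helper6.SzChar0
import Cfsg.Agent.Helper59.SzcGA
import Cfsg.Agent.Helper15.IndFun
import Cfsg.Agent.Helper20.SzcMD

/-!
# [ME] for helper6's S4775 farm (#11435): the Gram relations.
-/

set_option autoImplicit false

namespace Cfsg.Agent.Helper68

open Cfsg Cfsg.Agent.Helper6
open scoped ComplexConjugate

universe u

variable {G : Type u} [Group G] [Fintype G] {Q H B K₁ K₂ : Subgroup G} {w : G} {T : ℕ}
  [Fintype ↥B]

/-- the Gram relations from `[MD]` -/
theorem szc_gram_of_md [Fintype (IrrCharacter G)] (α α' : ↥B → ℂ) (c : ℂ)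
    (hMD : classInner (indFun B α') (indFun B α) = c) :
    ∑ χ : IrrCharacter G, classInner (resFun B (χ : G → ℂ)) α *
        conj (classInner (resFun B (χ : G → ℂ)) α') = c := by
  rw [← hMD, Helper59.Szc.szc_parseval (indFun B α') (indFun B α)
    (Helper15.isClassFunction_indFun B α') (Helper15.isClassFunction_indFun B α)]
  refine Finset.sum_congr rfl (fun χ _ => ?_)
  have hχ : IsClassFunction G (χ : G → ℂ) :=
    Helper74.isClassFunction_of_isCharacter (Helper74.irr_isCharacter χ)
  have h1 : classInner (indFun B α') (χ : G → ℂ) = conj (classInner (resFun B (χ : G → ℂ)) α') := by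
    rw [Helper15.frobenius_reciprocity B α' (χ : G → ℂ) hχ, Helper74.classInner_conj_symm]
    rfl
  have h2 : conj (classInner (indFun B α) (χ : G → ℂ)) = classInner (resFun B (χ : G → ℂ)) α := by
    rw [Helper15.frobenius_reciprocity B α (χ : G → ℂ) hχ, Helper74.classInner_conj_symm]
    rfl
  rw [h1, h2, mul_comm]

/-- ME: the Gram relations -/
theorem szc_gram [Fintype (IrrCharacter G)] (D : SzHyp Q H B K₁ K₂ w T) (α α' : ↥B → ℂ)
    (hα : IsClassFunction ↥B α) (hvan : ∀ x : ↥B, (x : G) ∉ Q → α x = 0)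
    (hα' : IsClassFunction ↥B α') (hvan' : ∀ x : ↥B, (x : G) ∉ Q → α' x = 0) :
    ∑ χ : IrrCharacter G, classInner (resFun B (χ : G → ℂ)) α *
        conj (classInner (resFun B (χ : G → ℂ)) α')
      = classInner α' α + α' 1 * conj (α 1) / ((2 * T ^ 2 - 1 : ℕ) : ℂ) :=
  szc_gram_of_md α α' _ (Helper20.Szc.szc_inner_ind_ind D α' α hα hvan)

end Cfsg.Agent.Helper68
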