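-- helper68: piece (E1) of helper21's WANTED #5557 for S3797 (Thompson): from `ZCfg` to `YCfg` (the special group
-- `Y ≤ C_P(D)`).
import Mathlib
import Cfsg.Agent.Helper21.THDefs2
import Cfsg.Agent.Helper21.THMin
import Cfsg.Agent.Helper48.THW3
import Cfsg.Agent.Helper24.Coprime
import Cfsg.Agent.Helper71.ShultBasic

set_option autoImplicit false

namespace Cfsg.Agent.Helper68.TH

open Subgroup Cfsg Cfsg.Agent.Helper21.TH Cfsg.Agent.Helper71.Shult
open scoped commutatorElement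

universe u

variable {G : Type u} [Group G] [Finite G]

/-- (E1) -/
theorem ZCfg.exists_ycfg {P V X D U R : Subgroup G} (h : ZCfg P V X D U R) :
    ∃ Y : Subgroup G, YCfg P V X D U R Y := by
  haveI : Fact (Nat.Prime 2) := ⟨Nat.prime_two⟩
  have hm := h.m
  -- the acting group
  have hUD : U ≤ centralizer (D : Set G) := le_centralizer_symm hm.D_le_cent
  have hΓD : U ⊔ X ⊔ R ≤ normalizer (D : Set G) :=
    sup_le (sup_le (le_normalizer_of_le_centralizer hUD) hm.X_norm_D) hm.R_norm_D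
  have hΓP : U ⊔ X ⊔ R ≤ normalizer (P : Set G) := sup_le (sup_le h.hUP h.hXP) h.hRP
  have hΓPD : U ⊔ X ⊔ R ≤ normalizer ((P ⊓ centralizer (D : Set G) : Subgroup G) : Set G) :=
    inf_le_normalizer hΓP (le_normalizer_centralizer hΓD)
  have hUΓ : U ≤ U ⊔ X ⊔ R := le_sup_left.trans le_sup_left
  have hXΓ : X ≤ U ⊔ X ⊔ R := le_sup_right.trans le_sup_left
  have hRΓ : R ≤ U ⊔ X ⊔ R := le_sup_right
  have hΓU : U ⊔ X ⊔ R ≤ normalizer (U : Set G) := sup_le (sup_le le_normalizer hm.hXU) hm.hRU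
  -- `U` does not centralize `C_P(D)`
  have hnc : ¬ U ≤ centralizer ((P ⊓ centralizer (D : Set G) : Subgroup G) : Set G) := by
    intro hc
    apply hm.U_ne_bot
    rw [eq_bot_iff, ← h.hfaith]
    refine le_inf le_rfl ?_
    intro a ha
    have hD2 : IsPGroup 2 D := hm.hX2.to_le hm.D_le
    have hcop : (orderOf a).Coprime 2 := by
      rw [Nat.coprime_two_right]
      exact Odd.of_dvd_nat hm.hUodd (Subgroup.orderOf_dvd_natCard U ha)
    have key := Cfsg.Agent.Helper24.thompson_PxQ (p := 2) h.hP hD2 (hm.D_le.trans h.hXP) (h.hUP ha) hcop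
      (fun b hb => ((mem_centralizer_iff.1 (hm.D_le_cent hb)) a ha))
      (fun u hu hub => by
        have hu2 : u ∈ centralizer (D : Set G) := by
          rw [mem_centralizer_iff]
          exact hub
        have hu' : u ∈ P ⊓ centralizer (D : Set G) := Subgroup.mem_inf.2 ⟨hu, hu2⟩
        exact ((mem_centralizer_iff.1 (hc ha)) u hu').symm)
    rw [mem_centralizer_iff]
    intro u hu
    exact (key u hu).symm
  obtain ⟨Y, hYPD, hΓY, hYU, hmin⟩ :=
    exists_min_action (U ⊔ X ⊔ R) (P ⊓ centralizer (D : Set G)) (fun Y => ¬ U ≤ centralizer (Y : Set G)) hnc hΓPD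
  have hYP : Y ≤ P := hYPD.trans inf_le_left
  obtain ⟨h1, h2, h3, h4, h5⟩ := Cfsg.Agent.Helper48.TH.special_of_minimal P V U (U ⊔ X ⊔ R) Y h.hP h.hV h.hVZ
    hUΓ hΓU hm.hUodd h.hUV
    (fun v hv hv1 w hw hw1 => by
      obtain ⟨r, hr, hrv⟩ := h.htrans v hv hv1 w hw hw1
      exact ⟨r, hRΓ hr, hrv⟩)
    hYP hΓY hYU (fun Y₀ hY₀ hΓY₀ => not_not.1 (hmin Y₀ hY₀ hΓY₀))
  exact ⟨Y,
    { z := h
      hYP := hYP
      hDY := le_centralizer_symm (hYPD.trans inf_le_right)
      hXY := hXΓ.trans hΓY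
      hUY := hUΓ.trans hΓY
      hRY := hRΓ.trans hΓY
      hVY := h1
      hsq := h2
      hYY := h3
      hfixY := h4
      hcomm := h5 }⟩

end Cfsg.Agent.Helper68.TH
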