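import Mathlib
import Cfsg.Agent.Helper44.U4Defs

/-! (G4) of helper44's S6001 skeleton (#9295): transfer of `FixProp` along conjugation by a
unitary matrix. -/

set_option autoImplicit false
open scoped MatrixGroups

namespace Cfsg.Agent.Helper68.U4

open Matrix Cfsg.Geo Cfsg.Agent.Helper44.U4

variable {F : Type*} [Field F]

/-- `GU ⊓ SL` is normalized by `GU` -/
theorem su_conj_mem (p : ℕ) (y Q : GL (Fin 4) F) (hQ : Q ∈ Cfsg.GU 4 F p)
    (hy : y ∈ Cfsg.GU 4 F p ⊓ specialLinear (Fin 4) F) :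
    Q * y * Q⁻¹ ∈ Cfsg.GU 4 F p ⊓ specialLinear (Fin 4) F := by
  obtain ⟨hy1, hy2⟩ := Subgroup.mem_inf.1 hy
  refine Subgroup.mem_inf.2 ⟨mul_mem (mul_mem hQ hy1) (inv_mem hQ), ?_⟩
  unfold specialLinear at hy2 ⊢
  rw [MonoidHom.mem_ker] at hy2 ⊢
  rw [map_mul, map_mul, map_inv, hy2, mul_one, mul_inv_cancel]

/-- one direction of (G4) -/
theorem fixProp_of_conj (p r : ℕ) (R R' : Subgroup (GL (Fin 4) F)) (P : GL (Fin 4) F)
    (hP : P ∈ Cfsg.GU 4 F p) (hRP : R = R'.map (MulAut.conj P).toMonoidHom)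
    (h : FixProp F p r (subgroupNormalizer R')) : FixProp F p r (subgroupNormalizer R) := by
  intro x hx hxr hxns
  have hP' : P⁻¹ ∈ Cfsg.GU 4 F p := inv_mem hP
  have hx' : P⁻¹ * x * P ∈ Cfsg.GU 4 F p ⊓ specialLinear (Fin 4) F := by
    have := su_conj_mem p x P⁻¹ hP' hx
    rwa [inv_inv] at this
  obtain ⟨z, hz⟩ := hxr
  have hx'r : ∃ z : F, (((P⁻¹ * x * P) ^ r : GL (Fin 4) F) : Matrix (Fin 4) (Fin 4) F) =
      z • (1 : Matrix (Fin 4) (Fin 4) F) := by
    refine ⟨z, ?_⟩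
    have e : (P⁻¹ * x * P) ^ r = P⁻¹ * x ^ r * P := by
      have := conj_pow (a := P⁻¹) (b := x) (i := r)
      rwa [inv_inv] at this
    rw [e, Units.val_mul, Units.val_mul, hz, Matrix.mul_smul, Matrix.mul_one, Matrix.smul_mul,
      ← Units.val_mul, inv_mul_cancel, Units.val_one]
  have hx'ns : ∀ z : F, ((P⁻¹ * x * P : GL (Fin 4) F) : Matrix (Fin 4) (Fin 4) F) ≠
      z • (1 : Matrix (Fin 4) (Fin 4) F) := by
    intro z hz'
    apply hxns z
    have e : x = P * (P⁻¹ * x * P) * P⁻¹ := by group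
    rw [e, Units.val_mul, Units.val_mul, hz', Matrix.mul_smul, Matrix.mul_one, Matrix.smul_mul,
      ← Units.val_mul, mul_inv_cancel, Units.val_one]
  obtain ⟨g, hg, hgN⟩ := h (P⁻¹ * x * P) hx' hx'r hx'ns
  refine ⟨P * g * P⁻¹, su_conj_mem p g P hP hg, ?_⟩
  have e : (P * g * P⁻¹)⁻¹ * x * (P * g * P⁻¹) = P * (g⁻¹ * (P⁻¹ * x * P) * g) * P⁻¹ := by group
  rw [e]
  set n := g⁻¹ * (P⁻¹ * x * P) * g with hn
  unfold subgroupNormalizer at hgN ⊢
  rw [Subgroup.mem_normalizer_iff] at hgN ⊢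
  intro k
  rw [hRP]
  simp only [Subgroup.mem_map, MulEquiv.coe_toMonoidHom, MulAut.conj_apply]
  constructor
  · rintro ⟨k', hk', rfl⟩
    exact ⟨n * k' * n⁻¹, (hgN k').1 hk', by group⟩
  · rintro ⟨k', hk', hkk⟩
    refine ⟨n⁻¹ * k' * n, ?_, ?_⟩
    · refine (hgN (n⁻¹ * k' * n)).2 ?_
      have e2 : n * (n⁻¹ * k' * n) * n⁻¹ = k' := by group
      rw [e2]
      exact hk'
    · have e3 : k = (P * n * P⁻¹)⁻¹ * (P * k' * P⁻¹) * (P * n * P⁻¹) := by
        rw [hkk]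
        group
      rw [e3]
      group

/-- (G4) transfer along conjugation by a unitary matrix -/
theorem transfer_unitary (p r : ℕ) (R R' : Subgroup (GL (Fin 4) F)) (P : GL (Fin 4) F)
    (hP : P ∈ Cfsg.GU 4 F p) (hRP : R = R'.map (MulAut.conj P).toMonoidHom) :
    FixProp F p r (subgroupNormalizer R) ↔ FixProp F p r (subgroupNormalizer R') := by
  constructor
  · intro h
    refine fixProp_of_conj p r R' R P⁻¹ (inv_mem hP) ?_ h
    rw [hRP, Subgroup.map_map]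
    ext k
    simp only [Subgroup.mem_map, MonoidHom.coe_comp, MulEquiv.coe_toMonoidHom, Function.comp_apply,
      MulAut.conj_apply]
    constructor
    · intro hk
      exact ⟨k, hk, by group⟩
    · rintro ⟨k', hk', rfl⟩
      have e : P⁻¹ * (P * k' * P⁻¹) * P⁻¹⁻¹ = k' := by group
      rw [e]
      exact hk'
  · exact fixProp_of_conj p r R R' P hP hRP

end Cfsg.Agent.Helper68.U4
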